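import Cfsg.Agent.H6.DCE5
import Cfsg.Agent.H6.J4.N.Main

set_option autoImplicit false
set_option maxRecDepth 100000
set_option Elab.async false

namespace Cfsg.H6.J4.D2

def c0 : Clm := ⟨0, 0, false, [], [1], 0, [], []⟩
def c1 : Clm := ⟨0, 0, false, [], [2], 0, [], []⟩
def c2 : Clm := ⟨0, 1, true, [], [], 1, [], []⟩
def c3 : Clm := ⟨1, 2, true, [12], [], 1, [], []⟩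
def c4 : Clm := ⟨2, 3, true, [12], [], 1, [], []⟩
def c5 : Clm := ⟨3, 0, false, [], [], 999, [], []⟩
def c6 : Clm := ⟨1, 0, true, [], [], 5, [([], 2, [])], []⟩
def c7 : Clm := ⟨2, 1, true, [], [12], 5, [([], 3, [])], []⟩
def c8 : Clm := ⟨3, 2, true, [], [12], 5, [([], 4, [])], []⟩
def c9 : Clm := ⟨0, 2, true, [], [12], 4, [([11], 8, [])], []⟩
def c10 : Clm := ⟨2, 1, false, [12], [13], 3, [([], 9, []), ([], 2, [])], []⟩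
def c11 : Clm := ⟨1, 1, true, [13], [12], 4, [([21], 7, [])], []⟩
def c12 : Clm := ⟨1, 1, false, [], [4,1,4,1,5,1,5,1,4,4,1,4,4,1,5,1,4], 3, [([], 2, []), ([2,1,3,1,3,1,3,1,2,1,2,1,2,1,3,1,2,1,2,1,2,1,2,0,2,0,2,0,3,0,3,0,3,0,3,0,3,0,2,0,2,0,3], 2, [4,1,4,1,5,1,5,1,4,4,1,4,4,1,5,1,4])], []⟩
def c13 : Clm := ⟨1, 1, false, [], [1,4,1,4,4,1,4,4,1,4,1,4,4,1,5,1,4,1,4,4], 3, [([], 2, []), ([2,1,3,1,3,1,2,1,3,1,2,1,3,1,3,1,2,1,3,0,3,0,3,0,3,0,3,0,2,0,3,0,2,0,3,0,3], 2, [1,4,1,4,4,1,4,4,1,4,1,4,4,1,5,1,4,1,4,4])], []⟩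
def c14 : Clm := ⟨1, 1, false, [12], [1,4,1,5,1,4,4,1,4,4,1,5,1,4,1,4,1,5,1,4,4], 3, [([], 11, []), ([26,24,26,25,25], 3, [1,4,4,1,4,1,5,1,4,4,1,4,1,4,4,1,5,1,4])], [20]⟩
def c15 : Clm := ⟨1, 1, false, [], [4,1,4,1,4,1,4,1,5,1,5,1,4,1,5,1,4,1,4,1], 3, [([], 2, []), ([3,1,2,1,2,1,3,1,3,1,3,1,2,1,2,1,3,1,3,3,0,3,0,2,0,3,0,2,0,2,0,2,0,2,0,2,0,3], 2, [4,1,4,1,4,1,4,1,5,1,5,1,4,1,5,1,4,1,4,1])], []⟩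
def c16 : Clm := ⟨1, 1, true, [6], [1,5,1,5,1,5,1,4,1,4,4,1,4,1,5,1,5,7], 7, [([], 2, []), ([2,0,2,0,3,0,2,0,3,0,2,0,3,0,3], 6, [1,5,1,5,1,5,1,4,1,4,4,1,4,1,5,1,5])], []⟩
def c17 : Clm := ⟨1, 1, true, [1,5,1,5,1,5,1,4,1,4,4,1,4,1,5,1,5,7], [6], 5, [([], 16, [])], []⟩
def c18 : Clm := ⟨1, 4, true, [3], [], 1, [], []⟩
def c19 : Clm := ⟨4, 1, true, [], [3], 5, [([], 18, [])], []⟩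
def c20 : Clm := ⟨4, 4, false, [], [4,4,1,4,1,4,4,1,5,1,4,1,4,4,1,4], 3, [([], 18, []), ([24,27,29,27,28,31], 18, [4,4,1,4,1,4,4,1,5,1,4,1,4,4,1,4])], []⟩
def c21 : Clm := ⟨4, 4, false, [], [4,1,4,1,4,4,1,4,4,1,4,4,1,5,1,4,1,4,4], 3, [([], 18, []), ([31,28,27,31,31,28,24], 18, [4,1,4,1,4,4,1,4,4,1,4,4,1,5,1,4,1,4,4])], []⟩
def c22 : Clm := ⟨4, 4, false, [], [1,4,4,1,5,1,4,1,5,1,4,1,4,4,1,5,1,4,1,5,1,4], 3, [([], 18, []), ([27,31,31,26,25,26], 18, [1,4,4,1,5,1,4,1,5,1,4,1,4,4,1,5,1,4,1,5,1,4])], []⟩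
def c23 : Clm := ⟨4, 4, false, [], [1,4,1,4,1,5,1,4,4,1,4,1,4,1,5,1,4,1,4,4,1,5,1], 3, [([], 18, []), ([27,28,27,28,26], 18, [1,4,1,4,1,5,1,4,4,1,4,1,4,1,5,1,4,1,4,4,1,5,1])], []⟩
def c24 : Clm := ⟨4, 4, true, [4,6], [4,4,1,4,4,1,5,1,4,1,4,1,4,1,4,1,4,1,4,7], 7, [([], 18, [4]), ([28,28], 19, [4,4,1,4,4,1,5,1,4,1,4,1,4,1,4,1,4,1,4])], []⟩
def c25 : Clm := ⟨4, 4, true, [4,4,1,4,4,1,5,1,4,1,4,1,4,1,4,1,4,1,4,7], [4,6], 5, [([], 24, [])], []⟩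
def c26 : Clm := ⟨4, 4, true, [5,1,6], [1,4,1,4,1,4,1,4,1,4,1,5,1,4,4,1,4,4,1,5,1,5,7], 7, [([], 18, [5,1]), ([26,30,29,26], 19, [1,4,1,4,1,4,1,4,1,4,1,5,1,4,4,1,4,4,1,5,1,5])], []⟩
def c27 : Clm := ⟨4, 4, true, [1,4,1,4,1,4,1,4,1,4,1,5,1,4,4,1,4,4,1,5,1,5,7], [5,1,6], 5, [([], 26, [])], []⟩
def c28 : Clm := ⟨4, 4, true, [4,1,5,1,6], [1,4,4,1,4,1,4,4,1,5,1,4,1,4,1,5,1,5,1,4,1,7], 7, [([], 18, [4,1,5,1]), ([25,26,24], 19, [1,4,4,1,4,1,4,4,1,5,1,4,1,4,1,5,1,5,1,4,1])], []⟩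
def c29 : Clm := ⟨4, 4, true, [1,4,4,1,4,1,4,4,1,5,1,4,1,4,1,5,1,5,1,4,1,7], [4,1,5,1,6], 5, [([], 28, [])], []⟩
def c30 : Clm := ⟨4, 4, true, [1,4,1,5,1,6], [4,4,1,4,4,1,4,1,4,4,1,5,1,4,1,4,1,4,4,7], 7, [([], 18, [1,4,1,5,1]), ([30,25,26,25,25], 19, [4,4,1,4,4,1,4,1,4,4,1,5,1,4,1,4,1,4,4])], []⟩
def c31 : Clm := ⟨4, 1, true, [4,1,4,4,1,6], [1,4,4,1,4,4,1,4,4,1,4,1,4,1,5,1,5,1,4,7,1,5,7], 7, [([], 18, [4,1,4,4,1]), ([28,25], 17, [1,4,4,1,4,1,5,1,5,1,4,4,1,4,1,4,1,5,1,4])], []⟩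
def c32 : Clm := ⟨1, 4, true, [1,4,4,1,4,4,1,4,4,1,4,1,4,1,5,1,5,1,4,7,1,5,7], [4,1,4,4,1,6], 5, [([], 31, [])], []⟩
def c33 : Clm := ⟨4, 4, false, [4,1,4,4,1,6], [1,4,1,5,1,4,4,1,4,4,1,5,1,4,1,4,1,5,1,5,1,4,1,4,2,12,3], 3, [([], 32, []), ([24,29], 18, [4,1,4,4,1,4,1,4,4,1,4,4,1,4])], []⟩
def c34 : Clm := ⟨4, 1, true, [5,1,4,4,1,6], [1,4,4,1,5,1,4,4,1,4,4,1,4,4,1,5,1,4,1,4,4,1,4,8,6,13], 7, [([], 18, [5,1,4,4,1]), ([31,24], 7, [5,1,5,1,4,1,4,1,5,1,4,1])], [20]⟩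
def c35 : Clm := ⟨1, 4, true, [1,4,4,1,5,1,4,4,1,4,4,1,4,4,1,5,1,4,1,4,4,1,4,8,6,13], [5,1,4,4,1,6], 5, [([], 34, [])], []⟩
def c36 : Clm := ⟨4, 4, false, [5,1,4,4,1,6], [1,4,4,1,5,1,4,4,1,4,4,1,4,4,1,5,1,4,1,4,1,4,1,8,11], 3, [([], 35, []), ([26,25,30,29], 18, [1,4,4,1,5,1,4,1,5,1,4,1,4,1,4,1,4])], []⟩
def c37 : Clm := ⟨4, 1, true, [4,1,4,1,4,4,1,9], [4,1,5,1,4,1,5,1,4,4,1,4,1,4,2,10,5,6], 11, [([], 18, [4,1,4,1,4,4,1]), ([24,24], 17, [5,1,5,1,4,1,4,4,1,4,4,1,4,1,4,1,4,4,1,5,1]), ([26,31], 7, [1,4,1,5,1,4,1,5,1,4,4,1,5,1,5,1,4,4,1,5,1])], [20]⟩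
def c38 : Clm := ⟨1, 4, true, [4,1,5,1,4,1,5,1,4,4,1,4,1,4,2,10,5,6], [4,1,4,1,4,4,1,9], 5, [([], 37, [])], []⟩
def c39 : Clm := ⟨4, 4, false, [4,1,4,1,4,4,1,9], [1,5,1,5,1,5,1,4,4,1,5,1,4,4,1,5,1,4,4,1,4,6,3], 3, [([], 38, []), ([29,26,25,26,24], 18, [5,1,5,1,4,1,4,4,1,4,4,1,4,4,1,5,1,5,1,4])], []⟩
def c40 : Clm := ⟨4, 4, true, [1,4,1,5,1,4,1,4,4,1,5,1,4,4,1,5,1,4,1,4,4,1,8], [4,1,4,1,5,1,4,1,5,1,4,4,1,5,1,5,1,5,1,8], 9, [([46,42], 27, [4,4,1,4,4,1,5,1,4,4,1,4,1,4,1,5,1,4,1,5,1,4]), ([72], 18, [1,4,4,1,4,1,5,1,4,1,4,1,5,1,4,1,5,1,5]), ([29,31,28,24], 19, [4,1,4,1,5,1,4,1,5,1,4,4,1,5,1,5,1,5,1])], []⟩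
def c41 : Clm := ⟨4, 4, true, [4,1,4,1,5,1,4,1,5,1,4,4,1,5,1,5,1,5,1,8], [1,4,1,5,1,4,1,4,4,1,5,1,4,4,1,5,1,4,1,4,4,1,8], 5, [([], 40, [])], []⟩
def c42 : Clm := ⟨1, 5, true, [14,2], [], 1, [], []⟩
def c43 : Clm := ⟨5, 1, true, [], [1,5,1,5,1,5,1,4,1,4,4,1,4,1,5,1,5,12,2], 5, [([], 42, [])], []⟩
def c44 : Clm := ⟨5, 5, false, [], [4,1,4,1,4,4,1,4,1,4,1,5,1,5,1,4,4,1,5,1,5], 3, [([], 42, []), ([31,31,27,31,25,29,25,30], 42, [4,1,4,1,4,4,1,4,1,4,1,5,1,5,1,4,4,1,5,1,5])], []⟩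
def c45 : Clm := ⟨5, 5, false, [], [4,1,4,1,4,4,1,4,4,1,5,1,5,1,4,1,4,1,4,1,4,1,5], 3, [([], 42, []), ([25,31,28,31,27,29,30,26], 42, [4,1,4,1,4,4,1,4,4,1,5,1,5,1,4,1,4,1,4,1,4,1,5])], []⟩
def c46 : Clm := ⟨5, 5, false, [], [4,1,4,1,4,1,4,4,1,5,1,4,1,4,1,4,1,4,1,4,4], 3, [([], 42, []), ([29,25,28,27,30,24,31,24], 42, [4,1,4,1,4,1,4,4,1,5,1,4,1,4,1,4,1,4,1,4,4])], []⟩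
def c47 : Clm := ⟨5, 5, true, [6], [4,1,4,1,4,1,4,1,5,1,4,1,5,1,5,1,5,7], 7, [([], 42, []), ([28,26,29,30], 43, [4,1,4,1,4,1,4,1,5,1,4,1,5,1,5,1,5])], []⟩
def c48 : Clm := ⟨5, 5, true, [4,1,4,1,4,1,4,1,5,1,4,1,5,1,5,1,5,7], [6], 5, [([], 47, [])], []⟩
def c49 : Clm := ⟨5, 5, true, [1,6], [4,1,4,4,1,4,4,1,5,1,4,1,5,1,5,1,5,1,5,1,7], 7, [([], 42, [1]), ([26], 43, [4,1,4,4,1,4,4,1,5,1,4,1,5,1,5,1,5,1,5,1])], []⟩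
def c50 : Clm := ⟨5, 5, true, [4,1,4,4,1,4,4,1,5,1,4,1,5,1,5,1,5,1,5,1,7], [1,6], 5, [([], 49, [])], []⟩
def c51 : Clm := ⟨5, 4, true, [4,6], [4,1,4,4,1,5,1,5,1,5,1,5,1,5,1,5,1,4,1,4,1,5,7], 7, [([], 42, [4]), ([25,30,26,24], 19, [4,1,4,4,1,5,1,5,1,5,1,5,1,5,1,5,1,4,1,4,1,5])], []⟩
def c52 : Clm := ⟨4, 5, true, [4,1,4,4,1,5,1,5,1,5,1,5,1,5,1,5,1,4,1,4,1,5,7], [4,6], 5, [([], 51, [])], []⟩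
def c53 : Clm := ⟨5, 5, true, [5,6], [4,1,4,1,5,1,5,1,4,1,4,1,4,4,1,4,1,4,1,7], 7, [([], 42, [5]), ([30,29,31,25,28], 43, [4,1,4,1,5,1,5,1,4,1,4,1,4,4,1,4,1,4,1])], []⟩
def c54 : Clm := ⟨5, 5, true, [4,1,4,1,5,1,5,1,4,1,4,1,4,4,1,4,1,4,1,7], [5,6], 5, [([], 53, [])], []⟩
def c55 : Clm := ⟨5, 4, true, [1,4,4,6], [1,4,1,5,1,5,1,4,4,1,4,1,5,1,4,1,4,1,5,1,4,7], 7, [([], 42, [1,4,4]), ([25,30,28,30,26], 19, [1,4,1,5,1,5,1,4,4,1,4,1,5,1,4,1,4,1,5,1,4])], []⟩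
def c56 : Clm := ⟨4, 5, true, [1,4,1,5,1,5,1,4,4,1,4,1,5,1,4,1,4,1,5,1,4,7], [1,4,4,6], 5, [([], 55, [])], []⟩
def c57 : Clm := ⟨5, 5, true, [1,4,1,4,1,4,1,9], [1,5,1,5,1,5,1,4,4,1,4,1,4,1,4,1,4,4,1,9], 11, [([], 42, [1,4,1,4,1,4,1]), ([30,28], 7, [5,1,4,1,4,1,4,1,4,1,5,1,5,1,5,1,4]), ([20,28,30,29,24,24], 43, [1,4,4,1,5,1,4,4,1,5,1,4,4,1,4,4,1,4])], []⟩
def c58 : Clm := ⟨5, 5, true, [1,5,1,5,1,5,1,4,4,1,4,1,4,1,4,1,4,4,1,9], [1,4,1,4,1,4,1,9], 5, [([], 57, [])], []⟩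
def c59 : Clm := ⟨5, 5, true, [4,1,5,1,4,4,1,9], [1,4,4,1,5,1,5,1,4,4,1,4,1,4,1,5,1,4,4,9,1], 11, [([], 42, [4,1,5,1,4,4,1]), ([25,30,24], 19, [4,1,5,1,4,1,5,1,5,1,4,4,1,4,1,4,4,1,5,1,4]), ([66,73], 51, [4,1,4,1,4,4,1,4,1,4,1,5,1,5,1,4,1])], []⟩
def c60 : Clm := ⟨5, 5, true, [1,4,4,1,5,1,5,1,4,4,1,4,1,4,1,5,1,4,4,9,1], [4,1,5,1,4,4,1,9], 5, [([], 59, [])], []⟩
def c61 : Clm := ⟨5, 5, true, [1,4,1,4,1,4,1,4,9], [1,4,1,4,1,5,1,4,4,1,4,1,4,1,5,1,4,9,1], 11, [([], 42, [1,4,1,4,1,4,1,4]), ([24,30,30,24], 19, [1,4,1,4,4,1,5,1,4,1,4,4,1,4,1,5,1,4,1,4]), ([44,72], 55, [4,1,5,1,4,4,1,4,4,1,5,1,4,1,4,1])], []⟩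
def c62 : Clm := ⟨5, 5, true, [1,4,1,4,1,5,1,4,4,1,4,1,4,1,5,1,4,9,1], [1,4,1,4,1,4,1,4,9], 5, [([], 61, [])], []⟩
def c63 : Clm := ⟨5, 5, true, [4,1,5,1,4,4,1,4,9], [1,4,4,1,5,1,5,1,4,1,4,1,4,4,1,4,1,4,4,1,5,9], 11, [([], 42, [4,1,5,1,4,4,1,4]), ([26,24,24], 7, [1,4,4,1,4,1,4,4,1,4,4,1,4,4,1,5,1,4,4,1]), ([20,28,31,31,24,30], 43, [4,1,4,1,4,1,4,1,4,1,4,4,1,5,1,4,1,5,1,5,1,5])], []⟩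
def c64 : Clm := ⟨5, 5, true, [1,4,4,1,5,1,5,1,4,1,4,1,4,4,1,4,1,4,4,1,5,9], [4,1,5,1,4,4,1,4,9], 5, [([], 63, [])], []⟩
def c65 : Clm := ⟨5, 5, true, [4,1,5,1,5,1,5,1,9], [5,1,5,1,4,1,4,1,4,1,4,1,5,1,4,6,9,3,7], 11, [([], 42, [4,1,5,1,5,1,5,1]), ([25,26,25,26,25], 19, [1,4,1,4,1,4,4,1,4,1,5,1,5,1,4,1,5,1,4,1,5,1]), ([79,73,40], 55, [1,5,1,5,1,5,1,5,1,4,4,1,5,1,5,1,5,1,4,1,4,4,1])], []⟩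
def c66 : Clm := ⟨5, 5, true, [5,1,5,1,4,1,4,1,4,1,4,1,5,1,4,6,9,3,7], [4,1,5,1,5,1,5,1,9], 5, [([], 65, [])], []⟩
def c67 : Clm := ⟨5, 5, true, [1,4,1,4,4,1,4,4,1,9], [1,5,1,5,1,5,1,5,1,4,1,5,2,10,5,8,12], 11, [([], 42, [1,4,1,4,4,1,4,4,1]), ([28,28,24,26], 19, [1,4,1,5,1,5,1,5,1,4,1,4,1,5,1,4,1,4,1,5]), ([72,78,40], 51, [1,4,4,1,4,1,5,1,5,1,4,1,5,1,4,4,1,5,1,4,1,4])], []⟩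
def c68 : Clm := ⟨5, 5, true, [1,5,1,5,1,5,1,5,1,4,1,5,2,10,5,8,12], [1,4,1,4,4,1,4,4,1,9], 5, [([], 67, [])], []⟩
def c69 : Clm := ⟨5, 5, true, [5,1,4,1,4,1,4,4,1,9], [5,1,4,1,4,4,1,4,1,5,1,5,1,4,1,4,4,1,4,4,9], 11, [([], 42, [5,1,4,1,4,1,4,4,1]), ([30,28,24], 17, [5,1,4,1,4,4,1,5,1,4,4,1,4,1,4,1,4,1,4]), ([26,25,28,25], 43, [5,1,4,4,1,4,1,4,4,1,5,1,4,1,4,1,4,1,4])], []⟩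
def c70 : Clm := ⟨5, 5, true, [5,1,4,1,4,4,1,4,1,5,1,5,1,4,1,4,4,1,4,4,9], [5,1,4,1,4,1,4,4,1,9], 5, [([], 69, [])], []⟩
def c71 : Clm := ⟨5, 5, true, [1,4,1,4,4,1,4,1,4,1,9], [1,4,1,5,1,5,1,4,4,1,5,1,4,4,1,4,4,1,4,4,9], 11, [([], 42, [1,4,1,4,4,1,4,1,4,1]), ([28,28,24], 17, [4,4,1,4,1,4,4,1,5,1,5,1,4]), ([30,29,26,25], 43, [5,1,4,4,1,4,1,4,1,4,1,4,4,1,5])], []⟩
def c72 : Clm := ⟨5, 5, true, [1,4,1,5,1,5,1,4,4,1,5,1,4,4,1,4,4,1,4,4,9], [1,4,1,4,4,1,4,1,4,1,9], 5, [([], 71, [])], []⟩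
def c73 : Clm := ⟨5, 5, true, [1,4,1,4,4,1,4,1,4,1,4,9], [4,4,1,5,1,5,1,4,4,1,4,4,1,5,1,4,1,5,1,4,4,9,1], 11, [([], 42, [1,4,1,4,4,1,4,1,4,1,4]), ([29,25,28,25,25], 19, [4,1,4,1,4,1,4,4,1,4,1,5,1,4,4,1,5,1,4]), ([66,40], 55, [5,1,4,1,4,4,1,4,4,1,4,1,4,1,4,4,1,5,1,5])], []⟩
def c74 : Clm := ⟨5, 5, true, [4,4,1,5,1,5,1,4,4,1,4,4,1,5,1,4,1,5,1,4,4,9,1], [1,4,1,4,4,1,4,1,4,1,4,9], 5, [([], 73, [])], []⟩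
def c75 : Clm := ⟨5, 5, true, [5,1,4,1,4,4,1,5,1,4,1,4,1,5,1,5,1,4,4,1,4,2,1,3], [5,1,4,1,4,4,1,4,1,5,1,4,1,5,1,2,1,3], 9, [([92,88], 48, [1,4,1,4,1,4,4,1,5,1,4,4,1,4,4,1,5,1,4,1]), ([90,93], 60, [4,1,5,1,4,4,1,5,1,5,1,4,1,4,1,4,1,4,1]), ([88,92], 48, [5,1,4,1,4,1,5,1,5,1,4,1,5,1,4,1,5,1,5,1])], []⟩
def c76 : Clm := ⟨5, 5, true, [5,1,4,1,4,4,1,4,1,5,1,4,1,5,1,2,1,3], [5,1,4,1,4,4,1,5,1,4,1,4,1,5,1,5,1,4,4,1,4,2,1,3], 5, [([], 75, [])], []⟩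
def c77 : Clm := ⟨5, 5, true, [4,1,4,1,4,4,1,4,1,4,1,4,4,1,5,1,5,1,13,11,7,11], [5,1,5,1,4,1,4,4,1,5,1,4,4,1,4,4,1,4,4,8,1,13,11], 7, [([], 50, [1,5,1,5,1,4,1,4,4,1,4,4,1,4,1,4,4,1,5,1,4]), ([], 76, [5,1,4,4,1,4,1,5,1,4,4,1,4])], []⟩
def c78 : Clm := ⟨5, 5, true, [5,1,5,1,4,1,4,4,1,5,1,4,4,1,4,4,1,4,4,8,1,13,11], [4,1,4,1,4,4,1,4,1,4,1,4,4,1,5,1,5,1,13,11,7,11], 5, [([], 77, [])], []⟩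
def c79 : Clm := ⟨5, 5, false, [1,4,1,4,1,5,1,4,4,1,5,1,4,4,1,4,1,6,8,5,11], [1,4,1,5,1,4,1,5,1,4,1,5,1,5,1,4,1,5,1,5,1,2,4,4,7], 6, [([], 55, [1,4,1,4,1,5,1]), ([40,79], 40, [4,1,4,1,4,1,4,4,1,4,1,4,4,1,4,1,4,4,1,5]), ([73,79], 56, [1,4,1,4,4,1,5,1,4,4,1,5,1,5,1,4,4,1,5,1,4])], []⟩
def c80 : Clm := ⟨5, 5, true, [4,1,4,4,1,4,1,4,1,5,1,4,1,5,1,4,1,5,1,4,3,1,5,13], [5,1,5,1,5,1,4,1,4,4,1,4,1,5,1,4,4,1,5,7,1,11], 11, [([92,88], 48, [4,4,1,4,1,4,1,4,1,4,4,1,5,1,4,1,4,1,4,1,4,1]), ([158,93], 52, [1,5,1,4,4,1,4,4,1,5,1,5,1,4,1,4,4,1,5,1,5,1]), ([72,78], 55, [4,4,1,4,4,1,4,1,4,1,4,1,5,1,5,1,4])], []⟩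
def c81 : Clm := ⟨5, 5, true, [5,1,5,1,5,1,4,1,4,4,1,4,1,5,1,4,4,1,5,7,1,11], [4,1,4,4,1,4,1,4,1,5,1,4,1,5,1,4,1,5,1,4,3,1,5,13], 5, [([], 80, [])], []⟩
def c82 : Clm := ⟨5, 5, true, [1,4,4,1,4,1,5,1,5,1,4,1,4,4,1,5,1,5,1,4,1,5,2,10,14], [1,5,1,5,1,4,1,4,4,1,4,1,5,1,5,1,6,1,9,11], 11, [([], 72, [4,4,1,4,1,4,4,1,4,1,4,1,5,1,5,1,5]), ([90,88], 70, [5,1,4,4,1,5,1,4,1,4,1,4,1,4,4,1,4]), ([], 58, [5,1,5,1,5,1,4,1,5,1,4,1,5,1,4,4,1,5,1])], []⟩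
def c83 : Clm := ⟨5, 5, true, [1,5,1,5,1,4,1,4,4,1,4,1,5,1,5,1,6,1,9,11], [1,4,4,1,4,1,5,1,5,1,4,1,4,4,1,5,1,5,1,4,1,5,2,10,14], 5, [([], 82, [])], []⟩
def c84 : Clm := ⟨5, 5, true, [1,5,1,4,1,4,1,4,1,4,1,4,1,5,1,4,1,4,4,1,4,3,12], [4,1,4,4,1,4,4,1,4,1,4,1,4,1,4,4,10,13,8,3], 11, [([], 83, [1,4,1,4,1,4,1,5,1,4,1,5,1,5,1,4,4,1,4,1,4,1,4]), ([88], 58, [5,1,5,1,4,4,1,4,1,5,1,5]), ([93], 83, [1,5,1,4,1,4,1,4,4,1,4,1,5,1,5,1,5,1,4])], []⟩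
def c85 : Clm := ⟨5, 5, true, [4,1,4,4,1,4,4,1,4,1,4,1,4,1,4,4,10,13,8,3], [1,5,1,4,1,4,1,4,1,4,1,4,1,5,1,4,1,4,4,1,4,3,12], 5, [([], 84, [])], []⟩
def c86 : Clm := ⟨5, 5, true, [1,5,1,4,1,4,4,1,5,1,5,1,5,1,5,1,4,1,4,1,4,2,11,12,7], [5,1,5,1,4,1,4,4,1,4,1,5,1,4,1,4,4,1,5,1,5,2,4,1,9,13], 9, [([], 83, [1,5,1,4,4,1,5,1,4,1,4,1,4,1,4,4,1,4,1,5,1]), ([92,92,88], 48, [4,1,5,1,5,1,4,4,1,5,1,4,1,4,4,1,5,1,5,1,4]), ([93,158], 60, [1,4,4,1,4,1,4,1,4,4,1,5,1,4,4,1,4,4,1,4,4,1])], []⟩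
def c87 : Clm := ⟨5, 5, true, [5,1,5,1,4,1,4,4,1,4,1,5,1,4,1,4,4,1,5,1,5,2,4,1,9,13], [1,5,1,4,1,4,4,1,5,1,5,1,5,1,5,1,4,1,4,1,4,2,11,12,7], 5, [([], 86, [])], []⟩
def c88 : Clm := ⟨5, 5, true, [1,4,4,1,4,4,1,4,1,4,1,4,4,1,4,4,1,4,4,1,5,1,6,12,8,4], [4,1,5,1,4,1,5,1,4,1,4,4,1,5,1,4,4,1,5,1,4,1,5,12,9,14,10], 9, [([], 60, [1,4,1,4,4,1,4,1,4,4,1,5,1,4,1,5,1,4,1,5,1]), ([158,93,88], 48, [1,5,1,4,1,5,1,5,1,4,4,1,4,4,1,5]), ([92,92,158], 60, [1,4,1,4,1,4,1,4,4,1,4,1,4,4,1,4,1,5,1,4,1,4,4])], []⟩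
def c89 : Clm := ⟨5, 5, true, [4,1,5,1,4,1,5,1,4,1,4,4,1,5,1,4,4,1,5,1,4,1,5,12,9,14,10], [1,4,4,1,4,4,1,4,1,4,1,4,4,1,4,4,1,4,4,1,5,1,6,12,8,4], 5, [([], 88, [])], []⟩
def c90 : Clm := ⟨5, 5, true, [4,1,4,4,1,4,1,4,4,1,5,1,5,1,5,1,4,1,4,1,4,8,7,13,1], [4,1,5,1,5,1,4,1,4,4,1,5,1,5,1,5,1,4,1,4,2,12,2,9], 9, [([88,92], 74, [5,1,4,4,1,5,1,4,4,1,5,1,5,1,4,1,4]), ([], 68, [4,1,4,1,4,1,4,1,5,1,5,1,4,1,4,4,1,5]), ([], 62, [1,5,1,5,1,5,1,5,1,4,4,1,5,1,5,1,5,1])], []⟩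
def c91 : Clm := ⟨5, 5, true, [1,4,4,1,4,1,4,1,4,1,4,1,4,1,4,1,4,1,4,4,1,5,1,2,11,12,1,4], [1,5,1,5,1,5,1,4,1,4,4,1,4,1,5,1,4,1,5,1,2,11,12,1,4], 11, [([93,88], 87, [5,1,5,1,4,4,1,4,4,1,4,1,4,1,4,4,1,4,1]), ([], 62, [1,5,1,4,1,4,4,1,4,1,4,1,4,1,4,4,1,4,1,5,1]), ([93,88], 87, [4,4,1,4,4,1,4,1,4,1,5,1,4,4,1,4,1,5,1,5,1])], []⟩
def c92 : Clm := ⟨5, 5, true, [1,5,1,5,1,5,1,4,1,4,4,1,4,1,5,1,4,1,5,1,2,11,12,1,4], [1,4,4,1,4,1,4,1,4,1,4,1,4,1,4,1,4,1,4,4,1,5,1,2,11,12,1,4], 5, [([], 91, [])], []⟩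
def c93 : Clm := ⟨5, 5, true, [4,1,4,1,5,1,5,1,4,4,1,4,4,1,5,1,5,1,4,1,6,1,8], [1,4,1,4,1,4,4,1,5,1,5,1,5,1,4,1,4,1,4,1,4,4,2,8,5,9], 9, [([88], 62, [1,4,1,5,1,4,1,4,4,1,4,4,1,4,1,5,1,5,1]), ([88], 85, [1,4,4,1,4,1,4,1,4,1,4,4,1,4,4,1,4,1,5,1,5]), ([], 74, [4,4,1,4,1,4,4,1,4,4,1,5,1,5,1,5,1,4,4,1,4])], []⟩
def c94 : Clm := ⟨5, 5, true, [1,4,1,4,1,4,4,1,5,1,5,1,5,1,4,1,4,1,4,1,4,4,2,8,5,9], [4,1,4,1,5,1,5,1,4,4,1,4,4,1,5,1,5,1,4,1,6,1,8], 5, [([], 93, [])], []⟩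
def c95 : Clm := ⟨5, 5, true, [5,1,4,1,4,4,1,5,1,4,1,4,1,4,1,4,4,1,4,4,12,9,7], [5,1,4,1,4,1,4,1,4,4,1,5,1,4,4,1,4,1,12,6,1], 11, [([88,92], 64, [1,5,1,4,1,4,1,4,1,4,4,1,4,1,4,4,1,4,1,5,1]), ([92,158,90], 60, [1,4,1,4,1,5,1,4,1,4,1,5,1,5,1,4,1,5,1]), ([158,92], 64, [1,5,1,4,1,4,4,1,5,1,4,4,1,4,1,5,1,4,1,4,4,1,4,4])], []⟩
def c96 : Clm := ⟨5, 5, true, [5,1,4,1,4,1,4,1,4,4,1,5,1,4,4,1,4,1,12,6,1], [5,1,4,1,4,4,1,5,1,4,1,4,1,4,1,4,4,1,4,4,12,9,7], 5, [([], 95, [])], []⟩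
def c97 : Clm := ⟨5, 5, true, [1,4,4,1,4,1,4,1,5,1,4,1,5,1,4,4,1,4,2,1,5,1,9], [1,4,4,1,4,4,1,5,1,4,1,4,1,5,1,4,1,4,4,7,13,7,9], 9, [([88,92], 64, [4,1,5,1,4,1,4,1,4,1,4,4,1,5,1,4,1,4,4,1,5]), ([158,93], 48, [1,4,4,1,4,1,5,1,4,4,1,5,1,5,1,4,1,5,1,5]), ([92,158], 64, [1,4,1,5,1,4,1,4,1,4,4,1,4,4,1,5,1,4,1,4,1,5])], []⟩
def c98 : Clm := ⟨5, 5, true, [1,4,4,1,4,4,1,5,1,4,1,4,1,5,1,4,1,4,4,7,13,7,9], [1,4,4,1,4,1,4,1,5,1,4,1,5,1,4,4,1,4,2,1,5,1,9], 5, [([], 97, [])], []⟩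
def c99 : Clm := ⟨4, 5, true, [1,4,4,1,5,1,5,1,4,4,1,5,1,4,1,5,1,5,1,4,10], [1,4,1,4,1,4,1,5,1,4,1,5,1,4,1,4,4,1,5,1,5,1,3,14,11], 9, [([], 18, [1,4,4,1,5,1,5,1,4,4,1,5,1,4,1,5,1,5,1,4]), ([24,24,31,31], 43, [1,4,4,1,4,1]), ([88,93], 98, [4,4,1,5,1,4,1,5,1,4,1,5,1,4,1,4,4,1,5,1,5,1,4])], []⟩
def c100 : Clm := ⟨5, 4, true, [1,4,1,4,1,4,1,5,1,4,1,5,1,4,1,4,4,1,5,1,5,1,3,14,11], [1,4,4,1,5,1,5,1,4,4,1,5,1,4,1,5,1,5,1,4,10], 5, [([], 99, [])], []⟩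
def c101 : Clm := ⟨5, 5, true, [1,4,1,4,1,5,1,4,4,1,5,1,5,1,4,1,5,1,4,4,1,4,13,7,9], [5,1,5,1,4,4,1,4,1,4,1,4,1,5,1,4,2,1,14,9], 11, [([88,92], 64, [4,1,4,4,1,5,1,4,1,4,1,4,4,1,4,4,1,4,1,4]), ([92,88], 99, [1,5,1,4,4,1,4,1,4,4,1,4,4,1,4,1,4,4]), ([73,79,46,40], 51, [4,1,5,1,5,1,4,1,5,1,4,4,1,4,1])], []⟩
def c102 : Clm := ⟨5, 5, true, [5,1,5,1,4,4,1,4,1,4,1,4,1,5,1,4,2,1,14,9], [1,4,1,4,1,5,1,4,4,1,5,1,5,1,4,1,5,1,4,4,1,4,13,7,9], 5, [([], 101, [])], []⟩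
def c103 : Clm := ⟨5, 5, true, [1,4,1,5,1,4,1,4,1,4,4,1,5,1,4,1,4,1,4,4,1,4,4,2,8,10,1], [4,1,4,4,1,5,1,4,4,1,5,1,4,1,5,1,5,3,11,3,10], 11, [([], 99, [5,1,5,1,5,1,4,1,4,4,1,4,4,1,4,4]), ([46,79,47], 51, [1,5,1,4,4,1,5,1,4,1,4,4,1,4,4,1,4,4,1,4,1,5]), ([158,92,90], 102, [5,1,4,1,5,1,4,1,4,4,1,5,1,4,1,4,1,4,4,1])], []⟩
def c104 : Clm := ⟨5, 5, true, [4,1,4,4,1,5,1,4,4,1,5,1,4,1,5,1,5,3,11,3,10], [1,4,1,5,1,4,1,4,1,4,4,1,5,1,4,1,4,1,4,4,1,4,4,2,8,10,1], 5, [([], 103, [])], []⟩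
def c105 : Clm := ⟨5, 5, true, [1,5,1,5,1,4,1,4,4,1,5,1,5,3,8,3,14], [4,1,4,1,4,4,1,4,1,4,1,4,4,1,4,7,8,13,3], 11, [([], 52, [1,4,1,4,4,1,4,4,1,4,1,4,1,4,4,1,4,1,5]), ([78,46,72], 51, [1,4,4,1,4,4,1,4,1,5,1,4,1,5,1,4,1,4,1,5]), ([92,92,158], 104, [4,1,4,1,5,1,4,4,1,4,1,4,1,5,1,5,1])], []⟩
def c106 : Clm := ⟨5, 5, true, [4,1,4,1,4,4,1,4,1,4,1,4,4,1,4,7,8,13,3], [1,5,1,5,1,4,1,4,4,1,5,1,5,3,8,3,14], 5, [([], 105, [])], []⟩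
def c107 : Clm := ⟨5, 5, true, [1,4,1,4,1,5,1,4,4,1,5,1,4,4,1,4,4,1,8,3,12,2], [1,4,4,1,4,1,4,1,5,1,4,1,5,1,4,1,4,1,4,4,1,4,8,3,4,10], 11, [([], 58, [5,1,4,1,4,1,4,4,1,5,1,4,1,5,1,4,1,5,1,4]), ([93], 105, [4,1,4,1,5,1,5,1,5,1,4,1,4,4,1,4,1]), ([93], 54, [1,5,1,4,1,5,1,4,4,1,4,1,4,1,5,1,4,4])], []⟩
def c108 : Clm := ⟨5, 5, true, [1,4,4,1,4,1,4,1,5,1,4,1,5,1,4,1,4,1,4,4,1,4,8,3,4,10], [1,4,1,4,1,5,1,4,4,1,5,1,4,4,1,4,4,1,8,3,12,2], 5, [([], 107, [])], []⟩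
def c109 : Clm := ⟨5, 5, true, [1,5,1,4,1,5,1,5,1,5,1,5,1,4,1,4,3,6,5,10], [4,1,4,1,4,4,1,5,1,5,1,5,1,4,4,1,4,1,4,4,1,2,11,14,13], 11, [([], 54, [4,1,5,1,4,1,4,4,1,4,4,1,4,1,5]), ([92,90], 105, [4,1,5,1,4,4,1,4,4,1,5,1,4,1,4,1,5,1,4,4,1,5]), ([], 85, [4,1,5,1,5,1,4,1,4,4,1,4,1,5,1,4])], []⟩
def c110 : Clm := ⟨5, 5, true, [4,1,4,1,4,4,1,5,1,5,1,5,1,4,4,1,4,1,4,4,1,2,11,14,13], [1,5,1,4,1,5,1,5,1,5,1,5,1,4,1,4,3,6,5,10], 5, [([], 109, [])], []⟩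
def c111 : Clm := ⟨4, 6, true, [13,11,1,3], [], 1, [], []⟩
def c112 : Clm := ⟨6, 4, true, [], [5,1,4,1,5,1,5,1,4,1,4,4,1,4,1,4,1,4,1,4,1,4,1,2,11,2], 5, [([], 111, [])], []⟩
def c113 : Clm := ⟨6, 6, false, [], [1,5,1,4,1,4,4,1,4,4,1,4,4,1,4,1,4,1,4], 3, [([], 111, []), ([45,73], 111, [1,5,1,4,1,4,4,1,4,4,1,4,4,1,4,1,4,1,4])], []⟩
def c114 : Clm := ⟨6, 6, false, [], [5,1,5,1,4,1,4,1,5,1,5,1,4,1,4,1,5,1,5,1,4,1], 3, [([], 111, []), ([47,79], 111, [5,1,5,1,4,1,4,1,5,1,5,1,4,1,4,1,5,1,5,1,4,1])], []⟩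
def c115 : Clm := ⟨6, 6, false, [], [1,4,4,1,4,1,5,1,4,1,5,1,4,4,1,5], 3, [([], 111, []), ([43,40], 111, [1,4,4,1,4,1,5,1,4,1,5,1,4,4,1,5])], []⟩
def c116 : Clm := ⟨6, 5, true, [1,6], [4,1,5,1,5,1,5,1,5,1,5,1,4,1,4,4,1,5,1,4,3,10,12,14], 7, [([], 111, [1]), ([73,46,40], 100, [1,5,1,4,1,5,1,4,1,4,1,4,4,1,4,4])], []⟩
def c117 : Clm := ⟨5, 6, true, [4,1,5,1,5,1,5,1,5,1,5,1,4,1,4,4,1,5,1,4,3,10,12,14], [1,6], 5, [([], 116, [])], []⟩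
def c118 : Clm := ⟨6, 4, true, [1,5,1,6], [1,5,1,5,1,4,1,4,1,4,1,4,4,1,4,1,4,1,4,1,4,4,1,2,1,13,2], 7, [([], 111, [1,5,1]), ([44,78], 25, [1,4,1,4,1,4,1,5,1,5,1,4,4,1,5,1])], []⟩
def c119 : Clm := ⟨4, 6, true, [1,5,1,5,1,4,1,4,1,4,1,4,4,1,4,1,4,1,4,1,4,4,1,2,1,13,2], [1,5,1,6], 5, [([], 118, [])], []⟩
def c120 : Clm := ⟨6, 6, false, [1,5,1,6], [4,1,5,1,4,1,5,1,4,4,1,5,1,7,8,12,11], 3, [([], 119, []), ([45,47,79], 119, [4,1,4,4,1,4,4,1,5,1,4,1,4,1,4,1,4,1,4,1,4,4])], []⟩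
def c121 : Clm := ⟨6, 6, true, [1,5,1,4,4,6], [1,4,1,5,1,4,1,4,1,4,1,4,1,4,4,1,4,4,1,4,1,5,13,4,4,1], 7, [([], 111, [1,5,1,4,4]), ([47,44], 118, [1,5,1,4,1,5,1,4,4,1,5,1,4,4,1,4,4,1])], []⟩
def c122 : Clm := ⟨6, 4, true, [1,4,1,5,1,9], [5,1,4,1,4,1,4,4,1,4,1,5,1,4,1,4,4,1,9,1], 11, [([], 111, [1,4,1,5,1]), ([40], 25, [1,4,1,5,1,4,1,4,1,5,1,4,4,1,5,1,4,4,1,4,1]), ([66], 27, [1,4,4,1,4,4,1,4,4,1,5,1,4,1,5,1,5,1,4,1,4])], []⟩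
def c123 : Clm := ⟨4, 6, true, [5,1,4,1,4,1,4,4,1,4,1,5,1,4,1,4,4,1,9,1], [1,4,1,5,1,9], 5, [([], 122, [])], []⟩
def c124 : Clm := ⟨6, 6, true, [4,1,4,1,5,1,9], [1,4,1,5,1,4,4,1,5,1,5,1,5,1,4,1,9,1], 11, [([], 111, [4,1,4,1,5,1]), ([46], 25, [1,4,1,4,4,1,5,1,4,1,4,1,4,1,4,1,4,4,1,4,4,1]), ([47,44], 118, [4,1,4,4,1,4,1,4,1,4,1,4,1,4,1,5,1,5,1,4])], []⟩
def c125 : Clm := ⟨6, 4, true, [4,1,4,1,4,4,1,10], [4,1,4,4,1,4,1,4,1,4,1,4,4,1,6,8], 9, [([], 111, [4,1,4,1,4,4,1]), ([47,44,40], 100, [5,1,4,1,5,1,4,4,1,4,1,4,1,5,1,4,1,4,4,1,4]), ([92,158], 56, [1,5,1,4,4,1,5,1,4,1,4,1,4,1,4,1,4])], []⟩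
def c126 : Clm := ⟨4, 6, true, [4,1,4,4,1,4,1,4,1,4,1,4,4,1,6,8], [4,1,4,1,4,4,1,10], 5, [([], 125, [])], []⟩
def c127 : Clm := ⟨5, 6, true, [4,4,1,4,4,1,5,1,4,1,5,1,4,4,1,4,1,4,1,4,6,9,13], [5,1,4,1,5,1,4,4,1,5,1,4,4,1,5,1,4,1,2,6,13,11], 11, [([], 82, [1,4,4,1,5,1,4,1,5,1,5,1,4,1,5]), ([], 89, [1,5,1,5,1,5,1,5,1,4,4,1,5,1,5,1,5,1,5]), ([90,92,88], 116, [1,4,1,4,4,1,5,1,4,4,1,4,4,1])], []⟩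
def c128 : Clm := ⟨6, 5, true, [5,1,4,1,5,1,4,4,1,5,1,4,4,1,5,1,4,1,2,6,13,11], [4,4,1,4,4,1,5,1,4,1,5,1,4,4,1,4,1,4,1,4,6,9,13], 5, [([], 127, [])], []⟩
def c129 : Clm := ⟨6, 6, true, [1,4,1,4,1,5,1,4,4,1,4,4,1,4,4,1,5,1,4,1,4,1,13,4,1], [1,4,1,5,1,5,1,5,1,4,4,1,5,1,5,13,4,1], 11, [([], 117, [4,1,4,1,5,1,5,1,4,4,1,5,1,5]), ([], 76, [5,1,5,1,5,1,4,4,1,5,1,5,1,4,1,4,4]), ([90,92,88], 116, [4,1,4,1,5,1,5,1,4,4,1,5,1])], []⟩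
def c130 : Clm := ⟨4, 7, true, [7,2,1,3], [], 1, [], []⟩
def c131 : Clm := ⟨7, 4, true, [], [1,5,1,5,1,4,4,1,5,1,5,1,4,1,4,1,4,1,4,4,3,1,4,6], 5, [([], 130, [])], []⟩
def c132 : Clm := ⟨7, 7, false, [], [1,4,1,5,1,4,1,5,1,4,1,4,1,5,1,5,1,5,1,4,1], 3, [([], 130, []), ([43,46,45,73,40], 130, [1,4,1,5,1,4,1,5,1,4,1,4,1,5,1,5,1,5,1,4,1])], []⟩
def c133 : Clm := ⟨7, 6, true, [4,1,6], [4,1,5,1,4,4,1,5,1,4,1,4,1,5,1,4,4,1,4,1,4,1,2,5,6,2], 7, [([], 130, [4,1]), ([42,46,42], 125, [4,1,4,4,1,5,1,4,1,4,4,1,4,1,5,1,5,1,4])], []⟩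
def c134 : Clm := ⟨6, 7, true, [4,1,5,1,4,4,1,5,1,4,1,4,1,5,1,4,4,1,4,1,4,1,2,5,6,2], [4,1,6], 5, [([], 133, [])], []⟩
def c135 : Clm := ⟨7, 7, false, [4,1,6], [4,1,4,1,4,1,4,1,4,1,5,1,5,1,4,1,4,1,5,1,4,13,4], 3, [([], 134, []), ([226,229,240,226], 134, [5,1,5,1,4,1,4,1,5,1,4,1,4])], []⟩
def c136 : Clm := ⟨7, 4, true, [1,4,1,6], [1,5,1,4,4,1,5,1,4,4,1,4,4,1,4,4,1,4,1,4,4,2,1,5,1,9], 7, [([], 130, [1,4,1]), ([79,46], 41, [4,1,4,1,4,1,4,1,5,1,4,1,5,1,4,1,4,1,4])], []⟩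
def c137 : Clm := ⟨4, 7, true, [1,5,1,4,4,1,5,1,4,4,1,4,4,1,4,4,1,4,1,4,4,2,1,5,1,9], [1,4,1,6], 5, [([], 136, [])], []⟩
def c138 : Clm := ⟨7, 7, false, [1,4,1,6], [4,4,1,4,1,4,1,4,4,1,5,1,4,1,4,1,2,8,3,7], 3, [([], 137, []), ([40,78,44], 130, [5,1,4,1,4,4,1,4,1,4,4,1,5,1,4,4,1])], []⟩
def c139 : Clm := ⟨7, 6, true, [1,5,1,6], [4,1,4,4,1,4,4,1,4,1,4,1,4,1,4,4,6,3,7], 7, [([], 130, [1,5,1]), ([73,66,40], 125, [1,5,1,5,1,4,1,5,1,4,4,1,5,1,4,1,4,1,4,4])], []⟩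
def c140 : Clm := ⟨6, 7, true, [4,1,4,4,1,4,4,1,4,1,4,1,4,1,4,4,6,3,7], [1,5,1,6], 5, [([], 139, [])], []⟩
def c141 : Clm := ⟨7, 7, false, [1,5,1,6], [1,4,1,5,1,4,1,4,4,1,5,1,4,1,5,1,4,4,1,5,1,4,2,5,13,10], 3, [([], 140, []), ([240,229], 134, [4,4,1,4,4,1,4,4,1,4,4,1,5,1,4,4,1,4,4,1])], []⟩
def c142 : Clm := ⟨7, 5, true, [4,1,4,4,6], [1,4,1,5,1,5,1,4,4,1,5,1,4,4,1,5,1,4,1,4,8,12,2,4], 7, [([], 130, [4,1,4,4]), ([79,47,40], 51, [4,4,1,5,1,4,1,4,1,4,4,1,5,1,4,1,4,4])], []⟩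
def c143 : Clm := ⟨5, 7, true, [1,4,1,5,1,5,1,4,4,1,5,1,4,4,1,5,1,4,1,4,8,12,2,4], [4,1,4,4,6], 5, [([], 142, [])], []⟩
def c144 : Clm := ⟨7, 7, true, [1,4,1,4,4,6], [1,4,1,4,1,5,1,4,1,4,4,1,4,4,1,5,1,4,1,4,1,7], 7, [([], 130, [1,4,1,4,4]), ([46,42,44], 131, [1,4,1,4,1,5,1,4,1,4,4,1,4,4,1,5,1,4,1,4,1])], []⟩
def c145 : Clm := ⟨7, 5, true, [1,5,1,4,4,6], [1,5,1,5,1,4,4,1,4,1,4,4,1,4,1,5,1,5,1,4,7,1,5,7], 7, [([], 130, [1,5,1,4,4]), ([47], 55, [4,1,4,4,1,4,1,4,1,4,4,1,5,1,5,1,5,1,5])], []⟩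
def c146 : Clm := ⟨5, 7, true, [1,5,1,5,1,4,4,1,4,1,4,4,1,4,1,5,1,5,1,4,7,1,5,7], [1,5,1,4,4,6], 5, [([], 145, [])], []⟩
def c147 : Clm := ⟨7, 7, true, [4,4,1,4,9], [4,4,1,5,1,4,1,5,1,4,1,4,4,2,6,3,9], 11, [([], 130, [4,4,1,4]), ([73,47,79], 122, [1,5,1,4,4,1,4,4,1,5,1,4,1,4,4]), ([241,230,228], 133, [4,1,4,1,4,4,1,4,1,4,1,5,1,5,1,5,1,4,4,1])], []⟩
def c148 : Clm := ⟨7, 7, true, [4,4,1,5,1,4,1,5,1,4,1,4,4,2,6,3,9], [4,4,1,4,9], 5, [([], 147, [])], []⟩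
def c149 : Clm := ⟨7, 7, true, [1,4,1,4,4,1,4,4,1,4,9], [1,5,1,4,1,4,4,1,4,1,4,1,4,1,4,4,3,4,14,9], 11, [([], 130, [1,4,1,4,4,1,4,4,1,4]), ([47,78], 125, [5,1,4,1,4,1,4,4,1,4,4,1,4,1]), ([227,241], 133, [5,1,4,1,5,1,5,1,4,1,5,1,5,1,4,1,4])], []⟩
def c150 : Clm := ⟨7, 7, true, [1,5,1,4,1,4,4,1,4,1,4,1,4,1,4,4,3,4,14,9], [1,4,1,4,4,1,4,4,1,4,9], 5, [([], 149, [])], []⟩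
def c151 : Clm := ⟨7, 7, true, [1,4,1,4,1,5,1,5,1,5,1,5,1,9], [4,1,4,1,5,1,5,1,5,1,4,1,4,4,1,4,4,9], 11, [([], 130, [1,4,1,4,1,5,1,5,1,5,1,5,1]), ([79,46,40], 41, [1,4,4,1,4,1,4,1,4,1,4,1,4,1,4,1,4,1,4,1]), ([47,78], 131, [1,4,4,1,4,4,1,5,1,4,1,5,1,5,1,5,1,5,1,5])], []⟩
def c152 : Clm := ⟨7, 7, true, [1,4,4,1,4,4,1,4,4,1,4,4,1,4,9], [4,1,4,4,1,5,1,4,1,5,1,4,1,5,1,4,1,4,4,1,5,2,6,3,9], 11, [([], 130, [1,4,4,1,4,4,1,4,4,1,4,4,1,4]), ([79,46], 122, [1,5,1,4,1,4,1,4,4,1,4,1,4,1,5,1,4,1,4,4,1,4]), ([227], 133, [1,4,1,4,1,5,1,4,1,4,1,5,1,4,4,1,4,1,4,1,5,1])], []⟩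
def c153 : Clm := ⟨7, 7, true, [1,5,1,4,4,1,4,4,1,4,4,1,4,1,4,4,1,9], [1,5,1,4,4,1,4,4,1,4,4,1,4,1,4,4,1,9], 11, [([], 130, [1,5,1,4,4,1,4,4,1,4,4,1,4,1,4,4,1]), ([79,66], 27, [4,1,4,1,5,1,5,1,5,1,4,4,1,5,1,5,1,5,1]), ([78,44,40], 131, [1,4,1,5,1,5,1,5,1,4,1,4,1,4,4,1,4,1,4,1])], []⟩
def c154 : Clm := ⟨7, 7, true, [4,1,5,1,4,4,1,4,1,4,1,4,4,1,4,4,1,4,1,9,9,1,10], [4,1,5,1,5,1,4,1,4,4,1,4,1,5,1,4,4,1,9], 11, [([264], 150, [4,1,4,1,4,4,1,5,1,4,1,5,1,5,1,5,1,5,1]), ([282], 130, [5,1,5,1,4,4,1,4,1,4,1,5]), ([40,78,44], 131, [1,4,4,1,5,1,4,4,1,5,1,4,4,1,4,4,1])], []⟩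
def c155 : Clm := ⟨7, 7, true, [4,1,5,1,5,1,4,1,4,4,1,4,1,5,1,4,4,1,9], [4,1,5,1,4,4,1,4,1,4,1,4,4,1,4,4,1,4,1,9,9,1,10], 5, [([], 154, [])], []⟩
def c156 : Clm := ⟨7, 4, true, [4,1,4,4,1,4,4,1,5,1,4,1,4,1,5,1,4,1,5,1,5,7,9,5], [5,1,4,4,1,4,4,1,5,6,4,6,2], 9, [([], 155, [1,5,1,4,1,4,1,4,1,4,1,5,1,4,1,4,4,1,4,4,1]), ([282,282,276], 155, [5,1,4,1,5,1,4,4,1,4,1,4,4,1,5,1,4,1,5]), ([276], 130, [4,1,4,1,5,1,5,1,4,1,4,1,4,4,1,5,1,4])], []⟩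
def c157 : Clm := ⟨4, 7, true, [5,1,4,4,1,4,4,1,5,6,4,6,2], [4,1,4,4,1,4,4,1,5,1,4,1,4,1,5,1,4,1,5,1,5,7,9,5], 5, [([], 156, [])], []⟩
def c158 : Clm := ⟨7, 7, false, [4,1,4,4,1,4,4,1,5,1,4,1,4,1,5,1,4,1,5,1,5,7,9,5], [4,1,4,1,5,1,4,1,4,4,1,5,1,4,4,1,5,1,7,13,4,9], 3, [([], 157, []), ([73,46,79], 130, [1,4,1,4,4,1,4,4,1,5,1,5,1,4,4,1])], []⟩
def c159 : Clm := ⟨7, 7, true, [5,1,4,1,5,1,5,1,5,1,4,4,1,4,1,8,12,9,4], [1,4,1,4,1,5,1,5,1,4,1,4,1,4,1,4,1,5,1,4,1,4,9], 11, [([316,283,276], 155, [4,4,1,4,1,4,1,5,1,5,1,5,1,4,4,1,5,1,5,1]), ([317,283], 130, [5,1,4,4,1,5,1,4,1,4,4,1,4,1,5,1,4,1,4,1]), ([78,46,44], 131, [1,5,1,5,1,4,4,1,4,1,4,1,5,1,5,1,4,1,4,4,1,5,1])], []⟩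
def c160 : Clm := ⟨7, 7, true, [1,4,1,4,1,5,1,5,1,4,1,4,1,4,1,4,1,5,1,4,1,4,9], [5,1,4,1,5,1,5,1,5,1,4,4,1,4,1,8,12,9,4], 5, [([], 159, [])], []⟩
def c161 : Clm := ⟨7, 5, true, [4,1,5,1,4,1,5,1,4,1,10], [1,5,1,5,1,4,4,1,4,4,1,4,1,4,1,4,1,2,1,12,5], 9, [([], 130, [4,1,5,1,4,1,5,1,4,1]), ([44,66,40], 51, [1,4,4,1,4,1,4,1,4,4,1,4,4,1,4,1,4]), ([], 102, [1,4,1,5,1,4,1,4,4,1,5,1,4,1,4,1,4])], []⟩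
def c162 : Clm := ⟨5, 7, true, [1,5,1,5,1,4,4,1,4,4,1,4,1,4,1,4,1,2,1,12,5], [4,1,5,1,4,1,5,1,4,1,10], 5, [([], 161, [])], []⟩
def c163 : Clm := ⟨7, 7, true, [1,5,1,4,4,1,4,1,5,1,4,1,4,1,5,1,4,4,7,11], [1,4,1,4,1,4,1,4,1,4,1,4,1,4,1,4,1,4,4,1,4,4,2,1,5,13,1], 11, [([], 143, [1,5,1,4,1,4,1,5,1,5,1,5,1,4,4,1,4,1]), ([92,88], 89, [1,4,1,5,1,4,4,1,5,1,4,1,4,4,1,4,4,1,4,4]), ([88,92], 142, [1,4,4,1,4,4,1,4,1,4])], []⟩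
def c164 : Clm := ⟨7, 7, true, [1,4,1,4,1,4,1,4,1,4,1,4,1,4,1,4,1,4,4,1,4,4,2,1,5,13,1], [1,5,1,4,4,1,4,1,5,1,4,1,4,1,5,1,4,4,7,11], 5, [([], 163, [])], []⟩
def c165 : Clm := ⟨7, 7, true, [1,4,4,1,5,1,4,4,1,4,4,1,4,4,1,4,4,1,5,1,5,10,3,1,13], [5,1,4,4,1,4,1,4,1,5,1,5,1,4,4,1,4,4,2,10,12,3], 9, [([], 162, [1,4,1,5,1,4,1,4,4,1,5,1,5,1,5,1,5,1,5,1]), ([90,92], 142, [4,1,5,1,4,1,4,1,4,4,1,4,4,1,4,4,1,5]), ([316,264,264], 150, [1,5,1,5,1,4,1,4,4,1,5,1,5,1,4,1,4,1,4,1])], []⟩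
def c166 : Clm := ⟨7, 7, true, [5,1,4,4,1,4,1,4,1,5,1,5,1,4,4,1,4,4,2,10,12,3], [1,4,4,1,5,1,4,4,1,4,4,1,4,4,1,4,4,1,5,1,5,10,3,1,13], 5, [([], 165, [])], []⟩
def c167 : Clm := ⟨7, 7, true, [1,4,1,5,1,5,1,4,1,4,1,5,1,5,1,4,1,4,1,4,3,6,8,12], [1,4,1,5,1,5,1,5,1,5,1,4,1,4,1,4,4,1,4,1,4,8,11,9], 11, [([], 146, [4,1,4,1,4,4,1,5,1,5,1,4,4,1,4,1,4,1,5,1,4]), ([92,92], 110, [4,4,1,4,1,5,1,4,1,4,4,1,4,1,4,1,4,4,1,5,1,4]), ([92,92,88], 145, [1,4,1,4,4,1,4,1])], []⟩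
def c168 : Clm := ⟨7, 7, true, [1,4,1,5,1,5,1,5,1,5,1,4,1,4,1,4,4,1,4,1,4,8,11,9], [1,4,1,5,1,5,1,4,1,4,1,5,1,5,1,4,1,4,1,4,3,6,8,12], 5, [([], 167, [])], []⟩
def c169 : Clm := ⟨7, 7, true, [1,4,1,4,1,5,1,4,1,5,1,4,1,5,1,5,1,4,1,5,1,3,10,13,8], [4,1,5,1,4,4,1,4,1,4,1,5,1,5,1,5,6,11], 11, [([], 146, [1,4,4,1,4,1,5,1,4,1,4,1,5,1,4,1,5,1,4,1,4,1,5]), ([], 110, [1,4,1,4,1,4,1,4,4,1,4,1,4,1,4]), ([88], 145, [1,5,1,4,4,1,4,1,4,4,1,4,1,4,1,5])], []⟩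
def c170 : Clm := ⟨7, 7, true, [4,1,5,1,4,4,1,4,1,4,1,5,1,5,1,5,6,11], [1,4,1,4,1,5,1,4,1,5,1,4,1,5,1,5,1,4,1,5,1,3,10,13,8], 5, [([], 169, [])], []⟩
def c171 : Clm := ⟨7, 7, true, [1,4,4,1,4,4,1,5,1,5,1,4,1,4,4,1,4,1,4,4,1,4,1,2,10,3,1], [4,1,5,1,4,1,4,4,1,4,4,1,5,1,4,4,1,4,4,2,1,9,13,8], 9, [([264,264], 160, [4,4,1,4,1,4,1,5,1,5,1,4,4,1,4,4,1,4,4,1]), ([], 148, [4,1,4,1,4,1,4,4,1,4,1,4,1,4,4,1,4,4,1,4]), ([283,270], 160, [1,5,1,5,1,4,1,4,4,1,5,1,4,4,1,4,1,5,1,4,4])], []⟩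
def c172 : Clm := ⟨7, 7, true, [4,1,5,1,4,1,4,4,1,4,4,1,5,1,4,4,1,4,4,2,1,9,13,8], [1,4,4,1,4,4,1,5,1,5,1,4,1,4,4,1,4,1,4,4,1,4,1,2,10,3,1], 5, [([], 171, [])], []⟩
def c173 : Clm := ⟨7, 7, true, [4,1,5,1,4,4,1,4,4,1,5,1,4,1,4,4,1,5,3,5,12,6], [4,1,4,4,1,5,1,4,4,1,5,1,5,1,5,1,4,1,4,1,4,10,12,9], 7, [([264], 150, [1,4,4,1,4,4,1,4,1,4,4,1,4,1,5,1,5]), ([270], 150, [5,1,4,4,1,4,1,4,4,1,4,1,5,1,5,1,4,1,5])], []⟩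
def c174 : Clm := ⟨7, 7, true, [4,1,4,4,1,5,1,4,4,1,5,1,5,1,5,1,4,1,4,1,4,10,12,9], [4,1,5,1,4,4,1,4,4,1,5,1,4,1,4,4,1,5,3,5,12,6], 5, [([], 173, [])], []⟩
def c175 : Clm := ⟨7, 7, true, [1,4,4,1,4,1,4,4,1,5,1,4,4,1,4,4,6,8,12,8], [4,4,1,5,1,4,4,1,4,1,5,1,4,1,4,1,4,4,1,4,8,3,12,2], 11, [([264], 150, [5,1,5,1,4,1,4,1,4,1,4,4,1,5,1,4,1]), ([264,264], 174, [5,1,4,1,4,4,1,4,1,4,4,1,5,1,4,1,4,1,4,1,4]), ([271], 150, [4,1,5,1,5,1,5,1,4,1,4,1,4,4,1,4,4,1,4,1,5,1])], []⟩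
def c176 : Clm := ⟨4, 8, true, [1,3], [], 1, [], []⟩
def c177 : Clm := ⟨8, 4, true, [], [1,3], 5, [([], 176, [])], []⟩
def c178 : Clm := ⟨8, 8, false, [], [5,1,4,4,1,5,1,5,1,5,1,5,1,4], 3, [([], 176, []), ([41,47,47,79,46], 176, [5,1,4,4,1,5,1,5,1,5,1,5,1,4])], []⟩
def c179 : Clm := ⟨8, 7, true, [5,6], [1,4,1,5,1,4,4,1,4,1,5,1,5,1,4,1,4,4,1,4,1,4,4,7], 7, [([], 176, [5]), ([78,73], 131, [1,4,1,5,1,4,4,1,4,1,5,1,5,1,4,1,4,4,1,4,1,4,4])], []⟩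
def c180 : Clm := ⟨7, 8, true, [1,4,1,5,1,4,4,1,4,1,5,1,5,1,4,1,4,4,1,4,1,4,4,7], [5,6], 5, [([], 179, [])], []⟩
def c181 : Clm := ⟨8, 5, true, [1,4,4,6], [1,4,4,1,4,1,4,4,1,4,1,4,1,4,1,4,4,1,4,1,5,2,12,3,7], 7, [([], 176, [1,4,4]), ([78,46], 51, [4,1,4,4,1,5,1,5,1,4,1,4,1,4,1,4])], []⟩
def c182 : Clm := ⟨5, 8, true, [1,4,4,1,4,1,4,4,1,4,1,4,1,4,1,4,4,1,4,1,5,2,12,3,7], [1,4,4,6], 5, [([], 181, [])], []⟩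
def c183 : Clm := ⟨8, 6, true, [4,4,1,6], [4,4,1,5,1,4,1,5,1,5,1,4,1,4,4,1,4,2,1,5,2], 7, [([], 176, [4,4,1]), ([79,46], 125, [1,4,1,5,1,4,1,4,4,1,4,1,4,4,1,4,1,4,1,4])], []⟩
def c184 : Clm := ⟨6, 8, true, [4,4,1,5,1,4,1,5,1,5,1,4,1,4,4,1,4,2,1,5,2], [4,4,1,6], 5, [([], 183, [])], []⟩
def c185 : Clm := ⟨8, 8, true, [5,1,4,1,6], [1,5,1,5,1,4,1,4,4,1,4,1,5,1,4,1,4,4,7], 7, [([], 176, [5,1,4,1]), ([78,47], 177, [1,5,1,5,1,4,1,4,4,1,4,1,5,1,4,1,4,4])], []⟩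
def c186 : Clm := ⟨8, 8, true, [1,5,1,5,1,4,1,4,4,1,4,1,5,1,4,1,4,4,7], [5,1,4,1,6], 5, [([], 185, [])], []⟩
def c187 : Clm := ⟨8, 8, true, [1,4,1,5,1,5,1,5,1,5,1,5,1,5,1,9], [4,1,4,1,4,4,1,5,1,4,1,5,1,5,1,4,1,5,1,9], 11, [([], 176, [1,4,1,5,1,5,1,5,1,5,1,5,1,5,1]), ([46,42], 27, [1,4,1,4,1,4,1,5,1,5,1,4,1,5,1,5]), ([], 177, [4,1,5,1,4,1,4,1,5,1,5,1,4,1,4,1,4,4,1,4])], []⟩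
def c188 : Clm := ⟨8, 8, true, [4,1,4,1,4,4,1,5,1,4,1,5,1,5,1,4,1,5,1,9], [1,4,1,5,1,5,1,5,1,5,1,5,1,5,1,9], 5, [([], 187, [])], []⟩
def c189 : Clm := ⟨8, 8, true, [4,4,1,5,1,4,4,1,9], [1,4,1,4,4,1,4,4,1,4,1,4,1,4,1,4,4,1,4,1,5,1,9,1], 11, [([], 176, [4,4,1,5,1,4,4,1]), ([72,44,40], 131, [1,4,1,5,1,4,4,1,4,1,4,1,4,4,1,4,1,4,1]), ([277], 179, [1,5,1,4,1,4,1,4,4,1,4,1,4,4,1,5,1,4,4])], []⟩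
def c190 : Clm := ⟨8, 8, true, [1,4,1,4,4,1,4,4,1,4,1,4,1,4,1,4,4,1,4,1,5,1,9,1], [4,4,1,5,1,4,4,1,9], 5, [([], 189, [])], []⟩
def c191 : Clm := ⟨8, 5, true, [1,5,1,5,1,4,1,5,1,4,1,4,1,4,4,1,9], [5,1,5,1,5,1,4,1,4,4,1,4,1,4,4,1,5,9,5,2,8], 11, [([], 176, [1,5,1,5,1,4,1,5,1,4,1,4,1,4,4,1]), ([79,72,40], 51, [4,1,5,1,4,4,1,4,4,1,5,1,4,1,4]), ([88], 106, [5,1,4,1,4,4,1,5,1,4,1,5,1,5])], []⟩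
def c192 : Clm := ⟨5, 8, true, [5,1,5,1,5,1,4,1,4,4,1,4,1,4,4,1,5,9,5,2,8], [1,5,1,5,1,4,1,5,1,4,1,4,1,4,4,1,9], 5, [([], 191, [])], []⟩
def c193 : Clm := ⟨8, 6, true, [4,1,4,1,4,1,4,1,4,1,9], [4,1,4,4,1,4,1,4,1,5,1,4,1,5,1,4,1,4,1,5,1,9,1,4,3], 11, [([], 176, [4,1,4,1,4,1,4,1,4,1]), ([46,79], 27, [1,4,1,4,1,5,1,5,1,4,4,1,4,4,1,4,1,5,1,4,1,5]), ([72,72], 125, [4,4,1,4,1,5,1,5,1,4,1,4,4,1,4,4,1,4,1,4,4,1])], []⟩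
def c194 : Clm := ⟨6, 8, true, [4,1,4,4,1,4,1,4,1,5,1,4,1,5,1,4,1,4,1,5,1,9,1,4,3], [4,1,4,1,4,1,4,1,4,1,9], 5, [([], 193, [])], []⟩
def c195 : Clm := ⟨8, 8, true, [4,4,1,4,4,1,9], [1,5,1,4,4,1,5,1,5,1,4,1,5,1,4,1,4,1,4,6,1,9], 11, [([], 176, [4,4,1,4,4,1]), ([78,46,44], 125, [4,1,4,4,1,5,1,4,4,1,4,1,4,1,4,1,4,4,1,5,1]), ([230,229], 183, [1,4,1,5,1,4,1,4,1,4,1,4,4,1,5,1,4,1,4,4,1,5])], []⟩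
def c196 : Clm := ⟨8, 8, true, [1,5,1,4,4,1,5,1,5,1,4,1,5,1,4,1,4,1,4,6,1,9], [4,4,1,4,4,1,9], 5, [([], 195, [])], []⟩
def c197 : Clm := ⟨8, 8, true, [1,4,1,4,1,4,1,5,1,9], [1,5,1,4,1,5,1,5,1,5,1,5,1,4,4,1,4,1,10,10,7], 11, [([], 176, [1,4,1,4,1,4,1,5,1]), ([78,73,46], 51, [1,4,1,4,4,1,5,1,4,1,4,1,4,4,1,4,4]), ([92], 191, [1,4,4,1,4,1,4,1,4,1,4,1,4,1,5,1,5,1])], []⟩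
def c198 : Clm := ⟨8, 8, true, [1,5,1,4,1,5,1,5,1,5,1,5,1,4,4,1,4,1,10,10,7], [1,4,1,4,1,4,1,5,1,9], 5, [([], 197, [])], []⟩
def c199 : Clm := ⟨8, 7, true, [4,1,4,4,1,5,1,5,1,5,1,9], [1,4,1,4,4,1,4,1,5,1,4,4,1,4,1,4,4,1,5,6,13,8,13], 11, [([], 176, [4,1,4,4,1,5,1,5,1,5,1]), ([66,47,40], 131, [5,1,4,4,1,4,1,4,1,5,1,4,1,5,1,4,4]), ([317,283], 155, [4,1,5,1,4,4,1,4,1,4,1,4,1,5,1])], []⟩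
def c200 : Clm := ⟨7, 8, true, [1,4,1,4,4,1,4,1,5,1,4,4,1,4,1,4,4,1,5,6,13,8,13], [4,1,4,4,1,5,1,5,1,5,1,9], 5, [([], 199, [])], []⟩
def c201 : Clm := ⟨8, 8, true, [4,1,5,1,4,4,1,4,1,9], [1,4,1,5,1,5,1,4,1,4,1,4,1,4,4,1,5,1,5,1,4,4,1,6,9,3,7], 11, [([], 176, [4,1,5,1,4,4,1,4,1]), ([66,44,79], 125, [1,4,1,4,1,4,1,4,1,4,1,4,1,4,1,5,1,4,1,5,1,5,1]), ([241,230,228,227], 183, [4,1,5,1,4,1,4,1,4,4,1,4,1,4,4,1,5,1,4,1])], []⟩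
def c202 : Clm := ⟨8, 8, true, [1,4,1,5,1,5,1,4,1,4,1,4,1,4,4,1,5,1,5,1,4,4,1,6,9,3,7], [4,1,5,1,4,4,1,4,1,9], 5, [([], 201, [])], []⟩
def c203 : Clm := ⟨8, 7, true, [5,1,4,1,5,1,4,1,4,9], [4,1,5,1,4,4,1,4,1,4,4,1,4,4,1,4,4,1,4,1,5,1,7,1,11], 11, [([], 176, [5,1,4,1,5,1,4,1,4]), ([42,46], 51, [5,1,4,1,4,1,4,4,1,4,4,1,4,1,5,1,4,1,4,1]), ([158,93], 145, [4,4,1,4,4,1,4,1,4,4,1,4,1,5,1,4,4,1])], []⟩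
def c204 : Clm := ⟨7, 8, true, [4,1,5,1,4,4,1,4,1,4,4,1,4,4,1,4,4,1,4,1,5,1,7,1,11], [5,1,4,1,5,1,4,1,4,9], 5, [([], 203, [])], []⟩
def c205 : Clm := ⟨8, 8, true, [1,4,1,4,1,4,4,1,4,9], [5,1,5,1,4,1,5,1,4,1,4,1,5,1,5,1,5,1,4,1,3,7,9,5], 11, [([], 176, [1,4,1,4,1,4,4,1,4]), ([46,78,44], 131, [1,4,4,1,4,4,1,5,1,4,1,4,1,5,1,5,1,4,1,4]), ([317,276,264], 199, [1,4,1,5,1,5,1,5,1,4,1,4,4,1,4,4,1,4,1,4,1])], []⟩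
def c206 : Clm := ⟨8, 8, true, [5,1,5,1,4,1,5,1,4,1,4,1,5,1,5,1,5,1,4,1,3,7,9,5], [1,4,1,4,1,4,4,1,4,9], 5, [([], 205, [])], []⟩
def c207 : Clm := ⟨8, 8, true, [4,1,4,1,5,1,5,1,4,9], [4,4,1,4,1,4,4,1,4,1,4,1,4,4,1,4,1,4,4,2,9,2], 11, [([], 176, [4,1,4,1,5,1,5,1,4]), ([66,78,44], 125, [4,1,4,1,4,1,5,1,4,1,5,1,5,1,4,1,4,4,1]), ([240,227,240], 193, [1,4,1,4,1,4,4,1,4,1,4,1,4,4,1,5,1,4,1,4,1,4,1])], []⟩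
def c208 : Clm := ⟨8, 8, true, [4,4,1,5,1,4,1,4,1,9], [1,4,1,5,1,5,1,4,1,4,4,1,5,1,4,4,1,5,1,4,1,4,6,9,3,7], 11, [([], 176, [4,4,1,5,1,4,1,4,1]), ([72,46], 131, [1,5,1,4,4,1,5,1,5,1,4,1,4,1,4,4,1]), ([270], 179, [5,1,4,4,1,4,1,4,1,5,1,5,1,4,1,4,4,1,4])], []⟩
def c209 : Clm := ⟨8, 8, true, [1,4,1,5,1,5,1,4,1,4,4,1,5,1,4,4,1,5,1,4,1,4,6,9,3,7], [4,4,1,5,1,4,1,4,1,9], 5, [([], 208, [])], []⟩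
def c210 : Clm := ⟨8, 7, true, [4,4,1,9], [1,4,1,5,1,4,1,4,1,5,1,5,1,6,1,11], 11, [([], 176, [4,4,1]), ([47,42,78], 125, [4,1,5,1,4,1,5,1,4,4,1,5,1,5,1,4,4,1,4,4]), ([230,228], 133, [1,4,1,4,1,4,1,5,1,5,1,4,1,4,4,1,4,1,4,4,1,4,1])], []⟩
def c211 : Clm := ⟨7, 8, true, [1,4,1,5,1,4,1,4,1,5,1,5,1,6,1,11], [4,4,1,9], 5, [([], 210, [])], []⟩
def c212 : Clm := ⟨8, 8, true, [4,1,4,4,1,4,4,1,4,4,1,4,9], [4,1,4,1,4,1,4,4,1,4,1,4,4,1,4,4,1,4,4,1,8,14,7], 11, [([], 176, [4,1,4,4,1,4,4,1,4,4,1,4]), ([46,72,44], 177, [1,4,4,1,5,1,5,1,4,1,4,1,4,4,1,4,1,5]), ([357], 198, [1,5,1,4,4,1,4,1,4,1,5,1,4,1,4,4,1,4,1])], []⟩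
def c213 : Clm := ⟨8, 8, true, [4,1,4,1,4,1,4,4,1,4,1,4,4,1,4,4,1,4,4,1,8,14,7], [4,1,4,4,1,4,4,1,4,4,1,4,9], 5, [([], 212, [])], []⟩
def c214 : Clm := ⟨8, 5, true, [4,4,1,4,4,1,4,1,4,1,4,1,9], [1,4,4,1,4,4,1,4,1,4,1,5,1,4,4,1,4,1,4,1,5,1,5,9], 11, [([], 176, [4,4,1,4,4,1,4,1,4,1,4,1]), ([78], 18, [5,1,4,1,4,4,1,4,4,1,5,1,5,1,5,1,5,1,4]), ([24,29,29], 43, [1,4,1,4,4,1,4,1,4,1,4,1,4,4,1,4,4,1,5,1,4,4])], []⟩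
def c215 : Clm := ⟨5, 8, true, [1,4,4,1,4,4,1,4,1,4,1,5,1,4,4,1,4,1,4,1,5,1,5,9], [4,4,1,4,4,1,4,1,4,1,4,1,9], 5, [([], 214, [])], []⟩
def c216 : Clm := ⟨8, 8, true, [1,4,1,4,1,4,4,1,10], [4,1,4,4,1,5,1,4,4,1,4,4,1,4,4,1,5,1,4,4,1,2,4,13,2], 9, [([], 176, [1,4,1,4,1,4,4,1]), ([42,73,40], 125, [5,1,4,1,4,1,5,1,4,4,1,4,1,5,1,4,1,4]), ([240,229,226], 193, [4,1,4,1,4,1,4,1,4,4,1,5,1,4,1,4,4,1,4,1])], []⟩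
def c217 : Clm := ⟨8, 8, true, [4,1,4,4,1,5,1,4,4,1,4,4,1,4,4,1,5,1,4,4,1,2,4,13,2], [1,4,1,4,1,4,4,1,10], 5, [([], 216, [])], []⟩
def c218 : Clm := ⟨8, 8, true, [4,1,4,4,1,5,1,4,4,1,4,1,4,1,5,10], [1,5,1,4,1,4,4,1,4,4,1,4,1,4,1,4,4,1,5,1,4,4,8,11,12], 9, [([], 176, [4,1,4,4,1,5,1,4,4,1,4,1,4,1,5]), ([79,73,44], 100, [1,4,4,1,5,1,5,1,4,1,4,4,1,4,4,1,4,1,4]), ([92,92,90,88], 191, [4,1,4,4,1,4,1,5,1,4,1,4,1,5,1,4,4])], []⟩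
def c219 : Clm := ⟨8, 8, true, [1,5,1,4,1,4,4,1,4,4,1,4,1,4,1,4,4,1,5,1,4,4,8,11,12], [4,1,4,4,1,5,1,4,4,1,4,1,4,1,5,10], 5, [([], 218, [])], []⟩
def c220 : Clm := ⟨8, 7, true, [4,1,4,1,4,4,1,5,1,4,1,4,1,10], [1,4,4,1,4,1,4,4,1,4,4,1,5,1,5,1,4,1,2,1,11,6], 9, [([], 176, [4,1,4,1,4,4,1,5,1,4,1,4,1]), ([73,46,40], 55, [1,5,1,4,1,5,1,5,1,4,4,1,4,1,4,1,4,4]), ([158,92], 161, [4,1,4,4,1,4,4,1,4,1,4,1,5,1,5,1,4,4,1,5,1,5])], []⟩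
def c221 : Clm := ⟨7, 8, true, [1,4,4,1,4,1,4,4,1,4,4,1,5,1,5,1,4,1,2,1,11,6], [4,1,4,1,4,4,1,5,1,4,1,4,1,10], 5, [([], 220, [])], []⟩
def c222 : Clm := ⟨8, 8, true, [5,1,5,1,4,4,1,4,10], [1,5,1,4,1,4,4,1,5,1,5,1,5,1,4,1,4,1,4,1,5,3,10,6,3], 9, [([], 176, [5,1,5,1,4,4,1,4]), ([72,44,40], 131, [4,1,5,1,5,1,4,1,4,4,1,4,1,4,1,4,4,1]), ([265,283], 203, [1,5,1,5,1,4,1,4,4,1,4,4,1,4,4,1,5,1,5,1,4,1])], []⟩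
def c223 : Clm := ⟨8, 8, true, [1,5,1,4,1,4,4,1,5,1,5,1,5,1,4,1,4,1,4,1,5,3,10,6,3], [5,1,5,1,4,4,1,4,10], 5, [([], 222, [])], []⟩
def c224 : Clm := ⟨8, 8, true, [4,1,5,1,5,1,4,4,1,4,1,10], [4,1,4,1,5,1,4,4,1,4,1,5,1,4,1,4,1,4,4,1,4,6,4,8], 9, [([], 176, [4,1,5,1,5,1,4,4,1,4,1]), ([46,78], 125, [5,1,5,1,4,4,1,5,1,5,1,4,1,5,1,5]), ([229,230], 183, [1,5,1,5,1,5,1,5,1,5,1,5,1,5,1,4,1,4,1,5,1,4])], []⟩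
def c225 : Clm := ⟨8, 8, true, [4,1,4,1,5,1,4,4,1,4,1,5,1,4,1,4,1,4,4,1,4,6,4,8], [4,1,5,1,5,1,4,4,1,4,1,10], 5, [([], 224, [])], []⟩
def c226 : Clm := ⟨8, 8, true, [10], [4,1,4,4,1,4,1,4,1,5,1,4,1,4,4,1,4,1,4,4,7,8], 9, [([], 176, []), ([47,78,42], 125, [1,5,1,4,4,1,4,1,4,4,1,4,4,1,4,1,5,1,5,1,5]), ([240,228,230,229], 183, [5,1,4,1,4,1,5,1,4,1,5,1,4,4,1,5,1,5,1,4])], []⟩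
def c227 : Clm := ⟨8, 8, true, [4,1,4,4,1,4,1,4,1,5,1,4,1,4,4,1,4,1,4,4,7,8], [10], 5, [([], 226, [])], []⟩
def c228 : Clm := ⟨8, 8, true, [4,4,1,5,1,4,1,4,10], [1,4,4,1,4,4,1,5,1,4,1,4,1,4,1,4,1,4,1,4,2,11,2], 9, [([], 176, [4,4,1,5,1,4,1,4]), ([46,40], 131, [4,1,4,4,1,4,4,1,4,1,5,1,5,1,5,1,4,1]), ([317,282,264], 199, [1,5,1,4,4,1,5,1,4,4,1,5,1,4,4,1,4])], []⟩
def c229 : Clm := ⟨8, 8, true, [1,4,4,1,4,4,1,5,1,5,1,5,1,4,10], [1,4,4,1,4,1,4,4,1,4,1,4,1,4,1,4,1,5,1,4,8], 9, [([], 176, [1,4,4,1,4,4,1,5,1,5,1,5,1,4]), ([78,73,40], 41, [1,5,1,4,4,1,4,4,1,4,1,4,1,4,4,1,4,4,1]), ([72,72,46], 177, [1,4,4,1,4,1,4,4,1,4,1,4,1,4,1,4,1,5,1,4])], []⟩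
def c230 : Clm := ⟨8, 8, true, [1,4,1,4,1,4,1,5,1,4,1,4,10], [4,4,1,4,4,1,5,1,4,4,1,4,1,5,1,4,1,4,1,2,5,14,2], 9, [([], 176, [1,4,1,4,1,4,1,5,1,4,1,4]), ([46,78,42], 131, [5,1,4,1,5,1,4,4,1,4,1,4,4,1,4]), ([316,265], 210, [4,1,4,1,4,1,4,4,1,5,1,4,1,4,4,1,4,4,1,4,1,4])], []⟩
def c231 : Clm := ⟨8, 8, true, [4,4,1,4,4,1,5,1,4,4,1,4,1,5,1,4,1,4,1,2,5,14,2], [1,4,1,4,1,4,1,5,1,4,1,4,10], 5, [([], 230, [])], []⟩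
def c232 : Clm := ⟨8, 8, true, [4,1,4,1,5,1,5,1,4,1,5,10], [5,1,4,1,4,1,4,4,1,4,1,5,1,4,4,1,12,7,5,8], 9, [([], 176, [4,1,4,1,5,1,5,1,4,1,5]), ([73,79,47], 125, [1,5,1,4,1,4,1,4,4,1,5,1]), ([227,240,229], 193, [4,1,5,1,4,4,1,4,4,1,4,1,4,4,1,5,1,4,4,1,5])], []⟩
def c233 : Clm := ⟨8, 8, true, [5,1,4,1,4,1,4,4,1,4,1,5,1,4,4,1,12,7,5,8], [4,1,4,1,5,1,5,1,4,1,5,10], 5, [([], 232, [])], []⟩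
def c234 : Clm := ⟨8, 4, true, [5,1,5,1,5,1,4,4,1,4,1,5,1,4,10], [1,5,1,4,1,5,1,4,1,5,1,5,1,5,1,5,1,5,1,5,8], 9, [([], 176, [5,1,5,1,5,1,4,4,1,4,1,5,1,4]), ([], 18, [4,1,4,1,4,4,1,5,1,4,1,5,1,4,1,5,1,4,4,1,5]), ([29,30,25], 19, [1,5,1,4,1,5,1,4,1,5,1,5,1,5,1,5,1,5,1,5])], []⟩
def c235 : Clm := ⟨4, 8, true, [1,5,1,4,1,5,1,4,1,5,1,5,1,5,1,5,1,5,1,5,8], [5,1,5,1,5,1,4,4,1,4,1,5,1,4,10], 5, [([], 234, [])], []⟩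
def c236 : Clm := ⟨8, 8, true, [4,1,4,4,1,4,1,4,4,1,5,1,4,4,1,4,1,5,13,3,4,7], [5,7], 7, [([], 235, [5,1,4,1,5,1,5,1,4,1,5,1,4,1,4,4]), ([42,47], 177, [5])], []⟩
def c237 : Clm := ⟨8, 8, true, [5,7], [4,1,4,4,1,4,1,4,4,1,5,1,4,4,1,4,1,5,13,3,4,7], 5, [([], 236, [])], []⟩
def c238 : Clm := ⟨8, 8, true, [1,4,1,4,4,1,4,4,1,5,1,4,4,1,5,1,4,1,2,12,3], [5,1,4,1,4,1,4,1,4,1,4,4,1,4,1,4,4,7], 7, [([], 235, [1,4,4,1,4,1,4,1,4,1,4,1,4,1,4,1,4,4,1,5,1,5]), ([72,40,72], 177, [5,1,4,1,4,1,4,1,4,1,4,4,1,4,1,4,4])], []⟩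
def c239 : Clm := ⟨8, 8, true, [5,1,4,1,4,1,4,1,4,1,4,4,1,4,1,4,4,7], [1,4,1,4,4,1,4,4,1,5,1,4,4,1,5,1,4,1,2,12,3], 5, [([], 238, [])], []⟩
def c240 : Clm := ⟨8, 8, true, [4,1,5,1,5,1,4,1,5,1,4,1,5,1,6,11,2,10], [1,5,1,4,4,7], 7, [([], 235, [1,5,1,4,4,1,5,1,5,1,4,1,5,1,5,1,4,1]), ([73,44], 177, [1,5,1,4,4])], []⟩
def c241 : Clm := ⟨8, 8, true, [1,5,1,4,4,7], [4,1,5,1,5,1,4,1,5,1,4,1,5,1,6,11,2,10], 5, [([], 240, [])], []⟩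
def c242 : Clm := ⟨8, 8, true, [4,4,1,5,1,4,1,4,4,1,4,1,4,1,5,1,4,1,7,2,12,14], [5,1,4,1,4,1,4,1,4,1,4,4,1,4,1,4,1,4,4,1,7], 7, [([], 235, [1,4,1,4,1,4,4,1,4,4,1,4,4,1,4,4,1,4,1,4]), ([47,72,40], 177, [5,1,4,1,4,1,4,1,4,1,4,4,1,4,1,4,1,4,4,1])], []⟩
def c243 : Clm := ⟨8, 8, true, [5,1,4,1,4,1,4,1,4,1,4,4,1,4,1,4,1,4,4,1,7], [4,4,1,5,1,4,1,4,4,1,4,1,4,1,5,1,4,1,7,2,12,14], 5, [([], 242, [])], []⟩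
def c244 : Clm := ⟨8, 8, true, [4,1,4,1,4,1,4,4,1,5,1,4,1,4,4,1,4,1,5,1,2,11,14,12], [1,4,1,4,4,1,5,1,5,1,4,1,4,4,1,4,1,4,4,1,4,4,9], 11, [([], 235, [4,1,4,1,5,1,5,1,5,1,5,1,5,1,5,1,4,1,4,1,4]), ([72,46], 41, [1,4,1,5,1,5,1,4,1,4,1,4,1,4,4,1,4,1,5,1,4,1]), ([42,73,66], 177, [4,4,1,4,1,4,4,1,4,1,5,1,4,1,4,1,5,1,5])], []⟩
def c245 : Clm := ⟨8, 8, true, [1,4,1,4,4,1,5,1,5,1,4,1,4,4,1,4,1,4,4,1,4,4,9], [4,1,4,1,4,1,4,4,1,5,1,4,1,4,4,1,4,1,5,1,2,11,14,12], 5, [([], 244, [])], []⟩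
def c246 : Clm := ⟨8, 8, true, [1,4,4,1,4,1,4,1,4,1,4,1,5,1,4,1,4,4,1,5,1,2,4,4,2], [5,1,5,1,4,1,4,4,1,5,1,5,1,4,1,4,4,1,4,1,5,9], 11, [([], 236, [5,1,4,4,1,5,1,5,1,5,1,4,1,4,1,5,1,5,1,4,1,4]), ([357], 235, [1,4,4,1,4,1,5,1,5,1,4,1,5,1,4]), ([73,73,42], 177, [1,5,1,4,1,4,1,4,1,4])], []⟩
def c247 : Clm := ⟨8, 8, true, [5,1,5,1,4,1,4,4,1,5,1,5,1,4,1,4,4,1,4,1,5,9], [1,4,4,1,4,1,4,1,4,1,4,1,5,1,4,1,4,4,1,5,1,2,4,4,2], 5, [([], 246, [])], []⟩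
def c248 : Clm := ⟨5, 8, true, [1,5,1,4,1,4,4,1,5,1,4,1,5,1,5,1,4,4,1,5,6,8,5], [1,4,4,1,4,4,1,5,1,5,1,4,1,4,1,4,1,4,1,5,2,11,12,4], 9, [([], 56, [4,1,4,1,5,1,4,1,4,1,5,1,5,1,4,1]), ([46,73,42], 177, [4,1,5,1,4,1,5,1,4,1,4,1,4,4,1,4,1,5,1,5,1]), ([356], 231, [1,4,1,4,4,1,4,4,1,5,1,5,1,5,1,5,1,4,1,4])], []⟩
def c249 : Clm := ⟨8, 5, true, [1,4,4,1,4,4,1,5,1,5,1,4,1,4,1,4,1,4,1,5,2,11,12,4], [1,5,1,4,1,4,4,1,5,1,4,1,5,1,5,1,4,4,1,5,6,8,5], 5, [([], 248, [])], []⟩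
def c250 : Clm := ⟨8, 8, true, [4,4,1,4,4,1,4,1,5,1,4,4,1,5,1,4,1,4,4,9,7,5], [4,4,1,4,4,1,4,4,1,4,1,5,1,5,1,4,4,1,5,1,9], 11, [([], 211, [1,5,1,5,1,5,1,5,1,4,1,5,1,4,1,5,1,4,4,1,4]), ([282,270], 130, [5,1,4,1,5,1,5,1,4,1,4,4,1,5,1,4,4,1,5]), ([79,44], 177, [1,4,4,1,5,1,4,1,4,4,1,4,1,4,1,4,1])], []⟩
def c251 : Clm := ⟨8, 8, true, [4,4,1,4,4,1,4,4,1,4,1,5,1,5,1,4,4,1,5,1,9], [4,4,1,4,4,1,4,1,5,1,4,4,1,5,1,4,1,4,4,9,7,5], 5, [([], 250, [])], []⟩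
def c252 : Clm := ⟨8, 8, true, [1,4,1,4,1,4,4,1,4,1,4,1,5,1,4,4,1,4,4,1,5,7,10,14,2], [1,4,4,1,5,1,5,1,4,4,1,4,1,5,1,4,1,4,9], 11, [([], 211, [1,4,1,5,1,4,1,4,1,5,1,5,1,4,4,1]), ([265,316], 130, [4,1,5,1,5,1,4,4,1,4,1,4,4,1,4,1,4,1,4,4]), ([46,79,44], 177, [5,1,4,4,1,5,1,4,1,4,1,4,4,1,4])], []⟩
def c253 : Clm := ⟨8, 8, true, [1,4,4,1,5,1,5,1,4,4,1,4,1,5,1,4,1,4,9], [1,4,1,4,1,4,4,1,4,1,4,1,5,1,4,4,1,4,4,1,5,7,10,14,2], 5, [([], 252, [])], []⟩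
def c254 : Clm := ⟨8, 8, true, [4,1,4,1,5,1,4,4,1,5,1,4,1,4,4,1,5,1,5,1,2,11], [4,4,1,4,1,5,1,5,1,5,1,5,1,5,1,5,1,4,1,4,4,10,10,14], 11, [([], 235, [4,4,1,4,1,4,1,4,1,4,1,4,1,4,1,4,1,4,4,1]), ([78,44], 177, [1,5,1,5,1,5,1,4,1,4,4,1,5,1,5,1,5,1,4]), ([], 218, [4,1,5,1,5,1,4,1,4,1,4,1,4,1,4,4,1,4,1])], []⟩
def c255 : Clm := ⟨8, 8, true, [4,4,1,4,1,5,1,5,1,5,1,5,1,5,1,5,1,4,1,4,4,10,10,14], [4,1,4,1,5,1,4,4,1,5,1,4,1,4,4,1,5,1,5,1,2,11], 5, [([], 254, [])], []⟩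
def c256 : Clm := ⟨8, 7, true, [1,5,1,4,1,4,4,1,4,1,4,4,1,4,1,5,1,4,4,6,8,11,3], [5,1,4,4,1,5,1,4,4,1,4,1,4,1,4,1,4,1,6,4], 11, [([], 235, [1,5,1,5,1,4,4,1,4,4,1,5,1,4,1,4,1,4,4,1,5]), ([73,42,44], 177, [1,4,1,4,4,1,5,1,5,1,4,1,4,4,1,4,4,1,4,4]), ([356], 211, [5,1,4,1,5,1,5,1,4,4,1,4,1,5,1,4,1,4,1,5,1,4,4])], []⟩
def c257 : Clm := ⟨7, 8, true, [5,1,4,4,1,5,1,4,4,1,4,1,4,1,4,1,4,1,6,4], [1,5,1,4,1,4,4,1,4,1,4,4,1,4,1,5,1,4,4,6,8,11,3], 5, [([], 256, [])], []⟩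
def c258 : Clm := ⟨8, 8, true, [4,4,1,4,1,5,1,5,1,5,1,5,1,4,1,5,1,4,1,3,4,14,10], [4,1,5,1,4,4,1,5,1,4,1,4,1,5,1,5,1,4,4,8], 9, [([], 236, [5,1,4,4,1,5,1,4,1,4,4,1,4,1,5,1,5,1,4,4]), ([356], 235, [4,4,1,4,4,1,5,1,5,1,5,1,4,1,4,4,1,4,1,5,1]), ([66,44,40], 177, [4,1,5,1,4,4,1,5,1,4,1,4,1,5,1,5,1,4,4])], []⟩
def c259 : Clm := ⟨8, 8, true, [1,4,1,5,1,5,1,5,1,4,4,1,4,4,1,4,4,1,5,1,3,11,9], [4,1,4,4,1,5,1,4,4,1,5,1,5,1,4,1,8], 9, [([], 204, [1,4,1,4,1,4,1,4,4,1,5,1,5,1,5,1,4,1,4,4,1,4]), ([282,270], 130, [1,5,1,4,4,1,5,1,5,1,5,1,4,4,1,4]), ([79,42], 177, [4,1,4,4,1,5,1,4,4,1,5,1,5,1,4,1])], []⟩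
def c260 : Clm := ⟨8, 8, true, [1,5,1,4,1,4,4,1,4,4,1,4,1,4,10], [4,1,4,1,4,1,4,1,5,1,4,4,8], 9, [([], 176, [1,5,1,4,1,4,4,1,4,4,1,4,1,4]), ([78,46], 25, [1,4,4,1,4,1,4,1,4,4,1,5,1,4,1,4,4,1,4,1]), ([79], 177, [4,1,4,1,4,1,4,1,5,1,4,4])], []⟩
def c261 : Clm := ⟨8, 8, true, [4,1,4,1,4,1,4,1,5,1,4,4,8], [1,5,1,4,1,4,4,1,4,4,1,4,1,4,10], 5, [([], 260, [])], []⟩
def c262 : Clm := ⟨8, 8, true, [4,1,5,1,4,4,1,4,4,1,4,1,4,4,1,5,1,5,1,5,7,1,10,13], [5,6,4,7], 7, [([], 221, [5,1,5,1,4,1,4,4,1,4,4,1,4,1,5]), ([317,264], 179, [4])], []⟩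
def c263 : Clm := ⟨8, 8, true, [5,6,4,7], [4,1,5,1,4,4,1,4,4,1,4,1,4,4,1,5,1,5,1,5,7,1,10,13], 5, [([], 262, [])], []⟩
def c264 : Clm := ⟨8, 8, true, [4,4,1,5,1,5,1,4,4,1,5,1,4,4,1,4,1,4,4,6,5,6], [5,1,4,1,4,1,4,4,1,5,1,4,1,4,1,4,1,4,1,4,1,5,2,1,6,13], 7, [([], 180, [4,1,4,1,4,4,1,5,1,5,1,5,1,4,1,4,4,1]), ([282,282,271,264], 179, [1,4,4])], []⟩
def c265 : Clm := ⟨8, 8, true, [5,1,4,1,4,1,4,4,1,5,1,4,1,4,1,4,1,4,1,4,1,5,2,1,6,13], [4,4,1,5,1,5,1,4,4,1,5,1,4,4,1,4,1,4,4,6,5,6], 5, [([], 264, [])], []⟩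
def c266 : Clm := ⟨8, 8, true, [1,4,1,4,6,8,13,1], [4,7,1,7], 7, [([], 180, [1,4,4,1,4,1,5,1,5,1,5,1,5,1,5,1,5,1,4,1,5]), ([317,277,264], 179, [4,4,1])], []⟩
def c267 : Clm := ⟨8, 8, true, [4,7,1,7], [1,4,1,4,6,8,13,1], 5, [([], 266, [])], []⟩
def c268 : Clm := ⟨8, 8, true, [4,1,4,4,1,5,1,4,1,5,1,4,4,1,4,1,4,1,5,13,6,13], [1,4,1,4,1,4,1,4,4,1,5,1,5,1,5,1,4,1,4,4,1,4,4,6,1,7], 7, [([], 204, [5,1,5,1,5,1,4,1,4,1,4,1,4,4,1,4,4]), ([283,270], 179, [5,1,4,1])], []⟩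
def c269 : Clm := ⟨8, 8, true, [1,4,1,4,1,4,1,4,4,1,5,1,5,1,5,1,4,1,4,4,1,4,4,6,1,7], [4,1,4,4,1,5,1,4,1,5,1,4,4,1,4,1,4,1,5,13,6,13], 5, [([], 268, [])], []⟩
def c270 : Clm := ⟨8, 8, true, [1,5,1,5,1,5,1,5,1,4,4,1,4,1,5,1,5,1,4,1,4,12,1,5], [5,1,4,1,4,1,5,1,5,1,4,1,4,4,1,4,1,4,1,4,1,5,6,5,7], 7, [([], 221, [1,4,4,1,5,1,5,1,5,1,4,4,1,4,4,1,4,4,1]), ([283,277,264], 179, [4,1,4,4,1])], []⟩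
def c271 : Clm := ⟨8, 8, true, [5,1,4,1,4,1,5,1,5,1,4,1,4,4,1,4,1,4,1,4,1,5,6,5,7], [1,5,1,5,1,5,1,5,1,4,4,1,4,1,5,1,5,1,4,1,4,12,1,5], 5, [([], 270, [])], []⟩
def c272 : Clm := ⟨7, 8, true, [5,1,4,4,1,4,1,4,4,1,4,4,1,4,1,5,2,8,10], [1,5,1,4,4,1,4,4,1,4,4,1,4,1,4,1,4,4,1,2,1,13,2], 7, [([316,283,276], 155, [1,5,1,4,4,1,4,4,1,4,1,4,1,4,1,4,4,1,5,1]), ([316,282,277,264], 179, [4,1,4,1,4,4])], []⟩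
def c273 : Clm := ⟨8, 7, true, [1,5,1,4,4,1,4,4,1,4,4,1,4,1,4,1,4,4,1,2,1,13,2], [5,1,4,4,1,4,1,4,4,1,4,4,1,4,1,5,2,8,10], 5, [([], 272, [])], []⟩
def c274 : Clm := ⟨5, 8, true, [4,1,4,1,5,1,5,1,5,1,4,1,4,4,1,4,4,6,2,8,14], [4,1,4,1,5,1,5,1,5,1,4,4,1,4,1,4,1,4,2,1,6,13], 7, [([], 161, [1,5,1,4,1,5,1,5,1,4,1,5,1,4,4,1,4,4,1,4,4,1,5]), ([277,270], 179, [5,1,4,1,4,4])], []⟩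
def c275 : Clm := ⟨8, 5, true, [4,1,4,1,5,1,5,1,5,1,4,4,1,4,1,4,1,4,2,1,6,13], [4,1,4,1,5,1,5,1,5,1,4,1,4,4,1,4,4,6,2,8,14], 5, [([], 274, [])], []⟩
def c276 : Clm := ⟨8, 8, true, [1,5,1,4,4,1,4,1,4,1,5,1,5,1,4,1,4,1,4,1,5,2,6,4,1], [1,5,1,4,1,5,1,4,1,4,4,1,5,1,4,1,5,1,5,1,13,4,4,1], 7, [([], 272, [4,4,1,4,4,1,4,1,4,1,5,1,5,1,4,4,1,4]), ([316,282,277,264], 179, [1,5,1,4,1,4,4])], []⟩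
def c277 : Clm := ⟨8, 8, true, [1,5,1,4,1,5,1,4,1,4,4,1,5,1,4,1,5,1,5,1,13,4,4,1], [1,5,1,4,4,1,4,1,4,1,5,1,5,1,4,1,4,1,4,1,5,2,6,4,1], 5, [([], 276, [])], []⟩
def c278 : Clm := ⟨8, 8, true, [1,5,1,4,1,5,1,4,1,4,4,1,4,4,1,4,1,2,1,6,14], [4,4,1,5,1,4,4,1,4,4,1,5,2,5,11,13], 7, [([], 180, [4,1,4,4,1,5,1,5,1,5,1,5,1,4,1,4]), ([270,316,264], 179, [1,4,4,1,4,1,4,4])], []⟩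
def c279 : Clm := ⟨8, 8, true, [4,4,1,5,1,4,4,1,4,4,1,5,2,5,11,13], [1,5,1,4,1,5,1,4,1,4,4,1,4,4,1,4,1,2,1,6,14], 5, [([], 278, [])], []⟩
def c280 : Clm := ⟨5, 8, true, [4,4,1,5,1,4,4,1,4,1,5,1,4,1,4,4,1,4,4,1,4,6,2,8,3], [1,4,1,5,1,5,1,4,1,5,1,5,1,4,1,5,1,4,1,8,3,4,10], 11, [([], 161, [1,4,1,5,1,4,1,4,1,4,1,4,4,1,4,4,1,5]), ([316,282,264,264], 155, [4,1,4,4,1,4,1,5,1,4,1,4,4,1,4,4,1,4,4,1]), ([282], 179, [1,5,1,4,1,4,1,4,4,1,4,1,4,4,1,4])], []⟩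
def c281 : Clm := ⟨8, 5, true, [1,4,1,5,1,5,1,4,1,5,1,5,1,4,1,5,1,4,1,8,3,4,10], [4,4,1,5,1,4,4,1,4,1,5,1,4,1,4,4,1,4,4,1,4,6,2,8,3], 5, [([], 280, [])], []⟩
def c282 : Clm := ⟨8, 8, true, [4,1,5,1,4,1,5,1,5,1,5,1,4,4,1,5,1,5,1,7,9], [4,4,1,5,1,4,1,4,1,5,1,5,1,5,1,5,1,4,1,6,9], 11, [([], 180, [4,4,1,4,1,5,1,4,4,1,4,1,4,1,5,1,5,1,4,1,4,4]), ([], 174, [4,1,4,1,4,1,4,1,4,1,5,1,5,1,4,1,5,1]), ([271,264], 179, [5,1,4,1,5,1,5,1,4,1,4,1,4])], []⟩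
def c283 : Clm := ⟨8, 8, true, [4,4,1,5,1,4,1,4,1,5,1,5,1,5,1,5,1,4,1,6,9], [4,1,5,1,4,1,5,1,5,1,5,1,4,4,1,5,1,5,1,7,9], 5, [([], 282, [])], []⟩
def c284 : Clm := ⟨5, 8, true, [4,1,5,1,5,1,5,1,4,1,4,4,1,4,4,1,4,1,4,1,2,11,1,13], [4,1,4,1,4,1,4,4,1,4,4,1,4,1,5,1,4,1,4,4,1,4,7,9], 11, [([88,92], 102, [1,4,1,4,4,1,5,1,4,4,1,5,1,4,4,1,4,1]), ([92,92], 161, [4,4,1,4,1,4,1,4,1,4,4,1,4,1,4,1,4,4,1,4]), ([317,282,276], 179, [1,4,4,1,5,1,5,1,5,1,4])], []⟩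
def c285 : Clm := ⟨8, 5, true, [4,1,4,1,4,1,4,4,1,4,4,1,4,1,5,1,4,1,4,4,1,4,7,9], [4,1,5,1,5,1,5,1,4,1,4,4,1,4,4,1,4,1,4,1,2,11,1,13], 5, [([], 284, [])], []⟩
def c286 : Clm := ⟨8, 8, true, [1,4,4,1,4,4,1,4,1,5,1,8,13,14], [4,4,1,4,1,4,1,4,4,1,5,1,5,1,4,4,1,4,4,1,5,1,5,3,6,8,12], 11, [([], 198, [4,4,1,5,1,4,4,1,4,1,4,1,4,4,1,5,1,5,1]), ([], 221, [1,5,1,4,4,1,4,1,4,1,5,1,4,4,1,5,1,4,4,1,5]), ([317,283], 179, [4,1,4,1,5,1,4,1,4,1,5,1])], []⟩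
def c287 : Clm := ⟨8, 8, true, [4,4,1,4,1,4,1,4,4,1,5,1,5,1,4,4,1,4,4,1,5,1,5,3,6,8,12], [1,4,4,1,4,4,1,4,1,5,1,8,13,14], 5, [([], 286, [])], []⟩
def c288 : Clm := ⟨5, 8, true, [4,1,5,1,5,1,5,1,4,1,4,4,1,4,4,1,5,1,4,4,8,2], [4,1,4,4,1,4,4,1,5,1,4,1,4,1,4,1,4,4,1,4,4,8,14,13,7], 11, [([], 275, [1,5,1,5,1,4,1,5,1,4,4,1,4,1,4,1]), ([357], 272, [1,4,1,5,1,4,1,4,1,4,1,4,1,4,4,1,5,1,4,1,5,1]), ([317,277], 179, [4,1,4,1,4,1,4,1,4,1,4,1])], []⟩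
def c289 : Clm := ⟨8, 5, true, [4,1,4,4,1,4,4,1,5,1,4,1,4,1,4,1,4,4,1,4,4,8,14,13,7], [4,1,5,1,5,1,5,1,4,1,4,4,1,4,4,1,5,1,4,4,8,2], 5, [([], 288, [])], []⟩
def c290 : Clm := ⟨5, 8, true, [5,1,4,4,1,4,1,4,1,4,4,1,4,1,4,1,5,2,1,4], [4,1,4,1,4,4,1,5,1,4,4,1,4,4,1,4,1,8,11,9], 11, [([], 249, [1,4,1,4,1,4,4,1,5,1,5,1,5,1,4,1,4,4,1,5,1,4,4]), ([357], 204, [1,4,1,4,1,4,1,4,1,4,1,4,1,4,4,1,4]), ([316,283,264], 179, [1,4,4,1,5,1,4,4,1,4])], []⟩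
def c291 : Clm := ⟨8, 5, true, [4,1,4,1,4,4,1,5,1,4,4,1,4,4,1,4,1,8,11,9], [5,1,4,4,1,4,1,4,1,4,4,1,4,1,4,1,5,2,1,4], 5, [([], 290, [])], []⟩
def c292 : Clm := ⟨8, 8, true, [4,1,5,1,4,4,1,4,1,5,1,5,1,5,1,5,8,11,11], [1,4,4,1,5,1,5,1,5,1,4,1,4,4,1,5,1,4,4,1,2,12,3,11], 11, [([], 180, [4,1,4,1,4,4,1,4,1,4,1,5,1,4,4,1,4,1]), ([265], 174, [4,1,5,1,5,1,4,1,4,1,4,1,4,4,1,4,1,4,1]), ([270], 179, [5,1,5,1,5,1,4,1,4,1,4,1,4])], []⟩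
def c293 : Clm := ⟨8, 8, true, [1,4,1,4,4,1,4,1,4,4,1,5,1,5,1,5,2,11], [1,4,4,1,5,1,5,1,4,4,1,4,1,4,2,8,3,11], 11, [([], 204, [4,4,1,4,1,5,1,4,4,1,5,1,5,1,4,1,5,1,4]), ([316], 168, [5,1,4,1,4,1,4,1,4,1,4,1,5,1,4,1,4,4]), ([317,265], 179, [4,1,5,1,4,4,1,4,1,4])], []⟩
def c294 : Clm := ⟨8, 8, true, [1,4,4,1,5,1,5,1,4,4,1,4,1,4,2,8,3,11], [1,4,1,4,4,1,4,1,4,4,1,5,1,5,1,5,2,11], 5, [([], 293, [])], []⟩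
def c295 : Clm := ⟨8, 8, true, [4,1,4,1,4,4,1,5,1,4,4,1,5,1,4,1,4,1,4,4,1,2,8,7], [1,4,1,4,4,1,4,1,5,1,4,4,1,5,1,4,1,4,4,1,4,2,1,14,11], 11, [([], 235, [1,4,4,1,4,1,4,1,5,1,5,1,4,1,4,4,1,4,1,4]), ([73,47,42], 131, [1,4,1,4,1,4,4,1,4,1,4,1,4,4,1,4,1,4,1,5,1,4,4,1]), ([282,270,282], 179, [1,4,1,5,1,5,1,4,1,4,1,4,1,4,1])], []⟩
def c296 : Clm := ⟨8, 8, true, [1,4,1,4,4,1,4,1,5,1,4,4,1,5,1,4,1,4,4,1,4,2,1,14,11], [4,1,4,1,4,4,1,5,1,4,4,1,5,1,4,1,4,1,4,4,1,2,8,7], 5, [([], 295, [])], []⟩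
def c297 : Clm := ⟨8, 8, true, [1,4,1,4,1,4,1,5,1,4,4,1,4,4,1,5,1,5,1,4,4,1,2,1,13,9], [4,1,4,1,5,1,5,1,4,1,4,4,1,4,1,5,1,4,1,4,4,1,2,9,3,11], 11, [([], 180, [1,4,1,4,4,1,4,1,4,4,1,5,1,4,1,4,1,4,1,4,1,5]), ([282,276,264], 155, [4,4,1,4,1,5,1,4,1,4,4,1,4,4,1,5]), ([271,316], 179, [1,5,1,5,1,5,1,4,1,4,1])], []⟩
def c298 : Clm := ⟨8, 8, true, [4,1,4,1,5,1,5,1,4,1,4,4,1,4,1,5,1,4,1,4,4,1,2,9,3,11], [1,4,1,4,1,4,1,5,1,4,4,1,4,4,1,5,1,5,1,4,4,1,2,1,13,9], 5, [([], 297, [])], []⟩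
def c299 : Clm := ⟨8, 8, true, [1,5,1,4,4,1,4,4,1,4,4,1,5,1,4,1,5,2,10,12,9], [1,4,1,5,1,4,1,4,4,1,5,1,4,4,1,5,1,5,1,4,1,5,1,4,2,4,13,6,5], 9, [([], 200, [1,5,1,4,1,4,1,4,1,4,1,5,1,4,4,1,5,1]), ([317], 179, [4,4,1,4,1,4,1,5,1,4,4,1,4,4,1]), ([], 219, [4,1,5,1,5,1,4,1,5,1,4,1,4,1,4,4,1,4,1,5])], []⟩
def c300 : Clm := ⟨8, 8, true, [1,4,1,5,1,4,1,4,4,1,5,1,4,4,1,5,1,5,1,4,1,5,1,4,2,4,13,6,5], [1,5,1,4,4,1,4,4,1,4,4,1,5,1,4,1,5,2,10,12,9], 5, [([], 299, [])], []⟩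
def c301 : Clm := ⟨8, 8, true, [4,4,1,5,1,4,1,5,1,4,1,5,1,5,1,4,4,2,1,14,11], [1,4,4,1,5,1,4,4,1,5,1,4,1,8,14,13,7], 11, [([], 180, [4,4,1,5,1,4,4,1,4,4,1,5,1,5,1,4,1,4,4,1,4,1,5]), ([265], 170, [1,4,1,4,1,4,1,4,4,1,5,1,4,1,4,1,4,4,1,5,1,4]), ([277], 179, [4,1,5,1,5,1])], []⟩
def c302 : Clm := ⟨8, 8, true, [1,4,4,1,5,1,4,4,1,5,1,4,1,8,14,13,7], [4,4,1,5,1,4,1,5,1,4,1,5,1,5,1,4,4,2,1,14,11], 5, [([], 301, [])], []⟩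
def c303 : Clm := ⟨5, 8, true, [5,1,5,1,5,1,5,1,4,4,1,5,1,5,1,5,1,4,1,5,3,1,9,6], [1,5,1,4,1,5,1,5,1,5,1,5,1,5,1,5,1,5,1,4,1,8,14,13,7], 11, [([], 214, [1,4,1,4,1,4,1,4,4,1,5,1,4,1,5,1,4,1,4,4]), ([357], 221, [5,1,4,1,4,4,1,4,1,4,1,5,1,4,1,5,1,4,1]), ([271,282,264], 179, [1,5,1,4,4,1,4,1,4,1,4])], []⟩
def c304 : Clm := ⟨8, 5, true, [1,5,1,4,1,5,1,5,1,5,1,5,1,5,1,5,1,5,1,4,1,8,14,13,7], [5,1,5,1,5,1,5,1,4,4,1,5,1,5,1,5,1,4,1,5,3,1,9,6], 5, [([], 303, [])], []⟩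
def c305 : Clm := ⟨8, 8, true, [1,5,1,4,1,4,1,4,4,1,4,1,4,4,1,5,1,4,4,1,2,6,5,14], [1,4,4,1,5,1,5,1,4,4,1,4,1,4,4,1,4,1,5,1,5,2,1,11,6], 9, [([], 204, [5,1,4,1,5,1,4,1,4,4,1,5,1,4,4,1,5,1]), ([283,276,264], 179, [4,4,1,4,1,5,1,4,4,1,4,1]), ([357], 271, [5,1,4,1,4,1,5,1,5,1,4,4,1,5,1,5,1,5])], []⟩
def c306 : Clm := ⟨8, 8, true, [1,4,4,1,5,1,5,1,4,4,1,4,1,4,4,1,4,1,5,1,5,2,1,11,6], [1,5,1,4,1,4,1,4,4,1,4,1,4,4,1,5,1,4,4,1,2,6,5,14], 5, [([], 305, [])], []⟩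
def c307 : Clm := ⟨8, 8, true, [1,4,1,5,1,5,1,4,1,4,1,5,1,5,1,4,1,5,1,3,7,9,9], [1,5,1,4,1,4,4,1,5,1,4,1,4,1,5,1,5,1,4,4,1,4,6,12,3], 9, [([], 200, [4,1,4,1,5,1,4,1,5,1,5]), ([316,283,264], 179, [4,1,4,1,5,1,4,4,1,5,1]), ([356], 226, [4,1,5,1,5,1,4,1,4,1,5,1,4,4,1,4,1])], []⟩
def c308 : Clm := ⟨8, 8, true, [1,5,1,4,1,4,4,1,5,1,4,1,4,1,5,1,5,1,4,4,1,4,6,12,3], [1,4,1,5,1,5,1,4,1,4,1,5,1,5,1,4,1,5,1,3,7,9,9], 5, [([], 307, [])], []⟩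
def c309 : Clm := ⟨7, 8, true, [1,5,1,4,4,1,4,4,1,5,1,5,1,5,1,4,1,4,4,1,4,4,9,1], [1,5,1,4,4,1,4,1,4,1,5,1,4,4,1,4,1,4,1,5,1,12,9,4], 11, [([], 179, [4,1,5,1,5,1,4,4,1,4]), ([356], 180, [1,4,1,4,1,5,1,4,1,4,4,1,4,1,4,1,4,4,1,4,4]), ([316,282,264], 273, [1,4,1,4,1,5,1,4,4,1,4,1,4,4,1,4,1,5])], []⟩
def c310 : Clm := ⟨8, 7, true, [1,5,1,4,4,1,4,1,4,1,5,1,4,4,1,4,1,4,1,5,1,12,9,4], [1,5,1,4,4,1,4,4,1,5,1,5,1,5,1,4,1,4,4,1,4,4,9,1], 5, [([], 309, [])], []⟩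
def c311 : Clm := ⟨7, 8, true, [1,4,1,4,1,4,1,5,1,5,1,4,1,4,4,1,5,6,1,9], [5,1,5,1,4,1,4,1,5,1,5,1,4,4,1,5,6,8,2,4], 11, [([], 179, [4,1,4,4,1,4,4,1,4,4,1,5,1]), ([356], 261, [1,4,1,4,1,4,1,5,1,4,1,5,1,4,1,4,1,5,1,5]), ([356], 240, [5,1,5,1,4,1,4,1,4,4,1,4,4,1,5,1,4,4])], []⟩
def c312 : Clm := ⟨8, 7, true, [5,1,5,1,4,1,4,1,5,1,5,1,4,4,1,5,6,8,2,4], [1,4,1,4,1,4,1,5,1,5,1,4,1,4,4,1,5,6,1,9], 5, [([], 311, [])], []⟩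
def c313 : Clm := ⟨8, 8, true, [4,4,1,4,4,1,5,1,4,1,5,1,5,1,4,4,1,5,2,8,5,1,14], [4,1,4,4,1,4,4,1,5,1,4,4,1,5,1,5,8,11,11], 11, [([], 257, [1,4,4,1,4,1,4,4,1,5,1,4,4,1,5,1,4,1,4,4]), ([277,264], 150, [1,4,1,4,1,5,1,4,4,1,4,4,1,4,1,4,4,1,5,1,4,1,5]), ([276,264], 179, [5,1,4,4,1,4,1,4,4,1,4])], []⟩
def c314 : Clm := ⟨8, 8, true, [4,1,4,4,1,4,4,1,5,1,4,4,1,5,1,5,8,11,11], [4,4,1,4,4,1,5,1,4,1,5,1,5,1,4,4,1,5,2,8,5,1,14], 5, [([], 313, [])], []⟩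
def c315 : Clm := ⟨8, 6, true, [1,4,1,4,1,4,1,4,1,5,1,5,1,5,1,4,4,7,10,8,4], [4,1,5,1,5,1,4,1,5,1,4,1,5,1,4,1,4,1,4,1,2,9,3,6,2], 9, [([], 309, [4,4,1,4,4,1,5,1,5,1,5,1,5,1,4,1,4,1,4,4]), ([277,317,264], 179, [1,4,1,4,1,5,1,5,1,4,1,4,1]), ([357], 184, [5,1,4,4,1,5,1,4,4,1,4,4,1,4,4,1,5,1])], []⟩
def c316 : Clm := ⟨6, 8, true, [4,1,5,1,5,1,4,1,5,1,4,1,5,1,4,1,4,1,4,1,2,9,3,6,2], [1,4,1,4,1,4,1,4,1,5,1,5,1,5,1,4,4,7,10,8,4], 5, [([], 315, [])], []⟩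
def c317 : Clm := ⟨8, 8, true, [1,4,1,5,1,5,1,4,1,4,1,4,1,4,1,5,1,5,10], [1,5,1,4,1,4,1,4,4,1,4,1,5,1,5,1,4,2,6,13,8], 9, [([], 176, [1,4,1,5,1,5,1,4,1,4,1,4,1,4,1,5,1,5]), ([66,42], 131, [4,4,1,4,1,4,4,1,4,1,4,1,4,1,4,4,1,4,4]), ([317,277,264], 179, [4,4,1,5,1,4,1,4,1,5,1,4,4])], []⟩
def c318 : Clm := ⟨8, 8, true, [1,5,1,4,1,4,1,4,4,1,4,1,5,1,5,1,4,2,6,13,8], [1,4,1,5,1,5,1,4,1,4,1,4,1,4,1,5,1,5,10], 5, [([], 317, [])], []⟩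
def c319 : Clm := ⟨5, 8, true, [5,1,4,1,5,1,4,1,4,1,4,4,1,4,1,5,1,5,1,4,3,12,6], [1,5,1,5,1,4,4,1,4,4,1,4,1,4,1,5,1,5,1,5,1,4,13,2,11], 9, [([], 52, [5,1,5,1,5,1,4,1,5,1,4,1,5,1,4,1,5,1]), ([66,42,40], 131, [5,1,4,4,1,5,1,4,1,4,1,5,1,4,4,1,4,1]), ([282,282,270,264], 179, [4,4,1,4,1])], []⟩
def c320 : Clm := ⟨8, 5, true, [1,5,1,5,1,4,4,1,4,4,1,4,1,4,1,5,1,5,1,5,1,4,13,2,11], [5,1,4,1,5,1,4,1,4,1,4,4,1,4,1,5,1,5,1,4,3,12,6], 5, [([], 319, [])], []⟩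
def c321 : Clm := ⟨5, 8, true, [1,4,4,1,5,1,5,1,5,1,5,1,4,1,4,1,4,4,7,1,12,11], [4,1,4,4,1,5,1,4,4,1,4,4,1,4,4,1,4,1,4,1,5,3,13,3], 11, [([], 161, [1,4,4,1,5,1,5,1,5,1,4,1,4,4,1,5,1,5,1,4,1,5]), ([316,264,264], 179, [1,4,1,4,1,5,1,4,1]), ([357], 283, [1,4,4,1,5,1,5,1,4,4,1,4,4,1,5,1,5,1,5,1,5,1,4])], []⟩
def c322 : Clm := ⟨8, 5, true, [4,1,4,4,1,5,1,4,4,1,4,4,1,4,4,1,4,1,4,1,5,3,13,3], [1,4,4,1,5,1,5,1,5,1,5,1,4,1,4,1,4,4,7,1,12,11], 5, [([], 321, [])], []⟩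
def c323 : Clm := ⟨7, 8, true, [4,4,1,4,1,4,1,5,1,5,1,5,1,4,4,1,4,4,3,8,11,12], [1,5,1,4,4,1,4,1,5,1,4,1,5,1,5,1,4,2,4,11,12], 9, [([], 310, [1,5,1,4,1,4,1,4,4,1,4,4,1,4,1,4,1,5,1]), ([356], 204, [5,1,5,1,4,1,5,1,4,1,4,4,1,5,1,5,1,4,4]), ([271], 179, [5,1,5,1,4,4,1,5,1,5,1,4,1])], []⟩
def c324 : Clm := ⟨8, 7, true, [1,5,1,4,4,1,4,1,5,1,4,1,5,1,5,1,4,2,4,11,12], [4,4,1,4,1,4,1,5,1,5,1,5,1,4,4,1,4,4,3,8,11,12], 5, [([], 323, [])], []⟩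
def c325 : Clm := ⟨7, 8, true, [1,4,1,5,1,4,1,5,1,5,1,4,4,1,5,1,5,1,5,1,4,1,4,7,11,6,5], [4,1,4,1,5,1,4,1,4,4,1,4,1,4,1,4,4,1,4,1,4,4,2,4,10], 9, [([316,283,276], 155, [5,1,4,1,4,4,1,4,1,5,1,4,1,4,4]), ([282,271,264], 150, [1,4,1,4,1,4,1,4,4,1,5,1,5,1,5,1,4,1,4,1,5]), ([316,282,277], 179, [1,5,1,4,1,4,1,5,1,5,1,4,1,4,1])], []⟩
def c326 : Clm := ⟨8, 7, true, [4,1,4,1,5,1,4,1,4,4,1,4,1,4,1,4,4,1,4,1,4,4,2,4,10], [1,4,1,5,1,4,1,5,1,5,1,4,4,1,5,1,5,1,5,1,4,1,4,7,11,6,5], 5, [([], 325, [])], []⟩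
def c327 : Clm := ⟨8, 8, true, [5,1,4,4,1,4,1,4,1,5,1,4,4,1,5,1,2,7,8,10,6], [4,1,4,1,4,1,5,1,4,4,1,4,4,1,5,1,5,2,10,4,14], 9, [([], 287, [4,1,4,4,1,4,1,5,1,5,1,4,4,1,4,4,1,4,4,1]), ([], 309, [1,4,4,1,4,4,1,4,1,4,1,4,4,1,4,4,1,5]), ([282,282,265], 179, [1,4,1,5,1,4,1,4,1,4])], []⟩
def c328 : Clm := ⟨8, 8, true, [4,1,4,1,4,1,5,1,4,4,1,4,4,1,5,1,5,2,10,4,14], [5,1,4,4,1,4,1,4,1,5,1,4,4,1,5,1,2,7,8,10,6], 5, [([], 327, [])], []⟩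
def c329 : Clm := ⟨5, 8, true, [1,5,1,4,1,5,1,4,1,4,4,1,5,1,5,1,4,4,1,4,2,6,2], [5,1,5,1,5,1,5,1,5,1,4,4,1,4,1,5,1,4,6,10,5], 9, [([92,92,90,88], 81, [1,5,1,4,1,4,1,4,1,4,4,1,5,1,4,4,1,5,1,5]), ([88], 145, [4,1,5,1,4,4,1,4,1,4,4,1,4,4,1,4,4,1,4,1,5,1,5]), ([264,316,264], 179, [1,4,4,1,4,4,1])], []⟩
def c330 : Clm := ⟨8, 5, true, [5,1,5,1,5,1,5,1,5,1,4,4,1,4,1,5,1,4,6,10,5], [1,5,1,4,1,5,1,4,1,4,4,1,5,1,5,1,4,4,1,4,2,6,2], 5, [([], 329, [])], []⟩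
def c331 : Clm := ⟨8, 8, true, [5,1,4,1,5,1,4,4,1,5,1,4,4,1,4,4,1,5,1,8,1,6,10], [1,4,1,5,1,4,4,1,4,4,1,5,1,5,1,4,1,4,4,3,11,5,9], 11, [([], 309, [5,1,5,1,5,1,4,1,4,1,4,1,4,4,1,4,1,4,1]), ([316,283,276,264], 179, [5,1,5,1,4,1,5,1,4,1,4,1]), ([356], 327, [1,5,1,5,1,5,1,4,1,4,1,4,1,4,4,1,5])], []⟩
def c332 : Clm := ⟨8, 8, true, [1,4,1,5,1,4,4,1,4,4,1,5,1,5,1,4,1,4,4,3,11,5,9], [5,1,4,1,5,1,4,4,1,5,1,4,4,1,4,4,1,5,1,8,1,6,10], 5, [([], 331, [])], []⟩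
def c333 : Clm := ⟨8, 8, true, [1,4,4,1,4,1,4,4,1,4,1,5,1,4,1,4,1,4,4,1,5,13,7,9], [1,5,1,4,4,1,4,4,1,5,1,5,1,5,1,4,1,4,4,1,4,4,13,2,11], 9, [([], 192, [4,1,5,1,5,1,5,1,4,4,1,5,1,5,1,4,1,4,1,5]), ([93,158,88], 161, [1,4,4,1,5,1,4,4,1,5,1,4,4,1,5,1,5,1,5,1,4,4,1]), ([277,264], 179, [5,1,5,1,4,1])], []⟩
def c334 : Clm := ⟨8, 8, true, [1,5,1,4,4,1,4,4,1,5,1,5,1,5,1,4,1,4,4,1,4,4,13,2,11], [1,4,4,1,4,1,4,4,1,4,1,5,1,4,1,4,1,4,4,1,5,13,7,9], 5, [([], 333, [])], []⟩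
def c335 : Clm := ⟨5, 8, true, [1,4,1,4,1,4,4,1,5,1,4,1,4,1,4,4,1,4,4,1,4,4,1,5,7,8,12,9], [4,1,4,1,5,1,5,1,4,1,5,1,4,1,5,1,5,1,4,4,12,7,1], 9, [([88,92], 64, [4,1,5,1,4,1,5,1,5,1,4,4,1,4,4,1,4,1,5,1,5]), ([158], 142, [1,5,1,4,1,5,1,4,4,1,4,4,1,5,1,5,1,5,1,4,1,5]), ([316,283,277], 179, [4,4,1,4,1,4,1,4,1,4,1,5])], []⟩
def c336 : Clm := ⟨8, 5, true, [4,1,4,1,5,1,5,1,4,1,5,1,4,1,5,1,5,1,4,4,12,7,1], [1,4,1,4,1,4,4,1,5,1,4,1,4,1,4,4,1,4,4,1,4,4,1,5,7,8,12,9], 5, [([], 335, [])], []⟩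
def c337 : Clm := ⟨8, 8, true, [1,4,1,5,1,5,1,4,1,4,4,1,4,4,1,4,4,3,7,2,8], [5,1,4,4,1,4,1,5,1,4,1,4,1,4,4,1,4,1,5,1,2,6,13,8], 9, [([], 272, [4,4,1,5,1,4,4,1,5,1,5,1,4,4,1,4,1,5,1,4]), ([264,264], 166, [1,4,4,1,5,1,4,1,4,1,5,1,4,4,1,4,4,1,5]), ([283,264,264], 179, [5,1,5,1,5,1,5,1,4,1,5,1])], []⟩
def c338 : Clm := ⟨8, 8, true, [5,1,4,4,1,4,1,5,1,4,1,4,1,4,4,1,4,1,5,1,2,6,13,8], [1,4,1,5,1,5,1,4,1,4,4,1,4,4,1,4,4,3,7,2,8], 5, [([], 337, [])], []⟩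
def c339 : Clm := ⟨5, 8, true, [1,4,1,4,1,4,4,1,5,1,4,1,4,1,5,1,4,1,5,1,5,6,4,12,11], [4,1,4,1,4,4,1,4,1,4,4,1,5,1,4,4,1,5,1,4,4,6,4,10], 9, [([], 142, [1,5,1,4,1,4,1,5,1,4,1,4,4,1,4,1]), ([283,276], 155, [5,1,4,1,4,4,1,4,1,4,4,1,4,1,5,1,4,1,4,1,5,1]), ([317,276,264], 179, [1,4,1,4,1,4,1,4,1,5,1])], []⟩
def c340 : Clm := ⟨8, 5, true, [4,1,4,1,4,4,1,4,1,4,4,1,5,1,4,4,1,5,1,4,4,6,4,10], [1,4,1,4,1,4,4,1,5,1,4,1,4,1,5,1,4,1,5,1,5,6,4,12,11], 5, [([], 339, [])], []⟩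
def c341 : Clm := ⟨6, 8, true, [1,4,1,5,1,4,4,1,4,1,4,4,1,5,1,4,4,1,8,3,12,11], [1,4,1,4,1,4,4,1,5,1,4,1,4,1,4,1,4,1,2,4,8,4], 9, [([], 117, [1,5,1,4,1,4,1,4,4,1,5,1,5,1,5,1,4,1,4,1,5]), ([90,88], 161, [4,1,5,1,4,4,1,4,4,1,4,4,1,4,1,4,1,5,1]), ([282,277,264], 179, [1,5,1,4,1,4,1,4,4,1,5,1,4,1,4])], []⟩
def c342 : Clm := ⟨8, 6, true, [1,4,1,4,1,4,4,1,5,1,4,1,4,1,4,1,4,1,2,4,8,4], [1,4,1,5,1,4,4,1,4,1,4,4,1,5,1,4,4,1,8,3,12,11], 5, [([], 341, [])], []⟩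
def c343 : Clm := ⟨5, 8, true, [4,1,4,1,5,1,4,1,4,1,4,4,1,4,4,1,4,4,1,5,1,3,14], [1,4,4,1,4,4,1,5,1,5,1,4,4,1,4,1,4,1,4,9,1,7,5], 11, [([], 145, [4,1,4,4,1,5,1,4,1,4,1,5,1,5,1,4,1,4,1,4,1,4,4]), ([271,316], 179, [5,1,5,1,5,1,5,1,5,1,4,1]), ([356], 255, [1,4,4,1,5,1,4,4,1,4,1,4,1,5,1,5,1,5])], []⟩
def c344 : Clm := ⟨8, 5, true, [1,4,4,1,4,4,1,5,1,5,1,4,4,1,4,1,4,1,4,9,1,7,5], [4,1,4,1,5,1,4,1,4,1,4,4,1,4,4,1,4,4,1,5,1,3,14], 5, [([], 343, [])], []⟩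
def c345 : Clm := ⟨5, 8, true, [1,5,1,4,4,1,5,1,4,1,4,4,1,4,4,1,4,4,1,4,10,14,6,4], [1,4,4,1,4,4,1,5,1,5,1,4,4,1,4,4,1,5,2,9,3,11], 11, [([], 142, [5,1,4,4,1,4,1,5]), ([317,264], 179, [1,4,4,1,5,1,4,1]), ([357], 243, [5,1,5,1,4,4,1,4,4,1,4,1,5,1,4,1,4,1,4])], []⟩
def c346 : Clm := ⟨8, 5, true, [1,4,4,1,4,4,1,5,1,5,1,4,4,1,4,4,1,5,2,9,3,11], [1,5,1,4,4,1,5,1,4,1,4,4,1,4,4,1,4,4,1,4,10,14,6,4], 5, [([], 345, [])], []⟩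
def c347 : Clm := ⟨8, 8, true, [5,1,4,4,1,4,4,1,4,1,4,1,4,4,1,5,1,4,4,9,14,13,10], [1,4,4,1,4,4,1,4,1,4,4,1,5,1,4,1,4,1,4,1,5,6,4,8,4], 9, [([], 279, [1,5,1,4,1,5,1,4,1,4,1,4,4,1,4,4,1,5,1,4]), ([357], 257, [4,1,5,1,4,1,4,4,1,5,1,5,1,4,4,1,4,1,4]), ([317,283,276], 179, [1,5,1,4,1,4,1,4,1,5,1,4,4])], []⟩
def c348 : Clm := ⟨8, 8, true, [4,1,4,1,4,4,1,4,1,4,4,1,4,1,4,4,1,5,1,4,1,6,2,12,4], [4,1,5,1,4,4,1,5,1,5,1,4,1,4,1,4,1,4,1,5,1,4,4,7,8], 9, [([], 309, [1,4,4,1,4,1,4,1,5,1,4,1,4]), ([283,271,264], 166, [1,4,1,5,1,5,1,4,1,5,1,5,1,4,1,5,1]), ([264], 179, [4,1,4,1,4,4,1,4,1,5,1,4,4,1])], []⟩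
def c349 : Clm := ⟨8, 8, true, [4,1,5,1,4,4,1,5,1,5,1,4,1,4,1,4,1,4,1,5,1,4,4,7,8], [4,1,4,1,4,4,1,4,1,4,4,1,4,1,4,4,1,5,1,4,1,6,2,12,4], 5, [([], 348, [])], []⟩
def c350 : Clm := ⟨8, 8, true, [1,4,1,5,1,5,1,4,1,5,1,5,1,4,1,4,4,1,5,7,1,6], [1,4,4,1,5,1,5,1,5,1,4,1,4,4,1,4,4,1,2,10,5,6], 11, [([], 311, [4,1,4,1,5,1,5,1,4,1,4,1,4,1,4,4,1,4,1]), ([317,277], 179, [1,5,1,5,1,4,4]), ([357], 308, [1,4,1,5,1,4,1,5,1,4,4,1,4,1,4,4])], []⟩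
def c351 : Clm := ⟨8, 8, true, [1,4,1,4,4,1,4,1,4,4,1,4,4,1,4,4,1,4,4,1,5,3,6,11,3], [1,5,1,5,1,4,4,1,5,1,4,4,1,5,1,5,1,4,4,3,8,3,9], 11, [([], 272, [1,5,1,4,1,4,4,1,4,4,1,4,4,1,5,1,4,4,1,4,4]), ([283,276], 179, [5,1,4,1,5,1,5,1,4,1,5]), ([357], 328, [1,5,1,5,1,4,1,4,1,5,1,5,1,4,1,4,4,1,5,1,5])], []⟩
def c352 : Clm := ⟨8, 8, true, [1,5,1,5,1,4,4,1,5,1,4,4,1,5,1,5,1,4,4,3,8,3,9], [1,4,1,4,4,1,4,1,4,4,1,4,4,1,4,4,1,4,4,1,5,3,6,11,3], 5, [([], 351, [])], []⟩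
def c353 : Clm := ⟨8, 5, true, [1,5,1,5,1,4,1,4,4,1,4,4,1,5,1,4,4,1,4,1,2,8,3,11], [1,5,1,4,4,1,4,1,4,1,5,1,4,4,1,5,1,3,11,1,6], 11, [([], 180, [5,1,4,4,1,4,4,1,4,1,4,4,1,5,1,4,1,4,1,5]), ([282,282,277], 179, [4,1,5,1,4,1,4,4,1,4,1,4,1]), ([], 182, [4,1,4,4,1,4,1,5,1,4,4,1,5])], []⟩
def c354 : Clm := ⟨5, 8, true, [1,5,1,4,4,1,4,1,4,1,5,1,4,4,1,5,1,3,11,1,6], [1,5,1,5,1,4,1,4,4,1,4,4,1,5,1,4,4,1,4,1,2,8,3,11], 5, [([], 353, [])], []⟩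
def c355 : Clm := ⟨8, 8, true, [1,5,1,4,1,5,1,5,1,4,1,5,1,5,6,3,12], [5,1,4,1,4,1,4,4,1,5,1,4,4,1,4,4,6,1,10,5], 9, [([], 198, [4,1,4,4,1,4,4,1,4,4,1,5,1,4,1,4,1,5,1,4]), ([356], 257, [1,4,1,4,1,4,1,4,1,4,4,1,4,4,1,5]), ([282,282,276,264], 179, [5,1,5,1,5,1,4,1,4,1,4,1])], []⟩
def c356 : Clm := ⟨8, 8, true, [5,1,4,1,4,1,4,4,1,5,1,4,4,1,4,4,6,1,10,5], [1,5,1,4,1,5,1,5,1,4,1,5,1,5,6,3,12], 5, [([], 355, [])], []⟩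
def c357 : Clm := ⟨8, 8, true, [1,4,1,4,1,4,4,1,4,1,4,1,5,1,5,1,4,1,5,1,4,7,8,1,9], [4,1,5,1,4,1,5,1,4,1,4,1,5,1,4,1,5,2,4,8,4], 9, [([], 237, [4,4,1,5,1,4,1,4,1,4,4,1,4,1,4,1,4,1,4,1]), ([356], 221, [1,4,1,4,4,1,5,1,4,1,5,1,4,1,4,1,4,1,4,1,4,4]), ([277,270], 179, [4,1,4,4,1,4,1,5,1,4,4,1,4])], []⟩
def c358 : Clm := ⟨8, 8, true, [4,1,5,1,4,1,5,1,4,1,4,1,5,1,4,1,5,2,4,8,4], [1,4,1,4,1,4,4,1,4,1,4,1,5,1,5,1,4,1,5,1,4,7,8,1,9], 5, [([], 357, [])], []⟩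
def c359 : Clm := ⟨4, 8, true, [4,1,5,1,4,1,4,1,4,1,4,1,4,1,4,1,5,1,4,4,9,1,12], [1,4,1,4,4,1,4,1,4,1,5,1,4,4,1,4,1,5,3,7,9,14], 9, [([], 131, [1,4,4,1,4,1,4,4,1,4,1,5,1,4,4,1,4,4,1,5]), ([283,271,264], 166, [1,5,1,4,1,4,4,1,4,1,5,1,5,1,5]), ([276,316,264], 179, [4,1,4,1,5,1,5,1,5,1,4,4])], []⟩
def c360 : Clm := ⟨8, 4, true, [1,4,1,4,4,1,4,1,4,1,5,1,4,4,1,4,1,5,3,7,9,14], [4,1,5,1,4,1,4,1,4,1,4,1,4,1,4,1,5,1,4,4,9,1,12], 5, [([], 359, [])], []⟩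
def c361 : Clm := ⟨8, 8, true, [5,1,4,1,5,1,4,4,1,4,4,1,4,1,4,1,4,4,1,5,1,5,10,14,9], [5,1,4,4,1,4,4,1,4,1,5,1,4,1,4,4,1,4,3,13,9], 9, [([], 250, [4,1,4,1,5,1,4,4,1,5,1,5,1,5,1,4,1,4,1,5,1]), ([357], 309, [4,4,1,4,4,1,5,1,5,1,4,1,4,4,1,4,1,4,4,1,4,1]), ([316,283,277], 179, [4,1,4,1,4,4,1,5,1,4,4,1])], []⟩
def c362 : Clm := ⟨8, 8, true, [5,1,4,4,1,4,4,1,4,1,5,1,4,1,4,4,1,4,3,13,9], [5,1,4,1,5,1,4,4,1,4,4,1,4,1,4,1,4,4,1,5,1,5,10,14,9], 5, [([], 361, [])], []⟩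
def c363 : Clm := ⟨8, 8, true, [1,4,1,4,1,4,1,4,4,1,5,1,5,1,5,1,4,1,4,4,1,4,4,6,5,6], [4,1,4,1,5,1,5,1,4,4,1,5,1,5,1,5,1,4,9,1,11,2], 7, [([], 180, [5,1]), ([283,265], 324, [4,4,1,5,1,4,4,1,4,4,1,4,1,4,4,1,4,1,4])], []⟩
def c364 : Clm := ⟨8, 8, true, [4,1,4,1,5,1,5,1,4,4,1,5,1,5,1,5,1,4,9,1,11,2], [1,4,1,4,1,4,1,4,4,1,5,1,5,1,5,1,4,1,4,4,1,4,4,6,5,6], 5, [([], 363, [])], []⟩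
def c365 : Clm := ⟨8, 8, true, [1,4,4,1,5,1,4,4,1,4,1,4,4,1,5,1,5,1,6,5,6], [4,4,1,4,1,4,4,1,4,4,1,5,1,5,1,4,1,5,2,10,7,4,11], 7, [([], 180, [4,1,4,4]), ([317,282,277], 324, [4,4,1,5,1,4,1,4,1,5,1,4,4,1,4,4,1,4,1,4,1])], []⟩
def c366 : Clm := ⟨8, 8, true, [4,4,1,4,1,4,4,1,4,4,1,5,1,5,1,4,1,5,2,10,7,4,11], [1,4,4,1,5,1,4,4,1,4,1,4,4,1,5,1,5,1,6,5,6], 5, [([], 365, [])], []⟩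
def c367 : Clm := ⟨8, 8, true, [1,4,1,4,4,1,5,1,4,1,4,1,4,1,4,1,5,1,4,4,2,1,9,12], [1,5,1,4,4,1,5,1,4,1,4,4,1,4,4,1,4,1,4,4,1,10,8,7,8], 7, [([], 180, [4,4,1,4,1]), ([271,316], 326, [1,5,1,5,1,4,1,5,1,5,1,4,1,5,1,4,1,4])], []⟩
def c368 : Clm := ⟨8, 8, true, [1,5,1,4,4,1,5,1,4,1,4,4,1,4,4,1,4,1,4,4,1,10,8,7,8], [1,4,1,4,4,1,5,1,4,1,4,1,4,1,4,1,5,1,4,4,2,1,9,12], 5, [([], 367, [])], []⟩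
def c369 : Clm := ⟨8, 8, true, [1,4,4,1,4,1,4,1,5,1,5,1,4,4,1,4,4,1,4,1,4,2,1,7,3], [5,1,4,1,5,1,4,1,4,4,1,5,1,5,1,4,1,4,4,10,1,8], 7, [([], 180, [1,4,4,1,4,4]), ([270,316], 326, [4,4,1,4,1,4,1,5,1,4,1,5,1,5,1,5,1])], []⟩
def c370 : Clm := ⟨8, 8, true, [5,1,4,1,5,1,4,1,4,4,1,5,1,5,1,4,1,4,4,10,1,8], [1,4,4,1,4,1,4,1,5,1,5,1,4,4,1,4,4,1,4,1,4,2,1,7,3], 5, [([], 369, [])], []⟩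
def c371 : Clm := ⟨8, 8, true, [4,4,1,4,4,1,4,1,5,1,5,1,4,1,2,1,5,1,11], [1,4,1,4,4,1,4,1,4,1,4,1,5,1,4,1,5,8,12,3], 7, [([], 180, [1,4,1,4,1,5,1]), ([282,271], 324, [4,4,1,4,1,5,1,5,1,4,1,4,4,1,4,1,4,1,4,1,4,1,4,1])], []⟩
def c372 : Clm := ⟨8, 8, true, [1,4,1,4,4,1,4,1,4,1,4,1,5,1,4,1,5,8,12,3], [4,4,1,4,4,1,4,1,5,1,5,1,4,1,2,1,5,1,11], 5, [([], 371, [])], []⟩
def c373 : Clm := ⟨8, 8, true, [4,1,4,1,4,1,4,1,4,1,4,1,5,1,4,1,5,1,4,4,1,2,1,8,3], [4,1,4,4,1,4,4,1,4,4,1,6,10,10,5], 7, [([], 180, [1,5,1,5,1,4,1]), ([316,283,277], 324, [1,5,1,5,1,4,4,1,5,1,4,1,5,1,4,4])], []⟩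
def c374 : Clm := ⟨8, 8, true, [4,1,4,4,1,4,4,1,4,4,1,6,10,10,5], [4,1,4,1,4,1,4,1,4,1,4,1,5,1,4,1,5,1,4,4,1,2,1,8,3], 5, [([], 373, [])], []⟩
def c375 : Clm := ⟨8, 5, true, [1,5,1,4,4,1,5,1,5,1,4,4,1,5,1,4,1,5,1,4,1,2,1,14,9], [5,1,4,4,1,4,4,1,4,4,1,5,1,5,1,4,1,4,4,1,3,9,12,4], 11, [([], 180, [1,5,1,4,4,1,5,1,4,1,5,1,4,1]), ([282,271,282], 324, [5,1,5,1,4,1,4,1,4,1]), ([], 192, [4,1,4,4,1,4,4,1,4,4,1,5,1,4,4,1,4,4])], []⟩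
def c376 : Clm := ⟨5, 8, true, [5,1,4,4,1,4,4,1,4,4,1,5,1,5,1,4,1,4,4,1,3,9,12,4], [1,5,1,4,4,1,5,1,5,1,4,4,1,5,1,4,1,5,1,4,1,2,1,14,9], 5, [([], 375, [])], []⟩
def c377 : Clm := ⟨8, 8, true, [4,1,5,1,4,4,1,4,1,4,4,1,4,4,1,5,1,4,1,5,2,4,10,4], [4,1,5,1,4,1,4,1,4,4,1,4,4,1,4,1,4,4,1,5,2,6,2,11], 9, [([], 242, [1,4,4,1,4,1,4,4,1,4,1,4,4,1,4,4,1,4]), ([356], 180, [4,1,4,1,5,1]), ([265,316,264], 179, [4,4,1,5,1,4,1,4,1,4,1,4,1,4,1,4,1,5,1])], []⟩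
def c378 : Clm := ⟨8, 8, true, [4,1,5,1,4,1,4,1,4,4,1,4,4,1,4,1,4,4,1,5,2,6,2,11], [4,1,5,1,4,4,1,4,1,4,4,1,4,4,1,5,1,4,1,5,2,4,10,4], 5, [([], 377, [])], []⟩
def c379 : Clm := ⟨8, 8, true, [1,4,1,5,1,5,1,5,1,5,1,4,4,1,5,1,5,1,4,1,4,3,8,3,14], [1,4,1,4,1,4,4,1,4,4,1,5,1,4,1,5,1,5,1,4,4,1,3,8,2], 11, [([], 180, [4,4,1,5,1]), ([316,276,264], 162, [1,5,1,4,1,4,1,5,1,4,1,4,4,1,4,4]), ([92,88], 340, [1,5,1,4,1,5,1,4,4,1,4,1,4,1,4,4,1,4,4])], []⟩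
def c380 : Clm := ⟨8, 8, true, [1,4,1,4,1,4,4,1,4,4,1,5,1,4,1,5,1,5,1,4,4,1,3,8,2], [1,4,1,5,1,5,1,5,1,5,1,4,4,1,5,1,5,1,4,1,4,3,8,3,14], 5, [([], 379, [])], []⟩
def c381 : Clm := ⟨8, 8, true, [1,4,4,1,4,1,4,4,1,4,4,1,4,1,5,1,5,1,4,4,8,14,13,7], [1,4,4,1,4,1,4,1,4,1,4,1,4,4,1,4,1,4,1,4,2,8,4,7], 11, [([], 180, [5,1,4,1,4,1,5,1,5,1,4,1,4,1]), ([265,283,264], 220, [1,5,1,5,1,5,1,5,1,4,1,4,1,5,1,5,1,4,4]), ([], 209, [5,1,4,1,4,4,1,4,4,1,5,1,4,4,1,5,1,4,1,4,1,5])], []⟩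
def c382 : Clm := ⟨8, 8, true, [1,4,4,1,4,1,4,1,4,1,4,1,4,4,1,4,1,4,1,4,2,8,4,7], [1,4,4,1,4,1,4,4,1,4,4,1,4,1,5,1,5,1,4,4,8,14,13,7], 5, [([], 381, [])], []⟩
def c383 : Clm := ⟨8, 8, true, [5,1,4,1,5,1,4,1,4,1,4,4,1,2,6,9,7], [1,4,1,5,1,4,4,1,5,1,4,1,4,1,4,1,4,1,4,4,1,8,3,4,13], 11, [([], 180, [5,1,5,1,4,4,1]), ([271,316], 220, [1,5,1,4,4,1,4,4,1,4,1,4,4,1,4,1,5]), ([356], 205, [1,4,1,4,4,1,4,4,1,5,1,4,4,1,5,1,4,4,1,5])], []⟩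
def c384 : Clm := ⟨8, 8, true, [1,4,1,5,1,4,4,1,5,1,4,1,4,1,4,1,4,1,4,4,1,8,3,4,13], [5,1,4,1,5,1,4,1,4,1,4,4,1,2,6,9,7], 5, [([], 383, [])], []⟩
def c385 : Clm := ⟨8, 8, true, [4,1,5,1,5,1,4,1,4,1,5,1,5,1,4,4,1,4,8,11,9], [1,4,4,1,4,4,1,5,1,5,1,5,1,5,1,5,1,5,1,2,5,3,9], 11, [([], 180, [5,1,5,1,4,1,4,4,1,4,1,4,1]), ([282,270], 160, [1,5,1,5,1,4,1,4,1,5,1,5,1,4,1,4,4,1]), ([270,316,264], 310, [4,1,5,1,4,1,5,1,5,1,5,1,5,1,4,4])], []⟩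
def c386 : Clm := ⟨8, 8, true, [1,4,4,1,4,4,1,5,1,5,1,5,1,5,1,5,1,5,1,2,5,3,9], [4,1,5,1,5,1,4,1,4,1,5,1,5,1,4,4,1,4,8,11,9], 5, [([], 385, [])], []⟩
def c387 : Clm := ⟨8, 8, true, [4,1,4,4,1,4,1,4,1,5,1,5,1,4,4,7,1,13,11], [5,1,4,1,5,1,4,1,4,1,4,4,1,4,4,1,4,1,4,9,11,14], 9, [([], 206, [4,4,1,4,1,4,1,4,1,4,1,5,1,5,1,4]), ([356], 180, [1,4,4,1,5,1,4,4,1,5,1,5,1]), ([283,276,264], 310, [4,1,5,1,4,1,4,4,1,5,1,4,4,1,4,4,1,4,4])], []⟩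
def c388 : Clm := ⟨8, 8, true, [5,1,4,1,5,1,4,1,4,1,4,4,1,4,4,1,4,1,4,9,11,14], [4,1,4,4,1,4,1,4,1,5,1,5,1,4,4,7,1,13,11], 5, [([], 387, [])], []⟩
def c389 : Clm := ⟨8, 7, true, [1,4,1,4,1,5,1,4,1,5,1,4,1,4,1,4,4,6,13,9], [4,4,1,4,1,4,1,5,1,5,1,4,4,1,4,4,1,4,4,3,7,5,13], 11, [([], 367, [1,5,1,5,1,4,1,4,4,1,4,1,4,4,1,4,1,5,1,5,1,4,1]), ([356], 196, [4,1,4,1,4,4,1,4,4,1,4,4,1,4,1,5,1]), ([357], 180, [4,4,1,4,4,1,4,4,1,4,4,1,4,4,1])], []⟩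
def c390 : Clm := ⟨7, 8, true, [4,4,1,4,1,4,1,5,1,5,1,4,4,1,4,4,1,4,4,3,7,5,13], [1,4,1,4,1,5,1,4,1,5,1,4,1,4,1,4,4,6,13,9], 5, [([], 389, [])], []⟩
def c391 : Clm := ⟨8, 8, true, [5,1,4,1,4,1,4,4,1,5,1,4,4,1,5,1,4,7,1,9], [1,4,4,1,5,1,5,1,4,1,4,1,5,1,5,1,4,1,5,1,5,3,1,4,6,10], 11, [([], 180, [4,1,4,4,1,4,4,1,4,4,1,5,1]), ([283,270], 256, [5,1,5,1,4,4,1,4,4,1,5,1,4,1,5,1,4,4,1,4]), ([356], 370, [4,4,1,4,4,1,5,1,4,1,5,1,5,1,5,1,5,1,5,1,4,1,4])], []⟩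
def c392 : Clm := ⟨8, 8, true, [1,4,4,1,5,1,5,1,4,1,4,1,5,1,5,1,4,1,5,1,5,3,1,4,6,10], [5,1,4,1,4,1,4,4,1,5,1,4,4,1,5,1,4,7,1,9], 5, [([], 391, [])], []⟩
def c393 : Clm := ⟨8, 8, true, [1,5,1,4,1,5,1,4,4,1,4,4,1,5,1,5,1,4,1,4,7,11], [1,4,1,4,1,4,1,5,1,4,4,1,4,4,1,5,1,4,1,12,9,1,8], 11, [([], 180, [4,1,5,1,4,1,4,1,4,1,4,4,1,5,1]), ([317,282,276], 155, [4,1,4,4,1,4,1,4,1,5,1,4]), ([317,282,277], 324, [4,1,4,1,4,1,4,1,4,1,4,1,4,4,1,5,1,4,4,1,5,1])], []⟩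
def c394 : Clm := ⟨8, 8, true, [1,4,1,4,1,4,1,5,1,4,4,1,4,4,1,5,1,4,1,12,9,1,8], [1,5,1,4,1,5,1,4,4,1,4,4,1,5,1,5,1,4,1,4,7,11], 5, [([], 393, [])], []⟩
def c395 : Clm := ⟨8, 7, true, [1,4,1,4,1,4,1,4,1,4,1,4,1,5,1,5,1,5,1,5,9,14,4,1], [5,1,5,1,4,4,1,5,1,4,4,1,4,1,4,4,1,4,1,4,4,3,4,14,9], 11, [([], 390, [5,1,5,1,4,1,4,4,1,4,1,5,1,4,1,4,1]), ([317,283,264,264], 199, [1,5,1,5,1,5,1,4,1,5,1,4,1,5,1,4,4,1,5]), ([357], 180, [1,5,1,4,1,4,1,4,1,4,4,1])], []⟩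
def c396 : Clm := ⟨7, 8, true, [5,1,5,1,4,4,1,5,1,4,4,1,4,1,4,4,1,4,1,4,4,3,4,14,9], [1,4,1,4,1,4,1,4,1,4,1,4,1,5,1,5,1,5,1,5,9,14,4,1], 5, [([], 395, [])], []⟩
def c397 : Clm := ⟨8, 8, true, [4,1,5,1,4,4,1,5,1,5,1,4,1,4,4,1,5,1,5,1,4,2,8,5,11,6], [4,1,4,4,1,4,1,4,1,4,1,5,1,4,4,1,2,1,4,7,11], 9, [([], 337, [1,4,1,5,1,5,1,5,1,4,1,4,1,4,4,1,4,4,1,4]), ([356], 180, [1,4,1,5,1,5,1,4,4,1,5,1,5,1]), ([316,283,277,264], 312, [1,4,1,4,4,1,4,1,4,1,4,4,1,4,4,1,4,1,5,1])], []⟩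
def c398 : Clm := ⟨8, 8, true, [4,1,4,4,1,4,1,4,1,4,1,5,1,4,4,1,2,1,4,7,11], [4,1,5,1,4,4,1,5,1,5,1,4,1,4,4,1,5,1,5,1,4,2,8,5,11,6], 5, [([], 397, [])], []⟩
def c399 : Clm := ⟨8, 8, true, [1,4,1,4,1,4,4,1,4,1,4,4,1,4,4,1,4,4,1,4,4,1,7,1,9], [4,4,1,4,1,4,1,5,1,4,4,1,4,1,5,1,5,1,5,7,8,10], 11, [([], 180, [5,1,4,4,1,4,1]), ([316,282], 326, [1,5,1,4,4,1,4,1,4,1,4,4,1,4]), ([356], 254, [4,4,1,4,1,5,1,4,4,1,4,4,1])], []⟩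
def c400 : Clm := ⟨8, 8, true, [4,4,1,4,1,4,1,5,1,4,4,1,4,1,5,1,5,1,5,7,8,10], [1,4,1,4,1,4,4,1,4,1,4,4,1,4,4,1,4,4,1,4,4,1,7,1,9], 5, [([], 399, [])], []⟩
def c401 : Clm := ⟨8, 8, true, [5,1,4,1,5,1,4,1,4,4,1,5,1,5,1,5,1,4,1,3,1,5,13], [1,5,1,4,1,4,4,1,4,1,4,4,1,4,1,4,1,5,1,4,3,4,13,6], 11, [([], 180, [4,1,5,1,4,1,5,1,4,4,1,5,1]), ([271], 273, [4,1,4,1,5,1,4,1,4,4,1,5,1,4,1,4,1,4,1,4,1]), ([357], 287, [4,1,4,4,1,5,1,4,1,5,1,4,1,4,1,4,1,4,1,5])], []⟩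
def c402 : Clm := ⟨8, 8, true, [1,5,1,4,1,4,4,1,4,1,4,4,1,4,1,4,1,5,1,4,3,4,13,6], [5,1,4,1,5,1,4,1,4,4,1,5,1,5,1,5,1,4,1,3,1,5,13], 5, [([], 401, [])], []⟩
def c403 : Clm := ⟨8, 8, true, [1,4,4,1,4,1,4,4,1,4,1,4,4,1,5,1,4,1,4,1,4,1,3,7,5,13], [1,5,1,4,1,5,1,4,1,5,1,4,1,4,1,4,1,4,1,5,2,4,12,3], 11, [([], 180, [1,4,1,5,1,4,1,4,1,4,4,1,4,1,4,4,1]), ([276,270,264], 155, [1,5,1,4,1,4,1,5,1,5,1,4,1,5,1,5,1,4,1,4]), ([277,270,264], 326, [1,4,1,4,1,4,1,4,1,5,1,5,1,4,1,4,1,4,4,1,4])], []⟩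
def c404 : Clm := ⟨8, 8, true, [1,5,1,4,1,5,1,4,1,5,1,4,1,4,1,4,1,4,1,5,2,4,12,3], [1,4,4,1,4,1,4,4,1,4,1,4,4,1,5,1,4,1,4,1,4,1,3,7,5,13], 5, [([], 403, [])], []⟩
def c405 : Clm := ⟨8, 8, true, [1,4,1,5,1,4,1,4,1,5,1,4,1,5,1,4,1,4,1,5,1,3,8,3,14], [1,5,1,4,1,4,1,4,1,4,4,1,5,1,4,1,4,1,4,1,4,9,14,6], 11, [([], 180, [1,4,1,4,4,1,5,1,4,4,1,5,1]), ([276,264], 164, [4,4,1,4,1,5,1,5,1,5,1,5,1,4,4,1,5,1,4,1,4,4,1]), ([283,270], 203, [4,1,4,4,1,4,4,1,4,4,1,4,1,5,1,5,1,4])], []⟩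
def c406 : Clm := ⟨8, 8, true, [1,5,1,4,1,4,1,4,1,4,4,1,5,1,4,1,4,1,4,1,4,9,14,6], [1,4,1,5,1,4,1,4,1,5,1,4,1,5,1,4,1,4,1,5,1,3,8,3,14], 5, [([], 405, [])], []⟩
def c407 : Clm := ⟨8, 5, true, [4,4,1,4,4,1,4,1,4,1,5,1,5,1,4,4,1,5,1,5,1,3,8,3,14], [4,1,5,1,5,1,5,1,5,1,5,1,4,1,4,1,8,3,8,1], 11, [([], 180, [1,4,1,5,1,4,1,4,1,5,1,4]), ([316,264,264], 162, [1,4,1,5,1,4,1,5,1,4,4,1,5,1,5,1,4]), ([92], 105, [4,1,4,4,1,5,1,4,1,5,1,5,1,4,1,4,4,1,5])], []⟩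
def c408 : Clm := ⟨5, 8, true, [4,1,5,1,5,1,5,1,5,1,5,1,4,1,4,1,8,3,8,1], [4,4,1,4,4,1,4,1,4,1,5,1,5,1,4,4,1,5,1,5,1,3,8,3,14], 5, [([], 407, [])], []⟩
def c409 : Clm := ⟨8, 8, true, [1,5,1,5,1,5,1,5,1,4,4,1,4,1,5,1,4,9,1], [1,4,1,5,1,4,1,4,1,5,1,4,1,5,1,4,4,1,4,4,3,5], 11, [([], 180, [5,1,5,1,5,1,4,4,1]), ([282], 134, [4,1,4,4,1,4,1,5,1,5,1,4,1,5,1,4,1,4,1,5]), ([240,230,228], 315, [4,1,5,1,5,1,4,4,1,5,1,4,1,4,4,1,4,4])], []⟩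
def c410 : Clm := ⟨8, 8, true, [1,4,1,5,1,4,1,4,1,5,1,4,1,5,1,4,4,1,4,4,3,5], [1,5,1,5,1,5,1,5,1,4,4,1,4,1,5,1,4,9,1], 5, [([], 409, [])], []⟩
def c411 : Clm := ⟨8, 8, true, [4,1,4,4,1,4,1,5,1,4,4,1,4,1,5,7,1,11], [4,1,4,1,5,1,5,1,4,1,4,4,1,4,4,1,4,1,4,4,1,5,12,6,13,7], 11, [([], 180, [1,4,4,1,5,1,5,1,5,1,4,1,4,1,4]), ([283,270], 203, [4,1,4,1,4,4,1,5,1,5,1,4,1,4,1,4,4,1,5,1,5]), ([356], 393, [4,1,4,1,4,4,1,4,1,5,1,5,1,4,1])], []⟩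
def c412 : Clm := ⟨8, 8, true, [4,1,4,1,5,1,5,1,4,1,4,4,1,4,4,1,4,1,4,4,1,5,12,6,13,7], [4,1,4,4,1,4,1,5,1,4,4,1,4,1,5,7,1,11], 5, [([], 411, [])], []⟩
def c413 : Clm := ⟨8, 8, true, [4,4,1,4,1,5,1,4,1,4,4,1,5,1,5,1,4,1,2,1,14,11], [4,1,4,1,4,1,4,4,1,4,1,5,1,4,1,5,1,5,1,4,4,1,4,12,10,10,10], 11, [([], 180, [1,4,1,4,4,1,4,4,1,5,1]), ([271], 150, [5,1,4,1,5,1,4,1,5,1,4,1,5,1,4,1,4]), ([264], 256, [1,4,4,1,5,1,4,4,1,4,1,4,1,4,1,4,1,5,1,4,4,1])], []⟩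
def c414 : Clm := ⟨8, 8, true, [4,1,4,1,4,1,4,4,1,4,1,5,1,4,1,5,1,5,1,4,4,1,4,12,10,10,10], [4,4,1,4,1,5,1,4,1,4,4,1,5,1,5,1,4,1,2,1,14,11], 5, [([], 413, [])], []⟩
def c415 : Clm := ⟨8, 8, true, [1,5,1,5,1,5,1,4,4,1,4,4,1,4,1,5,1,4,1,5,1,3,6,5,10], [1,5,1,4,1,4,4,1,4,1,4,1,4,1,4,1,4,1,4,6,2,5,6], 11, [([], 180, [4,1,4,1,4,4,1,4,4,1,4,1]), ([283,264], 160, [4,1,5,1,5,1,5,1,5,1,4,4,1,5,1,4,4,1,5,1,4,4]), ([316,282], 203, [4,4,1,4,4,1,4,1,4,4,1,4,1,4,1,4,4,1,4,4])], []⟩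
def c416 : Clm := ⟨8, 8, true, [1,5,1,4,1,4,4,1,4,1,4,1,4,1,4,1,4,1,4,6,2,5,6], [1,5,1,5,1,5,1,4,4,1,4,4,1,4,1,5,1,4,1,5,1,3,6,5,10], 5, [([], 415, [])], []⟩
def c417 : Clm := ⟨8, 8, true, [4,1,4,4,1,5,1,4,1,5,1,5,1,5,1,5,1,4,6,2,4,6], [4,1,4,1,4,1,5,1,4,1,4,4,1,5,1,4,4,3,4,7,5], 9, [([357], 247, [4,1,4,1,5,1,5,1,4,4,1,4,4,1,4,1,4,1]), ([], 180, [4,1,4,1,4,4,1,5,1,4,4,1,4,1,4]), ([283,264], 310, [1,5,1,5,1,4,4,1,4,4,1,5,1,4,1,4,1,4,1,4])], []⟩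
def c418 : Clm := ⟨8, 8, true, [4,4,1,5,1,5,1,4,4,1,5,1,5,1,4,1,4,1,5,2,1,14,9], [1,4,1,5,1,4,4,1,5,1,5,1,4,8,7,14,13], 11, [([], 180, [5,1,4,1,5,1,5,1,5,1,5,1]), ([316,283,276], 395, [4,1,4,1,5,1,5,1,4,1,4,1,4,1,4,1,4,1,4,1,4,1]), ([356], 416, [5,1,4,1,4,1,4,1,5,1,5,1,4,1,4,1,4,1])], []⟩
def c419 : Clm := ⟨8, 8, true, [1,4,1,5,1,4,4,1,5,1,5,1,4,8,7,14,13], [4,4,1,5,1,5,1,4,4,1,5,1,5,1,4,1,4,1,5,2,1,14,9], 5, [([], 418, [])], []⟩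
def c420 : Clm := ⟨8, 8, true, [5,1,4,1,5,1,5,1,4,4,1,4,4,1,4,1,5,1,5,3,4,14,9], [4,1,5,1,4,1,4,1,4,4,1,5,1,4,1,4,4,3,4,12,3], 11, [([], 180, [1,5,1,4,4,1,4,4,1,4,1,4,1]), ([316,276,264], 326, [1,4,1,4,1,5,1,5,1,4,4,1,4,1,4,4,1,4,4,1,5,1]), ([], 231, [1,5,1,5,1,4,1,4,4,1,4,1,5,1,4,1,4,1,5,1,5])], []⟩
def c421 : Clm := ⟨8, 8, true, [4,1,5,1,4,1,4,1,4,4,1,5,1,4,1,4,4,3,4,12,3], [5,1,4,1,5,1,5,1,4,4,1,4,4,1,4,1,5,1,5,3,4,14,9], 5, [([], 420, [])], []⟩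
def c422 : Clm := ⟨8, 8, true, [1,4,4,1,5,1,4,4,1,5,1,4,1,5,1,3,10,13,8], [1,4,1,4,1,5,1,4,1,5,1,4,1,4,1,5,1,4,4,1,5,1,5,1,3,10,14], 11, [([], 180, [5,1,5,1,5,1,4,4,1,5,1,5,1]), ([317,283,264,264], 155, [1,4,4,1,5,1,5,1,4,1,4,1,4,1,4,1,4,1,5]), ([282,271,264], 324, [4,4,1,4,4,1,4,4,1,5,1,5,1,5,1,5,1,4,1,5])], []⟩
def c423 : Clm := ⟨8, 8, true, [1,4,1,4,1,5,1,4,1,5,1,4,1,4,1,5,1,4,4,1,5,1,5,1,3,10,14], [1,4,4,1,5,1,4,4,1,5,1,4,1,5,1,3,10,13,8], 5, [([], 422, [])], []⟩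
def c424 : Clm := ⟨8, 8, true, [4,1,5,1,4,4,1,4,1,4,1,4,1,4,1,5,1,4,4,1,4,4,8,3,4,10], [5,1,4,1,5,1,4,1,4,1,5,1,5,1,5,1,4,4,3,5,2,7], 11, [([], 180, [1,4,1,4,4,1,5,1,4,4,1,5,1,4]), ([276,264], 162, [1,4,1,5,1,4,4,1,4,1,4,4,1,4,4,1,5,1,4,1]), ([90,92,88], 275, [4,1,4,4,1,4,1,4,1,4,4,1,4,4,1,4,4,1,4,4])], []⟩
def c425 : Clm := ⟨8, 8, true, [1,4,4,1,5,1,4,4,1,5,1,4,1,5,1,6,9], [5,1,4,4,1,4,1,4,1,5,1,5,1,4,7,8,12,7], 11, [([], 180, [1,5,1,5,1,5,1,4,1,4,1,4,1,4,1]), ([316,277,264], 162, [4,4,1,4,4,1,4,4,1,5,1,4,4,1,4,1,4]), ([93,158,90], 407, [1,4,1,5,1,4,1,4,1,4,1,4,4,1,4,1])], []⟩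
def c426 : Clm := ⟨8, 8, true, [5,1,4,4,1,4,1,4,1,5,1,5,1,4,7,8,12,7], [1,4,4,1,5,1,4,4,1,5,1,4,1,5,1,6,9], 5, [([], 425, [])], []⟩
def c427 : Clm := ⟨8, 8, true, [1,4,1,4,1,5,1,4,1,5,1,4,1,4,1,5,1,5,1,4,2,1,5,13,1], [4,4,1,4,4,1,5,1,4,1,4,1,5,1,4,1,4,7,2,8,5], 11, [([], 180, [1,5,1,4,1,5,1,4,4,1,4,4,1,4,4,1]), ([317,282], 389, [1,5,1,4,4,1,5,1,4,4,1,5,1,5]), ([357], 411, [4,4,1,4,1,4,4,1,5,1,4,1,4,1,4,1,5])], []⟩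
def c428 : Clm := ⟨8, 8, true, [4,4,1,4,4,1,5,1,4,1,4,1,5,1,4,1,4,7,2,8,5], [1,4,1,4,1,5,1,4,1,5,1,4,1,4,1,5,1,5,1,4,2,1,5,13,1], 5, [([], 427, [])], []⟩
def c429 : Clm := ⟨8, 8, true, [4,1,4,1,4,1,5,1,5,1,4,4,1,4,1,5,2,1,13,11], [4,4,1,4,1,4,4,1,4,1,4,1,4,1,4,1,5,1,4,9,12,6,12], 11, [([], 180, [4,1,4,4,1,4,4,1,4,1,5,1,5,1]), ([270,264], 210, [1,4,1,5,1,4,1,5,1,5,1,4,1,4,4,1,5,1,4,4,1,4]), ([357], 368, [1,5,1,4,1,5,1,4,4,1,4,4,1,4,4,1,5,1,4,4,1,4])], []⟩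
def c430 : Clm := ⟨8, 8, true, [4,4,1,4,1,4,4,1,4,1,4,1,4,1,4,1,5,1,4,9,12,6,12], [4,1,4,1,4,1,5,1,5,1,4,4,1,4,1,5,2,1,13,11], 5, [([], 429, [])], []⟩
def c431 : Clm := ⟨8, 8, true, [4,1,4,1,4,4,1,4,4,1,4,4,1,4,4,1,4,1,5,2,6,13,11], [1,5,1,5,1,5,1,4,1,4,4,1,4,1,4,1,4,2,8,5], 11, [([], 180, [4,1,5,1,4,1,4,4,1,4,1,4,1]), ([265], 172, [4,4,1,4,1,4,1,4,4,1,5,1,4,1,4,4,1,4]), ([317,282,277,264], 310, [1,4,1,4,4,1,4,4,1,4,4,1,4,4,1,4,1,5,1,4,1])], []⟩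
def c432 : Clm := ⟨8, 8, true, [1,5,1,5,1,5,1,4,1,4,4,1,4,1,4,1,4,2,8,5], [4,1,4,1,4,4,1,4,4,1,4,4,1,4,4,1,4,1,5,2,6,13,11], 5, [([], 431, [])], []⟩
def c433 : Clm := ⟨8, 5, true, [5,1,4,4,1,5,1,4,4,1,4,1,4,4,1,4,4,7,1,9], [1,4,1,4,4,1,5,1,4,1,5,1,4,4,1,4,4,1,5,1,3,1,6,12], 11, [([], 180, [4,1,5,1,4,1,4,4,1,5,1,4,1,4,1]), ([316,282], 143, [5,1,4,1,4,4,1,5,1,4,1,5,1,4,4,1,5,1,4,4]), ([90,93], 64, [1,5,1,5,1,4,4,1,4,4,1,4,1,4,1,5,1,5,1,4,1,5,1])], []⟩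
def c434 : Clm := ⟨5, 8, true, [1,4,1,4,4,1,5,1,4,1,5,1,4,4,1,4,4,1,5,1,3,1,6,12], [5,1,4,4,1,5,1,4,4,1,4,1,4,4,1,4,4,7,1,9], 5, [([], 433, [])], []⟩
def c435 : Clm := ⟨8, 8, true, [4,1,4,1,5,1,4,1,5,1,4,1,5,1,4,1,5,1,4,1,2,10,12,2], [1,4,4,1,4,4,1,4,4,1,4,1,4,1,4,4,1,5,1,4,1,12,10,4,13], 9, [([], 305, [1,4,1,4,4,1,5,1,4,1,5,1,4,1,5,1,4,1,5,1,5]), ([356], 180, [5,1,5,1,4,4,1,4,4,1,4,1]), ([277,316], 310, [1,4,1,5,1,5,1,4,1,5,1,4,4,1,4,4,1,5])], []⟩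
def c436 : Clm := ⟨8, 8, true, [1,4,4,1,4,4,1,4,4,1,4,1,4,1,4,4,1,5,1,4,1,12,10,4,13], [4,1,4,1,5,1,4,1,5,1,4,1,5,1,4,1,5,1,4,1,2,10,12,2], 5, [([], 435, [])], []⟩
def c437 : Clm := ⟨8, 8, true, [5,1,4,4,1,5,1,4,1,4,1,4,1,4,4,1,4,1,4,1,4,2,6,3,11], [1,5,1,5,1,5,1,5,1,4,4,1,5,1,5,1,4,4,1,2,9,11], 11, [([], 180, [5,1,4,1,4,1,4,1,4,1,5,1]), ([283,264], 150, [5,1,5,1,5,1,5,1,5,1,5,1,4,4,1,5,1,4,1,4]), ([317,277], 273, [5,1,4,1,5,1,5,1,5,1,5,1,4,1,4,1,5,1])], []⟩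
def c438 : Clm := ⟨8, 8, true, [1,5,1,5,1,5,1,5,1,4,4,1,5,1,5,1,4,4,1,2,9,11], [5,1,4,4,1,5,1,4,1,4,1,4,1,4,4,1,4,1,4,1,4,2,6,3,11], 5, [([], 437, [])], []⟩
def c439 : Clm := ⟨8, 8, true, [4,4,1,4,4,1,4,4,1,5,1,5,1,4,4,1,4,4,10,10,6,2], [1,4,4,1,4,4,1,4,1,4,4,1,4,1,8,6,11,9], 9, [([], 416, [4,1,5,1,4,1,5,1,5,1,4,1,5,1,5,1,4,4,1]), ([], 180, [5,1,4,4,1]), ([283,277,264], 220, [5,1,5,1,4,4,1,4,4,1,5,1,4,1,5,1])], []⟩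
def c440 : Clm := ⟨8, 8, true, [1,4,4,1,4,4,1,4,1,4,4,1,4,1,8,6,11,9], [4,4,1,4,4,1,4,4,1,5,1,5,1,4,4,1,4,4,10,10,6,2], 5, [([], 439, [])], []⟩
def c441 : Clm := ⟨8, 8, true, [4,4,1,4,4,1,5,1,4,1,5,1,4,1,5,1,4,1,4,4,1,5,2,1,5,13,1], [5,1,4,1,4,4,1,4,4,1,5,1,4,1,4,4,1,13,8,12,3], 11, [([], 180, [1,5,1,4,4,1,4,4,1,5,1,4]), ([316], 172, [1,5,1,5,1,5,1,4,4,1,4,1,4,1,4,1]), ([316,282,276], 324, [4,1,5,1,5,1,4,4,1,4,1,4,4,1,5,1,4])], []⟩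
def c442 : Clm := ⟨8, 8, true, [4,4,1,4,4,1,4,1,4,4,1,5,1,4,1,4,1,4,1,2,12,3,11], [4,4,1,4,1,4,1,4,1,4,4,1,4,1,9,11,11], 11, [([], 180, [1,4,1,4,4,1,5,1,5,1,5,1,4,1,4,1,4]), ([282,271,282,264], 389, [1,5,1,5,1,4,4,1,4,1,5,1,4,1,4,4,1,4,1]), ([356], 286, [4,1,5,1,4,1,5,1,5,1,5,1,5,1,4])], []⟩
def c443 : Clm := ⟨8, 8, true, [4,4,1,4,1,4,1,4,1,4,4,1,4,1,9,11,11], [4,4,1,4,4,1,4,1,4,4,1,5,1,4,1,4,1,4,1,2,12,3,11], 5, [([], 442, [])], []⟩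
def c444 : Clm := ⟨8, 8, true, [1,4,1,4,4,1,4,1,4,1,4,4,1,5,2,1,13,11], [1,4,4,1,4,1,4,1,4,4,1,5,1,4,1,5,1,5,1,4,4,6,2,4,6], 11, [([], 180, [4,4,1,5,1,5,1]), ([317,283,264,264], 326, [1,4,1,4,1,4,1,5,1,4,1,5,1,5,1,5,1,4,4,1,5,1]), ([], 428, [5,1,5,1,5,1,4,1,4,1,4,4,1,4,1,4,4,1,4,4,1])], []⟩
def c445 : Clm := ⟨8, 8, true, [1,4,4,1,4,1,4,1,4,4,1,5,1,4,1,5,1,5,1,4,4,6,2,4,6], [1,4,1,4,4,1,4,1,4,1,4,4,1,5,2,1,13,11], 5, [([], 444, [])], []⟩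
def c446 : Clm := ⟨8, 8, true, [4,4,1,4,4,1,5,1,5,1,5,1,4,4,1,5,1,5,1,4,4,9,7,11,6], [4,1,5,1,5,1,5,1,5,1,5,1,5,1,5,2,12,2,6], 9, [([], 180, [1,4,1,4,1,4,1]), ([317,283,277], 199, [1,5,1,4,4,1,5,1,5,1,5,1,5,1,4,1,5,1,4,1,4,4]), ([357], 380, [1,4,1,4,4,1,4,1,4,4,1,4,1,5,1,4,4,1,5,1,4,1,4,1])], []⟩
def c447 : Clm := ⟨8, 8, true, [4,1,5,1,5,1,5,1,5,1,5,1,5,1,5,2,12,2,6], [4,4,1,4,4,1,5,1,5,1,5,1,4,4,1,5,1,5,1,4,4,9,7,11,6], 5, [([], 446, [])], []⟩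
def c448 : Clm := ⟨8, 8, true, [1,5,1,4,1,5,1,4,4,2,12,4,8], [1,5,1,4,1,4,1,5,1,4,1,4,1,2,8,7,3], 9, [([], 180, [5,1,5,1,4,1,5,1,4]), ([316,283,277,264], 273, [5,1,4,4,1,4,1,4,4,1,5,1,4,1,5,1,5,1,5,1,5]), ([], 334, [5,1,5,1,5,1,4,4,1,5,1,5,1,4,1,5,1,5,1,4])], []⟩
def c449 : Clm := ⟨8, 8, true, [1,5,1,4,1,4,1,5,1,4,1,4,1,2,8,7,3], [1,5,1,4,1,5,1,4,4,2,12,4,8], 5, [([], 448, [])], []⟩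
def c450 : Clm := ⟨8, 8, true, [1,5,1,5,1,4,4,1,5,1,5,1,4,1,5,1,4,1,4,1,4,12,5,13,4], [1,5,1,5,1,5,1,5,1,4,1,4,1,4,1,4,4,1,5,1,4,4,3,11,3,11], 11, [([], 277, [5,1,4,4,1,4,1,4,1,5,1,4,1,5,1,4,4]), ([356], 180, [4,1,5,1,4,1,4,4,1,4,4,1,4,1]), ([316,264], 256, [5,1,5,1,5,1,4,1,4,1,4,4,1,4,4,1,4,1,5])], []⟩
def c451 : Clm := ⟨8, 8, true, [1,5,1,5,1,5,1,5,1,4,1,4,1,4,1,4,4,1,5,1,4,4,3,11,3,11], [1,5,1,5,1,4,4,1,5,1,5,1,4,1,5,1,4,1,4,1,4,12,5,13,4], 5, [([], 450, [])], []⟩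
def c452 : Clm := ⟨8, 8, true, [1,5,1,4,4,1,4,1,4,1,5,1,5,1,4,3,12,10,7], [1,4,1,4,1,5,1,5,1,4,4,1,5,1,5,1,4,4,1,4,4,1,4,1,7,10,14,2], 11, [([], 337, [4,4,1,5,1,4,4,1,5,1,4,1,4,1,4,1,4]), ([356], 180, [4,1,4,1,4,1,4,1,4,1,4,1,5]), ([271], 273, [1,4,1,5,1,4,1,5,1,5,1,5,1,5,1,4,1,5])], []⟩
def c453 : Clm := ⟨8, 8, true, [1,4,1,4,1,5,1,5,1,4,4,1,5,1,5,1,4,4,1,4,4,1,4,1,7,10,14,2], [1,5,1,4,4,1,4,1,4,1,5,1,5,1,4,3,12,10,7], 5, [([], 452, [])], []⟩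
def c454 : Clm := ⟨8, 8, true, [4,1,4,1,4,1,4,4,1,4,1,4,1,5,1,5,1,4,1,6,8,4], [4,1,5,1,5,1,5,1,5,1,4,4,1,5,1,4,1,4,4,3,4,8,10], 9, [([], 180, [5,1,4,4,1,4,1,4,1,4,1,5,1,4,4]), ([276,270,264], 324, [1,5,1,4,4,1,4,4,1,4,1,4,1,5,1,5,1,4,1,4]), ([], 298, [1,4,1,4,4,1,5,1,4,1,4,1,5,1,4,4,1,5,1,4,1,5])], []⟩
def c455 : Clm := ⟨8, 8, true, [4,1,5,1,5,1,5,1,5,1,4,4,1,5,1,4,1,4,4,3,4,8,10], [4,1,4,1,4,1,4,4,1,4,1,4,1,5,1,5,1,4,1,6,8,4], 5, [([], 454, [])], []⟩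
def c456 : Clm := ⟨8, 8, true, [5,1,4,1,4,1,4,4,1,5,1,5,1,4,1,4,1,5,1,5,7,13,10], [1,5,1,4,1,4,4,1,5,1,4,1,5,1,5,1,4,10,3,9,5], 11, [([], 270, [5,1,4,4,1,5,1,4,4,1,4,4,1,5,1,5,1,4,1,4,1]), ([], 180, [1,4,1,4,1,5,1,5,1,4]), ([276,317], 395, [4,1,5,1,4,1,4,4,1,4,1,4,4,1,4,1,5,1,4,1])], []⟩
def c457 : Clm := ⟨8, 8, true, [4,1,4,4,1,4,4,1,5,1,5,1,4,1,5,1,3,4,14,10], [1,4,1,5,1,4,4,1,4,1,4,1,4,1,4,1,5,1,4,4,10,8,7,8], 9, [([], 180, [1,4,1,4,4,1,4,4]), ([283,265], 166, [4,1,4,4,1,5,1,4,4,1,4,4,1,4,4,1,5]), ([316,277,264], 324, [4,4,1,4,1,4,4,1,5,1,4,4,1,4])], []⟩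
def c458 : Clm := ⟨8, 8, true, [1,4,1,5,1,4,4,1,4,1,4,1,4,1,4,1,5,1,4,4,10,8,7,8], [4,1,4,4,1,4,4,1,5,1,5,1,4,1,5,1,3,4,14,10], 5, [([], 457, [])], []⟩
def c459 : Clm := ⟨8, 8, true, [4,1,4,4,1,5,1,4,1,4,1,4,4,1,5,1,4,3,4,6,3], [1,5,1,4,4,1,5,1,4,4,1,4,1,5,1,4,3,4,3,9], 9, [([], 180, [4,4,1,4,4,1,4,1,4]), ([317,265], 273, [1,4,1,4,4,1,4,4,1,4,1,4,4,1,4]), ([356], 440, [4,1,4,1,4,4,1,4,1,5,1,4,1,5,1,5,1,4,4,1,4,1])], []⟩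
def c460 : Clm := ⟨8, 8, true, [1,5,1,4,4,1,5,1,4,4,1,4,1,5,1,4,3,4,3,9], [4,1,4,4,1,5,1,4,1,4,1,4,4,1,5,1,4,3,4,6,3], 5, [([], 459, [])], []⟩
def c461 : Clm := ⟨8, 8, true, [1,4,4,1,5,1,4,1,5,1,4,4,1,5,1,5,1,4,4,1,4,12,1,9], [1,4,1,4,1,5,1,5,1,4,1,4,1,5,1,5,1,4,1,4,4,1,4,2,1,12,9], 11, [([], 277, [1,5,1,4,1,5,1,5,1,4,1,5,1,4,1,5,1,4,4]), ([357], 180, [5,1,4,1,5,1,5,1,4,4]), ([282,282,271,264], 210, [1,5,1,4,1,5,1,4,4,1,4,1,4,4,1,5,1,4])], []⟩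
def c462 : Clm := ⟨8, 8, true, [1,4,1,4,1,5,1,5,1,4,1,4,1,5,1,5,1,4,1,4,4,1,4,2,1,12,9], [1,4,4,1,5,1,4,1,5,1,4,4,1,5,1,5,1,4,4,1,4,12,1,9], 5, [([], 461, [])], []⟩
def c463 : Clm := ⟨8, 8, true, [4,4,1,5,1,4,4,1,5,1,4,1,5,1,5,1,4,6,8,5], [5,1,5,1,4,1,4,4,1,5,1,4,4,1,5,1,4,12,10,7,5], 9, [([], 180, [4,4,1,4,4,1,4,4,1]), ([282,282,270,264], 326, [4,4,1,4,4,1,4,4,1,4,1,4,1,4,1,5,1,4,4]), ([356], 448, [1,4,1,4,1,4,4,1,5,1,4,1,4,4,1,4,4,1,5,1,4,4,1,4,4])], []⟩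
def c464 : Clm := ⟨8, 8, true, [5,1,5,1,4,1,4,4,1,5,1,4,4,1,5,1,4,12,10,7,5], [4,4,1,5,1,4,4,1,5,1,4,1,5,1,5,1,4,6,8,5], 5, [([], 463, [])], []⟩
def c465 : Clm := ⟨8, 8, true, [5,1,4,1,4,4,1,4,1,4,1,4,1,4,1,5,1,4,1,4,4,1,5,2,10,4,14], [4,1,5,1,5,1,5,1,4,1,4,4,1,5,1,4,4,1,4,1,12,6,12], 9, [([], 180, [4,4,1,5,1,5,1,4,4,1]), ([282,270], 324, [5,1,4,4,1,4,4,1,4,4,1,4]), ([], 429, [1,4,1,4,4,1,4,1,5,1,4,1,4,4,1,4,4,1,5,1,4])], []⟩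
def c466 : Clm := ⟨8, 8, true, [4,1,5,1,5,1,5,1,4,1,4,4,1,5,1,4,4,1,4,1,12,6,12], [5,1,4,1,4,4,1,4,1,4,1,4,1,4,1,5,1,4,1,4,4,1,5,2,10,4,14], 5, [([], 465, [])], []⟩
def c467 : Clm := ⟨5, 8, true, [1,5,1,4,1,5,1,5,1,4,4,1,5,1,4,1,4,1,5,1,2,7,1,2], [4,1,5,1,5,1,4,4,1,4,4,1,4,1,4,4,1,4,4,1,2,4,13,6], 11, [([], 281, [1,5,1,4,4,1,4,1,4,4,1,4,1,5,1,4,4,1,5]), ([], 180, [1,4,1,4,1,4,4,1,4,4,1,4,1,4]), ([282,282,270,264], 389, [1,5,1,4,4,1,4,1,4,1,5,1,4,1,5,1,4,1,4,1,4,4])], []⟩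
def c468 : Clm := ⟨8, 5, true, [4,1,5,1,5,1,4,4,1,4,4,1,4,1,4,4,1,4,4,1,2,4,13,6], [1,5,1,4,1,5,1,5,1,4,4,1,5,1,4,1,4,1,5,1,2,7,1,2], 5, [([], 467, [])], []⟩
def c469 : Clm := ⟨8, 8, true, [1,5,1,4,1,5,1,5,1,5,1,5,1,5,1,5,1,5,1,5,10,13], [1,5,1,5,1,5,1,5,1,5,1,5,1,5,1,4,1,4,4,1,5,1,3,8,3,9], 11, [([], 442, [1,4,4,1,4,1,4,1,4,4,1,4,1,5,1,4,4]), ([356], 180, [4,1,4,1,5,1,5,1,5,1,4]), ([283,264], 199, [1,5,1,4,1,5,1,5,1,5,1,5,1,4,4,1,5,1])], []⟩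
def c470 : Clm := ⟨8, 8, true, [1,5,1,5,1,5,1,5,1,5,1,5,1,5,1,4,1,4,4,1,5,1,3,8,3,9], [1,5,1,4,1,5,1,5,1,5,1,5,1,5,1,5,1,5,1,5,10,13], 5, [([], 469, [])], []⟩
def c471 : Clm := ⟨8, 8, true, [4,1,4,1,4,1,5,1,4,4,1,4,4,1,5,1,5,1,4,9,7,11,6], [4,4,1,4,1,4,1,4,4,1,5,1,4,1,4,1,5,3,7,11], 9, [([], 180, [4,4,1,5,1,5,1,4,1,5]), ([282,270], 160, [1,4,1,5,1,4,1,5,1,5,1,4,1,4,1,5,1,4]), ([276,264], 310, [5,1,4,4,1,5,1,4,4,1,4,1,4,1,5])], []⟩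
def c472 : Clm := ⟨8, 8, true, [4,4,1,4,1,4,1,4,4,1,5,1,4,1,4,1,5,3,7,11], [4,1,4,1,4,1,5,1,4,4,1,4,4,1,5,1,5,1,4,9,7,11,6], 5, [([], 471, [])], []⟩
def c473 : Clm := ⟨8, 8, true, [4,1,4,4,1,5,1,4,4,1,5,1,5,1,4,1,5,1,4,1,5,1,7,10,12,3], [1,4,4,1,5,1,4,4,1,4,1,4,1,5,1,4,1,4,4,1,5,1,3,14,4,12], 9, [([], 180, [5,1,5,1,5,1,4,4,1]), ([317,264,264], 166, [5,1,4,1,5,1,4,1,4,4,1,5,1,4,1,5,1,4,4]), ([283,264,264], 312, [1,5,1,4,1,5,1,4,1,4,4,1,4,1,4,1])], []⟩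
def c474 : Clm := ⟨8, 8, true, [1,4,4,1,5,1,4,4,1,4,1,4,1,5,1,4,1,4,4,1,5,1,3,14,4,12], [4,1,4,4,1,5,1,4,4,1,5,1,5,1,4,1,5,1,4,1,5,1,7,10,12,3], 5, [([], 473, [])], []⟩
def c475 : Clm := ⟨8, 8, true, [1,4,4,1,4,1,4,1,4,1,4,1,4,1,5,1,2,8,3,10], [1,4,4,1,4,1,4,1,5,1,4,1,5,1,5,1,5,1,4,4,1,5,3,7,9,14], 9, [([], 180, [4,1,4,1,4,1,4,1,5]), ([], 174, [5,1,4,4,1,5,1,5,1,4,1,5,1,4,1,4,1,4,4,1]), ([316,277,264], 179, [1,5,1,4,1,5,1,4,1,5,1,4,1,4,1,5,1,4,4,1,5,1])], []⟩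
def c476 : Clm := ⟨8, 8, true, [1,4,4,1,4,1,4,1,5,1,4,1,5,1,5,1,5,1,4,4,1,5,3,7,9,14], [1,4,4,1,4,1,4,1,4,1,4,1,4,1,5,1,2,8,3,10], 5, [([], 475, [])], []⟩
def c477 : Clm := ⟨8, 8, true, [4,1,4,1,4,4,1,5,1,4,1,4,1,4,1,4,4,1,5,1,4,4,7,1,5,10], [4,1,5,1,4,4,1,5,1,4,1,4,1,4,1,4,1,3,14,8,12], 9, [([], 180, [4,1,4,4,1,5,1,5,1,5,1,4,1]), ([283,270], 166, [1,5,1,4,1,4,1,5,1,5,1,4,1,4,1,4,4,1,4,4,1]), ([282,271,264], 220, [1,4,1,4,4,1,5,1,5,1,5,1,5,1,4,1,4,1,5,1,5])], []⟩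
def c478 : Clm := ⟨8, 8, true, [4,1,5,1,4,4,1,5,1,4,1,4,1,4,1,4,1,3,14,8,12], [4,1,4,1,4,4,1,5,1,4,1,4,1,4,1,4,4,1,5,1,4,4,7,1,5,10], 5, [([], 477, [])], []⟩
def c479 : Clm := ⟨8, 8, true, [1,4,4,1,4,1,4,1,4,1,5,1,5,1,4,1,5,1,4,4,1,4,3,13,4,7], [4,4,1,5,1,4,4,1,5,1,5,1,4,1,5,1,4,4,1,4,1,5,6,8,1], 11, [([], 243, [1,4,1,5,1,4,4,1,5,1,4,1,4,1,5,1,4,4,1,4,1,4,1]), ([357], 180, [1,5,1,5,1,4,1,5,1,4]), ([270,316,264], 220, [5,1,5,1,5,1,4,4,1,4,4,1,5,1,5,1])], []⟩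
def c480 : Clm := ⟨8, 8, true, [4,4,1,5,1,4,4,1,5,1,5,1,4,1,5,1,4,4,1,4,1,5,6,8,1], [1,4,4,1,4,1,4,1,4,1,5,1,5,1,4,1,5,1,4,4,1,4,3,13,4,7], 5, [([], 479, [])], []⟩
def c481 : Clm := ⟨8, 8, true, [4,1,4,4,1,4,4,1,5,1,4,1,4,1,4,1,4,4,1,4,1,4,3,12,14,10], [1,5,1,4,1,4,4,1,4,1,4,1,4,1,4,1,5,1,5,1,4,4,7,11,14,6], 11, [([], 449, [5,1,5,1,4,4,1,5,1,5,1,5,1,5,1,4,4,1]), ([], 180, [5,1,4,4,1,4,4,1]), ([317,283,276], 312, [4,4,1,5,1,4,1,5,1,5,1,4,1,4,1,5,1,5,1,4,1])], []⟩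
def c482 : Clm := ⟨8, 8, true, [1,5,1,4,1,4,4,1,4,1,4,1,4,1,4,1,5,1,5,1,4,4,7,11,14,6], [4,1,4,4,1,4,4,1,5,1,4,1,4,1,4,1,4,4,1,4,1,4,3,12,14,10], 5, [([], 481, [])], []⟩
def c483 : Clm := ⟨8, 6, true, [1,4,4,1,4,4,1,5,1,4,4,1,5,1,4,1,4,1,4,1,4,4,2,7,4,8], [5,1,4,4,1,5,1,4,4,1,4,4,1,5,1,5,1,4,4,9,14,7], 9, [([], 180, [4,4,1,5,1,4,1,4]), ([265,316,264], 155, [4,4,1,5,1,4,1,5,1,4,4,1,5,1,4]), ([316,283,276], 134, [5,1,5,1,4,4,1,5,1,4,1,5,1,4,4])], []⟩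
def c484 : Clm := ⟨6, 8, true, [5,1,4,4,1,5,1,4,4,1,4,4,1,5,1,5,1,4,4,9,14,7], [1,4,4,1,4,4,1,5,1,4,4,1,5,1,4,1,4,1,4,1,4,4,2,7,4,8], 5, [([], 483, [])], []⟩
def c485 : Clm := ⟨8, 8, true, [1,4,1,4,4,1,4,1,4,4,1,5,1,4,1,5,1,4,1,5,1,4,4,6,4,10], [4,4,1,5,1,4,1,4,4,1,4,1,4,1,5,1,4,1,4,4,1,9,11,12,5], 9, [([], 180, [4,1,4,1,4,4,1,5,1,5,1,5,1,4,1]), ([283,271], 203, [1,4,4,1,4,1,4,4,1,5,1,4,4,1,4,4,1,4,1,5]), ([356], 450, [4,4,1,5,1,5,1,4,1,4,4,1,5,1,5,1,5,1,4,1,4])], []⟩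
def c486 : Clm := ⟨8, 8, true, [4,4,1,5,1,4,1,4,4,1,4,1,4,1,5,1,4,1,4,4,1,9,11,12,5], [1,4,1,4,4,1,4,1,4,4,1,5,1,4,1,5,1,4,1,5,1,4,4,6,4,10], 5, [([], 485, [])], []⟩
def c487 : Clm := ⟨8, 8, true, [1,5,1,4,4,1,5,1,4,1,4,1,4,1,4,4,1,4,1,5,9,3,10], [1,4,4,1,4,1,4,4,1,4,4,1,4,3,13,1,13], 11, [([], 405, [1,4,1,4,1,4,1,5,1,4,4,1,4,1,4,4,1,4]), ([357], 180, [1,5,1,4,1,4,4,1,4,1]), ([282,282,270], 256, [4,1,5,1,4,1,4,4,1,5,1,4,1,5,1,4,4,1,5,1,4])], []⟩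
def c488 : Clm := ⟨8, 8, true, [1,4,4,1,4,1,4,4,1,4,4,1,4,3,13,1,13], [1,5,1,4,4,1,5,1,4,1,4,1,4,1,4,4,1,4,1,5,9,3,10], 5, [([], 487, [])], []⟩
def c489 : Clm := ⟨8, 8, true, [4,4,1,4,1,5,1,4,4,1,5,1,4,4,1,4,1,6,8,5], [1,5,1,5,1,4,4,1,5,1,5,1,4,1,5,1,5,1,9,14,6,12], 9, [([], 180, [1,4,1,4,1,5,1]), ([317,277,264], 162, [1,4,1,4,4,1,4,4,1,4,4,1,4,4,1,5,1,4,1,5]), ([93,158,88], 407, [5,1,4,1,4,1,5,1,5,1,4,1,4,4,1,5,1,5,1])], []⟩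
def c490 : Clm := ⟨8, 8, true, [1,5,1,5,1,4,4,1,5,1,5,1,4,1,5,1,5,1,9,14,6,12], [4,4,1,4,1,5,1,4,4,1,5,1,4,4,1,4,1,6,8,5], 5, [([], 489, [])], []⟩
def c491 : Clm := ⟨8, 8, true, [1,5,1,4,1,4,1,4,4,1,4,1,5,1,4,4,1,5,1,6,13,11,2], [1,5,1,4,1,4,4,1,4,1,4,4,1,4,1,7,1,6,1], 9, [([], 180, [4,4,1,4,1,4,4,1,4,4,1,4]), ([316,283,277], 273, [1,4,4,1,4,4,1,4,4,1,4,1,4,1,4,4,1,4,1,4]), ([], 351, [1,5,1,5,1,4,1,4,1,4,1,4,4,1])], []⟩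
def c492 : Clm := ⟨8, 8, true, [1,5,1,4,1,4,4,1,4,1,4,4,1,4,1,7,1,6,1], [1,5,1,4,1,4,1,4,4,1,4,1,5,1,4,4,1,5,1,6,13,11,2], 5, [([], 491, [])], []⟩
def c493 : Clm := ⟨8, 5, true, [1,4,1,4,1,4,1,5,1,4,1,5,1,5,1,4,4,1,4,1,4,9,7,11,6], [1,4,1,5,1,5,1,4,1,5,1,4,1,5,1,4,1,5,6,10,2], 9, [([], 180, [1,4,4,1,5,1,5,1,4]), ([270,316,264], 326, [4,1,4,4,1,4,4,1,5,1,4,1,4,1,4,1,4,4]), ([], 434, [5,1,4,1,4,1,4,1,4,1,4,1,4,1,4,1,5,1,5])], []⟩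
def c494 : Clm := ⟨5, 8, true, [1,4,1,5,1,5,1,4,1,5,1,4,1,5,1,4,1,5,6,10,2], [1,4,1,4,1,4,1,5,1,4,1,5,1,5,1,4,4,1,4,1,4,9,7,11,6], 5, [([], 493, [])], []⟩
def c495 : Clm := ⟨8, 8, true, [1,4,1,4,4,1,4,4,1,4,1,4,4,1,5,1,4,1,4,1,4,4,1,8,3,12,11], [1,4,4,1,4,1,5,1,5,1,4,4,1,4,4,1,4,4,10,10,6], 9, [([], 180, [4,1,4,1,4,1,4,1,5,1,4]), ([271], 155, [1,4,1,5,1,5,1,5,1,5,1,4,1,4,4]), ([316,282,264], 199, [5,1,5,1,5,1,4,4,1,4,4,1,4,4,1,4,1,4,1,4,1])], []⟩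
def c496 : Clm := ⟨8, 8, true, [1,4,4,1,4,1,5,1,5,1,4,4,1,4,4,1,4,4,10,10,6], [1,4,1,4,4,1,4,4,1,4,1,4,4,1,5,1,4,1,4,1,4,4,1,8,3,12,11], 5, [([], 495, [])], []⟩
def c497 : Clm := ⟨8, 8, true, [4,1,4,1,4,4,1,4,1,5,1,5,1,5,1,6,10], [1,5,1,5,1,5,1,4,1,5,1,4,1,5,1,4,4,1,5,1,9,5,11,14], 9, [([], 180, [1,4,1,4,1,4,1,4,4,1,4,4]), ([316,277,264], 162, [4,1,5,1,5,1,5,1,5,1,4,1,4,1,4,1,4]), ([158,92,90], 468, [1,5,1,4,1,4,1,4,1,4,4,1,4,4,1,4,1,4,4,1,4,1])], []⟩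
def c498 : Clm := ⟨8, 8, true, [1,5,1,5,1,5,1,4,1,5,1,4,1,5,1,4,4,1,5,1,9,5,11,14], [4,1,4,1,4,4,1,4,1,5,1,5,1,5,1,6,10], 5, [([], 497, [])], []⟩
def c499 : Clm := ⟨8, 8, true, [1,4,1,4,4,1,4,1,4,4,1,5,1,4,1,4,4,7,8,13,7], [1,4,1,5,1,4,1,4,4,2,11,6,2], 11, [([], 399, [4,1,4,4,1,4,4,1,4,1,4,4,1,5,1,4,1,5,1]), ([], 180, [5,1,4,1,5,1,4,1,5,1,4,1,4]), ([316,283], 210, [1,4,4,1,4,4,1,4,4,1,5,1,5,1,4,4,1,4,4])], []⟩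
def c500 : Clm := ⟨8, 8, true, [1,4,1,5,1,4,1,4,4,2,11,6,2], [1,4,1,4,4,1,4,1,4,4,1,5,1,4,1,4,4,7,8,13,7], 5, [([], 499, [])], []⟩
def c501 : Clm := ⟨8, 8, true, [1,4,1,4,4,1,5,1,4,1,4,1,5,1,5,1,4,4,1,4,4,3,4,14,10], [1,4,4,1,4,4,1,5,1,4,4,1,5,1,4,1,4,1,4,1,2,8,8], 9, [([], 180, [4,1,5,1,4,4,1,4,1,5,1,4]), ([282,282,270,264], 199, [4,4,1,5,1,5,1,5,1,5,1,5,1,4,1,4,4,1,5,1]), ([357], 387, [5,1,4,1,4,4,1,5,1,4,4,1,4,4,1,4,4])], []⟩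
def c502 : Clm := ⟨8, 8, true, [1,4,4,1,4,4,1,5,1,4,4,1,5,1,4,1,4,1,4,1,2,8,8], [1,4,1,4,4,1,5,1,4,1,4,1,5,1,5,1,4,4,1,4,4,3,4,14,10], 5, [([], 501, [])], []⟩
def c503 : Clm := ⟨8, 8, true, [5,1,4,1,5,1,4,4,1,5,1,5,1,4,1,4,1,4,4,1,2,8,13,2], [5,1,4,1,5,1,5,1,4,1,4,1,4,1,4,1,4,1,4,1,5,1,3,8,2,6], 11, [([], 427, [5,1,5,1,4,1,4,1,4,1,4,1,4,4,1,4,4,1,5,1]), ([], 180, [5,1,5,1,4,1,4,1,4,1,4,4]), ([283,277,264], 389, [4,1,4,1,4,1,4,1,5,1,4,4,1,5,1,5,1,4,4])], []⟩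
def c504 : Clm := ⟨8, 8, true, [5,1,4,1,5,1,5,1,4,1,4,1,4,1,4,1,4,1,4,1,5,1,3,8,2,6], [5,1,4,1,5,1,4,4,1,5,1,5,1,4,1,4,1,4,4,1,2,8,13,2], 5, [([], 503, [])], []⟩
def c505 : Clm := ⟨8, 5, true, [4,1,4,4,1,4,4,1,4,1,5,1,4,1,5,1,5,1,4,4,1,5,2,5,10,8], [5,1,4,1,4,4,1,4,1,5,1,4,1,10,7,8,6], 11, [([], 409, [5,1,4,4,1,4,1,4,1,5,1,4,1,4,4,1,4,1,4,4]), ([], 180, [4,4,1,4,4,1,4,1]), ([], 146, [1,5,1,4,4,1,4,4,1,4,1,5,1,5,1,4,1,5,1])], []⟩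
def c506 : Clm := ⟨5, 8, true, [5,1,4,1,4,4,1,4,1,5,1,4,1,10,7,8,6], [4,1,4,4,1,4,4,1,4,1,5,1,4,1,5,1,5,1,4,4,1,5,2,5,10,8], 5, [([], 505, [])], []⟩
def c507 : Clm := ⟨8, 8, true, [5,1,4,1,4,1,5,1,5,1,4,4,1,5,1,4,1,5,1,5,2,11,14], [1,4,1,4,1,4,1,4,1,5,1,4,1,5,1,4,4,1,4,1,5,1,2,8,6,5], 9, [([], 180, [1,5,1,5,1,4,4,1,4,1,5,1,4,1]), ([316,276,264], 326, [4,1,4,1,4,1,4,4,1,5,1,4,1,4,4,1,4,4,1,4,1,5]), ([356], 406, [5,1,5,1,4,1,5,1,4,1,4,1,4,4,1,4,1,5,1])], []⟩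
def c508 : Clm := ⟨8, 8, true, [1,4,1,4,1,4,1,4,1,5,1,4,1,5,1,4,4,1,4,1,5,1,2,8,6,5], [5,1,4,1,4,1,5,1,5,1,4,4,1,5,1,4,1,5,1,5,2,11,14], 5, [([], 507, [])], []⟩
def c509 : Clm := ⟨5, 8, true, [1,5,1,4,1,5,1,4,4,1,5,1,5,1,4,4,1,5,1,4,4,7,11,1], [4,1,4,1,4,1,4,1,4,1,4,1,4,1,4,1,5,10,13,7], 11, [([], 181, [4,1,5,1,4,1,4,4,1,4,1,4,1,5,1,4,1,5,1,5,1]), ([356], 180, [5,1,4,1,4,1,4,4,1,4,1,4]), ([317,282,276,264], 203, [1,4,1,5,1,5,1,4,4,1,5,1,4,4,1,4,1,5])], []⟩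
def c510 : Clm := ⟨8, 5, true, [4,1,4,1,4,1,4,1,4,1,4,1,4,1,4,1,5,10,13,7], [1,5,1,4,1,5,1,4,4,1,5,1,5,1,4,4,1,5,1,4,4,7,11,1], 5, [([], 509, [])], []⟩
def c511 : Clm := ⟨5, 8, true, [4,1,4,1,4,1,4,4,1,5,1,4,1,4,1,4,4,1,4,4,1,5,1,9,11,7], [5,1,4,4,1,5,1,5,1,4,1,5,1,4,2,10,7,9], 11, [([], 407, [5,1,4,1,5,1,4,1,5,1,4,1,4,1,5,1,5,1,4,1,5]), ([], 180, [1,4,1,4,1,5,1,4]), ([316,283,264], 203, [1,5,1,4,4,1,5,1,4,1,5,1,5,1,4,1,4,1,5,1,5])], []⟩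
def c512 : Clm := ⟨8, 5, true, [5,1,4,4,1,5,1,5,1,4,1,5,1,4,2,10,7,9], [4,1,4,1,4,1,4,4,1,5,1,4,1,4,1,4,4,1,4,4,1,5,1,9,11,7], 5, [([], 511, [])], []⟩
def c513 : Clm := ⟨8, 8, true, [4,4,1,4,1,4,1,5,1,4,1,5,1,4,1,4,1,4,4,1,4,4,1,2,11,14], [4,4,1,4,4,1,4,1,4,1,5,1,4,4,1,5,1,4,4,8,8,4,14], 9, [([], 180, [4,4,1,4,1,5]), ([265,283,264], 256, [5,1,5,1,4,4,1,4,4,1,5,1,4,1,4,1,4,4,1,5,1]), ([356], 227, [1,5,1,4,1,4,4,1,4,1,4,4,1,4,4,1,5,1,4,4,1,5,1])], []⟩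
def c514 : Clm := ⟨8, 8, true, [4,4,1,4,4,1,4,1,4,1,5,1,4,4,1,5,1,4,4,8,8,4,14], [4,4,1,4,1,4,1,5,1,4,1,5,1,4,1,4,1,4,4,1,4,4,1,2,11,14], 5, [([], 513, [])], []⟩
def c515 : Clm := ⟨8, 8, true, [4,1,5,1,5,1,5,1,4,4,1,4,1,4,1,5,1,4,1,2,1,13,10], [1,5,1,5,1,5,1,4,1,5,1,4,4,1,5,1,4,4,1,5,1,4,2,11,12,5], 9, [([], 180, [5,1,5,1,5,1,4,4]), ([270,264], 155, [5,1,4,4,1,4,4,1,5,1,5,1,4,4,1,5,1,4]), ([276,316,264], 324, [1,4,4,1,4,4,1,5,1,4,1,4,4,1,4,1,5,1,4,1,4,1,4])], []⟩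
def c516 : Clm := ⟨8, 8, true, [1,5,1,5,1,5,1,4,1,5,1,4,4,1,5,1,4,4,1,5,1,4,2,11,12,5], [4,1,5,1,5,1,5,1,4,4,1,4,1,4,1,5,1,4,1,2,1,13,10], 5, [([], 515, [])], []⟩
def c517 : Clm := ⟨8, 8, true, [1,4,4,1,4,1,4,1,5,1,2,4,1,8], [1,4,4,1,4,4,1,4,4,1,5,1,5,1,4,1,5,1,2,11,6,10], 9, [([], 180, [4,1,4,4,1,4,1,4,4]), ([271,316,264], 324, [1,4,1,5,1,5,1,4,4,1,4,1,5,1,4,4,1,5]), ([356], 448, [1,4,1,4,1,5,1,5,1,4,1,4,4,1,4,1,4,1,4,1,5,1,4])], []⟩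
def c518 : Clm := ⟨8, 8, true, [1,4,4,1,4,4,1,4,4,1,5,1,5,1,4,1,5,1,2,11,6,10], [1,4,4,1,4,1,4,1,5,1,2,4,1,8], 5, [([], 517, [])], []⟩
def c519 : Clm := ⟨8, 8, true, [1,5,1,4,1,4,4,1,4,4,1,4,1,4,4,1,5,1,4,2,11,14], [1,5,1,4,4,1,5,1,4,1,4,1,5,1,7,2,13,4], 9, [([], 180, [5,1,4,1,4,1,4,1,4,1,5,1,4]), ([265,316], 273, [1,4,1,4,1,4,1,4,4,1,5,1,5,1,5,1,4,4]), ([356], 442, [4,4,1,4,4,1,5,1,5,1,4,4,1,5,1,5,1,4,4])], []⟩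
def c520 : Clm := ⟨8, 8, true, [1,5,1,4,4,1,5,1,4,1,4,1,5,1,7,2,13,4], [1,5,1,4,1,4,4,1,4,4,1,4,1,4,4,1,5,1,4,2,11,14], 5, [([], 519, [])], []⟩
def c521 : Clm := ⟨8, 8, true, [1,4,4,1,4,4,1,4,4,1,5,1,4,4,1,5,2,4,1,8], [4,1,4,1,5,1,4,4,1,4,1,4,1,4,4,1,5,13,9,2], 9, [([], 180, [1,5,1,5,1,4,1,5]), ([265], 172, [1,4,4,1,4,1,4,4,1,5,1,4,1,4,1,4,1,4,1,4,1,4]), ([271,282,264], 310, [4,1,5,1,4,4,1,4,4,1,4,1,4,4,1,4,1,4,1,4])], []⟩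
def c522 : Clm := ⟨8, 8, true, [4,1,4,1,5,1,4,4,1,4,1,4,1,4,4,1,5,13,9,2], [1,4,4,1,4,4,1,4,4,1,5,1,4,4,1,5,2,4,1,8], 5, [([], 521, [])], []⟩
def c523 : Clm := ⟨5, 8, true, [4,1,4,1,4,4,1,5,1,5,1,4,1,4,4,2,9,4,1,14], [4,1,4,4,1,4,4,1,4,1,4,1,4,1,5,1,5,2,8,11,2], 7, [([], 181, [1]), ([357], 466, [1,4,1,4,4,1,4,1,4,1,4,4,1,4,4,1,4,1,4])], []⟩
def c524 : Clm := ⟨8, 5, true, [4,1,4,4,1,4,4,1,4,1,4,1,4,1,5,1,5,2,8,11,2], [4,1,4,1,4,4,1,5,1,5,1,4,1,4,4,2,9,4,1,14], 5, [([], 523, [])], []⟩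
def c525 : Clm := ⟨8, 8, true, [1,4,1,4,1,5,1,4,1,4,4,1,4,1,5,1,5,1,4,4,1,4,4,3,1,5,1], [1,4,1,4,1,4,1,5,1,4,1,5,1,5,1,4,1,4,4,1,4,4,7,1,7], 7, [([], 319, [1,5,1,4,1,4,4,1,5,1,5,1,5,1,4,1,4,1,4,1,4,4,1]), ([93,90], 181, [4,1,4,1])], []⟩
def c526 : Clm := ⟨8, 8, true, [1,4,1,4,1,4,1,5,1,4,1,5,1,5,1,4,1,4,4,1,4,4,7,1,7], [1,4,1,4,1,5,1,4,1,4,4,1,4,1,5,1,5,1,4,4,1,4,4,3,1,5,1], 5, [([], 525, [])], []⟩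
def c527 : Clm := ⟨5, 8, true, [4,1,4,1,4,4,1,5,1,4,1,5,1,5,1,4,4,1,5,1,6,14,7,10], [1,5,1,5,1,5,1,4,1,5,1,4,1,4,1,5,3,8,13,5], 7, [([], 181, [4,1,4,4]), ([], 381, [1,5,1,4,4,1,4,4,1,5,1,5,1,4,1,4,1,5,1])], []⟩
def c528 : Clm := ⟨8, 5, true, [1,5,1,5,1,5,1,4,1,5,1,4,1,4,1,5,3,8,13,5], [4,1,4,1,4,4,1,5,1,4,1,5,1,5,1,4,4,1,5,1,6,14,7,10], 5, [([], 527, [])], []⟩
def c529 : Clm := ⟨8, 8, true, [1,4,1,4,1,5,1,5,1,5,1,4,4,1,5,1,5,1,4,1,4,1,5,2,1,6,14], [1,4,1,4,1,4,1,5,1,4,1,5,1,5,1,4,1,4,4,1,6,1,7], 7, [([], 182, [4,1,4,4,1,4,1,5,1,4,1,5,1,5,1,4,4,1,4,1,5]), ([92,158,88], 181, [4,1,5,1])], []⟩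
def c530 : Clm := ⟨8, 8, true, [1,4,1,4,1,4,1,5,1,4,1,5,1,5,1,4,1,4,4,1,6,1,7], [1,4,1,4,1,5,1,5,1,5,1,4,4,1,5,1,5,1,4,1,4,1,5,2,1,6,14], 5, [([], 529, [])], []⟩
def c531 : Clm := ⟨8, 8, true, [4,4,1,4,4,1,5,1,5,1,5,1,5,1,4,1,4,1,4,3,4,7,8], [4,4,1,5,1,4,1,4,1,4,1,4,4,1,5,1,5,1,5,1,5,6,1,7], 7, [([], 329, [4,4,1,4,4,1,5,1,4,1,5,1,5,1,5,1,5,1,5,1,4,4]), ([92,88], 181, [5,1,4,1])], []⟩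
def c532 : Clm := ⟨8, 8, true, [4,4,1,5,1,4,1,4,1,4,1,4,4,1,5,1,5,1,5,1,5,6,1,7], [4,4,1,4,4,1,5,1,5,1,5,1,5,1,4,1,4,1,4,3,4,7,8], 5, [([], 531, [])], []⟩
def c533 : Clm := ⟨8, 8, true, [1,4,1,4,1,4,4,1,4,1,4,1,5,1,4,4,1,5,1,9,5,2], [5,1,4,1,4,1,4,1,4,4,1,4,4,1,4,4,1,4,3,9,13,3], 7, [([], 408, [1,4,1,4,1,4,1,4,4,1,4,4,1,4,1,5,1,5,1,4,1]), ([90,92,88], 181, [1,4,4,1,4,4,1])], []⟩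
def c534 : Clm := ⟨8, 8, true, [5,1,4,1,4,1,4,1,4,4,1,4,4,1,4,4,1,4,3,9,13,3], [1,4,1,4,1,4,4,1,4,1,4,1,5,1,4,4,1,5,1,9,5,2], 5, [([], 533, [])], []⟩
def c535 : Clm := ⟨5, 8, true, [5,1,5,1,5,1,4,1,4,1,4,4,1,5,1,4,1,5,10,13,3,14], [5,1,4,1,4,4,1,5,1,4,4,1,5,1,4,4,1,4,1,4,2,5,11,13], 7, [([93,88], 87, [1,5,1,5,1,5,1,4,4,1,4,4,1,4,1,4,4,1,4]), ([93,88], 181, [4,4,1,4,1,5,1])], []⟩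
def c536 : Clm := ⟨8, 5, true, [5,1,4,1,4,4,1,5,1,4,4,1,5,1,4,4,1,4,1,4,2,5,11,13], [5,1,5,1,5,1,4,1,4,1,4,4,1,5,1,4,1,5,10,13,3,14], 5, [([], 535, [])], []⟩
def c537 : Clm := ⟨8, 8, true, [4,1,4,1,4,4,1,5,1,5,1,4,4,1,4,4,1,4,1,5,1,4,6,3,14,12], [1,4,1,5,1,4,4,1,4,4,1,5,2,5,11,13], 7, [([], 467, [1,4,1,4,1,5,1,4,4,1,4,1,4,4,1,5,1]), ([92,92,88], 181, [1,4,4,1,4,1,4,4])], []⟩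
def c538 : Clm := ⟨8, 8, true, [1,4,1,5,1,4,4,1,4,4,1,5,2,5,11,13], [4,1,4,1,4,4,1,5,1,5,1,4,4,1,4,4,1,4,1,5,1,4,6,3,14,12], 5, [([], 537, [])], []⟩
def c539 : Clm := ⟨8, 8, true, [1,4,4,1,4,4,1,5,1,4,4,1,4,1,5,2,1,4,4], [4,1,5,1,5,1,5,1,5,1,4,1,4,1,4,4,1,4,2,4,10], 9, [([], 335, [1,4,1,4,4,1,4,1,5,1,4,1,5,1,5,1,4,1,4,4,1,4,4,1]), ([158,92,90,88], 181, [1,4,1,4,4,1]), ([356], 367, [4,1,5,1,4,4,1,4,1,4,4,1,5,1,4,1])], []⟩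
def c540 : Clm := ⟨8, 8, true, [4,1,5,1,5,1,5,1,5,1,4,1,4,1,4,4,1,4,2,4,10], [1,4,4,1,4,4,1,5,1,4,4,1,4,1,5,2,1,4,4], 5, [([], 539, [])], []⟩
def c541 : Clm := ⟨8, 8, true, [4,1,4,4,1,4,1,4,1,4,4,1,4,1,4,4,1,4,1,5,9,1,4,4], [4,4,1,4,1,4,1,4,1,4,1,5,1,4,1,4,4,7,1,9], 11, [([], 539, [4,1,4,4,1,5,1,4,4,1,4,1,5,1,4,1,4,4]), ([], 434, [1,4,4,1,4,1,4,4,1,5,1,5,1,5,1,4,1]), ([158,92,90,88], 181, [4,4,1,4,1,5,1,4,1,4])], []⟩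
def c542 : Clm := ⟨8, 8, true, [4,4,1,4,1,4,1,4,1,4,1,5,1,4,1,4,4,7,1,9], [4,1,4,4,1,4,1,4,1,4,4,1,4,1,4,4,1,4,1,5,9,1,4,4], 5, [([], 541, [])], []⟩
def c543 : Clm := ⟨8, 8, true, [5,1,5,1,5,1,4,1,4,1,5,1,4,1,5,1,6,11,2,7], [4,1,4,4,1,4,4,1,4,4,1,4,1,5,1,5,1,4,4,1,4,1,2,10,5,8,12], 11, [([], 501, [1,5,1,4,1,4,4,1,5,1,5,1,5,1,5,1]), ([], 319, [4,1,4,1,4,1,4,4,1,4,1,5,1,4,1,4]), ([158,93], 181, [5,1,5,1,5,1,4,1,4,1])], []⟩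
def c544 : Clm := ⟨8, 8, true, [4,1,4,4,1,4,4,1,4,4,1,4,1,5,1,5,1,4,4,1,4,1,2,10,5,8,12], [5,1,5,1,5,1,4,1,4,1,5,1,4,1,5,1,6,11,2,7], 5, [([], 543, [])], []⟩
def c545 : Clm := ⟨8, 8, true, [4,1,5,1,5,1,4,1,4,4,1,4,1,4,4,3,1,12], [1,5,1,4,1,5,1,5,1,4,4,1,5,1,5,1,4,1,4,2,1,10,13], 9, [([], 288, [4,1,4,4,1,4,1,4,1,5,1,5,1,5,1,4,4,1,4]), ([92,158,90], 181, [1,4,4,1,5,1,4,1,4,1]), ([357], 471, [1,4,1,4,1,4,4,1,4,1,4,1,5,1,5,1,4,4,1,5,1,5])], []⟩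
def c546 : Clm := ⟨8, 8, true, [1,5,1,4,1,5,1,5,1,4,4,1,5,1,5,1,4,1,4,2,1,10,13], [4,1,5,1,5,1,4,1,4,4,1,4,1,4,4,3,1,12], 5, [([], 545, [])], []⟩
def c547 : Clm := ⟨8, 8, true, [5,1,4,4,1,5,1,4,1,5,1,5,7,8,8,11], [4,4,1,5,1,4,1,4,4,1,4,1,5,1,4,1,5,1,2,1,13,9], 11, [([], 414, [4,4,1,5,1,5,1,5,1]), ([356], 319, [1,4,1,5,1,5,1,4,1,4,1,5,1,5,1,4,1,5,1,5,1,4]), ([92,92,90,88], 181, [1,4,1,4,4,1,5,1,5,1,5,1,5,1,4])], []⟩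
def c548 : Clm := ⟨8, 8, true, [1,4,4,1,4,4,1,4,1,5,1,4,1,4,1,5,1,4,2,7,5,9], [4,4,1,4,4,1,5,1,5,1,4,1,5,1,4,2,8,3,11], 11, [([], 272, [1,4,1,4,1,5,1,4,1,5,1,5,1,4,4,1,5,1]), ([283,270], 162, [4,4,1,4,1,5,1,4,4,1,5,1,5,1,4,1,4,1,4,1]), ([92,158], 181, [1,4,1,4,4,1,4,1,4,1,4])], []⟩
def c549 : Clm := ⟨8, 8, true, [1,5,1,5,1,4,4,1,4,1,4,1,4,1,4,1,5,1,5,13,1,4,4], [4,1,5,1,5,1,5,1,5,1,5,1,4,1,4,8,3,4,10], 11, [([], 274, [1,5,1,4,4,1,5,1,4,1,4,1,4,1,4,4,1,4,1,4,4]), ([90,92], 104, [5,1,4,4,1,4,1,5,1,4,1,5,1,4,1,4,1,4,1,4]), ([92,90,88], 181, [5,1,4,1,4,1,4,1,4,1,4,1])], []⟩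
def c550 : Clm := ⟨8, 8, true, [4,1,5,1,5,1,5,1,5,1,5,1,4,1,4,8,3,4,10], [1,5,1,5,1,4,4,1,4,1,4,1,4,1,4,1,5,1,5,13,1,4,4], 5, [([], 549, [])], []⟩
def c551 : Clm := ⟨8, 8, true, [4,1,4,4,1,5,1,5,1,4,1,4,4,1,4,4,1,4,4,1,5,3,6,10,1], [1,4,1,4,4,1,5,1,4,1,4,1,4,4,1,4,1,5,1,4,4,1,3,7,9,14], 9, [([], 527, [1,4,1,4,4,1,4,1,4,1,5,1,4,1,4,4,1,5,1,4,4]), ([92,92,158], 181, [1,5,1,4,4,1,4]), ([356], 239, [1,4,4,1,5,1,4,1,4,1,5,1,5,1,4,4,1,4,4,1,5])], []⟩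
def c552 : Clm := ⟨8, 8, true, [1,4,1,4,4,1,5,1,4,1,4,1,4,4,1,4,1,5,1,4,4,1,3,7,9,14], [4,1,4,4,1,5,1,5,1,4,1,4,4,1,4,4,1,4,4,1,5,3,6,10,1], 5, [([], 551, [])], []⟩
def c553 : Clm := ⟨8, 8, true, [1,4,1,4,1,4,4,1,4,1,4,1,4,4,1,5,1,4,1,2,8,10,7], [4,1,5,1,4,1,5,1,5,1,4,1,4,1,4,4,3,4,14,9], 11, [([], 431, [1,4,1,4,4,1,4,4,1,4,4,1,4,1,4,4,1,4]), ([357], 354, [4,1,4,1,4,4,1,5,1,4,4,1,5,1,4,1,5]), ([92,90], 181, [1,4,4,1,5,1,5,1,4])], []⟩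
def c554 : Clm := ⟨8, 8, true, [5,1,4,1,4,4,1,4,1,5,1,4,4,1,5,1,4,1,4,4,1,4,6,8,10,13], [4,4,1,4,4,1,4,4,1,5,1,5,1,5,1,4,4,1,4,2,4,4,2], 11, [([], 332, [1,4,1,4,1,4,4,1,4,1,4,1,4,1,4,1,5,1,5,1,4,4,1]), ([356], 290, [5,1,4,4,1,4,4,1,4,4,1,5,1,5,1,5,1,4,1,5]), ([90,92], 181, [5,1,4,1,4,1])], []⟩
def c555 : Clm := ⟨8, 8, true, [4,4,1,4,4,1,4,4,1,5,1,5,1,5,1,4,4,1,4,2,4,4,2], [5,1,4,1,4,4,1,4,1,5,1,4,4,1,5,1,4,1,4,4,1,4,6,8,10,13], 5, [([], 554, [])], []⟩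
def c556 : Clm := ⟨8, 8, true, [4,1,5,1,4,1,4,1,5,1,5,1,5,1,5,1,4,4,8,1,3], [1,4,1,4,1,5,1,5,1,4,1,4,1,5,1,5,1,4,1,4,1,4,4,2,6,3,11], 11, [([], 349, [1,4,4,1,4,1,4,1,4,1,4,4,1,4,4,1,5,1,4,1,4,4]), ([], 511, [1,4,4,1,4,1,4,1,4,4,1,5,1,4,1,4,1,4,1,4,1,4,1,4]), ([158,92,90], 181, [5,1,4,1,4,4,1,5,1])], []⟩
def c557 : Clm := ⟨8, 8, true, [1,4,1,4,1,5,1,5,1,4,1,4,1,5,1,5,1,4,1,4,1,4,4,2,6,3,11], [4,1,5,1,4,1,4,1,5,1,5,1,5,1,5,1,4,4,8,1,3], 5, [([], 556, [])], []⟩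
def c558 : Clm := ⟨8, 8, true, [4,1,5,1,5,1,4,1,4,1,4,1,4,1,4,1,4,1,5,6,9,13], [4,1,5,1,5,1,4,1,4,1,4,1,4,4,1,4,4,1,4,8,7,14,9], 9, [([], 506, [4,1,4,4,1,4,1,4,1,4,4,1,5,1,4,4,1]), ([92,88], 181, [1,4,4,1,5,1,4,1,4,1,4]), ([], 447, [1,5,1,5,1,4,1,5,1,4,4,1,5,1,4,1])], []⟩
def c559 : Clm := ⟨8, 8, true, [4,1,5,1,5,1,4,1,4,1,4,1,4,4,1,4,4,1,4,8,7,14,9], [4,1,5,1,5,1,4,1,4,1,4,1,4,1,4,1,4,1,5,6,9,13], 5, [([], 558, [])], []⟩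
def c560 : Clm := ⟨8, 8, true, [1,4,1,5,1,4,4,1,5,1,5,1,4,1,5,1,4,4,1,5,1,4,1,5,2,6,11,12,6], [4,4,1,4,1,4,4,1,4,1,5,1,4,1,5,6,9], 11, [([], 222, [1,5,1,4,1,4,1,5,1,5,1,4,4,1,5,1,4,4,1,5]), ([356], 215, [4,4,1,5,1,5,1,5,1,5,1,4,1,4,4,1,4]), ([93,88], 181, [1,4,1,4,1,4,1,4,4,1,4,1,4,4,1])], []⟩
def c561 : Clm := ⟨8, 8, true, [4,4,1,4,1,4,4,1,4,1,5,1,4,1,5,6,9], [1,4,1,5,1,4,4,1,5,1,5,1,4,1,5,1,4,4,1,5,1,4,1,5,2,6,11,12,6], 5, [([], 560, [])], []⟩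
def c562 : Clm := ⟨8, 8, true, [4,4,1,4,4,1,4,1,5,1,4,1,4,4,1,5,1,5,3,5,7,2], [1,4,1,5,1,4,4,1,4,4,1,5,1,5,1,4,4,1,5,1,5,3,6,5,10], 11, [([], 522, [4,1,4,4,1,4,1,5,1,5,1,4,4,1,4,4,1,4,4,1]), ([357], 345, [1,4,1,5,1,4,1,4,1,5,1,4,4,1,4,4,1,5,1,4,4]), ([158,92,90,88], 181, [4,1,4,1,4,1,4,1,4,1,4,1,4,1])], []⟩
def c563 : Clm := ⟨8, 8, true, [1,4,1,5,1,4,4,1,4,4,1,5,1,5,1,4,4,1,5,1,5,3,6,5,10], [4,4,1,4,4,1,4,1,5,1,4,1,4,4,1,5,1,5,3,5,7,2], 5, [([], 562, [])], []⟩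
def c564 : Clm := ⟨8, 8, true, [5,1,5,1,5,1,5,1,4,1,4,4,1,5,1,5,1,4,2,1,11,11,2], [5,1,5,1,5,1,4,4,1,4,4,1,5,1,5,1,5,1,4,4,7,9,3,7], 9, [([], 354, [1,4,1,5,1,4,4,1,5,1,5,1,5,1,4,1,4,1,5,1,5,1,5]), ([90,88], 181, [4,1,4,4,1,5,1,4,1,4,1,4,1,4]), ([], 559, [1,4,1,5,1,4,4,1,4,1,4,4,1,4,1,4,4,1,4,1,4])], []⟩
def c565 : Clm := ⟨8, 8, true, [5,1,5,1,5,1,4,4,1,4,4,1,5,1,5,1,5,1,4,4,7,9,3,7], [5,1,5,1,5,1,5,1,4,1,4,4,1,5,1,5,1,4,2,1,11,11,2], 5, [([], 564, [])], []⟩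
def c566 : Clm := ⟨8, 8, true, [1,5,1,4,1,4,1,5,1,5,1,4,1,5,1,4,1,5,1,5,7,13,4], [4,4,1,4,4,1,5,1,4,1,4,1,4,1,4,4,1,4,1,4,1,5,6,1,9], 11, [([], 262, [1,4,1,4,1,4,1,4,1,4,1,4,1,5,1,5,1,4,1,5]), ([357], 288, [1,4,4,1,4,1,4,1,4,1,4,1,4,1,4,1,4,4,1,5,1,4,4]), ([93,158,88], 181, [1,5,1,5,1,4,1,4,4,1,4,1,4,1,4])], []⟩
def c567 : Clm := ⟨8, 8, true, [5,1,4,1,4,4,1,4,1,4,1,5,1,4,1,4,4,1,4,1,5,2,7,5,8], [1,5,1,4,4,1,5,1,5,1,4,4,1,5,1,5,1,5,1,4,1,5,10,10,2,6], 9, [([], 339, [1,5,1,4,1,4,4,1,5,1,4,4,1,4,1,5,1,5]), ([93,158,88], 181, [4,1,4,1,4,4,1,4,4,1,4,4,1,4]), ([356], 472, [4,4,1,4,4,1,5,1,5,1,5,1,4,1,4,4,1,4,1])], []⟩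
def c568 : Clm := ⟨8, 8, true, [1,5,1,4,4,1,5,1,5,1,4,4,1,5,1,5,1,5,1,4,1,5,10,10,2,6], [5,1,4,1,4,4,1,4,1,4,1,5,1,4,1,4,4,1,4,1,5,2,7,5,8], 5, [([], 567, [])], []⟩
def c569 : Clm := ⟨8, 8, true, [1,4,1,4,1,4,1,4,1,4,4,1,5,1,4,4,1,5,1,4,3,8,2,6], [5,1,5,1,5,3,4,14,9], 11, [([], 564, [1,4,1,5,1,4,1,4,4,1,5,1,4,1,5,1,4,4]), ([], 303, [4,4,1,5,1,4,1,5,1,4,1,4,1,4]), ([88,93], 181, [1,5,1,5,1,4,1,4,4,1,4,1,4,1])], []⟩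
def c570 : Clm := ⟨8, 8, true, [5,1,5,1,5,3,4,14,9], [1,4,1,4,1,4,1,4,1,4,4,1,5,1,4,4,1,5,1,4,3,8,2,6], 5, [([], 569, [])], []⟩
def c571 : Clm := ⟨8, 8, true, [5,1,4,1,4,4,1,4,1,5,1,4,4,1,4,4,1,8,8,7,4], [4,4,1,5,1,5,1,4,1,5,1,4,1,5,1,4,1,5,6,14,9,11], 9, [([], 335, [4,4,1,5,1,4,1,4,4,1,4,4,1,4,1,4,4]), ([93,90], 181, [1,4,1,4,4,1,5,1,4,1,4,1,4,1]), ([], 358, [1,4,1,4,1,5,1,4,1,5,1,4,4,1,4,1,5])], []⟩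
def c572 : Clm := ⟨8, 8, true, [1,5,1,5,1,4,4,1,4,4,1,4,4,1,4,1,4,4,1,5,3,11,1], [1,5,1,5,1,5,1,4,1,5,1,4,4,1,5,1,4,1,4,4,1,2,5,8,4], 9, [([], 280, [1,4,1,4,1,4,4,1,4,4,1,5,1,4,4,1,4,1,4,4,1]), ([93,158,90,88], 181, [1,4,1,4,1,5,1,5,1,4]), ([356], 357, [1,5,1,4,1,4,1,4,1,4,1,4,4,1,4,1,4,1])], []⟩
def c573 : Clm := ⟨8, 8, true, [1,5,1,5,1,5,1,4,1,5,1,4,4,1,5,1,4,1,4,4,1,2,5,8,4], [1,5,1,5,1,4,4,1,4,4,1,4,4,1,4,1,4,4,1,5,3,11,1], 5, [([], 572, [])], []⟩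
def c574 : Clm := ⟨8, 8, true, [1,4,1,4,1,4,4,1,5,1,4,4,1,4,1,5,1,4,1,4,1,4,7,10,10,13], [5,1,5,1,4,4,1,5,1,5,1,4,1,4,1,4,4,1,5,2,8,3,11], 11, [([], 327, [4,1,5,1,4,4,1,4,1,4,1,5,1,4,4,1,5,1,5]), ([356], 274, [4,1,5,1,5,1,4,1,4,1,5,1,5,1,4,1,4,4,1,4]), ([92,158], 181, [1,4,4,1,4,1,4])], []⟩
def c575 : Clm := ⟨8, 8, true, [5,1,5,1,4,4,1,5,1,5,1,4,1,4,1,4,4,1,5,2,8,3,11], [1,4,1,4,1,4,4,1,5,1,4,4,1,4,1,5,1,4,1,4,1,4,7,10,10,13], 5, [([], 574, [])], []⟩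
def c576 : Clm := ⟨8, 8, true, [4,4,1,5,1,5,1,4,1,5,1,4,1,5,1,4,3,9,6], [1,4,1,4,4,1,4,1,4,1,5,1,4,1,4,4,1,5,1,5,7,11], 11, [([], 527, [4,4,1,5,1,4,1,4,1,4,4,1,4,1,5,1,4]), ([88,92], 66, [1,4,1,5,1,5,1,5,1,4,4,1,4,4,1,4,1,4,4,1,4,1]), ([92,92], 181, [1,4,4,1,4,1,4,4,1,4,1,5,1,5,1,4])], []⟩
def c577 : Clm := ⟨8, 8, true, [1,4,1,4,4,1,4,1,4,1,5,1,4,1,4,4,1,5,1,5,7,11], [4,4,1,5,1,5,1,4,1,5,1,4,1,5,1,4,3,9,6], 5, [([], 576, [])], []⟩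
def c578 : Clm := ⟨8, 8, true, [1,4,1,4,1,4,4,1,4,1,5,1,5,1,4,1,5,1,4,4,1,4,8,13,6,1], [1,4,1,5,1,4,1,4,1,4,1,4,1,4,4,1,5,1,4,1,4,1,4,2,12,11,12], 11, [([], 406, [4,1,4,1,4,1,4,1,4,4,1,5,1,4,1,4,1,4,1,4,1,5]), ([356], 284, [4,4,1,4,1,5,1,4,1,4,4,1,4,1,4]), ([88,92,88], 181, [4,1,5,1,4,4,1,4,4,1,5,1])], []⟩
def c579 : Clm := ⟨8, 8, true, [1,4,1,5,1,4,1,4,1,4,1,4,1,4,4,1,5,1,4,1,4,1,4,2,12,11,12], [1,4,1,4,1,4,4,1,4,1,5,1,5,1,4,1,5,1,4,4,1,4,8,13,6,1], 5, [([], 578, [])], []⟩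
def c580 : Clm := ⟨8, 8, true, [1,5,1,4,4,1,4,1,4,1,5,1,4,1,4,4,1,4,1,6,3,14], [4,4,1,5,1,4,4,1,4,4,1,5,1,5,1,5,1,5,1,4,4,7,1,11,12], 9, [([], 506, [4,1,5,1,5,1,5,1,5,1,4,1,4,1,5,1,5,1,4]), ([88,93], 181, [4,4,1,5,1,5,1]), ([], 521, [1,5,1,4,1,5,1,5,1,4,1,4,1,4,1,4,4,1])], []⟩
def c581 : Clm := ⟨8, 8, true, [4,4,1,5,1,4,4,1,4,4,1,5,1,5,1,5,1,5,1,4,4,7,1,11,12], [1,5,1,4,4,1,4,1,4,1,5,1,4,1,4,4,1,4,1,6,3,14], 5, [([], 580, [])], []⟩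
def c582 : Clm := ⟨8, 8, true, [5,1,4,1,5,1,4,1,4,4,1,5,1,4,4,1,5,1,4,3,7,14,2], [1,4,1,4,1,4,1,4,1,5,1,4,4,1,4,1,4,4,1,4,4,2,1,14,11], 11, [([], 576, [4,1,5,1,4,1,4,1,4,1,4,1,4,1,4,1,4,1,5]), ([], 343, [4,4,1,5,1,4,4,1,4,1,5,1,5,1,4,4,1,5,1,4,1]), ([158], 181, [1,4,1,5,1,5,1,4,1,4,1,4])], []⟩
def c583 : Clm := ⟨8, 8, true, [1,4,1,4,1,4,1,4,1,5,1,4,4,1,4,1,4,4,1,4,4,2,1,14,11], [5,1,4,1,5,1,4,1,4,4,1,5,1,4,4,1,5,1,4,3,7,14,2], 5, [([], 582, [])], []⟩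
def c584 : Clm := ⟨5, 8, true, [5,1,5,1,4,1,5,1,5,1,4,1,5,1,5,1,4,3,8,2], [4,4,1,4,4,1,5,1,5,1,5,1,5,1,4,1,4,1,4,1,8,1,8,8], 11, [([], 181, [4,1,5,1,5,1]), ([356], 455, [4,4,1,4,1,4,1,4,4,1,5,1,4,1,4,4,1]), ([], 213, [5,1,5,1,4,1,4,1,5,1,4,1,4,1])], []⟩
def c585 : Clm := ⟨8, 5, true, [4,4,1,4,4,1,5,1,5,1,5,1,5,1,4,1,4,1,4,1,8,1,8,8], [5,1,5,1,4,1,5,1,5,1,4,1,5,1,5,1,4,3,8,2], 5, [([], 584, [])], []⟩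
def c586 : Clm := ⟨8, 8, true, [4,4,1,4,1,5,1,5,1,4,1,5,1,4,4,1,4,4,1,4,4,1,10,14,1,9], [4,1,4,1,4,1,5,1,4,1,5,1,4,1,4,1,4,4,1,4,4,2,8,4,4], 9, [([], 248, [4,4,1,5,1,4,1,4,4,1,4,1,4,1,5,1,4,1,5,1,5,1]), ([92,92,158], 181, [5,1,5,1,5,1,5,1,4]), ([356], 501, [1,4,1,5,1,4,1,5,1,4,1,5,1,4,1,5])], []⟩
def c587 : Clm := ⟨8, 8, true, [4,1,4,1,4,1,5,1,4,1,5,1,4,1,4,1,4,4,1,4,4,2,8,4,4], [4,4,1,4,1,5,1,5,1,4,1,5,1,4,4,1,4,4,1,4,4,1,10,14,1,9], 5, [([], 586, [])], []⟩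
def c588 : Clm := ⟨8, 8, true, [5,1,4,4,1,5,1,4,1,4,1,4,1,4,4,1,4,1,4,1,7,10,1,8], [4,4,1,4,4,1,4,1,5,1,5,1,4,1,4,4,6,1,9], 11, [([], 530, [4,1,5,1,4,4,1,5,1]), ([357], 511, [5,1,4,1,5,1,4,1,4,1,5,1,5,1,5,1,5,1,4]), ([158,92], 181, [4,1,4,4,1,4,1,4,1,4,1,4,1,4])], []⟩
def c589 : Clm := ⟨8, 8, true, [4,1,4,1,5,1,5,1,4,1,4,4,1,5,1,5,1,4,1,4,4,1,3,12,6,10], [5,1,4,1,5,1,5,1,5,1,4,4,1,5,1,4,1,4,2,1,14,11], 11, [([], 221, [5,1,5,1,4,4,1,5,1,4,1,5,1,5]), ([270], 143, [4,1,4,1,4,1,4,4,1,4,4,1,4,1,5,1,5,1,4,4]), ([158,92,90], 181, [4,1,4,1,4,4,1,4,4,1,4,1,4,1,4])], []⟩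
def c590 : Clm := ⟨8, 8, true, [5,1,4,1,5,1,5,1,5,1,4,4,1,5,1,4,1,4,2,1,14,11], [4,1,4,1,5,1,5,1,4,1,4,4,1,5,1,5,1,4,1,4,4,1,3,12,6,10], 5, [([], 589, [])], []⟩
def c591 : Clm := ⟨8, 8, true, [1,4,1,4,4,1,5,1,4,1,4,4,1,4,1,5,8,11,4,2], [5,1,4,4,1,4,1,5,1,5,1,4,4,1,4,1,4,4,1,4,1,3,6,8,12], 11, [([], 364, [4,1,4,1,5,1,4,1,4,1,4,4,1,4,4,1,4,1,4,4,1,5,1,4]), ([356], 376, [1,5,1,4,1,4,1,4,1,5,1,4,4,1,4,1,4,1]), ([88], 181, [1,4,1,5,1,5,1,4,4,1])], []⟩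
def c592 : Clm := ⟨8, 8, true, [5,1,4,4,1,4,1,5,1,5,1,4,4,1,4,1,4,4,1,4,1,3,6,8,12], [1,4,1,4,4,1,5,1,4,1,4,4,1,4,1,5,8,11,4,2], 5, [([], 591, [])], []⟩
def c593 : Clm := ⟨8, 8, true, [5,1,4,1,4,1,4,4,1,5,1,4,4,1,4,4,1,4,1,6,3,5,9], [4,1,4,4,1,4,1,4,1,4,1,4,1,5,1,4,4,1,5,1,4,2,6,9,7], 11, [([], 362, [4,1,5,1,5,1,4,1,4,4,1,4,1,4,1,5,1,4,1]), ([357], 215, [4,1,5,1,5,1,4,4,1,5,1,4,4,1,4,4,1,4]), ([92,92], 181, [1,4,4,1,4,4,1,4,4,1,4,1,4,4,1])], []⟩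
def c594 : Clm := ⟨8, 8, true, [4,1,4,4,1,4,1,4,1,4,1,4,1,5,1,4,4,1,5,1,4,2,6,9,7], [5,1,4,1,4,1,4,4,1,5,1,4,4,1,4,4,1,4,1,6,3,5,9], 5, [([], 593, [])], []⟩
def c595 : Clm := ⟨8, 8, true, [1,5,1,4,1,5,1,4,1,4,1,4,4,1,5,1,4,2,6,13,11], [5,1,4,1,5,1,4,4,1,4,4,1,4,4,1,5,1,4,1,2,6,9,7], 11, [([], 182, [1,4,1,5,1,4,1,4,1,4,1,4,4,1,4,4,1,4,1,5,1,4]), ([158,93], 96, [4,1,4,4,1,4,1,4,1,5,1,5,1,5,1,5]), ([90,93], 181, [1,5,1,4,1,4,1,4,1,4])], []⟩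
def c596 : Clm := ⟨8, 8, true, [1,4,4,1,4,1,4,1,4,4,1,5,1,4,1,5,1,4,4,3,1,11], [4,1,4,4,1,5,1,4,1,4,1,4,1,4,1,5,1,4,4,3,7,5,13], 11, [([], 436, [1,4,1,5,1,5,1,4,4,1,5,1,4,1,4,1,5,1,5]), ([357], 319, [1,5,1,5,1,4,1,4,1,4,4,1,5,1,4,1,4,1,4,4,1,4]), ([158,92,92,88], 181, [4,4,1,4,1,5,1,4,1])], []⟩
def c597 : Clm := ⟨8, 8, true, [4,1,4,4,1,5,1,4,1,4,1,4,1,4,1,5,1,4,4,3,7,5,13], [1,4,4,1,4,1,4,1,4,4,1,5,1,4,1,5,1,4,4,3,1,11], 5, [([], 596, [])], []⟩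
def c598 : Clm := ⟨8, 8, true, [1,5,1,5,1,4,4,1,4,1,4,1,4,1,5,1,7,3,9], [4,1,5,1,4,1,4,4,1,5,1,5,1,4,1,4,1,4,4,1,2,6,3,9], 11, [([], 277, [4,1,5,1,4,1,5,1,4,1,4,4,1,5,1,4,4]), ([], 321, [4,1,4,1,5,1,5,1,4,1,4,1,5,1,5,1]), ([93,158,90], 181, [1,5,1,4,1,5,1,4,1,4,4,1,5,1])], []⟩
def c599 : Clm := ⟨8, 8, true, [4,1,5,1,4,1,4,4,1,5,1,5,1,4,1,4,1,4,4,1,2,6,3,9], [1,5,1,5,1,4,4,1,4,1,4,1,4,1,5,1,7,3,9], 5, [([], 598, [])], []⟩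
def c600 : Clm := ⟨8, 8, true, [5,1,4,1,4,1,4,4,1,4,1,4,4,1,4,4,1,4,4,1,5,2,6,4,14], [1,4,1,5,1,4,4,1,4,4,1,5,1,5,1,4,4,1,4,1,3,6,8,12], 11, [([], 561, [1,4,4,1,4,4,1,5,1,4,1,4,4,1,4,4,1,4,1,4,1,4,4]), ([357], 319, [5,1,4,4,1,5,1,4,1,4,1,5,1,4,1,5,1,4,4,1,4]), ([93,158,90], 181, [4,4,1,4,1,4,4,1,4,1,4,1,4])], []⟩
def c601 : Clm := ⟨8, 8, true, [1,4,1,5,1,4,4,1,4,4,1,5,1,5,1,4,4,1,4,1,3,6,8,12], [5,1,4,1,4,1,4,4,1,4,1,4,4,1,4,4,1,4,4,1,5,2,6,4,14], 5, [([], 600, [])], []⟩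
def c602 : Clm := ⟨8, 8, true, [5,1,4,4,1,5,1,4,4,1,5,1,4,4,1,4,1,4,1,13,9,3], [5,1,4,1,4,4,1,4,1,5,1,5,1,4,1,5,1,8,12,9,6], 9, [([], 321, [4,1,4,4,1,4,4,1,4,1,5,1,4,4,1,4,1,4,1]), ([93,90], 181, [4,1,4,4,1,4,4,1]), ([356], 592, [4,1,4,1,4,4,1,5,1,5,1,4,4,1,5,1,5,1,5,1,4,1,4])], []⟩
def c603 : Clm := ⟨8, 8, true, [4,4,1,4,1,5,1,5,1,4,4,1,4,4,1,5,1,5,2,6,13,11], [4,4,1,5,1,4,1,5,1,5,1,4,4,1,4,1,4,4,1,4,2,1,14,11], 11, [([], 182, [1,4,1,4,1,4,4,1,4,1,4,1,4,1,5,1,5,1,4]), ([92,92], 110, [4,4,1,5,1,4,1,4,4,1,4,4,1]), ([92,92,88], 181, [1,4,1,4,4,1,4,4,1,4,4,1,5,1])], []⟩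
def c604 : Clm := ⟨8, 8, true, [4,4,1,5,1,4,1,5,1,5,1,4,4,1,4,1,4,4,1,4,2,1,14,11], [4,4,1,4,1,5,1,5,1,4,4,1,4,4,1,5,1,5,2,6,13,11], 5, [([], 603, [])], []⟩
def c605 : Clm := ⟨8, 8, true, [1,5,1,4,1,5,1,4,1,5,1,4,1,4,4,1,5,1,4,4,1,3,13,8,8], [1,5,1,4,4,1,4,4,1,4,4,1,5,1,4,1,4,4,1,4,1,8,6,2], 9, [([], 343, [1,4,1,4,4,1,4,1,4,1,4,1,4,1,4,1,5,1,4,1,4,4]), ([92,90], 181, [4,4,1,5,1,4]), ([356], 399, [4,4,1,5,1,4,1,4,1,5,1,5,1,4,1,4,1,4,1,5])], []⟩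
def c606 : Clm := ⟨8, 8, true, [1,5,1,4,4,1,4,4,1,4,4,1,5,1,4,1,4,4,1,4,1,8,6,2], [1,5,1,4,1,5,1,4,1,5,1,4,1,4,4,1,5,1,4,4,1,3,13,8,8], 5, [([], 605, [])], []⟩
def c607 : Clm := ⟨5, 8, true, [1,5,1,4,4,1,4,1,4,4,1,4,1,4,4,1,4,1,4,4,1,5,2,1,13,9], [4,1,4,4,1,4,4,1,5,1,4,4,1,4,4,1,5,1,5,1,4,1,8,11,11], 11, [([92,88], 48, [5,1,5,1,4,4,1,4,1,4,1,5,1,5,1,4,1,4,4,1]), ([158,92], 105, [1,4,4,1,4,4,1,5,1,4,1,4,1,5,1,5]), ([92,90,88], 181, [4,4,1,4,1,4,4,1,4,1,4,1])], []⟩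
def c608 : Clm := ⟨8, 5, true, [4,1,4,4,1,4,4,1,5,1,4,4,1,4,4,1,5,1,5,1,4,1,8,11,11], [1,5,1,4,4,1,4,1,4,4,1,4,1,4,4,1,4,1,4,4,1,5,2,1,13,9], 5, [([], 607, [])], []⟩
def c609 : Clm := ⟨8, 8, true, [1,4,1,5,1,4,1,4,1,4,1,2,4,1,10], [5,1,5,1,4,4,1,4,4,1,5,1,5,3,8,3,14], 11, [([], 321, [4,4,1,5,1,4,1,5,1,4,1,4,1,5,1,5,1,5,1,4]), ([93,158,88], 104, [4,4,1,4,1,4,1,4,1,4,1,4,4,1,4,4,1,5]), ([158,88], 181, [1,4,1,5,1,5,1,5,1,5,1,4,4,1])], []⟩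
def c610 : Clm := ⟨8, 8, true, [5,1,5,1,4,4,1,4,4,1,5,1,5,3,8,3,14], [1,4,1,5,1,4,1,4,1,4,1,2,4,1,10], 5, [([], 609, [])], []⟩
def c611 : Clm := ⟨8, 8, true, [4,4,1,4,4,1,4,1,4,4,1,4,1,4,1,5,1,5,1,4,3,13,11,8], [1,4,1,5,1,5,1,4,4,1,5,1,5,1,5,1,4,1,4,4,2,1,5,13,1], 11, [([], 605, [5,1,4,4,1,4,4,1,5,1,4,4,1,5,1,5]), ([], 527, [5,1,5,1,4,1,4,4,1,5]), ([93,158,88], 181, [5,1,4,4,1,4,1,5,1,4,1])], []⟩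
def c612 : Clm := ⟨8, 8, true, [1,4,1,5,1,5,1,4,4,1,5,1,5,1,5,1,4,1,4,4,2,1,5,13,1], [4,4,1,4,4,1,4,1,4,4,1,4,1,4,1,5,1,5,1,4,3,13,11,8], 5, [([], 611, [])], []⟩
def c613 : Clm := ⟨8, 8, true, [1,4,1,4,4,1,4,4,1,4,1,4,1,5,1,5,1,4,1,5,1,5,1,5,2,6,13,2], [1,4,1,4,1,5,1,4,1,5,1,4,4,1,5,1,5,1,4,1,5,1,5,6,1,4,8], 9, [([356], 568, [4,1,4,1,4,1,4,1,4,1,4,1,5,1,5]), ([357], 494, [1,5,1,4,4,1,4,4,1,5,1,4,1,4,4,1,4,1,4,1,5]), ([92,92,88], 181, [5,1,4,1,4,1,4,4,1])], []⟩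
def c614 : Clm := ⟨8, 8, true, [1,4,1,4,1,5,1,4,1,5,1,4,4,1,5,1,5,1,4,1,5,1,5,6,1,4,8], [1,4,1,4,4,1,4,4,1,4,1,4,1,5,1,5,1,4,1,5,1,5,1,5,2,6,13,2], 5, [([], 613, [])], []⟩
def c615 : Clm := ⟨7, 8, true, [5,1,4,1,5,1,4,1,5,1,4,1,4,4,1,5,1,5,1,5,6,2,11,14], [4,1,5,1,5,1,5,1,5,1,4,1,5,1,4,1,4,4,1,3,11,14], 11, [([], 162, [1,4,1,4,1,4,1,4,4,1,5,1,4,4,1,4,1,5]), ([158,92], 181, [1,4,1,5,1,5,1,4,1]), ([357], 586, [1,4,1,4,1,4,1,5,1,4,4,1,5,1])], []⟩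
def c616 : Clm := ⟨8, 7, true, [4,1,5,1,5,1,5,1,5,1,4,1,5,1,4,1,4,4,1,3,11,14], [5,1,4,1,5,1,4,1,5,1,4,1,4,4,1,5,1,5,1,5,6,2,11,14], 5, [([], 615, [])], []⟩
def c617 : Clm := ⟨8, 8, true, [4,1,4,4,1,4,4,1,5,1,4,1,4,8,3,12,11], [4,1,4,1,4,1,4,4,1,4,4,1,4,4,1,4,1,4,1,4,4,1,7,11,6,10], 11, [([], 329, [4,1,5,1,4,4,1,5,1,4,1,5,1,5,1,4,4]), ([92,90], 181, [4,4,1,4,1,5,1,5,1,4,1,5]), ([357], 277, [1,5,1,5,1,4,1,5,1,4,4,1,5,1,4,1,4,4,1,4,1])], []⟩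
def c618 : Clm := ⟨8, 8, true, [4,1,4,1,4,1,4,4,1,4,4,1,4,4,1,4,1,4,1,4,4,1,7,11,6,10], [4,1,4,4,1,4,4,1,5,1,4,1,4,8,3,12,11], 5, [([], 617, [])], []⟩
def c619 : Clm := ⟨8, 8, true, [1,5,1,4,4,1,4,1,5,1,5,1,4,1,4,1,4,7,9,6,9], [4,4,1,5,1,4,1,4,1,4,1,4,4,1,5,1,5,1,5,1,5,6,5,8], 9, [([], 359, [4,1,4,1,4,1,4,1,5,1,5,1,4,4]), ([72], 100, [1,4,1,4,1,4,1,5,1,4,4,1,4,1,4,4,1,5,1,4,1]), ([93,88], 181, [5,1])], []⟩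
def c620 : Clm := ⟨8, 8, true, [4,4,1,5,1,4,1,4,1,4,1,4,4,1,5,1,5,1,5,1,5,6,5,8], [1,5,1,4,4,1,4,1,5,1,5,1,4,1,4,1,4,7,9,6,9], 5, [([], 619, [])], []⟩
def c621 : Clm := ⟨8, 8, true, [1,5,1,4,1,4,1,5,1,5,1,4,4,1,5,1,5,1,4,4,1,5,7,10,12,3], [4,1,4,1,5,1,5,1,4,1,5,1,5,1,4,1,4,4,2,4,10], 9, [([], 182, [1,4,4,1,4,1,4,1,5,1,4,1,4,4,1,5,1,4,4]), ([92,90], 98, [1,4,1,5,1,4,1,4,1,4,4,1,4,1,4,4,1,4,1,4,1,5]), ([158,90,88], 181, [1,5,1,4,1,4])], []⟩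
def c622 : Clm := ⟨8, 8, true, [4,1,4,1,5,1,5,1,4,1,5,1,5,1,4,1,4,4,2,4,10], [1,5,1,4,1,4,1,5,1,5,1,4,4,1,5,1,5,1,4,4,1,5,7,10,12,3], 5, [([], 621, [])], []⟩
def c623 : Clm := ⟨8, 8, true, [5,1,4,1,5,1,4,4,1,4,1,4,4,1,4,4,1,4,4,1,10,3,11,5], [4,1,5,1,4,1,4,4,1,5,1,4,4,1,4,4,1,4,6,10,5], 9, [([], 577, [4,1,4,4,1,4,4,1,5,1,4,4,1,5,1,4,1,4,1,4]), ([356], 248, [4,1,4,1,5,1,4,1,5,1,5,1,4,4,1,4,1,4,4,1]), ([90,92], 181, [4,4,1,4,1,4,1,5,1])], []⟩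
def c624 : Clm := ⟨8, 8, true, [4,1,5,1,4,1,4,4,1,5,1,4,4,1,4,4,1,4,6,10,5], [5,1,4,1,5,1,4,4,1,4,1,4,4,1,4,4,1,4,4,1,10,3,11,5], 5, [([], 623, [])], []⟩
def c625 : Clm := ⟨5, 8, true, [1,4,4,1,5,1,4,4,1,5,1,4,4,1,5,1,5,1,4,4,7,9,4,9], [5,1,4,4,1,5,1,4,1,4,1,4,1,4,1,4,9,6,2,9], 9, [([], 375, [1,4,1,5,1,5,1,4,1,5,1,4,4,1,5,1,4,1,4,1,4,1,5]), ([], 280, [1,4,1,5,1,4,4,1,5,1,4,1,4,4,1,4,1,5,1,5]), ([], 181, [5,1,4,1,5,1,5,1,4,1,5])], []⟩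
def c626 : Clm := ⟨8, 5, true, [5,1,4,4,1,5,1,4,1,4,1,4,1,4,1,4,9,6,2,9], [1,4,4,1,5,1,4,4,1,5,1,4,4,1,5,1,5,1,4,4,7,9,4,9], 5, [([], 625, [])], []⟩
def c627 : Clm := ⟨8, 8, true, [4,1,4,1,5,1,4,1,4,4,1,4,1,5,1,5,1,5,1,4,1,3,6,8,11], [1,4,1,4,4,1,4,1,5,1,4,4,1,5,1,4,4,1,5,2,5,9,7], 9, [([], 251, [5,1,4,1,4,1,4,1,4,4,1,4,1,4,1]), ([357], 274, [1,5,1,4,1,4,1,4,1,4,1,4,1,4,1,4,1,5,1,4,1,5]), ([90,92,88], 181, [4,4,1,4,1,5,1,4,4,1,4])], []⟩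
def c628 : Clm := ⟨8, 8, true, [1,4,1,4,4,1,4,1,5,1,4,4,1,5,1,4,4,1,5,2,5,9,7], [4,1,4,1,5,1,4,1,4,4,1,4,1,5,1,5,1,5,1,4,1,3,6,8,11], 5, [([], 627, [])], []⟩
def c629 : Clm := ⟨8, 8, true, [4,1,4,1,4,1,4,1,4,1,4,1,4,1,4,4,1,5,1,4,7,2,11,14], [4,4,1,5,1,4,4,1,5,1,4,1,5,1,5,1,5,1,5,2,4,1,10], 9, [([], 339, [1,4,4,1,4,4,1,4,4,1,5,1,4,1,4,1,4,1,4]), ([90,88], 81, [4,1,4,4,1,4,4,1,4,1,4,4,1,5,1,5,1,5,1,4,4]), ([158,92,92,88], 181, [1,4,1,5,1,5,1,4])], []⟩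
def c630 : Clm := ⟨8, 8, true, [4,4,1,5,1,4,4,1,5,1,4,1,5,1,5,1,5,1,5,2,4,1,10], [4,1,4,1,4,1,4,1,4,1,4,1,4,1,4,4,1,5,1,4,7,2,11,14], 5, [([], 629, [])], []⟩
def c631 : Clm := ⟨8, 8, true, [4,4,1,4,4,1,5,1,5,1,4,1,5,3,7,13], [1,4,1,4,1,4,1,5,1,4,1,5,1,5,1,4,1,4,4,1,4,4,7,8], 9, [([], 338, [5,1,4,4,1,4,4,1,5,1,4,1,4,1,4,1,4,1,4,4,1]), ([], 434, [4,1,4,1,4,1,5,1,5,1,4,1,5,1,4,1,4,1,4,4,1]), ([93,88], 181, [4,1,4])], []⟩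
def c632 : Clm := ⟨8, 8, true, [1,4,1,4,1,4,1,5,1,4,1,5,1,5,1,4,1,4,4,1,4,4,7,8], [4,4,1,4,4,1,5,1,5,1,4,1,5,3,7,13], 5, [([], 631, [])], []⟩
def c633 : Clm := ⟨8, 8, true, [1,5,1,4,1,5,1,4,4,1,4,4,1,4,1,4,1,4,4,1,5,3,1,13,8], [4,1,4,1,4,4,1,5,1,4,1,4,1,4,4,1,4,1,5,1,2,6,13,8], 9, [([], 290, [4,4,1,4,1,4,1,4,1,4,1,5,1,4,1,4,4,1,4,4,1]), ([92,92,158,88], 102, [4,1,4,4,1,4,1,4,1,4,4,1,4,1,4,4,1,4,4,1]), ([88,93], 181, [1,4,1,5,1,4])], []⟩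
def c634 : Clm := ⟨8, 8, true, [4,1,4,1,4,4,1,5,1,4,1,4,1,4,4,1,4,1,5,1,2,6,13,8], [1,5,1,4,1,5,1,4,4,1,4,4,1,4,1,4,1,4,4,1,5,3,1,13,8], 5, [([], 633, [])], []⟩
def c635 : Clm := ⟨8, 8, true, [1,5,1,4,1,4,1,5,1,4,1,4,4,1,4,1,4,4,1,4,1,4,7,2,8,5], [5,1,4,4,1,5,1,4,4,1,5,1,5,1,4,4,1,5,1,4,4,13,4,13,1], 11, [([], 274, [1,4,1,4,1,4,1,5,1,5,1,4,1,4,4,1,5]), ([93,88], 181, [1,4,1,4,1,5,1,4,1,4,4]), ([357], 583, [1,5,1,4,1,4,1,4,4,1,5,1,4,1,5,1,5,1,4,4])], []⟩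
def c636 : Clm := ⟨8, 8, true, [5,1,4,4,1,5,1,4,4,1,5,1,5,1,4,4,1,5,1,4,4,13,4,13,1], [1,5,1,4,1,4,1,5,1,4,1,4,4,1,4,1,4,4,1,4,1,4,7,2,8,5], 5, [([], 635, [])], []⟩
def c637 : Clm := ⟨5, 8, true, [4,1,5,1,4,4,1,4,1,4,1,5,1,5,1,4,1,5,1,5,1,6,3,1], [4,4,1,4,4,1,5,1,5,1,4,4,1,4,4,1,4,4,1,5,2,1,6], 9, [([], 181, [5,1,5,1,5,1,4,1]), ([357], 404, [1,5,1,4,4,1,5,1,5,1,4,4,1,4,4,1,5,1,4,1,4,1,5]), ([357], 402, [4,4,1,5,1,4,1,5,1,4,1,4,1,5,1,5,1,5,1])], []⟩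
def c638 : Clm := ⟨8, 5, true, [4,4,1,4,4,1,5,1,5,1,4,4,1,4,4,1,4,4,1,5,2,1,6], [4,1,5,1,4,4,1,4,1,4,1,5,1,5,1,4,1,5,1,5,1,6,3,1], 5, [([], 637, [])], []⟩
def c639 : Clm := ⟨8, 8, true, [4,4,1,5,1,5,1,4,1,4,1,4,4,1,4,1,8,7,10], [4,4,1,4,4,1,4,4,1,5,1,5,1,5,1,5,1,4,6,4,8,4], 9, [([], 488, [1,4,4,1,4,1,4,4,1,4,1,4,4,1,5,1,4,1,4,1,4,4]), ([356], 215, [1,5,1,4,1,4,1,4,4,1,5,1,4,1,4,1,5,1,5]), ([158,92], 181, [1,5,1,5,1,4,4,1,4,1,5,1,4])], []⟩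
def c640 : Clm := ⟨8, 8, true, [4,4,1,4,4,1,4,4,1,5,1,5,1,5,1,5,1,4,6,4,8,4], [4,4,1,5,1,5,1,4,1,4,1,4,4,1,4,1,8,7,10], 5, [([], 639, [])], []⟩
def c641 : Clm := ⟨8, 8, true, [1,5,1,4,4,1,4,4,1,5,1,5,1,4,1,4,1,4,1,2,10,5,8], [4,1,5,1,4,1,4,4,1,5,1,4,1,4,1,5,1,4,4,1,2,1,14,8], 9, [([], 572, [5,1,4,4,1,4,4,1,5,1,4,1,4,1,5,1,4,1,4,4,1]), ([], 335, [4,1,4,1,4,4,1,5,1,4,1,5,1,4,4,1,4,1,4,1,5,1,4]), ([158,92,92], 181, [1,4,1,4,4,1,4,4,1,4,4,1,4,1])], []⟩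
def c642 : Clm := ⟨8, 8, true, [4,1,4,4,1,4,4,1,4,4,1,4,1,5,1,2,11,14], [4,1,4,1,5,1,4,1,4,4,1,4,4,1,5,1,4,1,5,3,6,3], 11, [([], 215, [1,5,1,4,1,5,1,4,1,4,4,1,4,4,1,4,1,4]), ([92,158,90], 181, [4,1,4,1,4,1,4,1,4,4]), ([], 242, [4,4,1,5,1,4,1,4,1,4,1,4,4,1,4,1,4,4,1,4,4])], []⟩
def c643 : Clm := ⟨8, 8, true, [4,1,4,1,5,1,4,1,4,4,1,4,4,1,5,1,4,1,5,3,6,3], [4,1,4,4,1,4,4,1,4,4,1,4,1,5,1,2,11,14], 5, [([], 642, [])], []⟩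
def c644 : Clm := ⟨8, 8, true, [1,4,4,1,4,4,1,4,1,4,4,1,4,4,1,5,1,4,4,1,5,1,4,1,6,2,10,6], [4,1,4,1,4,4,1,4,4,1,5,1,4,4,1,4,4,1,4,1,5,1,3,12,10,14], 9, [([], 643, [1,4,4,1,5,1,4,1,4,1,5,1,5,1,4,4,1,4,4]), ([], 408, [1,4,4,1,4,1,4,4,1,4,4,1,4,4,1,4,4,1,4,1,4,1,5]), ([88,92], 181, [4,1,4,4,1,5,1,5,1,5,1,4])], []⟩
def c645 : Clm := ⟨8, 8, true, [4,1,4,1,4,4,1,4,4,1,5,1,4,4,1,4,4,1,4,1,5,1,3,12,10,14], [1,4,4,1,4,4,1,4,1,4,4,1,4,4,1,5,1,4,4,1,5,1,4,1,6,2,10,6], 5, [([], 644, [])], []⟩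
def c646 : Clm := ⟨8, 8, true, [1,4,4,1,4,1,4,1,4,1,4,4,1,5,1,4,1,4,4,1,4,8,1,11], [4,4,1,5,1,4,1,4,4,1,4,4,1,5,1,5,1,3,13,5,3], 11, [([], 535, [4,4,1,4,1,4,1,4,4,1,4,1,5,1,4,1,4,4]), ([92,92,90,88], 181, [5,1,5,1,5,1,5,1,4,4,1,4,1,5]), ([356], 383, [5,1,4,1,5,1,4,4,1,5,1,5,1,4,1,4,1,4,4,1])], []⟩
def c647 : Clm := ⟨8, 8, true, [4,4,1,5,1,4,1,4,4,1,4,4,1,5,1,5,1,3,13,5,3], [1,4,4,1,4,1,4,1,4,1,4,4,1,5,1,4,1,4,4,1,4,8,1,11], 5, [([], 646, [])], []⟩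
def c648 : Clm := ⟨8, 8, true, [5,1,4,1,5,1,4,4,1,4,4,1,4,4,1,5,1,4,4,1,4,1,3,8,4], [5,1,4,4,1,5,1,4,1,4,1,4,4,1,4,4,1,4,1,4,1,2,1,14,10,5], 9, [([], 367, [4,1,4,4,1,5,1,4,1,5,1,5,1,4,1,5,1,5]), ([356], 303, [1,5,1,4,1,4,4,1,5,1,4,4,1,4,1,5,1,4,1,4,4,1,4]), ([90,93,88], 181, [1,4,1,4,1,4,1])], []⟩
def c649 : Clm := ⟨8, 8, true, [5,1,4,4,1,5,1,4,1,4,1,4,4,1,4,4,1,4,1,4,1,2,1,14,10,5], [5,1,4,1,5,1,4,4,1,4,4,1,4,4,1,5,1,4,4,1,4,1,3,8,4], 5, [([], 648, [])], []⟩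
def c650 : Clm := ⟨5, 8, true, [1,4,1,5,1,4,4,1,4,4,1,5,1,5,1,4,4,1,3,9,3], [1,4,1,4,4,1,4,1,5,1,5,1,4,4,1,4,1,5,1,4,3,4,7,10], 9, [([], 181, [4,1,5,1,4,4,1,4,1,4,1,5,1]), ([], 584, [1,4,4,1,5,1,4,1,5,1,5,1,4,4,1,5,1,5,1,5]), ([90,92], 608, [4,1,4,4,1,5,1,5,1,4,4,1,4,1,4,4,1,4])], []⟩
def c651 : Clm := ⟨8, 5, true, [1,4,1,4,4,1,4,1,5,1,5,1,4,4,1,4,1,5,1,4,3,4,7,10], [1,4,1,5,1,4,4,1,4,4,1,5,1,5,1,4,4,1,3,9,3], 5, [([], 650, [])], []⟩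
def c652 : Clm := ⟨8, 8, true, [4,1,4,4,1,4,4,1,4,1,5,1,4,1,4,4,1,4,4,1,4,1,3,8,13,11], [4,1,5,1,5,1,4,4,1,5,1,5,1,4,4,1,5,1,4,1,8,1,8,8], 11, [([], 511, [1,5,1,5,1,4,1,4,1,4,1,4,1,4,1,4,1,4,1,4,1]), ([158,90], 181, [1,5,1,4,1,4,4,1,4,4,1,4]), ([], 508, [1,4,4,1,4,4,1,4,4,1,4,1,4,1,4,1])], []⟩
def c653 : Clm := ⟨8, 8, true, [4,1,5,1,5,1,4,4,1,5,1,5,1,4,4,1,5,1,4,1,8,1,8,8], [4,1,4,4,1,4,4,1,4,1,5,1,4,1,4,4,1,4,4,1,4,1,3,8,13,11], 5, [([], 652, [])], []⟩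
def c654 : Clm := ⟨8, 8, true, [4,1,4,1,5,1,5,1,4,1,4,1,4,1,5,1,7,2,12], [1,4,1,4,1,5,1,4,4,1,4,1,5,1,4,1,4,1,5,3,7,9,14], 9, [([], 609, [1,5,1,5,1,4,1,4,1,4,4,1,4,1,4,4,1,5,1]), ([], 494, [4,1,5,1,5,1,4,1,4,1,4,1,4,4,1,4,1,4,1,4]), ([90,93,88], 181, [1,4,4,1,4,1,4,1,4,1,4,1,4,1])], []⟩
def c655 : Clm := ⟨8, 8, true, [1,4,1,4,1,5,1,4,4,1,4,1,5,1,4,1,4,1,5,3,7,9,14], [4,1,4,1,5,1,5,1,4,1,4,1,4,1,5,1,7,2,12], 5, [([], 654, [])], []⟩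
def c656 : Clm := ⟨8, 8, true, [1,4,1,5,1,5,1,4,4,1,5,1,4,1,4,1,5,1,5,1,4,1,4,7,13,7,9], [1,4,4,1,5,1,5,1,4,4,1,5,1,4,1,4,1,7,10,10,3], 11, [([], 523, [4,4,1,5,1,4,4,1,4,1,5,1,4,1,4,1,5,1]), ([88,93,88], 181, [5,1,5,1,4,1,4,4,1,4]), ([], 521, [4,1,5,1,4,4,1,4,1,4,1,4,4,1,4,1,5,1,5,1,5])], []⟩
def c657 : Clm := ⟨8, 8, true, [1,4,4,1,5,1,5,1,4,4,1,5,1,4,1,4,1,7,10,10,3], [1,4,1,5,1,5,1,4,4,1,5,1,4,1,4,1,5,1,5,1,4,1,4,7,13,7,9], 5, [([], 656, [])], []⟩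
def c658 : Clm := ⟨8, 8, true, [4,4,1,5,1,4,4,1,5,1,4,4,1,5,2,5,2], [5,1,4,4,1,4,4,1,4,4,1,5,1,4,1,5,1,5,1,4,13,9,1,5], 11, [([], 321, [1,4,1,5,1,4,1,5,1,4,4,1,5,1,5,1,4,1,4]), ([93,90], 181, [1,4,4,1,5,1,5,1,5,1,4,4]), ([357], 461, [1,4,1,5,1,5,1,4,4,1,4,1,4,4,1,4,4,1,5,1,5])], []⟩
def c659 : Clm := ⟨8, 8, true, [5,1,4,4,1,4,4,1,4,4,1,5,1,4,1,5,1,5,1,4,13,9,1,5], [4,4,1,5,1,4,4,1,5,1,4,4,1,5,2,5,2], 5, [([], 658, [])], []⟩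
def c660 : Clm := ⟨8, 8, true, [4,1,5,1,5,1,4,1,4,4,1,4,4,1,4,1,4,1,4,4,1,12,9,2], [1,4,4,1,5,1,5,1,4,1,4,1,5,1,5,1,5,2,6,13,11], 11, [([], 284, [4,4,1,4,1,4,4,1,4,1,4,1,4,4,1,4,1,5,1]), ([92,92,88], 181, [1,4,4,1,4,1,5,1,4,4,1,4]), ([356], 367, [5,1,4,1,4,4,1,4,1,4,4,1,4,1,4,1,4,1,4])], []⟩
def c661 : Clm := ⟨8, 8, true, [1,4,4,1,5,1,5,1,4,1,4,1,5,1,5,1,5,2,6,13,11], [4,1,5,1,5,1,4,1,4,4,1,4,4,1,4,1,4,1,4,4,1,12,9,2], 5, [([], 660, [])], []⟩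
def c662 : Clm := ⟨8, 8, true, [1,5,1,5,1,4,4,1,4,4,1,4,4,1,4,1,4,1,4,1,5,2,10,10,13], [1,4,4,1,4,4,1,4,4,1,4,1,4,1,5,1,4,4,1,4,1,4,6,4,8,4], 9, [([], 405, [1,4,1,4,1,5,1,4,1,4,4,1,4,1,4,4,1,4,1,5,1,4,4]), ([357], 280, [4,1,4,4,1,4,4,1,4,4,1,4,1,4,4,1,5,1,4,1]), ([158,93], 181, [4,1,4,1,4,1,5,1])], []⟩
def c663 : Clm := ⟨8, 8, true, [1,4,4,1,4,4,1,4,4,1,4,1,4,1,5,1,4,4,1,4,1,4,6,4,8,4], [1,5,1,5,1,4,4,1,4,4,1,4,4,1,4,1,4,1,4,1,5,2,10,10,13], 5, [([], 662, [])], []⟩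
def c664 : Clm := ⟨8, 8, true, [4,1,5,1,4,4,1,4,4,1,4,4,1,5,1,5,1,4,1,4,2,8,11], [1,4,4,6,5,8], 9, [([], 284, [4,4,1,4,1,5,1,5,1,5,1,5,1,4,4,1]), ([], 94, [1,4,1,4,4,1,4,4,1,5,1,4,4,1,4,1,4,1,4]), ([88,93,88], 181, [5])], []⟩
def c665 : Clm := ⟨8, 8, true, [1,4,4,6,5,8], [4,1,5,1,4,4,1,4,4,1,4,4,1,5,1,5,1,4,1,4,2,8,11], 5, [([], 664, [])], []⟩
def c666 : Clm := ⟨8, 8, true, [1,4,4,1,5,1,5,1,4,1,4,4,1,5,3,7,9,13], [4,4,1,4,1,5,1,4,1,4,1,5,1,5,1,5,1,4,1,3,8,13], 11, [([], 607, [4,4,1,4,4,1,5,1,4,1,4,4,1,4,4,1,5,1,4,4]), ([93,88], 181, [1,4,4,1,4,1,4,4]), ([357], 267, [4,1,4,1,4,1,5,1,4,4,1,5,1,4,1,5,1,5,1,5])], []⟩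
def c667 : Clm := ⟨8, 8, true, [4,4,1,4,1,5,1,4,1,4,1,5,1,5,1,5,1,4,1,3,8,13], [1,4,4,1,5,1,5,1,4,1,4,4,1,5,3,7,9,13], 5, [([], 666, [])], []⟩
def c668 : Clm := ⟨8, 8, true, [4,4,1,4,4,1,4,4,1,4,1,4,1,4,4,1,5,1,4,10,1,12], [1,5,1,4,1,4,4,1,5,1,5,1,5,1,5,1,4,6,1,8], 9, [([], 345, [1,4,1,5,1,4,4,1,4,4,1,4,4,1,5,1,4,1,4,1,4,1,5]), ([93], 66, [1,4,4,1,4,4,1,4,4,1,4,1,4,1,4,4,1,5,1,4]), ([], 181, [1,5,1,5,1,5,1,5,1,4,1,4,1,4])], []⟩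
def c669 : Clm := ⟨8, 8, true, [1,5,1,4,1,4,4,1,5,1,5,1,5,1,5,1,4,6,1,8], [4,4,1,4,4,1,4,4,1,4,1,4,1,4,4,1,5,1,4,10,1,12], 5, [([], 668, [])], []⟩
def c670 : Clm := ⟨8, 8, true, [4,1,4,1,4,1,5,1,4,4,1,5,1,4,1,4,4,1,5,7,10,8,4], [1,4,1,4,1,5,1,4,4,1,4,1,4,1,4,1,4,4,1,5,1,2,4,1,10], 9, [([], 501, [4,1,4,1,4,4,1,4,1,4,1,5,1,4,1,5,1,4,1,5]), ([356], 192, [4,1,4,4,1,4,4,1,4,1,5,1,4,4,1,5,1,4,4,1,5]), ([158,92,92], 181, [1,4,1,4,1,5,1,4])], []⟩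
def c671 : Clm := ⟨8, 8, true, [1,4,1,4,1,5,1,4,4,1,4,1,4,1,4,1,4,4,1,5,1,2,4,1,10], [4,1,4,1,4,1,5,1,4,4,1,5,1,4,1,4,4,1,5,7,10,8,4], 5, [([], 670, [])], []⟩
def c672 : Clm := ⟨8, 8, true, [1,4,1,4,1,4,1,4,1,5,1,5,1,4,1,5,1,4,1,4,4,2,1,5,6], [4,1,5,1,4,4,1,4,4,1,5,1,5,1,4,1,4,4,1,4,3,8,10,14], 11, [([], 343, [1,5,1,4,4,1,4,1,5,1,4,1,4,4,1,5,1,4,4,1,5,1,5]), ([88,93,88], 181, [4,1,4,1,4,1,5]), ([], 444, [1,4,1,4,1,4,1,4,4,1,4,1,4,1,4,1,4,4,1,4,4,1,4])], []⟩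
def c673 : Clm := ⟨8, 8, true, [4,1,5,1,4,4,1,4,4,1,5,1,5,1,4,1,4,4,1,4,3,8,10,14], [1,4,1,4,1,4,1,4,1,5,1,5,1,4,1,5,1,4,1,4,4,2,1,5,6], 5, [([], 672, [])], []⟩
def c674 : Clm := ⟨8, 8, true, [5,1,4,1,4,4,1,5,1,4,4,1,5,1,4,1,5,1,6,12,8,1], [4,1,4,1,5,1,5,1,4,1,4,1,4,1,4,4,1,5,1,4,1,2,1,14,10,5], 9, [([], 522, [4,1,5,1,4,4,1,5,1,4,1,5,1,4,1,5,1]), ([356], 215, [4,1,4,1,4,1,5,1,5,1,4,4,1,4,1,5,1,4,1,5]), ([92,92,158], 181, [4,4,1,4,4])], []⟩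
def c675 : Clm := ⟨8, 8, true, [4,1,4,1,5,1,5,1,4,1,4,1,4,1,4,4,1,5,1,4,1,2,1,14,10,5], [5,1,4,1,4,4,1,5,1,4,4,1,5,1,4,1,5,1,6,12,8,1], 5, [([], 674, [])], []⟩
def c676 : Clm := ⟨8, 8, true, [1,4,1,4,4,1,4,4,1,5,1,4,1,5,1,4,1,4,1,4,1,9,3,7,10], [1,4,1,5,1,4,4,1,5,1,4,4,1,4,1,4,4,1,7,1,5,8], 9, [([], 525, [5,1,5,1,5,1,5,1,5,1,4,1,4,1,4,4,1,4,4,1]), ([357], 335, [1,4,4,1,4,1,4,1,5,1,5,1,4,1,5,1,4,1,4,4]), ([92], 181, [1,4,1,4,1,4,4,1,5,1,4])], []⟩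
def c677 : Clm := ⟨8, 8, true, [1,4,1,5,1,4,4,1,5,1,4,4,1,4,1,4,4,1,7,1,5,8], [1,4,1,4,4,1,4,4,1,5,1,4,1,5,1,4,1,4,1,4,1,9,3,7,10], 5, [([], 676, [])], []⟩
def c678 : Clm := ⟨8, 8, true, [4,1,4,4,1,5,1,4,1,4,4,1,4,1,4,1,4,4,9,6,2], [4,4,1,4,4,1,4,1,4,4,1,5,1,5,1,5,1,4,1,4,2,7,1,8], 11, [([], 274, [4,4,1,5,1,4,1,5,1,4,1,4,1,5,1,5,1,5,1,4]), ([88,92], 181, [4,1,4,4,1,5,1,4,4,1,4,1,5,1,4]), ([356], 559, [5,1,5,1,4,4,1,5,1,5,1,4,1,5,1,4,1,5,1,4])], []⟩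
def c679 : Clm := ⟨8, 8, true, [4,4,1,4,4,1,4,1,4,4,1,5,1,5,1,5,1,4,1,4,2,7,1,8], [4,1,4,4,1,5,1,4,1,4,4,1,4,1,4,1,4,4,9,6,2], 5, [([], 678, [])], []⟩
def c680 : Clm := ⟨8, 8, true, [4,4,1,4,1,4,1,4,4,1,4,1,4,1,5,1,4,4,10,10,4,3], [1,4,1,5,1,4,1,5,1,4,1,5,1,4,1,5,1,4,4,1,5,2,1,13,8], 9, [([], 444, [1,5,1,4,1,4,1,4,4,1,5,1,5,1,4,1,5]), ([357], 343, [4,4,1,5,1,4,4,1,5,1,5,1,5,1,5,1]), ([92,92,158,88], 181, [1,5,1,4,1,4,1,4,4,1,4,1,4])], []⟩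
def c681 : Clm := ⟨8, 8, true, [1,4,1,5,1,4,1,5,1,4,1,5,1,4,1,5,1,4,4,1,5,2,1,13,8], [4,4,1,4,1,4,1,4,4,1,4,1,4,1,5,1,4,4,10,10,4,3], 5, [([], 680, [])], []⟩
def c682 : Clm := ⟨8, 8, true, [4,4,1,4,4,1,4,1,4,4,1,4,4,1,5,1,4,4,1,5,1,4,2,8,13,3], [5,1,4,1,4,1,5,1,4,4,1,4,1,5,1,4,1,4,8,1,10], 11, [([], 376, [5,1,4,1,5,1,5,1,4,1,4,1,4,4,1,4,1]), ([93,90,88], 181, [4,4,1,4,4,1,4,4,1,4,1,4]), ([356], 308, [4,4,1,5,1,4,1,4,1,4,1,4,1,4,4,1,4,4,1,5])], []⟩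
def c683 : Clm := ⟨8, 8, true, [5,1,4,1,4,1,5,1,4,4,1,4,1,5,1,4,1,4,8,1,10], [4,4,1,4,4,1,4,1,4,4,1,4,4,1,5,1,4,4,1,5,1,4,2,8,13,3], 5, [([], 682, [])], []⟩
def c684 : Clm := ⟨8, 8, true, [1,4,1,5,1,4,1,4,4,1,4,1,4,1,5,1,4,1,5,1,5,2,8,4,3], [1,4,4,6,1,4,8], 9, [([], 606, [1,4,1,5,1,4,1,4,4,1,4,1,4,4,1,4,1,4,1,4,4,1,5]), ([], 303, [1,4,4,1,4,1,4,4,1,5,1,4,1,4,1,4,1,5]), ([93,158,88], 181, [1,4])], []⟩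
def c685 : Clm := ⟨8, 8, true, [4,1,5,1,4,1,4,1,4,1,4,1,5,1,5,1,5,1,4,4,1,2,4], [1,4,1,4,1,4,1,4,1,4,1,4,1,4,1,4,4,1,5,1,5,2,11,14], 9, [([], 543, [1,4,1,4,1,5,1,4,4,1,4,1,4,1,4,1,4,1,4]), ([357], 280, [5,1,5,1,5,1,4,4,1,5,1,4,1,4]), ([92,158], 181, [1,4,4,1,5,1,4,1,4,1,5,1,4,4])], []⟩
def c686 : Clm := ⟨8, 8, true, [1,4,1,4,1,4,1,4,1,4,1,4,1,4,1,4,4,1,5,1,5,2,11,14], [4,1,5,1,4,1,4,1,4,1,4,1,5,1,5,1,5,1,4,4,1,2,4], 5, [([], 685, [])], []⟩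
def c687 : Clm := ⟨8, 8, true, [5,1,4,1,5,1,4,1,4,1,4,1,4,1,5,1,4,4,1,6,1,7,3], [1,5,1,4,1,4,1,4,4,1,4,4,1,4,1,5,1,4,4,1,5,2,5,9,11], 11, [([], 280, [1,4,4,1,4,1,4,1,4,4,1,4,1,4,4,1,4,1,5,1,4,1]), ([92], 181, [1,4,1,4,1,4,4,1,5,1,4,4,1]), ([357], 287, [4,4,1,4,1,5,1,5,1,5,1,5,1,4,1,4,1,4])], []⟩
def c688 : Clm := ⟨8, 8, true, [1,5,1,4,1,4,1,4,4,1,4,4,1,4,1,5,1,4,4,1,5,2,5,9,11], [5,1,4,1,5,1,4,1,4,1,4,1,4,1,5,1,4,4,1,6,1,7,3], 5, [([], 687, [])], []⟩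
def c689 : Clm := ⟨8, 8, true, [1,4,1,4,1,4,1,4,1,4,4,1,5,1,4,4,1,5,1,5,9,12,2,5], [1,4,4,1,5,1,5,1,4,4,1,4,4,1,4,1,5,1,7,9,2], 11, [([], 319, [4,4,1,5,1,4,1,4,1,4,1,4,1,5,1,4,4,1]), ([158,93,90,88], 181, [4,1,5,1,5,1,4,1,4,4,1]), ([356], 458, [5,1,4,1,4,1,5,1,4,4,1,5,1,4,4,1])], []⟩
def c690 : Clm := ⟨8, 8, true, [1,4,4,1,5,1,5,1,4,4,1,4,4,1,4,1,5,1,7,9,2], [1,4,1,4,1,4,1,4,1,4,4,1,5,1,4,4,1,5,1,5,9,12,2,5], 5, [([], 689, [])], []⟩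
def c691 : Clm := ⟨8, 8, true, [1,4,4,1,5,1,5,1,5,1,5,1,5,1,5,1,5,1,4,1,4,1,3,10,6,4], [4,1,4,4,1,4,1,4,1,5,1,5,1,4,4,1,5,1,5,1,5,6,1,10,5], 9, [([], 253, [1,4,1,4,1,4,4,1,4,1,4,1,5,1,4,1,5,1,5,1]), ([357], 607, [4,1,4,1,5,1,4,1,5,1,4,1,5,1,4,1,5,1,5,1]), ([92,90,88], 181, [1,4,1,5,1,5,1,4,4,1])], []⟩
def c692 : Clm := ⟨8, 8, true, [4,1,4,4,1,4,1,4,1,5,1,5,1,4,4,1,5,1,5,1,5,6,1,10,5], [1,4,4,1,5,1,5,1,5,1,5,1,5,1,5,1,5,1,4,1,4,1,3,10,6,4], 5, [([], 691, [])], []⟩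
def c693 : Clm := ⟨8, 8, true, [1,4,1,4,1,5,1,5,1,5,1,4,1,5,10,12,6], [5,1,4,4,1,4,4,1,5,1,5,1,5,1,4,1,4,4,1,4,4,10], 9, [([], 290, [5,1,4,1,4,4,1,4,4,1,4,4,1,4,1,4,1,4,4,1,5,1,5]), ([93,88], 48, [5,1,4,4,1,4,1,4,1,5,1,4,4,1,4,4,1,5,1,4]), ([90,92], 181, [4,1,4,1,4,4,1,4,1])], []⟩
def c694 : Clm := ⟨8, 8, true, [5,1,4,4,1,4,4,1,5,1,5,1,5,1,4,1,4,4,1,4,4,10], [1,4,1,4,1,5,1,5,1,5,1,4,1,5,10,12,6], 5, [([], 693, [])], []⟩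
def c695 : Clm := ⟨8, 8, true, [4,4,1,4,4,1,4,4,1,4,4,1,5,1,4,4,1,5,1,5,1,5,6,5,6], [5,1,4,1,5,1,4,1,5,1,5,1,4,1,4,4,6,1,9,4], 7, [([], 182, [4,1,4,4,1]), ([88,92], 536, [4,1,5,1,5,1,4,1,5,1,4,4,1,5,1,5])], []⟩
def c696 : Clm := ⟨8, 8, true, [5,1,4,1,5,1,4,1,5,1,5,1,4,1,4,4,6,1,9,4], [4,4,1,4,4,1,4,4,1,4,4,1,5,1,4,4,1,5,1,5,1,5,6,5,6], 5, [([], 695, [])], []⟩
def c697 : Clm := ⟨8, 8, true, [4,1,4,1,4,1,4,1,4,1,5,1,4,1,5,1,4,4,1,2,1,8,3], [4,1,5,1,4,1,5,1,8,10,4], 7, [([], 182, [1,5,1,5,1,4,1]), ([90,92], 608, [1,4,1,4,1,4,1,4,4,1,5,1,4,4,1,4,4,1,4,1,5])], []⟩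
def c698 : Clm := ⟨8, 8, true, [4,1,5,1,4,1,5,1,8,10,4], [4,1,4,1,4,1,4,1,4,1,5,1,4,1,5,1,4,4,1,2,1,8,3], 5, [([], 697, [])], []⟩
def c699 : Clm := ⟨8, 8, true, [1,4,1,5,1,4,1,5,1,5,1,4,1,4,4,1,4,4,1,5,1,5,2,10,7,5], [1,5,1,4,1,4,1,5,1,5,1,4,1,4,1,5,1,4,1,7,1,6], 7, [([], 182, [4,4,1,4,1,5,1]), ([158,93,90], 536, [1,5,1,4,1,4,4,1,4,4,1,4,4,1,4,4,1,5,1,4,1])], []⟩
def c700 : Clm := ⟨8, 8, true, [1,5,1,4,1,4,1,5,1,5,1,4,1,4,1,5,1,4,1,7,1,6], [1,4,1,5,1,4,1,5,1,5,1,4,1,4,4,1,4,4,1,5,1,5,2,10,7,5], 5, [([], 699, [])], []⟩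
def c701 : Clm := ⟨8, 8, true, [4,1,4,1,4,4,1,4,4,1,4,1,5,1,4,4,6,11], [1,4,1,5,1,4,1,4,1,5,1,5,1,4,4,1,4,1,5,1,4,6,1,4,8], 11, [([], 182, [4,4,1,5,1,5,1,4,1,4,1,4]), ([92,90,88], 608, [1,5,1,4,1,4,4,1,5,1,4,1,4,1,4,1,4,4,1,5,1,4]), ([356], 490, [1,5,1,4,1,4,4,1,4,4,1,4,1,4,1,4,4,1,4,1,4])], []⟩
def c702 : Clm := ⟨8, 8, true, [1,4,1,5,1,4,1,4,1,4,1,4,4,1,4,4,1,3,8,13,7], [4,4,1,5,1,5,1,5,1,5,1,5,1,4,1,5,3,1,5], 9, [([], 549, [4,1,5,1,5,1,4,4,1,5,1,4,1,5,1,4,1,5]), ([357], 182, [1,4,4,1,5,1,4,4,1,4,4,1,4,1,4]), ([88,93], 275, [1,4,1,5,1,4,1,4,1,4,1,4,1,4,4,1,5])], []⟩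
def c703 : Clm := ⟨8, 8, true, [4,4,1,5,1,5,1,5,1,5,1,5,1,4,1,5,3,1,5], [1,4,1,5,1,4,1,4,1,4,1,4,4,1,4,4,1,3,8,13,7], 5, [([], 702, [])], []⟩
def c704 : Clm := ⟨8, 8, true, [1,5,1,4,1,4,1,4,4,1,4,1,5,1,4,1,4,1,4,2,6,3,9], [5,1,4,1,4,1,4,4,1,4,1,5,1,4,4,1,5,2,12,4,2], 11, [([], 182, [5,1,4,1,4,1,4,1,4,1,5,1,4]), ([90,93], 340, [4,4,1,5,1,5,1,4,4,1,5,1,5,1,5,1,4,4]), ([357], 669, [1,4,4,1,4,1,4,1,4,1,4,1,4,1,4,1,4,4,1,5,1,4])], []⟩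
def c705 : Clm := ⟨8, 8, true, [5,1,4,1,4,1,4,4,1,4,1,5,1,4,4,1,5,2,12,4,2], [1,5,1,4,1,4,1,4,4,1,4,1,5,1,4,1,4,1,4,2,6,3,9], 5, [([], 704, [])], []⟩
def c706 : Clm := ⟨8, 8, true, [4,1,4,1,5,1,5,1,4,4,1,5,1,4,1,5,1,5,1,6,9], [1,4,1,4,4,1,4,1,5,1,4,1,5,1,4,1,5,1,4,1,4,4,1,4,2,9,11,6], 11, [([], 182, [5,1,4,4,1,4,4,1,4,4,1,4,4,1,4]), ([158,92], 651, [4,1,5,1,4,1,4,1,4,1,4,4,1,5,1,4,4,1,5,1,5,1]), ([356], 700, [4,1,4,4,1,5,1,4,1,4,1,5,1,5,1,4,4,1,5])], []⟩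
def c707 : Clm := ⟨8, 8, true, [4,4,1,5,1,4,4,1,5,1,4,1,4,4,1,5,1,5,8,11,9], [1,4,1,5,1,4,4,1,5,1,4,1,4,4,1,4,4,1,4,4,1,5,2,1,4,13], 11, [([], 182, [5,1,5,1,4,4,1,4,1]), ([92,92,158,88], 512, [1,4,4,1,4,4,1,5,1,4,4,1,4,4,1,5,1,4,4]), ([356], 563, [5,1,5,1,4,4,1,4,1,4,1,4,1,5,1,4,1,5,1,4])], []⟩
def c708 : Clm := ⟨8, 8, true, [1,4,1,5,1,4,4,1,5,1,4,1,4,4,1,4,4,1,4,4,1,5,2,1,4,13], [4,4,1,5,1,4,4,1,5,1,4,1,4,4,1,5,1,5,8,11,9], 5, [([], 707, [])], []⟩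
def c709 : Clm := ⟨8, 8, true, [1,5,1,4,1,4,4,1,4,1,4,1,4,4,1,5,2,1,13,11], [1,4,1,4,1,4,4,1,4,4,1,4,1,5,1,4,4,1,5,1,5,2,12,2,6], 11, [([], 182, [4,4,1,5,1,5,1]), ([88,92,88], 524, [4,1,4,4,1,4,4,1,5,1,4,1]), ([357], 579, [1,4,4,1,4,4,1,5,1,5,1,4,1,4,1,5,1,5,1,5])], []⟩
def c710 : Clm := ⟨8, 8, true, [1,4,1,4,1,4,4,1,4,4,1,4,1,5,1,4,4,1,5,1,5,2,12,2,6], [1,5,1,4,1,4,4,1,4,1,4,1,4,4,1,5,2,1,13,11], 5, [([], 709, [])], []⟩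
def c711 : Clm := ⟨8, 8, true, [5,1,4,1,5,1,4,1,4,4,1,4,1,4,1,5,1,5,1,5,2,1,14,11], [4,1,4,1,4,1,5,1,5,1,4,1,5,1,4,1,4,1,2,8,8,13], 11, [([], 182, [1,5,1,5,1,5,1,4,4,1,4]), ([92,92,88], 651, [4,1,5,1,4,1,4,1,4,4,1,4,1,4,4,1,5]), ([356], 690, [1,4,1,5,1,4,4,1,4,1,5,1,5,1,5,1,4,1,4])], []⟩
def c712 : Clm := ⟨8, 8, true, [4,1,4,1,4,1,5,1,5,1,4,1,5,1,4,1,4,1,2,8,8,13], [5,1,4,1,5,1,4,1,4,4,1,4,1,4,1,5,1,5,1,5,2,1,14,11], 5, [([], 711, [])], []⟩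
def c713 : Clm := ⟨8, 5, true, [5,1,4,1,4,1,4,1,4,4,1,4,1,5,1,4,9,1,9,9], [1,4,4,1,5,1,5,1,4,1,4,4,1,5,1,5,13,2,12], 11, [([357], 542, [1,5,1,4,1,4,1,4,1,5,1,5,1,4,4,1,5,1,5,1,5,1,4]), ([357], 462, [4,1,4,4,1,5,1,4,1,4,1,4,1,4,1,4,1,4,1,4,1,4]), ([356], 182, [4,1,4,4,1,4,4,1])], []⟩
def c714 : Clm := ⟨5, 8, true, [1,4,4,1,5,1,5,1,4,1,4,4,1,5,1,5,13,2,12], [5,1,4,1,4,1,4,1,4,4,1,4,1,5,1,4,9,1,9,9], 5, [([], 713, [])], []⟩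
def c715 : Clm := ⟨8, 8, true, [1,4,1,4,1,5,1,5,1,4,4,1,4,4,1,5,1,4,1,5,1,5,3,10,13,8], [1,4,1,4,1,4,1,4,4,1,4,1,4,1,4,1,13,1,7], 11, [([], 182, [4,1,4,1,5,1,4,4,1,5,1,5,1]), ([93,88], 346, [1,4,4,1,4,1,4,4,1,4,4,1,4,4,1,4,4,1,4,1,4]), ([356], 302, [4,4,1,4,4,1,5,1,5,1,4,4,1,5,1,5,1,5,1,4,1])], []⟩
def c716 : Clm := ⟨8, 8, true, [1,4,1,4,1,4,1,4,4,1,4,1,4,1,4,1,13,1,7], [1,4,1,4,1,5,1,5,1,4,4,1,4,4,1,5,1,4,1,5,1,5,3,10,13,8], 5, [([], 715, [])], []⟩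
def c717 : Clm := ⟨8, 8, true, [4,1,4,1,4,4,1,4,1,5,1,4,4,1,5,1,5,2,1,14,11], [4,1,4,1,4,1,4,4,1,5,1,5,1,4,4,1,5,1,5,12,5,14,10], 11, [([], 182, [4,1,5,1,5,1,5,1,5,1,4,4,1,4]), ([93], 142, [1,4,1,5,1,5,1,5,1,4,4,1,4,4,1,5,1,4,1,4,1]), ([277,317], 220, [1,4,4,1,5,1,5,1,5,1,5,1,5,1,4,1,4,4,1,4,4])], []⟩
def c718 : Clm := ⟨8, 8, true, [4,1,4,1,4,1,4,4,1,5,1,5,1,4,4,1,5,1,5,12,5,14,10], [4,1,4,1,4,4,1,4,1,5,1,4,4,1,5,1,5,2,1,14,11], 5, [([], 717, [])], []⟩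
def c719 : Clm := ⟨8, 5, true, [5,1,5,1,4,1,4,1,4,1,4,1,4,4,1,5,1,4,1,4,1,2,5,9,2], [5,1,5,1,5,1,5,1,4,4,7,10,2], 11, [([], 509, [1,4,1,4,1,4,1,4,4,1,5,1,4,1,4,4,1,4,1,4,1,4,1,4]), ([92,158], 407, [5,1,4,1,5,1,5,1,5,1,5,1,5,1,4,4]), ([], 182, [1,4,4,1,4,1,5,1,5,1,5,1,4,1,4,1])], []⟩
def c720 : Clm := ⟨5, 8, true, [5,1,5,1,5,1,5,1,4,4,7,10,2], [5,1,5,1,4,1,4,1,4,1,4,1,4,4,1,5,1,4,1,4,1,2,5,9,2], 5, [([], 719, [])], []⟩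
def c721 : Clm := ⟨8, 8, true, [5,1,4,4,1,4,1,4,1,5,1,5,1,4,1,5,1,4,1,4,2,8,3,11], [1,4,1,5,1,5,1,4,4,1,4,4,1,4,1,4,4,1,4,4,1,2,5,13,10], 11, [([], 182, [1,5,1,5,1,4,1,4,4,1,5,1]), ([158,92,90], 322, [5,1,5,1,4,1,4,1,4,1,4,1,4,1,5,1,5,1,4]), ([], 659, [5,1,4,1,4,4,1,4,1,4,1,5,1,4])], []⟩
def c722 : Clm := ⟨8, 8, true, [1,4,1,5,1,5,1,4,4,1,4,4,1,4,1,4,4,1,4,4,1,2,5,13,10], [5,1,4,4,1,4,1,4,1,5,1,5,1,4,1,5,1,4,1,4,2,8,3,11], 5, [([], 721, [])], []⟩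
def c723 : Clm := ⟨8, 8, true, [1,4,1,4,1,4,4,1,5,1,4,1,4,1,5,1,4,1,5,1,4,4,1,5,3,6,8,12], [4,4,1,4,4,1,4,1,5,1,4,1,4,1,5,1,5,7,11,14,6], 11, [([], 182, [4,1,4,4,1,5,1,4,1,4,1]), ([158,90], 651, [4,1,4,1,5,1,5,1,4,1,4,4,1,5,1,4]), ([356], 305, [5,1,4,4,1,5,1,5,1,4,4,1,4,1,5,1,5,1,4,4])], []⟩
def c724 : Clm := ⟨8, 8, true, [4,4,1,4,4,1,4,1,5,1,4,1,4,1,5,1,5,7,11,14,6], [1,4,1,4,1,4,4,1,5,1,4,1,4,1,5,1,4,1,5,1,4,4,1,5,3,6,8,12], 5, [([], 723, [])], []⟩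
def c725 : Clm := ⟨8, 8, true, [1,5,1,5,1,5,1,4,1,4,4,1,4,4,1,4,4,1,4,1,4,4,6,14,11,12], [1,4,1,5,1,4,4,1,5,1,5,1,4,1,4,1,4,1,5,1,5,3,13,1,13], 9, [([], 643, [4,1,4,4,1,4,4,1,5,1,5,1,4,1,4,4,1,4,1]), ([357], 182, [1,4,4,1,4,1,4,4,1,4,1,4,4,1,4]), ([93,90,88], 524, [4,1,5,1,4,4,1,5,1,4,1,4,1,4,4,1,5,1,5,1])], []⟩
def c726 : Clm := ⟨8, 8, true, [1,4,1,5,1,4,4,1,5,1,5,1,4,1,4,1,4,1,5,1,5,3,13,1,13], [1,5,1,5,1,5,1,4,1,4,4,1,4,4,1,4,4,1,4,1,4,4,6,14,11,12], 5, [([], 725, [])], []⟩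
def c727 : Clm := ⟨8, 8, true, [4,1,4,4,1,4,1,5,1,4,1,4,1,5,1,5,1,5,1,5,1,8,3,4,10], [5,1,4,1,4,1,5,1,4,1,4,1,5,1,5,3,9,4,12], 11, [([], 182, [4,1,5,1,4,4,1,4,4,1,4,1,4,1]), ([92,158,90], 87, [4,1,5,1,4,1,4,4,1,4,4,1,5]), ([158,90,88], 214, [5,1,4,1,4,1,5,1,4,4,1,5,1,4,1,5,1,4])], []⟩
def c728 : Clm := ⟨8, 8, true, [5,1,4,1,4,1,5,1,4,1,4,1,5,1,5,3,9,4,12], [4,1,4,4,1,4,1,5,1,4,1,4,1,5,1,5,1,5,1,5,1,8,3,4,10], 5, [([], 727, [])], []⟩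
def c729 : Clm := ⟨8, 8, true, [1,4,1,5,1,5,1,4,4,1,4,4,1,5,1,5,1,4,1,4,4,1,4,4,2,7,5,3,6], [1,5,1,4,4,1,5,1,5,1,4,1,5,1,4,4,1,5,1,2,1,11,12,7], 9, [([], 271, [1,4,4,1,5,1,5,1,4,1,4,4,1,5,1,5,1,5,1,5,1,4]), ([356], 182, [5,1,4,4,1,4,4,1,4,1,4]), ([90,92], 536, [5,1,4,4,1,4,4,1,4,4,1,5,1,5,1,4,1])], []⟩
def c730 : Clm := ⟨8, 8, true, [4,1,4,1,5,1,5,1,4,1,4,1,5,1,4,1,5,1,4,4,3,6,5,10], [1,4,4,1,5,1,4,4,1,4,4,1,5,1,5,1,5,1,4,1,3,10,5,12], 11, [([], 182, [4,4,1,4,4,1,4,4,1,5,1]), ([88,92], 524, [1,5,1,4,1,4,1,5,1,5,1,5,1,5]), ([357], 520, [4,1,4,1,5,1,4,1,4,4,1,4,1,4,4,1,5,1,4,1])], []⟩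
def c731 : Clm := ⟨8, 8, true, [1,4,4,1,5,1,4,4,1,4,4,1,5,1,5,1,5,1,4,1,3,10,5,12], [4,1,4,1,5,1,5,1,4,1,4,1,5,1,4,1,5,1,4,4,3,6,5,10], 5, [([], 730, [])], []⟩
def c732 : Clm := ⟨8, 8, true, [1,5,1,4,4,1,4,4,1,4,4,1,4,1,4,4,1,5,1,5,1,4,6,9,5,8], [4,1,5,1,5,1,5,1,5,1,4,1,4,1,4,1,5,1,8,7,12,5], 9, [([], 661, [1,4,4,1,4,4,1,4,4,1,4,1,4,4,1,5,1,5,1]), ([357], 182, [5,1,4,1,4,4,1,4,4,1,4,1]), ([93], 281, [1,4,1,4,1,4,4,1,4,1,4,1,4,4,1,5,1,4,1,4])], []⟩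
def c733 : Clm := ⟨8, 8, true, [4,1,5,1,5,1,5,1,5,1,4,1,4,1,4,1,5,1,8,7,12,5], [1,5,1,4,4,1,4,4,1,4,4,1,4,1,4,4,1,5,1,5,1,4,6,9,5,8], 5, [([], 732, [])], []⟩
def c734 : Clm := ⟨8, 8, true, [5,1,5,1,5,1,5,1,5,1,4,1,4,4,1,4,4,1,8,12,1,6], [1,4,4,1,5,1,5,1,4,4,1,5,1,4,4,1,4,1,2,4,13,6,13], 9, [([], 645, [5,1,4,1,4,1,4,1,5,1,5,1,5,1,5,1]), ([357], 182, [5,1,5,1,4,1,5,1,4,1,4]), ([92,92,90], 330, [4,4,1,5,1,5,1,4,1,4,1,5,1,5,1,4,1,5,1,4])], []⟩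
def c735 : Clm := ⟨8, 8, true, [4,4,1,4,1,4,1,4,1,4,4,1,4,1,4,4,1,3,8,3,14], [1,4,1,4,4,1,5,1,5,1,4,4,1,4,4,1,5,1,4,1,4,2,10,4,6], 11, [([], 182, [1,4,1,4,1,4,1,4,1]), ([158,92,90], 651, [4,1,4,4,1,4,4,1,5,1,4,4,1,4,4,1,5,1,5,1,4,1]), ([356], 338, [1,4,4,1,4,4,1,4,4,1,4,1,4,4,1,4])], []⟩
def c736 : Clm := ⟨8, 8, true, [1,4,1,4,4,1,5,1,5,1,4,4,1,4,4,1,5,1,4,1,4,2,10,4,6], [4,4,1,4,1,4,1,4,1,4,4,1,4,1,4,4,1,3,8,3,14], 5, [([], 735, [])], []⟩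
def c737 : Clm := ⟨8, 8, true, [1,4,1,5,1,4,1,4,1,5,1,4,4,1,4,1,4,1,5,1,7,9], [4,4,1,5,1,5,1,4,1,4,1,5,1,4,1,4,1,6,5,7], 11, [([], 182, [1,4,4,1,5,1,5,1,5,1,5,1,4]), ([], 468, [4,4,1,5,1,5,1,5,1,5,1,4,1,4,4,1,5,1,5,1,4,4]), ([], 503, [4,4,1,5,1,4,1,4,4,1,5,1,4,4,1,5,1,4,1,5,1,5])], []⟩
def c738 : Clm := ⟨8, 8, true, [4,4,1,5,1,5,1,4,1,4,1,5,1,4,1,4,1,6,5,7], [1,4,1,5,1,4,1,4,1,5,1,4,4,1,4,1,4,1,5,1,7,9], 5, [([], 737, [])], []⟩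
def c739 : Clm := ⟨8, 8, true, [1,4,4,1,4,1,5,1,5,1,4,1,4,4,1,4,4,1,4,1,4,4,2,4,11,6], [4,4,1,4,4,1,4,4,1,5,1,4,1,4,1,5,6,9,9,2], 9, [([], 673, [4,1,5,1,4,1,4,4,1,4,1,5,1,5,1,4,4,1,5,1]), ([], 182, [5,1,4,1,5,1,5,1,5,1,5,1,4]), ([158,92], 353, [4,4,1,4,4,1,5,1,4,4,1,4,4,1,5,1,5,1,5,1,5,1])], []⟩
def c740 : Clm := ⟨8, 8, true, [4,4,1,4,4,1,4,4,1,5,1,4,1,4,1,5,6,9,9,2], [1,4,4,1,4,1,5,1,5,1,4,1,4,4,1,4,4,1,4,1,4,4,2,4,11,6], 5, [([], 739, [])], []⟩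
def c741 : Clm := ⟨8, 8, true, [5,1,4,1,4,1,4,1,4,1,4,1,4,1,4,1,5,1,5,2,6,5,8], [1,4,4,1,5,1,5,1,4,4,1,4,4,1,4,4,1,4,12,10,4,7], 9, [([], 677, [1,4,1,5,1,5,1,4,4,1,4,1,5,1,5,1,4,4,1,5,1,4,4]), ([357], 182, [5,1,5,1,4,1,5,1,4,1]), ([90,93,88], 340, [4,4,1,4,4,1,4,1,5,1,5,1,4,4,1,5])], []⟩
def c742 : Clm := ⟨8, 8, true, [1,4,4,1,5,1,5,1,4,4,1,4,4,1,4,4,1,4,12,10,4,7], [5,1,4,1,4,1,4,1,4,1,4,1,4,1,4,1,5,1,5,2,6,5,8], 5, [([], 741, [])], []⟩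
def c743 : Clm := ⟨8, 8, true, [1,4,1,4,4,1,4,4,1,4,4,1,4,1,4,1,5,1,4,4,2,6,3,11], [1,4,4,1,5,1,4,4,1,5,1,4,4,1,4,1,4,1,5,1,4,4,1,4,3,1,13,3], 11, [([], 182, [1,4,1,5,1,4,4,1,5,1,5,1]), ([158,93,90], 191, [4,4,1,4,4,1,5,1,4,1,4,1,5,1,4,1,4,4]), ([357], 733, [4,1,4,4,1,4,1,4,4,1,5,1,5,1,5,1,4,4,1,4,4])], []⟩
def c744 : Clm := ⟨8, 8, true, [1,4,4,1,5,1,4,4,1,5,1,4,4,1,4,1,4,1,5,1,4,4,1,4,3,1,13,3], [1,4,1,4,4,1,4,4,1,4,4,1,4,1,4,1,5,1,4,4,2,6,3,11], 5, [([], 743, [])], []⟩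
def c745 : Clm := ⟨8, 8, true, [4,1,5,1,5,1,4,4,1,4,4,1,4,1,5,1,4,1,4,4,3,7,11,11], [5,1,4,1,4,1,5,1,4,1,5,1,4,4,1,4,4,2,6,5,10], 9, [([], 644, [4,1,5,1,4,4,1,5,1,4,1,4,1,4,1]), ([357], 182, [5,1,5,1,4,4,1,4,1,4,4,1]), ([92,158,90], 433, [5,1,4,4,1,5,1,5,1,5,1,5,1,4,1,4,4,1,5])], []⟩
def c746 : Clm := ⟨8, 8, true, [5,1,4,1,4,1,5,1,4,1,5,1,4,4,1,4,4,2,6,5,10], [4,1,5,1,5,1,4,4,1,4,4,1,4,1,5,1,4,1,4,4,3,7,11,11], 5, [([], 745, [])], []⟩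
def c747 : Clm := ⟨8, 8, true, [4,1,5,1,4,1,5,1,4,1,4,4,1,5,1,4,4,1,5,1,4,7,1,11], [4,1,4,1,4,4,1,4,1,5,1,4,1,5,1,4,1,4,1,5,1,4,3,4,7,5], 11, [([], 182, [1,4,1,4,4,1]), ([92,92,90], 285, [4,4,1,4,4,1,4,1,4,1,4,4,1,5,1,4,1]), ([357], 435, [4,1,4,4,1,5,1,5,1,4,1,4,4,1,4,4])], []⟩
def c748 : Clm := ⟨8, 8, true, [4,1,4,1,4,4,1,4,1,5,1,4,1,5,1,4,1,4,1,5,1,4,3,4,7,5], [4,1,5,1,4,1,5,1,4,1,4,4,1,5,1,4,4,1,5,1,4,7,1,11], 5, [([], 747, [])], []⟩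
def c749 : Clm := ⟨8, 8, true, [1,4,1,4,4,1,5,1,5,1,4,1,4,1,4,4,1,4,4,1,4,3,1,4,1,10], [1,5,1,5,1,5,1,5,1,4,1,4,4,1,4,4,1,4,4,1,3,1,5,11], 9, [([], 565, [1,4,1,4,1,5,1,5,1,5,1,4,1,4,4,1,4,4]), ([], 182, [4,1,5,1,4,4,1,5,1,5,1]), ([88], 493, [4,1,5,1,4,1,4,4,1,4,4,1,4,4,1,4,1,4,4,1,4,4])], []⟩
def c750 : Clm := ⟨8, 8, true, [1,5,1,5,1,5,1,5,1,4,1,4,4,1,4,4,1,4,4,1,3,1,5,11], [1,4,1,4,4,1,5,1,5,1,4,1,4,1,4,4,1,4,4,1,4,3,1,4,1,10], 5, [([], 749, [])], []⟩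
def c751 : Clm := ⟨8, 8, true, [4,4,1,4,1,4,4,1,4,1,4,1,5,1,5,1,4,4,3,4,1,9], [4,4,1,4,1,4,1,5,1,4,1,4,4,1,4,4,1,8,10,8,4], 9, [([], 243, [5,1,5,1,4,1,4,1,5,1,4,1,4,1,5,1,5,1,4]), ([356], 182, [1,4,1,5,1,5,1,5,1,4,1,4,1]), ([90], 275, [1,5,1,5,1,5,1,5,1,5,1,5,1,5,1,5,1,4,1,4,4,1])], []⟩
def c752 : Clm := ⟨8, 8, true, [4,4,1,4,1,4,1,5,1,4,1,4,4,1,4,4,1,8,10,8,4], [4,4,1,4,1,4,4,1,4,1,4,1,5,1,5,1,4,4,3,4,1,9], 5, [([], 751, [])], []⟩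
def c753 : Clm := ⟨8, 8, true, [1,5,1,5,1,5,1,4,1,4,1,4,1,4,1,4,4,1,4,1,5,8,14,13,7], [1,4,1,5,1,5,1,4,1,4,4,1,4,1,5,1,4,1,4,4,1,5,1,3,14,4,12], 11, [([], 182, [4,4,1,4,1,5,1,5,1,5,1,5,1]), ([], 651, [1,4,1,4,1,4,1,5,1,4,1,4,4,1,4,4,1,4,4,1,5]), ([], 392, [5,1,5,1,4,1,5,1,4,1,4,4,1,5,1,5,1,4])], []⟩
def c754 : Clm := ⟨8, 8, true, [5,1,4,4,1,5,1,4,1,5,1,4,4,1,5,1,5,1,4,1,5,2,12,3,11], [1,5,1,4,4,1,5,1,4,4,1,4,1,4,1,5,1,3,4,1,9], 11, [([], 182, [5,1,5,1,4,4,1,5,1,4,1,4,1]), ([158,92,92], 375, [4,4,1,4,4,1,4,1,5,1,4,1,5,1,4,1,5]), ([], 750, [5,1,5,1,4,4,1,4,1,5,1,5,1,4,4,1,4,4,1,4,4])], []⟩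
def c755 : Clm := ⟨8, 8, true, [1,5,1,4,4,1,5,1,4,4,1,4,1,4,1,5,1,3,4,1,9], [5,1,4,4,1,5,1,4,1,5,1,4,4,1,5,1,5,1,4,1,5,2,12,3,11], 5, [([], 754, [])], []⟩
def c756 : Clm := ⟨8, 8, true, [5,1,4,1,4,1,4,4,1,5,1,5,1,4,4,1,4,4,3,8,4,10], [4,1,4,4,1,5,1,4,4,1,5,1,5,1,5,1,4,2,10,5,1], 9, [([], 219, [4,1,5,1,4,1,4,1,5,1,4,1,5,1,4,1,5,1,4]), ([357], 182, [1,5,1,4,4,1,4,1,4,4,1,5,1,5,1]), ([158,93,90], 340, [5,1,4,4,1,5,1,5,1,5,1,4,4,1,4,4])], []⟩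
def c757 : Clm := ⟨8, 8, true, [4,1,4,4,1,5,1,4,4,1,5,1,5,1,5,1,4,2,10,5,1], [5,1,4,1,4,1,4,4,1,5,1,5,1,4,4,1,4,4,3,8,4,10], 5, [([], 756, [])], []⟩
def c758 : Clm := ⟨8, 8, true, [1,4,4,1,4,4,1,4,4,1,4,1,5,1,5,1,4,1,4,4,7,11], [1,4,1,5,1,4,4,1,5,1,4,1,4,1,4,4,1,4,1,5,12,11,5], 11, [([], 182, [1,5,1,4,4,1,5,1,4,4,1,4,1,4]), ([158,92,90,88], 512, [1,4,1,4,1,5,1,4,4,1,4,1,4,1,5,1,5,1,5,1,5,1]), ([], 578, [4,4,1,5,1,4,4,1,4,4,1,5,1,5,1,5,1,4,4,1,5])], []⟩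
def c759 : Clm := ⟨8, 8, true, [1,4,1,5,1,4,4,1,5,1,4,1,4,1,4,4,1,4,1,5,12,11,5], [1,4,4,1,4,4,1,4,4,1,4,1,5,1,5,1,4,1,4,4,7,11], 5, [([], 758, [])], []⟩
def c760 : Clm := ⟨8, 8, true, [4,4,1,5,1,4,1,5,1,4,1,4,1,5,1,5,1,6,9,4,13], [1,4,4,1,5,1,4,1,5,1,4,1,5,1,4,1,4,4,1,10,13,8,3], 11, [([], 555, [1,5,1,5,1,4,1,4,4,1,5,1,5,1,4,1,4,4,1,5,1]), ([356], 182, [1,4,1,4,4,1,4,1,5]), ([90,88], 510, [4,4,1,4,1,4,1,4,4,1,4,1,4,1,4,1,4,4])], []⟩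
def c761 : Clm := ⟨8, 8, true, [1,4,4,1,5,1,4,1,5,1,4,1,5,1,4,1,4,4,1,10,13,8,3], [4,4,1,5,1,4,1,5,1,4,1,4,1,5,1,5,1,6,9,4,13], 5, [([], 760, [])], []⟩
def c762 : Clm := ⟨8, 8, true, [4,4,1,4,4,1,5,1,5,1,5,1,5,1,5,1,5,1,5,1,6,8,5], [1,4,4,1,5,1,5,1,4,1,4,1,4,4,6,11,11,1], 9, [([], 182, [4,4,1,4,1,5,1,5,1,5,1,4,4,1,4]), ([88,92], 142, [1,5,1,4,1,4,1,5,1,5,1,4,1,4,1,4,1,4,1,4,1]), ([316,282,276], 220, [1,4,4,1,4,4,1,4,1,4,4,1,5,1,4,1,4,1,4,1])], []⟩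
def c763 : Clm := ⟨8, 8, true, [5,1,4,4,1,5,1,5,1,4,1,4,4,1,5,1,5,1,5,1,5,2,7,4,8], [1,4,1,4,1,5,1,4,1,4,1,4,4,1,4,4,1,4,1,5,1,3,8,3,8], 9, [([], 182, [4,4,1,4,4,1,4,4,1,4,1]), ([93,158,90], 285, [5,1,5,1,4,1,5,1,4,1,4,1,4,1,4,1]), ([356], 255, [4,4,1,4,1,4,1,5,1,5,1,4,1,4,1])], []⟩
def c764 : Clm := ⟨8, 8, true, [1,4,1,4,1,5,1,4,1,4,1,4,4,1,4,4,1,4,1,5,1,3,8,3,8], [5,1,4,4,1,5,1,5,1,4,1,4,4,1,5,1,5,1,5,1,5,2,7,4,8], 5, [([], 763, [])], []⟩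
def c765 : Clm := ⟨8, 8, true, [1,4,4,1,5,1,4,1,4,1,5,1,5,1,4,1,4,4,1,4,4,6,4,8], [4,1,4,1,4,4,1,4,1,5,1,5,1,4,4,1,4,1,4,1,2,10,3], 9, [([], 182, [5,1,4,1,4,4,1,5,1,5,1,5,1,4]), ([158,90], 330, [1,4,1,4,1,4,4,1,4,1,5,1,5,1,5,1,5]), ([], 471, [1,5,1,5,1,4,1,4,4,1,5,1,4,4,1,4,1,4,1,4,1,4,4])], []⟩
def c766 : Clm := ⟨8, 8, true, [4,1,4,1,4,4,1,4,1,5,1,5,1,4,4,1,4,1,4,1,2,10,3], [1,4,4,1,5,1,4,1,4,1,5,1,5,1,4,1,4,4,1,4,4,6,4,8], 5, [([], 765, [])], []⟩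
def c767 : Clm := ⟨8, 8, true, [1,4,1,5,1,4,1,4,4,1,5,1,5,1,5,1,4,4,1,5,1,3,8,1,9], [1,4,1,4,4,1,5,1,5,1,4,4,1,4,4,1,5,1,5,1,5,8,1,9,13], 9, [([], 182, [5,1,4,4,1,4,4,1,4,1,4,1]), ([158], 719, [5,1,4,4,1,5,1,5,1,5,1,5,1,4,1,4,1,4,4,1,5,1]), ([357], 294, [4,4,1,4,1,4,4,1,5,1,4,1,5,1,5,1,4,4,1,5,1])], []⟩
def c768 : Clm := ⟨8, 8, true, [1,4,1,4,4,1,5,1,5,1,4,4,1,4,4,1,5,1,5,1,5,8,1,9,13], [1,4,1,5,1,4,1,4,4,1,5,1,5,1,5,1,4,4,1,5,1,3,8,1,9], 5, [([], 767, [])], []⟩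
def c769 : Clm := ⟨8, 8, true, [5,1,4,4,1,5,1,4,1,4,1,5,1,5,1,4,4,1,2,4,10,4], [1,5,1,4,4,1,5,1,4,4,1,4,4,1,5,6,9,12,7], 9, [([], 182, [1,4,1,4,4,1,4,4,1,4,4,1,4]), ([88,93,88], 375, [4,4,1,4,1,4,4,1,4,4,1,4,4,1,4,1,4,1,4,1,4]), ([356], 573, [4,1,4,1,5,1,5,1,4,4,1,4,1,4,4,1,4,1,5,1,5])], []⟩
def c770 : Clm := ⟨8, 8, true, [5,1,5,1,4,1,4,1,5,1,5,1,4,1,4,3,12,10,1], [5,1,4,4,1,4,1,4,1,4,4,1,5,1,4,1,5,1,4,13,11,9,9], 11, [([], 419, [1,4,4,1,4,1,4,1,4,4,1,5,1,4,4,1,4,4]), ([356], 182, [1,4,1,4,4,1,5,1,5,1,4]), ([92,92,158,88], 493, [4,4,1,5,1,5,1,4,1,4,4,1,5,1,5,1,4,1,4,4])], []⟩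
def c771 : Clm := ⟨8, 8, true, [5,1,4,4,1,4,1,4,1,4,4,1,5,1,4,1,5,1,4,13,11,9,9], [5,1,5,1,4,1,4,1,5,1,5,1,4,1,4,3,12,10,1], 5, [([], 770, [])], []⟩
def c772 : Clm := ⟨8, 8, true, [1,5,1,4,4,1,5,1,4,1,4,1,4,1,4,4,1,4,1,4,4,7,10,12,3], [1,4,4,1,5,1,4,4,1,4,4,1,4,4,1,5,1,4,1,4,2,1,6,11,6], 9, [([], 182, [1,4,1,4,1,5,1,4,1,5,1,4,1]), ([158,92,90], 608, [5,1,5,1,4,1,4,4,1,4,4,1,5,1,4,4,1,4,4]), ([], 385, [1,5,1,5,1,4,1,4,4,1,4,1,4,1,5,1,4,4,1,4,1,4])], []⟩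
def c773 : Clm := ⟨8, 8, true, [1,4,4,1,4,1,5,1,5,1,4,1,4,4,1,4,4,2,6,2,11], [1,4,1,4,1,4,4,1,5,1,4,4,1,4,4,1,5,1,4,1,5,6,11,7,12], 9, [([], 182, [4,4,1,5,1,5,1,4,4,1,4,1,5,1,4]), ([88,92], 638, [1,4,4,1,5,1,4,1,4,1,4,4,1,5,1,4,4]), ([357], 378, [4,1,5,1,5,1,4,4,1,5,1,4,1,5,1,4,4,1])], []⟩
def c774 : Clm := ⟨8, 8, true, [1,4,1,4,1,4,4,1,5,1,4,4,1,4,4,1,5,1,4,1,5,6,11,7,12], [1,4,4,1,4,1,5,1,5,1,4,1,4,4,1,4,4,2,6,2,11], 5, [([], 773, [])], []⟩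
def c775 : Clm := ⟨8, 8, true, [1,4,4,1,4,1,4,4,1,4,1,5,1,5,1,4,1,5,1,4,1,6,2,5,10], [1,4,1,4,1,4,4,1,4,4,1,4,4,1,4,1,4,3,9,6,11], 11, [([357], 771, [5,1,4,4,1,4,4,1,4,1,4,1,4,1,4,4,1,5,1,5,1]), ([357], 182, [4,1,4,1,4,1,4,1,5]), ([158,92,88], 585, [1,4,1,4,1,5,1,5,1,5,1,4,4,1,5,1,5,1,5,1,4])], []⟩
def c776 : Clm := ⟨8, 8, true, [1,4,1,4,1,4,4,1,4,4,1,4,4,1,4,1,4,3,9,6,11], [1,4,4,1,4,1,4,4,1,4,1,5,1,5,1,4,1,5,1,4,1,6,2,5,10], 5, [([], 775, [])], []⟩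
def c777 : Clm := ⟨8, 8, true, [4,1,4,4,1,5,1,5,1,4,1,4,4,1,5,1,5,1,4,1,5,1,3,8,1,9], [1,5,1,4,1,4,1,4,4,1,5,1,4,4,1,4,4,1,4,3,10,13,6], 9, [([], 182, [4,4,1,4,1,4,1,4,1,5,1,4,4]), ([90,93], 608, [1,4,1,4,1,4,1,5,1,5,1,4,1,4,4,1,4,1,4,1]), ([357], 383, [1,4,1,4,1,5,1,5,1,4,4,1,4,4,1,4,4,1,5,1,4,1])], []⟩
def c778 : Clm := ⟨8, 8, true, [1,5,1,4,1,4,1,4,4,1,5,1,4,4,1,4,4,1,4,3,10,13,6], [4,1,4,4,1,5,1,5,1,4,1,4,4,1,5,1,5,1,4,1,5,1,3,8,1,9], 5, [([], 777, [])], []⟩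
def c779 : Clm := ⟨8, 8, true, [4,1,4,4,1,4,1,5,1,5,1,5,1,4,4,7,10], [4,1,4,1,4,4,1,4,1,4,4,1,4,4,1,4,1,5,1,4,1,8,2,8], 9, [([], 182, [1,4,1,4,1,4,1,4,4,1]), ([90,93], 81, [1,5,1,5,1,4,1,4,4,1,4,4,1,4,1,4,4,1]), ([158,90], 291, [1,4,1,5,1,4,4,1,5,1,4,4,1,4,1,4,1,5,1,4,1,4])], []⟩
def c780 : Clm := ⟨8, 8, true, [1,4,1,5,1,4,4,1,5,1,5,1,4,1,5,1,3,8,1,9], [5,1,4,4,1,4,1,4,1,4,1,4,4,1,4,4,1,5,1,4,4,6,1,4,8], 9, [([], 182, [5,1,4,1,4,1]), ([158,93], 96, [5,1,4,4,1,4,1,4,4,1,4,4,1,4,4,1,4,1,4,4,1,5,1]), ([158,90,88], 181, [4,4,1,5,1,4,4,1,4,4,1,5,1,5,1,5,1,4,4,1,5])], []⟩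
def c781 : Clm := ⟨8, 8, true, [5,1,4,4,1,4,1,4,1,4,1,4,4,1,4,4,1,5,1,4,4,6,1,4,8], [1,4,1,5,1,4,4,1,5,1,5,1,4,1,5,1,3,8,1,9], 5, [([], 780, [])], []⟩
def c782 : Clm := ⟨8, 8, true, [1,5,1,5,1,4,1,4,1,4,1,4,4,1,5,1,4,4,1,8,10,5,3], [1,4,1,4,1,4,1,4,4,1,5,1,4,4,1,4,4,1,4,4,2,10,9], 11, [([], 245, [1,4,1,4,4,1,5,1,4,1,4,1,5,1,4,4,1,5,1,4,4]), ([356], 182, [5,1,5,1,4,4,1,5,1,4,4]), ([92,158], 468, [1,5,1,4,1,5,1,4,1,4,1,4,4,1,4,4,1,4,4,1])], []⟩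
def c783 : Clm := ⟨8, 8, true, [1,4,1,4,1,4,1,4,4,1,5,1,4,4,1,4,4,1,4,4,2,10,9], [1,5,1,5,1,4,1,4,1,4,1,4,4,1,5,1,4,4,1,8,10,5,3], 5, [([], 782, [])], []⟩
def c784 : Clm := ⟨8, 8, true, [1,4,4,1,4,1,4,4,1,4,1,4,1,4,4,1,4,1,4,1,5,2,4,8], [1,4,1,4,1,4,1,5,1,5,1,4,4,1,4,1,5,1,4,4,3,12,14], 9, [([], 182, [1,4,1,4,1,4]), ([158,93,90,88], 719, [1,5,1,4,4,1,4,4,1,4,4,1,4,1,4,1,4,4,1]), ([357], 491, [4,1,4,1,4,1,4,1,5,1,4,4,1,4,4,1])], []⟩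
def c785 : Clm := ⟨8, 8, true, [1,4,1,4,1,4,1,5,1,5,1,4,4,1,4,1,5,1,4,4,3,12,14], [1,4,4,1,4,1,4,4,1,4,1,4,1,4,4,1,4,1,4,1,5,2,4,8], 5, [([], 784, [])], []⟩
def c786 : Clm := ⟨8, 8, true, [4,1,5,1,4,1,4,1,4,1,4,4,1,4,1,4,1,4,4,1,5,1,4,2,1,14,10], [1,5,1,4,1,5,1,4,4,1,5,1,5,1,5,1,4,1,4,4,2,9,2,12], 9, [([], 182, [1,5,1,4,4,1,4,1,4,1,5]), ([92,88], 510, [4,4,1,5,1,5,1,4,4,1,5,1,5,1,4,1,4]), ([357], 781, [4,1,4,1,5,1,5,1,4,4,1,5,1,5,1,5,1])], []⟩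
def c787 : Clm := ⟨8, 8, true, [1,5,1,4,1,5,1,4,4,1,5,1,5,1,5,1,4,1,4,4,2,9,2,12], [4,1,5,1,4,1,4,1,4,1,4,4,1,4,1,4,1,4,4,1,5,1,4,2,1,14,10], 5, [([], 786, [])], []⟩
def c788 : Clm := ⟨8, 8, true, [1,4,1,5,1,4,1,4,4,1,4,1,5,1,5,1,5,1,5,1,5,1,2,5,9,6], [5,1,5,1,4,4,1,4,1,5,1,4,1,4,1,4,4,1,4,1,4,4,3,5,9,6], 11, [([], 715, [5,1,4,4,1,4,1,4,1,5,1,4,1,4,4,1,4,1,4,4]), ([], 182, [1,4,1,4,1,5,1,4,1,4,1,5,1,4]), ([93,90,88], 528, [1,5,1,5,1,5,1,5,1,4,1,4,1,5,1,5,1,4,4,1,4,1])], []⟩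
def c789 : Clm := ⟨8, 8, true, [5,1,5,1,4,4,1,4,1,5,1,4,1,4,1,4,4,1,4,1,4,4,3,5,9,6], [1,4,1,5,1,4,1,4,4,1,4,1,5,1,5,1,5,1,5,1,5,1,2,5,9,6], 5, [([], 788, [])], []⟩
def c790 : Clm := ⟨8, 8, true, [1,4,1,4,1,4,1,5,1,4,1,5,1,4,4,1,4,4,13,10,10,12], [1,4,1,5,1,4,4,1,5,1,5,1,5,1,4,4,1,5,1,4,4,1,5,2,6,11,4], 11, [([], 755, [4,1,4,1,4,4,1,4,4,1,5,1,4,4,1,4,4,1,5,1]), ([], 182, [1,4,1,4,1,4,4,1,4,1,4,1]), ([158,93,90,88], 505, [1,4,1,4,4,1,5,1,4,4,1,4,1,5,1,4,1,4,4,1,5])], []⟩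
def c791 : Clm := ⟨8, 8, true, [1,4,4,1,5,1,4,1,5,1,5,1,4,1,4,4,1,4,3,5,2,11], [5,1,4,1,4,4,1,5,1,5,1,4,1,4,4,1,2,8,2,13], 11, [([], 367, [4,1,4,1,4,1,4,1,4,1,4,1,5,1,5,1,4,1,5,1,5,1]), ([357], 182, [5,1,4,4,1,4,1,4,1,5,1,4,4]), ([88,93], 528, [1,4,4,1,5,1,4,1,5,1,4,1,4,4,1,4,1,4,1,5,1,4,4])], []⟩
def c792 : Clm := ⟨8, 8, true, [5,1,4,1,4,4,1,5,1,5,1,4,1,4,4,1,2,8,2,13], [1,4,4,1,5,1,4,1,5,1,5,1,4,1,4,4,1,4,3,5,2,11], 5, [([], 791, [])], []⟩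
def c793 : Clm := ⟨8, 8, true, [1,4,1,4,1,4,1,4,4,1,4,1,5,1,4,4,1,2,12,4,13], [1,4,1,5,1,4,1,5,1,4,1,5,1,4,1,5,1,8,7,1,9], 11, [([], 472, [1,4,1,4,1,4,1,4,1,5,1,4,4,1,5]), ([356], 182, [5,1,4,1,4,4,1]), ([88,93], 505, [5,1,4,1,4,1,4,4,1,4,4,1,4,1,5,1,4,4,1,5])], []⟩
def c794 : Clm := ⟨8, 8, true, [1,4,1,5,1,4,1,5,1,4,1,5,1,4,1,5,1,8,7,1,9], [1,4,1,4,1,4,1,4,4,1,4,1,5,1,4,4,1,2,12,4,13], 5, [([], 793, [])], []⟩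
def c795 : Clm := ⟨8, 8, true, [4,1,5,1,4,4,1,4,1,4,4,1,4,4,1,4,4,1,4,1,5,6,1,10], [1,5,1,4,1,4,1,5,1,5,1,4,4,1,4,4,1,4,4,1,5,6,2,11,2], 9, [([], 182, [1,4,1,4,4,1,5,1,5,1,4,1]), ([158,92,92], 353, [4,1,4,1,4,1,5,1,5,1,5,1,5,1,4,4,1,5,1,4,4,1,4,1]), ([], 436, [4,4,1,5,1,4,4,1,5,1,4,4,1,4])], []⟩
def c796 : Clm := ⟨8, 8, true, [1,5,1,4,1,4,1,5,1,5,1,4,4,1,4,4,1,4,4,1,5,6,2,11,2], [4,1,5,1,4,4,1,4,1,4,4,1,4,4,1,4,4,1,4,1,5,6,1,10], 5, [([], 795, [])], []⟩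
def c797 : Clm := ⟨8, 8, true, [4,4,1,4,1,5,1,4,1,5,1,4,1,4,1,4,1,4,1,2,5,6,1], [1,4,1,4,1,5,1,5,1,4,1,4,4,1,5,1,5,1,4,1,4,2,7,10,4], 11, [([], 570, [1,5,1,4,4,1,4,1,4,4,1,4,1,5,1,4,4,1,4]), ([], 182, [4,4,1,4,4,1,5,1,4,4]), ([93,158,88], 289, [1,4,1,5,1,4,1,4,4,1,4,4])], []⟩
def c798 : Clm := ⟨8, 8, true, [1,4,1,4,1,5,1,5,1,4,1,4,4,1,5,1,5,1,4,1,4,2,7,10,4], [4,4,1,4,1,5,1,4,1,5,1,4,1,4,1,4,1,4,1,2,5,6,1], 5, [([], 797, [])], []⟩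
def c799 : Clm := ⟨8, 8, true, [1,4,1,4,1,5,1,4,4,1,5,1,4,1,5,1,5,1,4,4,1,4,1,4,3,5,11,7], [5,1,4,4,1,4,4,1,5,1,4,4,1,4,6,8,13,11], 11, [([], 791, [1,4,4,1,5,1,4,4,1,4,1,4,1,5,1,5,1,4,1,4,1,4,4]), ([357], 182, [1,5,1,4,1,4,1,5,1,4,4,1]), ([93,90], 433, [4,1,5,1,4,4,1,4,1,4,4,1,4,4,1,4,4,1])], []⟩
def c800 : Clm := ⟨8, 8, true, [5,1,4,4,1,4,4,1,5,1,4,4,1,4,6,8,13,11], [1,4,1,4,1,5,1,4,4,1,5,1,4,1,5,1,5,1,4,4,1,4,1,4,3,5,11,7], 5, [([], 799, [])], []⟩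
def c801 : Clm := ⟨8, 8, true, [1,4,1,4,4,1,4,1,4,4,1,4,4,1,4,1,2,10,2,6], [1,4,1,4,1,4,1,4,4,1,4,1,5,1,4,1,5,1,5,1,4,4,1,5,12,8], 11, [([], 681, [1,4,1,4,1,5,1,4,1,5,1,4,1,4,1,4,1,4,1]), ([356], 182, [4,4,1,4,1,4,4,1,4]), ([158,92,92], 249, [5,1,5,1,4,1,4,1,4,1,4,1,4,4,1,5,1,4,1,5,1,5])], []⟩
def c802 : Clm := ⟨8, 8, true, [1,4,1,4,1,4,1,4,4,1,4,1,5,1,4,1,5,1,5,1,4,4,1,5,12,8], [1,4,1,4,4,1,4,1,4,4,1,4,4,1,4,1,2,10,2,6], 5, [([], 801, [])], []⟩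
def c803 : Clm := ⟨8, 8, true, [1,4,1,4,4,1,4,1,5,1,4,1,4,1,4,4,6,12,8], [4,1,5,1,4,1,4,1,4,4,1,5,1,4,1,5,1,5,3,7,11,5], 11, [([], 539, [5,1,5,1,4,1,4,1,4,1,4,1,5,1,4,4,1,4,4]), ([357], 182, [4,4,1,5,1,4,1,5,1,4,1,4]), ([92,92,90], 505, [5,1,5,1,5,1,4,4,1,5,1,4,1,4,1,4])], []⟩
def c804 : Clm := ⟨8, 8, true, [4,1,4,1,4,4,1,4,1,4,4,1,4,1,4,1,4,4,1,4,4,3,7,3,4], [1,4,4,1,4,4,1,4,1,4,1,5,1,5,1,4,4,1,5,1,4,4,1,2,7,2,9], 11, [([], 738, [4,4,1,4,1,4,1,5,1,5,1,4,1,4,1,4]), ([357], 182, [1,4,1,5,1]), ([92,92,158], 505, [4,4,1,4,1,4,4,1,5,1,4,4])], []⟩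
def c805 : Clm := ⟨8, 8, true, [1,4,4,1,4,4,1,4,1,4,1,5,1,5,1,4,4,1,5,1,4,4,1,2,7,2,9], [4,1,4,1,4,4,1,4,1,4,4,1,4,1,4,1,4,4,1,4,4,3,7,3,4], 5, [([], 804, [])], []⟩
def c806 : Clm := ⟨8, 8, true, [1,4,1,4,1,4,1,5,1,4,1,5,1,4,1,4,4,1,4,6,5,8], [4,1,5,1,5,1,4,4,1,4,4,1,5,1,4,1,4,4,6,3,5,1], 9, [([], 182, [5,1,4,1,5,1,5,1,5,1,4,4,1,4]), ([93,158,90,88], 249, [1,4,1,4,1,4,1,4,1,4,1,5,1,4,1,4,4,1,4,4,1,5]), ([356], 378, [1,4,1,4,1,4,4,1,5,1,4,1,4,4,1,4,1,5,1,5,1])], []⟩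
def c807 : Clm := ⟨8, 8, true, [5,1,4,1,5,1,5,1,4,1,4,1,5,1,4,1,4,6,10], [5,1,4,4,1,4,4,1,4,4,1,4,1,4,4,1,5,1,5,1,5,7,13,8], 9, [([], 182, [5,1,4,1,4,1,4,4,1,5,1,5,1,4]), ([90], 249, [4,1,4,1,4,1,4,1,5,1,4,4,1,5,1,4,4]), ([357], 530, [5,1,4,4,1,4,1,4,1,5,1,5,1,4,1,4,1,4,4,1])], []⟩
def c808 : Clm := ⟨6, 8, true, [5,1,4,4,1,4,4,1,4,1,4,1,4,4,1,4,2,4,1,10], [1,4,1,4,1,4,4,1,5,1,4,4,1,4,4,2,4,9,7], 11, [([], 483, [1,4,1,4,4,1,4,1,5,1,4,1,5,1,4,1,5,1,4,1,4,4,1,4]), ([], 182, [4,4,1,4,1,4,4,1,5,1,5,1,4]), ([92,158,88], 407, [1,4,4,1,4,1,5,1,4,1,4,4,1,4,1,4,1,5,1,4,4,1,5])], []⟩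
def c809 : Clm := ⟨8, 6, true, [1,4,1,4,1,4,4,1,5,1,4,4,1,4,4,2,4,9,7], [5,1,4,4,1,4,4,1,4,1,4,1,4,4,1,4,2,4,1,10], 5, [([], 808, [])], []⟩
def c810 : Clm := ⟨8, 8, true, [4,1,4,1,4,1,5,1,5,1,5,1,5,1,4,4,1,5,1,4,1,4,6,12,6,3], [1,4,1,5,1,5,1,4,4,1,4,1,5,1,4,1,4,1,5,1,4,4,1,4,12,9,14], 11, [([], 449, [1,5,1,5,1,4,4,1,5,1,5,1,5,1,4,4,1,4,4,1]), ([357], 182, [4,1,4,4,1,5,1,5,1,5,1,4,1]), ([90], 304, [1,4,4,1,4,1,4,1,4,1,4,1,4,4,1,4,1,4,1,4,4])], []⟩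
def c811 : Clm := ⟨8, 8, true, [1,4,1,5,1,5,1,4,4,1,4,1,5,1,4,1,4,1,5,1,4,4,1,4,12,9,14], [4,1,4,1,4,1,5,1,5,1,5,1,5,1,4,4,1,5,1,4,1,4,6,12,6,3], 5, [([], 810, [])], []⟩
def c812 : Clm := ⟨8, 8, true, [1,5,1,4,4,1,5,1,5,1,5,1,4,1,4,4,1,4,4,2,1,10,13,11], [4,4,1,5,1,5,1,4,4,1,4,1,4,1,5,6,9,4,14], 11, [([], 740, [1,4,1,4,1,4,4,1,5,1,5,1,4,4,1,4,1,5,1,5,1,5]), ([356], 182, [5,1,5,1,4,1,5,1,4,1,4,4]), ([93,158,90], 719, [1,4,4,1,5,1,4,1,4,1,5,1,5,1,4,4,1,5,1,5])], []⟩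
def c813 : Clm := ⟨8, 8, true, [4,4,1,5,1,5,1,4,4,1,4,1,4,1,5,6,9,4,14], [1,5,1,4,4,1,5,1,5,1,5,1,4,1,4,4,1,4,4,2,1,10,13,11], 5, [([], 812, [])], []⟩
def c814 : Clm := ⟨8, 8, true, [1,4,1,4,1,5,1,5,1,4,1,4,4,1,4,1,4,1,7,8,3,1], [1,5,1,5,1,4,1,5,1,5,1,4,4,1,4,1,4,4,6,12,4,4], 9, [([], 182, [1,4,1,4,1,4,4,1,5,1,4,1]), ([88,93,88], 651, [1,4,4,1,4,4,1,4,4,1,4,1,4,1,5,1,4,4,1,4,1,4]), ([356], 531, [4,1,4,4,1,4,1,4,1,4,1,4,4,1,4,1,4,4,1,4,1])], []⟩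
def c815 : Clm := ⟨8, 8, true, [1,5,1,5,1,4,1,5,1,5,1,4,4,1,4,1,4,4,6,12,4,4], [1,4,1,4,1,5,1,5,1,4,1,4,4,1,4,1,4,1,7,8,3,1], 5, [([], 814, [])], []⟩
def c816 : Clm := ⟨8, 8, true, [4,1,4,4,1,4,4,1,5,1,4,1,5,1,5,1,5,1,5,1,5,1,4,6,4,8,4], [4,4,1,4,4,1,4,1,4,4,1,5,1,4,1,5,13,3,4,3], 9, [([], 182, [1,5,1,4,1,5,1,5,1,5,1,4,4,1]), ([88,92], 320, [1,4,1,4,1,5,1,4,4,1,4,1,5,1,5,1,4,1]), ([357], 672, [4,4,1,4,1,4,4,1,4,1,4,1,4,4,1,4,1,4,4,1])], []⟩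
def c817 : Clm := ⟨8, 8, true, [4,4,1,4,4,1,4,1,4,4,1,5,1,4,1,5,13,3,4,3], [4,1,4,4,1,4,4,1,5,1,4,1,5,1,5,1,5,1,5,1,5,1,4,6,4,8,4], 5, [([], 816, [])], []⟩
def c818 : Clm := ⟨6, 8, true, [1,4,4,1,5,1,5,1,4,4,1,4,4,1,5,1,4,1,4,4,1,5,7,11,7,13], [1,4,1,4,4,1,4,1,4,1,4,1,5,1,5,1,4,1,5,1,4,4,1,5,6,5,14,11], 7, [([], 183, [5]), ([356], 425, [1,5,1,4,1,4,4,1,5,1,5,1,5,1,4,1,5])], []⟩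
def c819 : Clm := ⟨8, 6, true, [1,4,1,4,4,1,4,1,4,1,4,1,5,1,5,1,4,1,5,1,4,4,1,5,6,5,14,11], [1,4,4,1,5,1,5,1,4,4,1,4,4,1,5,1,4,1,4,4,1,5,7,11,7,13], 5, [([], 818, [])], []⟩
def c820 : Clm := ⟨6, 8, true, [4,4,1,4,1,4,1,5,1,5,1,4,1,5,1,4,4,1,5,13], [1,5,1,5,1,4,4,1,4,4,1,4,4,1,5,1,5,10,10,9,4], 7, [([], 183, [1,4,1]), ([356], 242, [1,4,4,1,4,4,1,4,4,1,4,4,1,4,1,4,1,4])], []⟩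
def c821 : Clm := ⟨8, 6, true, [1,5,1,5,1,4,4,1,4,4,1,4,4,1,5,1,5,10,10,9,4], [4,4,1,4,1,4,1,5,1,5,1,4,1,5,1,4,4,1,5,13], 5, [([], 820, [])], []⟩
def c822 : Clm := ⟨6, 8, true, [5,1,4,1,4,4,1,4,4,1,5,1,4,4,1,5,1,4,1,4,1,5,10,10,4,3], [4,1,4,4,1,5,1,4,4,1,4,1,4,1,4,1,4,1,4,9,9,5,2], 7, [([], 183, [4,4,1,4,4,1]), ([357], 370, [5,1,5,1,5,1,5,1,5,1,4,1,4,4])], []⟩
def c823 : Clm := ⟨8, 6, true, [4,1,4,4,1,5,1,4,4,1,4,1,4,1,4,1,4,1,4,9,9,5,2], [5,1,4,1,4,4,1,4,4,1,5,1,4,4,1,5,1,4,1,4,1,5,10,10,4,3], 5, [([], 822, [])], []⟩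
def c824 : Clm := ⟨8, 8, true, [5,1,4,4,1,4,1,4,1,4,1,4,4,1,10,13,3,13], [1,4,1,4,1,5,1,4,4,1,4,4,1,4,4,1,4,4,1,5,1,4,2,4,4,7,1], 7, [([], 316, [4,4,1,5,1,4,4,1,5,1,5,1,4]), ([228,227], 183, [1,4,1,4,1,5,1])], []⟩
def c825 : Clm := ⟨8, 8, true, [1,4,1,4,1,5,1,4,4,1,4,4,1,4,4,1,4,4,1,5,1,4,2,4,4,7,1], [5,1,4,4,1,4,1,4,1,4,1,4,4,1,10,13,3,13], 5, [([], 824, [])], []⟩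
def c826 : Clm := ⟨8, 8, true, [1,4,1,5,1,4,4,1,4,1,4,1,4,4,1,5,1,4,1,5,1,13,7,2], [1,4,1,5,1,4,1,5,1,5,1,4,1,4,4,1,4,4,1,4,1,4,4,2,1,14,9], 11, [([], 205, [4,1,5,1,4,1,4,1,5,1,5,1,4,1,4,1,4,4,1,5,1]), ([356], 484, [4,1,4,4,1,5,1,5,1,5,1,4,1,4,4,1,4,1]), ([230,228,240], 183, [1,4,4,1,4,1,4,1,5,1,5,1])], []⟩
def c827 : Clm := ⟨8, 8, true, [1,4,1,5,1,4,1,5,1,5,1,4,1,4,4,1,4,4,1,4,1,4,4,2,1,14,9], [1,4,1,5,1,4,4,1,4,1,4,1,4,4,1,5,1,4,1,5,1,13,7,2], 5, [([], 826, [])], []⟩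
def c828 : Clm := ⟨8, 8, true, [4,1,4,1,4,4,1,4,4,1,4,1,4,1,4,4,1,5,1,5,2,10,3,4,7], [4,1,4,4,1,4,4,1,4,4,1,4,1,5,1,5,7,11], 11, [([356], 233, [5,1,4,1,4,1,4,4,1,4,4,1,4,1,5,1,4,1,5]), ([356], 194, [1,5,1,5,1,5,1,4,1,5,1,4,4,1,4,1,4,4,1]), ([230,241,226], 183, [4,1,4,4,1,4,4,1,4,4,1,4,4,1,4])], []⟩
def c829 : Clm := ⟨8, 8, true, [4,1,4,4,1,4,4,1,4,4,1,4,1,5,1,5,7,11], [4,1,4,1,4,4,1,4,4,1,4,1,4,1,4,4,1,5,1,5,2,10,3,4,7], 5, [([], 828, [])], []⟩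
def c830 : Clm := ⟨8, 8, true, [4,1,4,4,1,5,1,4,4,1,4,1,4,3,8,11,9], [4,4,1,5,1,4,1,5,1,4,1,4,1,5,1,5,2,12,3,11], 11, [([357], 748, [1,4,1,4,1,4,1,4,1,4,4,1,5,1,4,1,4,1,4,1,4,4]), ([357], 194, [5,1,5,1,4,4,1,5,1,5,1,4,1,5,1,4,4,1]), ([228,240], 183, [4,1,4,1,4,1,4,1,4,1,5,1,5,1])], []⟩
def c831 : Clm := ⟨8, 8, true, [1,4,1,4,1,4,1,5,1,5,1,4,1,4,1,5,1,4,1,3,7,9,6], [4,1,4,1,4,4,1,4,1,4,1,4,1,4,1,4,1,5,1,5,6,11], 11, [([], 271, [1,4,4,1,4,1,5,1,4,1,4,4,1,4,1,4,1]), ([], 822, [5,1,4,1,4,1,4,1,4,4,1,5,1,5,1,5,1,4,1]), ([229,241], 183, [4,4,1,4,4,1,4,1,4,4,1,5,1,5,1])], []⟩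
def c832 : Clm := ⟨8, 8, true, [1,4,1,5,1,4,1,4,1,4,4,1,4,4,1,5,1,4,1,2,7,10,5], [4,1,4,1,4,4,1,4,4,1,4,1,5,1,5,1,4,1,5,1,5,2,9,4,1,14], 9, [([], 341, [4,1,5,1,5,1,4,4,1,5,1,5,1,4,4,1,4,1]), ([240,230,227], 183, [5,1,4,1,5,1,4,1]), ([], 352, [1,4,4,1,4,4,1,4,1,4,1,5,1,4,4,1,4,4,1,5])], []⟩
def c833 : Clm := ⟨8, 8, true, [4,1,4,1,4,4,1,4,4,1,4,1,5,1,5,1,4,1,5,1,5,2,9,4,1,14], [1,4,1,5,1,4,1,4,1,4,4,1,4,4,1,5,1,4,1,2,7,10,5], 5, [([], 832, [])], []⟩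
def c834 : Clm := ⟨8, 8, true, [1,5,1,5,1,5,1,5,1,5,1,4,4,1,5,1,5,1,4,1,4,2,10,8,8], [4,1,5,1,5,1,5,1,4,1,4,1,4,4,1,4,4,1,5,1,6,1,9], 11, [([], 731, [4,1,4,1,5,1,4,4,1,5,1,4,4,1,5,1,4,1,5]), ([], 194, [4,1,4,1,5,1,5,1,5,1,5,1,5,1,5,1,4]), ([229,227,241,230], 183, [1,4,1,5,1,4,1,4,1,4,4,1,4,1,4,4,1])], []⟩
def c835 : Clm := ⟨8, 8, true, [4,1,5,1,5,1,5,1,4,1,4,1,4,4,1,4,4,1,5,1,6,1,9], [1,5,1,5,1,5,1,5,1,5,1,4,4,1,5,1,5,1,4,1,4,2,10,8,8], 5, [([], 834, [])], []⟩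
def c836 : Clm := ⟨8, 6, true, [4,1,5,1,4,4,1,4,4,1,4,1,4,4,1,13,1,5,1], [1,4,4,1,4,1,4,1,4,4,1,5,1,4,1,5,1,4,1,5,1,9,12,11], 9, [([], 184, [1,4,1,4,4,1,5,1,4,1,5,1,5,1,4,4,1,5,1,5]), ([240,228,230,229], 183, [4,4,1,4,4,1,4,4,1,5,1,4]), ([], 818, [4,1,5,1,4,1,4,1,4,1,4,1,5,1,5,1,5])], []⟩
def c837 : Clm := ⟨6, 8, true, [1,4,4,1,4,1,4,1,4,4,1,5,1,4,1,5,1,4,1,5,1,9,12,11], [4,1,5,1,4,4,1,4,4,1,4,1,4,4,1,13,1,5,1], 5, [([], 836, [])], []⟩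
def c838 : Clm := ⟨8, 8, true, [1,4,1,5,1,4,1,4,1,4,4,1,4,1,5,1,4,1,4,4,1,4,4,7,1,6,10], [1,5,1,4,4,1,4,1,4,4,1,4,4,1,5,1,5,1,5,6,14,11,12], 9, [([], 194, [4,1,4,4,1,5,1,5,1,4,4,1,4,1,5]), ([230,228,227], 183, [5,1,5,1,5,1,5,1,4,1,4,1,4]), ([], 632, [1,5,1,4,1,4,1,5,1,5,1,4,1,4,4,1,5,1,4,4,1])], []⟩
def c839 : Clm := ⟨8, 8, true, [1,5,1,4,4,1,4,1,4,4,1,4,4,1,5,1,5,1,5,6,14,11,12], [1,4,1,5,1,4,1,4,1,4,4,1,4,1,5,1,4,1,4,4,1,4,4,7,1,6,10], 5, [([], 838, [])], []⟩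
def c840 : Clm := ⟨8, 8, true, [4,1,5,1,4,4,1,4,1,4,1,4,1,4,4,1,5,1,5,1,5,3,8,13,3], [4,4,1,5,1,4,1,4,4,1,4,1,4,1,4,1,4,1,5,1,4,1,2,5,7,11,7], 9, [([], 820, [5,1,5,1,4,1,4,1,5,1,4,1,5,1,4,4,1,4,4,1,4]), ([227,240], 183, [5,1,5,1,5,1,4,4,1,4]), ([356], 663, [1,4,1,5,1,4,1,4,1,4,4,1,5,1,5,1,4,1,4,4,1])], []⟩
def c841 : Clm := ⟨8, 8, true, [4,4,1,5,1,4,1,4,4,1,4,1,4,1,4,1,4,1,5,1,4,1,2,5,7,11,7], [4,1,5,1,4,4,1,4,1,4,1,4,1,4,4,1,5,1,5,1,5,3,8,13,3], 5, [([], 840, [])], []⟩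
def c842 : Clm := ⟨8, 8, true, [1,5,1,4,1,5,1,4,1,4,1,4,4,1,5,1,4,1,5,1,4,4,1,7,11,11,9], [1,4,1,5,1,5,1,5,1,4,1,4,1,4,4,1,4,1,4,1,4,3,11,3,10], 9, [([], 184, [4,4,1,4,4,1,5,1,4,4,1,5,1,5]), ([230,241,230,229], 183, [1,5,1,5,1,5,1,4,1,4,1,4]), ([357], 825, [4,4,1,5,1,5,1,4,4,1,4,4,1,5,1,4,1,4])], []⟩
def c843 : Clm := ⟨8, 8, true, [1,4,1,5,1,5,1,5,1,4,1,4,1,4,4,1,4,1,4,1,4,3,11,3,10], [1,5,1,4,1,5,1,4,1,4,1,4,4,1,5,1,4,1,5,1,4,4,1,7,11,11,9], 5, [([], 842, [])], []⟩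
def c844 : Clm := ⟨4, 8, true, [1,4,1,4,4,1,4,1,5,1,4,1,5,1,4,1,4,4,1,2,7,4,8,14], [1,5,1,5,1,5,1,4,4,1,4,4,1,4,4,1,5,1,4,1,5,1,8,3,13,7], 9, [([], 122, [4,1,5,1,4,4,1,5,1,5,1,4,1,5,1,4,1,5,1,4,1,4,4]), ([240], 183, [4,1,4,1,5,1,4,4,1,5,1,5,1]), ([357], 572, [1,4,1,4,4,1,4,1,5,1,4,1,4,4,1,5,1,4,4,1,5,1])], []⟩
def c845 : Clm := ⟨8, 4, true, [1,5,1,5,1,5,1,4,4,1,4,4,1,4,4,1,5,1,4,1,5,1,8,3,13,7], [1,4,1,4,4,1,4,1,5,1,4,1,5,1,4,1,4,4,1,2,7,4,8,14], 5, [([], 844, [])], []⟩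
def c846 : Clm := ⟨8, 8, true, [1,5,1,4,4,1,4,1,4,4,1,4,4,1,5,1,4,4,1,5,1,4,6,8,1,13], [4,1,4,1,4,1,4,4,1,5,1,4,1,5,1,4,4,1,5,1,2,1,5,13,1], 11, [([], 473, [4,4,1,5,1,5,1,5,1,5,1,5,1,5,1,5,1,4,4,1,5]), ([357], 316, [1,5,1,5,1,5,1,4,1,4,1,4,1,4,4,1,4,1,5,1]), ([228,230], 183, [4,4,1,5,1,4,4,1,5,1,5,1])], []⟩
def c847 : Clm := ⟨8, 8, true, [5,1,4,1,4,1,4,1,2,11,1,9], [4,1,5,1,5,1,4,1,4,4,1,4,4,1,4,1,4,1,5,1,5,2,6,10], 9, [([], 822, [1,4,4,1,5,1,4,1,4,4,1,4,4,1,4,1,4,1,4,4]), ([240,227,240], 183, [4,4,1,4,4,1,5,1,4]), ([357], 815, [1,4,4,1,4,1,5,1,5,1,4,1,4,1,4,4,1])], []⟩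
def c848 : Clm := ⟨8, 8, true, [4,1,5,1,5,1,4,1,4,4,1,4,4,1,4,1,4,1,5,1,5,2,6,10], [5,1,4,1,4,1,4,1,2,11,1,9], 5, [([], 847, [])], []⟩
def c849 : Clm := ⟨8, 8, true, [5,1,5,1,4,4,1,4,4,1,5,1,4,1,4,1,5,1,5,1,2,6,13,8], [1,4,1,4,4,1,4,4,1,5,1,4,1,5,1,5,1,5,3,8,3,14], 11, [([], 669, [1,4,1,4,4,1,4,1,4,1,4,4,1,4,1,5,1,5]), ([356], 341, [4,4,1,4,1,4,1,4,4,1,4,1,4,1,4,4,1,4,1,5]), ([240,240,230], 183, [1,5,1,4,1,4,1,4,4,1,4,1,4,4,1])], []⟩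
def c850 : Clm := ⟨8, 8, true, [1,4,1,4,4,1,4,4,1,5,1,4,1,5,1,5,1,5,3,8,3,14], [5,1,5,1,4,4,1,4,4,1,5,1,4,1,4,1,5,1,5,1,2,6,13,8], 5, [([], 849, [])], []⟩
def c851 : Clm := ⟨8, 8, true, [5,1,4,4,1,4,4,1,4,4,1,4,1,4,1,4,4,1,5,1,4,1,5,6,4,3,12], [1,4,1,4,1,4,4,1,5,1,4,1,4,1,5,1,5,1,4,1,4,4,7,1,4,11], 11, [([], 637, [1,5,1,5,1,5,1,4,1,5,1,4,4,1,5,1,5,1]), ([88,92], 116, [1,4,1,5,1,4,1,4,4,1,5,1,4,4,1,4,4,1,5,1,5,1]), ([230,228], 183, [1,4,1,4,4,1,5,1,4,1,4,1,4])], []⟩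
def c852 : Clm := ⟨8, 8, true, [1,4,1,4,1,4,4,1,5,1,4,1,4,1,5,1,5,1,4,1,4,4,7,1,4,11], [5,1,4,4,1,4,4,1,4,4,1,4,1,4,1,4,4,1,5,1,4,1,5,6,4,3,12], 5, [([], 851, [])], []⟩
def c853 : Clm := ⟨8, 8, true, [1,4,1,5,1,5,1,4,4,1,5,1,4,1,4,4,6,11,11,6], [1,5,1,4,4,1,5,1,4,1,5,1,5,1,5,1,5,1,5,1,5,1,6,11,12], 9, [([], 818, [4,1,5,1,5,1,5,1,4,1,4,4,1,4,1,5,1,4,4]), ([227,240], 183, [4,1,5,1,5,1,5,1,5,1,4,4,1]), ([357], 843, [1,5,1,4,4,1,4,1,5,1,5,1,4,1,4,4,1,4,4,1])], []⟩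
def c854 : Clm := ⟨8, 8, true, [1,5,1,4,4,1,5,1,4,1,5,1,5,1,5,1,5,1,5,1,5,1,6,11,12], [1,4,1,5,1,5,1,4,4,1,5,1,4,1,4,4,6,11,11,6], 5, [([], 853, [])], []⟩
def c855 : Clm := ⟨8, 8, true, [5,1,5,1,4,1,4,1,4,1,4,1,4,1,4,1,4,1,4,4,1,6,13,9,3], [4,1,5,1,5,1,4,1,4,4,1,4,1,6,9], 11, [([], 337, [4,4,1,5,1,4,4,1,4,1,4,1,5,1,4,1,5,1,4,4]), ([], 316, [1,5,1,4,1,4,1,5,1,4,1,4,4,1,4,1,4,4,1,4,1]), ([229,230,228,226], 183, [4,4,1,4,1,4,4,1,5,1,5,1])], []⟩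
def c856 : Clm := ⟨8, 8, true, [4,1,5,1,5,1,4,1,4,4,1,4,1,6,9], [5,1,5,1,4,1,4,1,4,1,4,1,4,1,4,1,4,1,4,4,1,6,13,9,3], 5, [([], 855, [])], []⟩
def c857 : Clm := ⟨6, 8, true, [4,1,5,1,5,1,4,1,4,1,4,4,1,5,1,5,1,4,4,3,5,8,7], [4,1,5,1,4,1,4,1,5,1,4,4,1,5,1,3,5,11,13], 11, [([], 183, [4,1,4,4,1,5,1,5,1,4,1,4,1,4,1,4]), ([356], 764, [4,1,4,1,4,1,5,1,5,1,5,1,4,4,1,4,4,1,4,4,1]), ([357], 409, [4,1,5,1,4,1,4,1,4,1,4,4,1,4,1,4,1,5])], []⟩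
def c858 : Clm := ⟨8, 6, true, [4,1,5,1,4,1,4,1,5,1,4,4,1,5,1,3,5,11,13], [4,1,5,1,5,1,4,1,4,1,4,4,1,5,1,5,1,4,4,3,5,8,7], 5, [([], 857, [])], []⟩
def c859 : Clm := ⟨8, 8, true, [5,1,5,1,4,4,1,5,1,4,4,1,5,1,4,4,1,4,1,4,1,4,3,14,5], [5,1,4,4,1,4,1,4,2,12,3,11], 11, [([], 817, [1,4,1,4,4,1,4,1,4,4,1,4,4,1,5,1,4,4,1,4,4,1,4,1]), ([], 857, [5,1,5,1,5,1,4,1,4,4,1,5,1,5,1,5]), ([241,230,228,227], 183, [1,4,1,5,1,4,4,1,4,1,4,4,1,4])], []⟩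
def c860 : Clm := ⟨8, 8, true, [5,1,4,4,1,4,1,4,2,12,3,11], [5,1,5,1,4,4,1,5,1,4,4,1,5,1,4,4,1,4,1,4,1,4,3,14,5], 5, [([], 859, [])], []⟩
def c861 : Clm := ⟨8, 8, true, [5,1,4,1,5,1,4,1,5,1,4,1,4,2,8,13,6], [5,1,5,1,5,1,5,1,5,1,4,1,4,4,1,5,2,10,5,8,12], 11, [([], 685, [1,4,1,5,1,5,1,4,1,4,4,1,5,1,5,1,5,1,4,1,4,4]), ([357], 194, [5,1,5,1,5,1,5,1,4,1,4,4,1,4,1,5,1,4,1,4,1,5]), ([241,226,240], 183, [4,4,1,5,1,5,1,4,4,1,4,1])], []⟩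
def c862 : Clm := ⟨8, 8, true, [5,1,5,1,5,1,5,1,5,1,4,1,4,4,1,5,2,10,5,8,12], [5,1,4,1,5,1,4,1,5,1,4,1,4,2,8,13,6], 5, [([], 861, [])], []⟩
def c863 : Clm := ⟨8, 8, true, [4,1,5,1,4,1,5,1,4,1,4,4,1,4,4,1,4,1,4,1,5,8,12,7,13], [1,5,1,4,4,1,5,1,4,1,4,1,4,1,4,4,1,4,1,4,1,3,6,8,12], 11, [([], 265, [1,5,1,4,4,1,4,1,4,4,1,4,1,4,4,1,4,1,4,1]), ([357], 341, [1,5,1,4,1,4,1,4,1,5,1,5,1,4,1,4,1,5]), ([229,230,241], 183, [4,1,4,4,1,5,1,4,4,1,4,1,4])], []⟩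
def c864 : Clm := ⟨8, 8, true, [1,5,1,4,1,4,4,1,4,1,4,1,4,4,2,4,8,12], [4,1,5,1,5,1,4,1,4,4,1,5,1,4,1,8,11,9], 11, [([], 431, [1,4,4,1,5,1,4,4,1,5,1,5,1,4,1,5,1,4,4,1,4]), ([357], 808, [4,1,4,1,5,1,4,4,1,4,1,5,1,4,1]), ([228,230,228,228], 183, [1,4,1,4,4,1,5,1,5,1,5,1,4,1,4,1,4])], []⟩
def c865 : Clm := ⟨8, 8, true, [4,1,5,1,5,1,4,1,4,4,1,5,1,4,1,8,11,9], [1,5,1,4,1,4,4,1,4,1,4,1,4,4,2,4,8,12], 5, [([], 864, [])], []⟩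
def c866 : Clm := ⟨8, 8, true, [1,4,1,4,1,4,4,1,4,4,1,4,4,1,5,1,4,4,1,5,8,7,3,5], [1,4,4,1,4,4,1,4,1,5,1,4,1,4,2,1,13,11], 11, [([], 235, [5,1,4,1,4,4,1,5,1,4,1,5,1,5,1,4,1,4,4]), ([46,78,42], 125, [1,5,1,5,1,5,1,5,1,4,4,1,5,1,4,1,5,1,4]), ([229,240,240], 183, [4,4,1,5,1,4,4,1,4,1])], []⟩
def c867 : Clm := ⟨8, 8, true, [1,4,4,1,4,4,1,4,1,5,1,4,1,4,2,1,13,11], [1,4,1,4,1,4,4,1,4,4,1,4,4,1,5,1,4,4,1,5,8,7,3,5], 5, [([], 866, [])], []⟩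
def c868 : Clm := ⟨8, 8, true, [1,4,1,4,1,4,4,1,5,1,4,4,1,4,3,12,1,13], [1,4,4,1,5,1,4,1,4,4,1,5,1,4,4,1,5,1,4,1,5,1,5,2,1,13,11], 11, [([], 672, [4,1,5,1,5,1,5,1,4,1,4,1,5,1,5,1]), ([], 857, [5,1,5,1,5,1,4,1,4,4,1,4,1,4,4,1,5,1,5,1,4]), ([230,240,240], 183, [4,4,1,4,1,5,1,5,1,4,1,4,1,4])], []⟩
def c869 : Clm := ⟨8, 8, true, [1,4,4,1,5,1,4,1,4,4,1,5,1,4,4,1,5,1,4,1,5,1,5,2,1,13,11], [1,4,1,4,1,4,4,1,5,1,4,4,1,4,3,12,1,13], 5, [([], 868, [])], []⟩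
def c870 : Clm := ⟨8, 8, true, [4,4,1,4,4,1,4,1,4,4,1,4,1,4,4,1,5,10,2,1], [4,1,4,4,1,5,1,5,1,4,4,1,4,1,5,3,6,5,10], 11, [([], 479, [4,1,5,1,5,1,5,1,5,1,4,1,4,1,5,1,5,1]), ([356], 822, [4,4,1,5,1,4,4,1,5,1,5,1,4,4,1,4,1]), ([241,228,240,226], 183, [4,1,5,1,5,1,4,4,1,5,1,5,1])], []⟩
def c871 : Clm := ⟨8, 8, true, [4,1,4,4,1,5,1,5,1,4,4,1,4,1,5,3,6,5,10], [4,4,1,4,4,1,4,1,4,4,1,4,1,4,4,1,5,10,2,1], 5, [([], 870, [])], []⟩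
def c872 : Clm := ⟨8, 8, true, [5,1,4,1,4,1,4,4,1,5,1,4,4,1,5,1,4,1,4,1,10,1,10], [1,5,1,4,1,5,1,4,1,4,1,5,1,4,1,4,1,5,1,5,2,6,3,11], 11, [([], 525, [4,1,4,1,5,1,5,1,4,1,4,4,1,4,4,1,4,1,5,1,5]), ([357], 316, [5,1,4,4,1,5,1,5,1,5,1,4,1,4,1,5]), ([228,230,228,228], 183, [1,4,1,4,1,4,1,4,4,1,5,1,4,1,4,1,4])], []⟩
def c873 : Clm := ⟨8, 8, true, [1,5,1,4,1,5,1,4,1,4,1,5,1,4,1,4,1,5,1,5,2,6,3,11], [5,1,4,1,4,1,4,4,1,5,1,4,4,1,5,1,4,1,4,1,10,1,10], 5, [([], 872, [])], []⟩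
def c874 : Clm := ⟨8, 8, true, [1,4,1,5,1,4,1,4,1,4,4,1,4,4,1,4,1,4,6,13,7,11], [4,1,4,1,4,1,4,4,1,5,1,4,1,5,1,4,4,1,5,3,8,3,14], 11, [([], 873, [5,1,4,1,5,1,4,1,4,4,1,4,1,5,1,5,1,4,4,1,5]), ([357], 484, [4,1,4,4,1,4,1,4,4,1,4,4,1,4,4,1,4,1,4,4,1,5]), ([230,229,226], 183, [5,1,4,4,1,4,4,1,5,1,5,1,5,1])], []⟩
def c875 : Clm := ⟨8, 8, true, [4,1,4,1,4,1,4,4,1,5,1,4,1,5,1,4,4,1,5,3,8,3,14], [1,4,1,5,1,4,1,4,1,4,4,1,4,4,1,4,1,4,6,13,7,11], 5, [([], 874, [])], []⟩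
def c876 : Clm := ⟨8, 8, true, [4,1,4,4,1,4,1,4,4,1,4,1,4,1,5,1,4,8,7,14,5], [1,4,1,4,4,1,4,4,1,5,1,4,4,1,4,4,1,4,1,8,7,3,1], 11, [([], 484, [4,4,1,5,1,4,4,1,5,1,4,4,1,5,1,4,4,1,4]), ([230,228,226], 183, [4,1,4,1,4,1,4,1,5,1,4]), ([], 859, [1,4,1,4,1,4,1,4,1,4,1,5,1,4,1,4,4,1,4,1,4,1])], []⟩
def c877 : Clm := ⟨8, 8, true, [1,4,1,4,4,1,4,4,1,5,1,4,4,1,4,4,1,4,1,8,7,3,1], [4,1,4,4,1,4,1,4,4,1,4,1,4,1,5,1,4,8,7,14,5], 5, [([], 876, [])], []⟩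
def c878 : Clm := ⟨8, 8, true, [1,4,1,4,4,1,4,4,1,4,4,1,4,4,1,4,1,4,4,3,9,2,7], [5,1,4,1,4,1,4,1,4,1,4,4,1,4,1,13,2,9], 11, [([], 808, [1,5,1,4,1,5,1,4,4,1,5,1,4,4,1,5,1,4,1,4]), ([241,230,226], 183, [4,1,4,1,4,1,4,1,4,1,4,1]), ([357], 254, [1,4,1,5,1,4,1,5,1,5,1,4,1,4,4,1,5,1,5,1])], []⟩
def c879 : Clm := ⟨8, 8, true, [5,1,4,1,4,1,4,1,4,1,4,4,1,4,1,13,2,9], [1,4,1,4,4,1,4,4,1,4,4,1,4,4,1,4,1,4,4,3,9,2,7], 5, [([], 878, [])], []⟩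
def c880 : Clm := ⟨8, 8, true, [1,5,1,5,1,4,1,5,1,5,1,4,1,4,1,5,1,5,1,4,1,5,2,6,9,11,5], [4,1,4,1,4,1,5,1,4,4,1,4,1,4,1,5,1,4,1,4,2,4,8,4], 9, [([], 815, [5,1,4,1,5,1,4,1,5,1,4,1,4,1]), ([], 316, [1,4,1,4,4,1,5,1,4,1,4,1,4,1,4,1,5,1,4,4,1,5,1]), ([240,240], 183, [1,4,1,4,1,4,4,1,4,1,4,1,4,1,4,1,4])], []⟩
def c881 : Clm := ⟨8, 8, true, [4,1,4,1,4,1,5,1,4,4,1,4,1,4,1,5,1,4,1,4,2,4,8,4], [1,5,1,5,1,4,1,5,1,5,1,4,1,4,1,5,1,5,1,4,1,5,2,6,9,11,5], 5, [([], 880, [])], []⟩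
def c882 : Clm := ⟨8, 8, true, [1,4,1,4,1,4,4,1,4,1,4,4,1,4,4,1,4,4,1,9,4,13,4], [1,5,1,5,1,4,1,4,1,5,1,4,1,5,1,5,2,4,3,11], 11, [([], 818, [4,1,4,4,1,5,1,4,1,4,1,4,1,4,1,4,4,1,4,1]), ([240,228,241], 183, [1,5,1,4,4,1,5,1,5,1,4,1]), ([357], 717, [4,4,1,5,1,4,4,1,4,1,4,1,5,1,4,1,4,4,1,4,1])], []⟩
def c883 : Clm := ⟨8, 8, true, [1,5,1,5,1,4,1,4,1,5,1,4,1,5,1,5,2,4,3,11], [1,4,1,4,1,4,4,1,4,1,4,4,1,4,4,1,4,4,1,9,4,13,4], 5, [([], 882, [])], []⟩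
def c884 : Clm := ⟨8, 8, true, [4,4,1,4,1,5,1,5,1,5,1,5,1,5,1,4,4,1,4,4,9,11,6], [1,4,1,4,4,1,5,1,4,1,4,4,1,4,1,4,1,4,1,4,1,5,1,6,9,6,1], 11, [([], 820, [4,4,1,5,1,5,1,5,1,5,1,4,1,4,4,1,5]), ([228,228], 183, [4,1,4,4]), ([], 852, [1,4,1,4,1,5,1,4,1,5,1,4,1,4,1,5,1,5,1,4,1])], []⟩
def c885 : Clm := ⟨8, 8, true, [1,4,1,4,4,1,5,1,4,1,4,4,1,4,1,4,1,4,1,4,1,5,1,6,9,6,1], [4,4,1,4,1,5,1,5,1,5,1,5,1,5,1,4,4,1,4,4,9,11,6], 5, [([], 884, [])], []⟩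
def c886 : Clm := ⟨8, 8, true, [1,4,1,4,1,5,1,4,1,4,1,5,1,5,1,4,4,2,9,4,13], [1,4,4,1,4,1,5,1,4,1,4,1,4,4,1,4,1,4,1,4,4,1,4,6,1,4,8], 9, [([], 539, [1,4,4,1,4,4,1,5,1,4,1,5,1,4,4,1]), ([356], 822, [1,4,4,1,4,1,4,1,5,1,5,1,4,1,5,1,4,1,4,1]), ([226,241,226], 183, [5,1,4,1,4])], []⟩
def c887 : Clm := ⟨8, 8, true, [1,4,4,1,4,1,5,1,4,1,4,1,4,4,1,4,1,4,1,4,4,1,4,6,1,4,8], [1,4,1,4,1,5,1,4,1,4,1,5,1,5,1,4,4,2,9,4,13], 5, [([], 886, [])], []⟩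
def c888 : Clm := ⟨8, 8, true, [1,4,1,5,1,4,4,1,4,4,1,5,1,4,1,4,1,4,8,7,3,13], [1,4,4,1,5,1,5,1,5,1,4,4,1,4,1,4,4,1,5,1,4,6,8,1,5], 11, [([], 820, [1,4,4,1,4,1,5,1,4,4,1,5,1,4,1,4,4,1,4,1,4,1]), ([228,240], 183, [1,4,1,5,1,5,1,5,1,4,4]), ([356], 599, [4,1,4,1,4,1,4,1,4,4,1,4,1,4,1,5,1,4,1,4,4])], []⟩
def c889 : Clm := ⟨8, 8, true, [1,4,4,1,5,1,5,1,5,1,4,4,1,4,1,4,4,1,5,1,4,6,8,1,5], [1,4,1,5,1,4,4,1,4,4,1,5,1,4,1,4,1,4,8,7,3,13], 5, [([], 888, [])], []⟩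
def c890 : Clm := ⟨8, 8, true, [1,4,4,1,4,1,4,4,1,4,1,5,1,4,4,1,5,1,4,4,1,3,1,11,12,1], [5,1,5,1,4,4,1,5,1,4,1,4,4,1,5,1,5,1,5,1,4,3,8,1,11], 11, [([], 316, [5,1,5,1,4,1,4,4,1,4,1,5,1,4,4,1]), ([241,241,230], 183, [1,4,1,5,1,4,1,4,1,5,1,4]), ([], 686, [1,4,1,5,1,4,1,5,1,4,1,4,4,1,4,1,4,1,5,1,4,4])], []⟩
def c891 : Clm := ⟨8, 8, true, [5,1,5,1,4,4,1,5,1,4,1,4,4,1,5,1,5,1,5,1,4,3,8,1,11], [1,4,4,1,4,1,4,4,1,4,1,5,1,4,4,1,5,1,4,4,1,3,1,11,12,1], 5, [([], 890, [])], []⟩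
def c892 : Clm := ⟨8, 8, true, [1,4,1,4,1,4,4,1,5,1,5,1,4,4,1,4,4,1,5,10,10,6,2], [4,1,4,4,1,4,1,4,1,5,1,5,1,4,8,12,6,5], 9, [([], 314, [1,4,1,4,4,1,5,1,5,1,5,1,5,1,4,1,5,1,4,1,4]), ([], 184, [5,1,5,1,4,1,5,1,4,1,4,1,5,1]), ([227,241,230], 483, [1,5,1,5,1,4,1,5,1,5,1,4,4,1,4,1,4])], []⟩
def c893 : Clm := ⟨8, 8, true, [4,1,4,1,5,1,4,1,5,1,5,1,5,1,4,4,1,4,1,4,2,1,13,9], [4,4,1,5,1,4,4,1,4,4,1,4,4,1,4,1,4,4,1,7,9,9,14], 11, [([], 184, [1,4,4,1,5,1,5,1,4,4,1,4,4,1,4,1]), ([228,241,229], 193, [1,4,4,1,4,1,4,1,4,1,4,4,1,5,1]), ([356], 357, [5,1,4,1,4,1,4,4,1,4,4,1,5,1])], []⟩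
def c894 : Clm := ⟨8, 8, true, [4,4,1,5,1,4,4,1,4,4,1,4,4,1,4,1,4,4,1,7,9,9,14], [4,1,4,1,5,1,4,1,5,1,5,1,5,1,4,4,1,4,1,4,2,1,13,9], 5, [([], 893, [])], []⟩
def c895 : Clm := ⟨8, 8, true, [1,4,1,4,4,1,4,1,4,4,1,5,1,4,1,4,1,5,1,8,3,4,10], [1,4,1,4,1,5,1,5,1,4,1,4,1,5,1,5,1,4,1,5,1,9,5,14], 11, [([], 184, [4,1,5,1,4,4,1,4,4,1,4,1,4,1]), ([230,229], 809, [4,1,5,1,4,1,5,1,4,1,4,4]), ([357], 398, [1,5,1,4,1,4,1,4,1,4,1,5,1,5,1,4,4])], []⟩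
def c896 : Clm := ⟨8, 8, true, [1,4,1,4,1,5,1,5,1,4,1,4,1,5,1,5,1,4,1,5,1,9,5,14], [1,4,1,4,4,1,4,1,4,4,1,5,1,4,1,4,1,5,1,8,3,4,10], 5, [([], 895, [])], []⟩
def c897 : Clm := ⟨8, 8, true, [4,4,1,4,1,5,1,4,4,1,5,1,4,1,5,1,5,1,4,7,9], [1,5,1,5,1,5,1,4,1,4,1,4,4,3,12], 11, [([], 184, [1,4,4,1,5,1,5,1,5,1]), ([240,228,228], 823, [1,4,1,4,1,4,4,1,5,1,5,1,4,4,1,4,4,1,5,1,4,1,5,1]), ([357], 614, [1,5,1,5,1,4,4,1,4,4,1,4,4,1,4,1,4,1,5,1,4,4])], []⟩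
def c898 : Clm := ⟨8, 8, true, [1,5,1,5,1,5,1,4,1,4,1,4,4,3,12], [4,4,1,4,1,5,1,4,4,1,5,1,4,1,5,1,5,1,4,7,9], 5, [([], 897, [])], []⟩
def c899 : Clm := ⟨8, 8, true, [1,5,1,5,1,4,1,4,4,1,4,1,4,4,1,4,1,5,1,8,11,9], [4,1,5,1,5,1,4,4,1,4,1,5,1,5,1,5,1,4,1,4,1,4,2,5,13,1], 11, [([], 184, [5,1,5,1,4,4,1,4]), ([226,241], 823, [4,1,5,1,4,4,1,4,1,4,1,4,1,4,1,5,1,4,4,1,4,4]), ([], 555, [4,4,1,5,1,5,1,5,1,5,1,4,1,4,4,1,5,1,4])], []⟩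
def c900 : Clm := ⟨8, 8, true, [4,1,5,1,5,1,4,4,1,4,1,5,1,5,1,5,1,4,1,4,1,4,2,5,13,1], [1,5,1,5,1,4,1,4,4,1,4,1,4,4,1,4,1,5,1,8,11,9], 5, [([], 899, [])], []⟩
def c901 : Clm := ⟨8, 8, true, [1,5,1,5,1,5,1,5,1,4,4,1,4,1,5,1,4,1,2,10,14,4], [5,1,4,1,5,1,4,4,1,4,1,4,1,5,1,5,1,4,1,9,5,9,11], 9, [([], 460, [5,1,4,1,5,1,4,1,4,1,5,1,4,1,5,1,4,1,5,1,4]), ([], 184, [5,1,5,1,4,4,1,4,1,4]), ([240,229,241], 819, [1,4,4,1,5,1,4,4,1,5,1,5,1,4,4,1])], []⟩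
def c902 : Clm := ⟨8, 8, true, [5,1,4,1,5,1,4,4,1,4,1,4,1,5,1,5,1,4,1,9,5,9,11], [1,5,1,5,1,5,1,5,1,4,4,1,4,1,5,1,4,1,2,10,14,4], 5, [([], 901, [])], []⟩
def c903 : Clm := ⟨8, 8, true, [1,4,1,4,4,1,5,1,5,1,4,1,4,4,1,4,4,1,4,4,1,5,8,12,5], [5,1,5,1,4,1,4,4,1,5,1,4,4,1,4,1,4,1,5,2,4,9,4], 9, [([], 696, [1,4,1,4,1,4,4,1,4,1,5,1,4,4,1,5,1,4,4,1,4,4,1,5]), ([356], 184, [1,4,1,4,1,5,1,4,4,1,4,4,1,5,1]), ([228,230], 483, [4,1,4,1,4,4,1,5,1,4,1,5,1,4,4,1,5,1,4,4])], []⟩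
def c904 : Clm := ⟨8, 8, true, [1,4,1,5,1,4,1,4,1,4,1,4,4,1,4,4,1,5,1,4,1,4,4,1,2,4,10,4], [4,4,1,4,1,4,1,4,1,5,1,5,1,4,1,4,1,4,6,8,10,7], 9, [([], 184, [1,4,4,1,4,1,4,1,5,1,5,1,4,1,4]), ([228,227], 823, [4,1,4,4,1,5,1,4,4,1,4,1,4,1,4,1,5]), ([357], 364, [1,4,4,1,4,4,1,5,1,5,1,4,4,1,4,4,1,4])], []⟩
def c905 : Clm := ⟨8, 8, true, [4,1,4,1,4,1,5,1,4,4,1,4,1,4,1,4,4,1,5,1,5,7,8,3,1], [4,1,5,1,5,1,4,4,1,4,1,4,4,1,2,4,4,12,7], 9, [([], 184, [5,1,4,1,4,1,4,1,4,1,4,1]), ([240,240], 315, [4,1,4,4,1,4,1,4,4,1,4,1,4,1,5,1,5,1,4]), ([], 332, [5,1,5,1,4,1,4,1,4,1,4,4,1,4,1,4,1,4,1,4,4,1])], []⟩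
def c906 : Clm := ⟨8, 8, true, [4,1,5,1,5,1,4,4,1,4,1,4,4,1,2,4,4,12,7], [4,1,4,1,4,1,5,1,4,4,1,4,1,4,1,4,4,1,5,1,5,7,8,3,1], 5, [([], 905, [])], []⟩
def c907 : Clm := ⟨8, 8, true, [1,4,4,1,5,1,5,1,5,1,4,4,1,5,1,5,1,5,1,4,4,12,8,14], [4,1,5,1,4,1,4,4,1,4,1,4,1,4,1,4,4,1,4,7,9,2], 11, [([], 367, [1,4,4,1,4,4,1,4,1,5,1,4,4,1,4,1,4]), ([357], 184, [4,1,4,1,4,1,5,1,4,4,1]), ([226,241], 193, [4,1,4,1,4,1,5,1,5,1,4,4,1,4,4,1,4,4,1,5,1,5])], []⟩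
def c908 : Clm := ⟨8, 8, true, [4,1,5,1,4,1,4,4,1,4,1,4,1,4,1,4,4,1,4,7,9,2], [1,4,4,1,5,1,5,1,5,1,4,4,1,5,1,5,1,5,1,4,4,12,8,14], 5, [([], 907, [])], []⟩
def c909 : Clm := ⟨8, 8, true, [1,5,1,4,4,1,4,4,1,4,1,4,1,5,1,5,1,4,1,4,4,2,11,4,13], [1,4,4,1,4,1,5,1,4,1,5,1,4,1,5,1,4,1,4,4,1,5,1,8,3,8,10], 11, [([], 244, [1,4,4,1,5,1,5,1,5,1,4,1,4,1,4,1,4,1,4,4]), ([], 184, [4,4,1,4,4,1,4,4,1]), ([229,241,226], 836, [1,5,1,5,1,4,4,1,5,1,5,1,4,1,4,1,5,1])], []⟩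
def c910 : Clm := ⟨8, 8, true, [1,4,4,1,4,1,5,1,4,1,5,1,4,1,5,1,4,1,4,4,1,5,1,8,3,8,10], [1,5,1,4,4,1,4,4,1,4,1,4,1,5,1,5,1,4,1,4,4,2,11,4,13], 5, [([], 909, [])], []⟩
def c911 : Clm := ⟨8, 8, true, [4,1,4,1,4,1,4,4,1,4,1,5,1,4,1,4,4,1,5,1,7,10,8,6], [1,4,1,4,4,1,4,1,5,1,4,1,5,1,4,1,4,4,1,5,1,4,9,7,10,3], 11, [([], 619, [5,1,4,1,4,1,5,1,5,1,4,1,4,1,5,1,4,1,4,1,5]), ([], 184, [1,4,4,1,4,4,1,5,1,4,1,4,1]), ([241,228], 809, [1,4,1,4,1,4,1,5,1,4,1,4,4,1,4,4])], []⟩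
def c912 : Clm := ⟨8, 8, true, [1,4,1,4,4,1,4,1,5,1,4,1,5,1,4,1,4,4,1,5,1,4,9,7,10,3], [4,1,4,1,4,1,4,4,1,4,1,5,1,4,1,4,4,1,5,1,7,10,8,6], 5, [([], 911, [])], []⟩
def c913 : Clm := ⟨8, 8, true, [4,1,4,4,1,4,1,5,1,4,1,5,1,4,1,5,1,2,1,4,9,9], [1,5,1,4,1,4,4,1,4,1,4,1,4,4,1,4,4,1,4,2,1,11,11,2], 11, [([], 890, [1,5,1,4,4,1,4,4,1,4,4,1,5,1,5,1,5]), ([356], 184, [4,4,1,4,1,4,1,4,1,5,1,4,4,1]), ([228,228,230], 809, [4,1,4,1,4,4,1,4,4,1,4,4,1,4,1,4,1,4])], []⟩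
def c914 : Clm := ⟨8, 8, true, [1,4,4,1,4,4,1,4,1,4,1,5,1,4,4,1,4,1,4,1,4,9,7,11,6], [1,4,4,1,5,1,4,1,4,4,1,4,4,1,4,1,4,3,14,12,9], 9, [([], 184, [1,4,4,1,4,1,4,4,1,4,1,4]), ([240,229,226], 823, [1,4,1,4,4,1,5,1,4,1,4,4,1,4,4,1,4,1,4,1,5]), ([357], 864, [4,1,5,1,4,1,4,1,4,1,4,4,1,4,1,4,1,4,1,4])], []⟩
def c915 : Clm := ⟨8, 8, true, [1,4,4,1,5,1,4,1,4,4,1,4,4,1,4,1,4,3,14,12,9], [1,4,4,1,4,4,1,4,1,4,1,5,1,4,4,1,4,1,4,1,4,9,7,11,6], 5, [([], 914, [])], []⟩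
def c916 : Clm := ⟨8, 8, true, [1,4,1,4,4,1,4,1,4,4,1,5,1,5,1,5,1,4,2,8,10,4,3], [1,4,1,4,1,4,1,5,1,5,1,4,1,4,4,1,4,1,4,1,2,5,9,9], 11, [([], 369, [1,5,1,4,1,4,1,4,4,1,4,4,1,4,1,5,1,5,1,4,4]), ([357], 184, [4,1,4,4,1,4,1,4,4,1,4]), ([229,230,228,226], 483, [1,4,4,1,4,1,4,4,1,5,1,4,1,4,1,5,1,4,1,5])], []⟩
def c917 : Clm := ⟨8, 8, true, [4,1,4,1,5,1,5,1,5,1,4,4,1,4,4,1,4,4,2,1,13,10], [5,1,4,1,4,4,1,4,1,5,1,4,1,4,4,1,5,1,5,1,5,9,12], 9, [([], 184, [1,5,1,4,1,4,4,1,4,1,5,1]), ([229,230,226], 315, [1,4,1,4,1,4,4,1,4,1,4,4,1,5,1,4,4,1,4,1]), ([357], 912, [5,1,5,1,4,4,1,4,1,5,1,4,1,4,4,1])], []⟩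
def c918 : Clm := ⟨8, 8, true, [5,1,4,1,4,4,1,4,1,5,1,4,1,4,4,1,5,1,5,1,5,9,12], [4,1,4,1,5,1,5,1,5,1,4,4,1,4,4,1,4,4,2,1,13,10], 5, [([], 917, [])], []⟩
def c919 : Clm := ⟨8, 8, true, [4,4,1,5,1,4,4,1,5,1,4,4,1,8,6,9], [4,4,1,5,1,4,4,1,5,1,5,1,4,1,5,1,4,1,5,1,5,9,11,12,1], 9, [([], 436, [4,1,5,1,5,1,4,1,5,1,4,1,4,1,4,4,1]), ([], 186, [5,1,5,1,4,1,4,4,1,5,1,4,4,1,4,4,1,4,1]), ([357], 636, [4,4,1,4,1,4,1,5,1,4,4,1,4,1,5,1,4,1])], []⟩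
def c920 : Clm := ⟨8, 8, true, [4,4,1,5,1,4,4,1,5,1,5,1,4,1,5,1,4,1,5,1,5,9,11,12,1], [4,4,1,5,1,4,4,1,5,1,4,4,1,8,6,9], 5, [([], 919, [])], []⟩
def c921 : Clm := ⟨8, 8, true, [1,4,4,1,5,1,4,1,4,1,5,1,4,4,1,4,1,4,1,4,8,11,11], [5,1,4,4,1,5,1,4,1,4,4,1,4,1,4,4,1,5,1,4,1,8,1,6,3], 11, [([356], 186, [1,4,4,1,4,4,1,5,1,4,1,5,1,4,4,1,5,1,5]), ([], 348, [1,4,1,5,1,4,4,1,5,1,4,1,5,1,5,1,4,4,1,4,1,5]), ([357], 217, [4,1,5,1,4,4,1,4,4,1,4,1,4,4,1,4,1,5])], []⟩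
def c922 : Clm := ⟨8, 8, true, [4,1,4,1,5,1,4,1,4,4,1,4,1,4,1,5,1,5,1,4,4,6,1,8,2], [1,5,1,4,1,5,1,5,1,4,1,5,1,4,1,4,1,4,4,2,10,5,8,12], 11, [([], 872, [1,4,1,4,4,1,4,4,1,4,1,4,4,1,4,1,4,1,4,4,1,4]), ([357], 549, [1,4,4,1,4,1,5,1,5,1,4,4,1,5,1,4,1,5,1,4,1,5,1]), ([356], 186, [4,4,1,4,1,4,1,5,1,4,1,5,1,5,1,5,1,4,4,1,4])], []⟩
def c923 : Clm := ⟨8, 8, true, [1,5,1,4,1,5,1,5,1,4,1,5,1,4,1,4,1,4,4,2,10,5,8,12], [4,1,4,1,5,1,4,1,4,4,1,4,1,4,1,5,1,5,1,4,4,6,1,8,2], 5, [([], 922, [])], []⟩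
def c924 : Clm := ⟨8, 8, true, [1,5,1,4,1,4,4,1,5,1,5,1,5,1,5,1,3,8,3,14], [1,5,1,4,1,4,1,5,1,5,1,5,1,4,1,4,4,3,11,1,6], 11, [([356], 186, [5,1,5,1,4,1,4,4,1,4,4,1,5,1,4]), ([], 420, [4,1,4,4,1,4,4,1,4,1,5,1,5,1,5,1,5]), ([357], 217, [5,1,5,1,4,1,5,1,4,1,5,1,4,1,4,1,4,4,1,4])], []⟩
def c925 : Clm := ⟨8, 8, true, [1,5,1,4,1,4,1,5,1,5,1,5,1,4,1,4,4,3,11,1,6], [1,5,1,4,1,4,4,1,5,1,5,1,5,1,5,1,3,8,3,14], 5, [([], 924, [])], []⟩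
def c926 : Clm := ⟨8, 8, true, [1,5,1,4,4,1,4,4,1,4,1,4,1,4,4,1,5,1,4,6,11], [4,1,5,1,4,4,1,4,1,4,1,4,4,1,4,4,1,4,1,5,1,4,6,3,14,12], 11, [([356], 186, [1,4,1,5,1,4,4,1,4,4,1,5,1,5,1,4,1,4,4,1]), ([356], 652, [1,4,1,5,1,5,1,4,1,5,1,4,4,1,4,1,4,4,1,5,1,4,1,5]), ([357], 759, [1,4,1,4,1,5,1,4,4,1,5,1,4,4,1,5,1,4,4,1,5])], []⟩
def c927 : Clm := ⟨8, 8, true, [5,1,4,1,5,1,4,1,5,1,5,1,4,4,1,4,1,4,4,1,4,3,4,3,7], [5,1,5,1,5,1,4,1,4,4,1,5,1,4,4,1,4,8,2,5,2], 9, [([], 227, [4,1,4,1,4,4,1,5,1,4,1,5,1,4,1,5,1,4,1,5,1,4]), ([356], 186, [1,5,1,4,1,4,4,1,4,4,1,4,1,4,4,1,4,1,4,4,1]), ([356], 426, [5,1,5,1,4,1,5,1,4,1,4,1])], []⟩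
def c928 : Clm := ⟨8, 8, true, [5,1,5,1,5,1,4,1,4,4,1,5,1,4,4,1,4,8,2,5,2], [5,1,4,1,5,1,4,1,5,1,5,1,4,4,1,4,1,4,4,1,4,3,4,3,7], 5, [([], 927, [])], []⟩
def c929 : Clm := ⟨8, 8, true, [4,4,1,4,4,1,5,1,4,4,1,5,1,4,4,1,4,4,7,11], [1,5,1,4,1,5,1,4,4,1,5,1,4,1,5,3,5,2,7], 11, [([356], 186, [1,5,1,4,1,5,1,4,1,5,1,5,1,4,4,1,5,1]), ([], 711, [1,4,1,4,4,1,4,1,4,1,4,1,4,4,1,5,1,4,1,5]), ([356], 648, [1,4,1,5,1,4,4,1,4,1,4,1,5,1,5,1,4,1,4])], []⟩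
def c930 : Clm := ⟨8, 8, true, [1,5,1,4,1,5,1,4,4,1,5,1,4,1,5,3,5,2,7], [4,4,1,4,4,1,5,1,4,4,1,5,1,4,4,1,4,4,7,11], 5, [([], 929, [])], []⟩
def c931 : Clm := ⟨8, 8, true, [1,4,4,1,5,1,5,1,4,4,1,5,1,5,1,5,6,4,3,12], [5,1,5,1,5,1,5,1,5,1,4,1,4,4,1,4,4,1,7,2,11,12], 9, [([357], 552, [4,4,1,4,1,5,1,4,1,4,4,1,5,1,4,4,1,5,1]), ([357], 186, [5,1,4,4,1,4,4,1,5,1,4,1,4,4,1,4,1,4,1,4]), ([357], 742, [1,5,1,5,1,5,1,5,1,4,1,4,1,5,1,4,1,4,4])], []⟩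
def c932 : Clm := ⟨8, 8, true, [5,1,5,1,5,1,5,1,5,1,4,1,4,4,1,4,4,1,7,2,11,12], [1,4,4,1,5,1,5,1,4,4,1,5,1,5,1,5,6,4,3,12], 5, [([], 931, [])], []⟩
def c933 : Clm := ⟨8, 8, true, [5,1,4,4,1,4,4,1,4,4,1,5,1,4,1,4,4,1,4,1,3,11,7], [1,4,1,5,1,4,4,1,5,1,5,1,5,1,4,1,4,4,1,4,4,1,4,2,6,9,7], 11, [([], 784, [5,1,4,4,1,4,4,1,5,1,4,1,5,1,4,4,1,4,4,1]), ([], 627, [1,4,1,4,1,4,1,4,1,4,4,1,5,1,4,4,1,4,4,1]), ([], 186, [4,4,1,4,1,4,1,4,4,1,5,1,5,1,5,1])], []⟩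
def c934 : Clm := ⟨8, 8, true, [1,4,1,5,1,4,4,1,5,1,5,1,5,1,4,1,4,4,1,4,4,1,4,2,6,9,7], [5,1,4,4,1,4,4,1,4,4,1,5,1,4,1,4,4,1,4,1,3,11,7], 5, [([], 933, [])], []⟩
def c935 : Clm := ⟨8, 8, true, [1,5,1,5,1,5,1,5,1,5,1,4,1,4,1,4,1,4,4,1,5,2,6,13,11], [4,1,5,1,4,1,4,1,4,1,4,4,1,4,4,1,4,1,4,4,7,2], 11, [([356], 186, [1,5,1,5,1,4,1,4,4,1,4,1,5,1,4,1,4,4,1,5,1,5]), ([357], 825, [4,1,4,1,4,4,1,4,1,4,1,5,1,4,1,4]), ([356], 877, [4,1,4,1,4,4,1,4,1,4,1,4,1,5,1,4])], []⟩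
def c936 : Clm := ⟨8, 8, true, [4,1,5,1,4,1,4,1,4,1,4,4,1,4,4,1,4,1,4,4,7,2], [1,5,1,5,1,5,1,5,1,5,1,4,1,4,1,4,1,4,4,1,5,2,6,13,11], 5, [([], 935, [])], []⟩
def c937 : Clm := ⟨8, 8, true, [1,4,1,4,1,5,1,4,1,5,1,5,1,4,4,1,4,1,4,1,4,4,2,6,9,7], [4,4,1,4,1,5,1,4,1,4,1,5,1,5,1,4,1,10,10,8], 11, [([356], 186, [4,1,5,1,4,1,4,4,1,5,1,4,1,4,1,4,4,1]), ([356], 793, [1,4,1,4,1,4,4,1,5,1,4,1,4,4,1,4,4,1,4,1,5]), ([357], 255, [5,1,4,1,4,4,1,4,4,1,5,1,5,1,5])], []⟩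
def c938 : Clm := ⟨8, 8, true, [4,4,1,4,1,5,1,4,1,4,1,5,1,5,1,4,1,10,10,8], [1,4,1,4,1,5,1,4,1,5,1,5,1,4,4,1,4,1,4,1,4,4,2,6,9,7], 5, [([], 937, [])], []⟩
def c939 : Clm := ⟨8, 8, true, [4,1,5,1,4,1,4,1,5,1,5,1,4,1,4,1,5,1,5,1,4,1,3,10,6,3], [5,1,5,1,4,1,5,1,4,1,4,1,4,1,4,1,4,4,1,5,2,10,5,8,12], 11, [([357], 746, [1,5,1,4,1,5,1,4,4,1,4,4,1,5,1,5,1,4,4,1,4]), ([], 277, [4,1,4,1,5,1,4,1,5,1,5,1,5,1,5,1,4]), ([356], 186, [5,1,5,1,4,1,4,4,1,5,1,5,1,5,1,5,1,4,1,4,1])], []⟩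
def c940 : Clm := ⟨8, 8, true, [5,1,4,4,1,4,4,1,5,1,4,1,4,1,4,4,1,4,4,1,3,8,7,14], [4,4,1,4,1,5,1,5,1,4,1,5,1,4,4,1,4,2,9,3,11], 11, [([], 216, [4,1,5,1,4,1,5,1,4,1,5,1,4,1,4,1,4,4,1]), ([357], 444, [5,1,5,1,5,1,5,1,4,1,4,1,5,1,5]), ([356], 186, [5,1,5,1,4,1,4,4,1,4,4,1,5,1])], []⟩
def c941 : Clm := ⟨8, 8, true, [4,4,1,4,1,4,4,1,4,1,5,1,4,4,1,4,4,1,5,1,8,14,13,7], [4,4,1,4,4,1,4,4,1,4,1,4,1,4,4,1,4,1,4,1,5,1,10,13,11], 11, [([356], 186, [4,1,5,1,4,1,4,4,1,5,1,4,1,5,1,5,1,4]), ([357], 460, [4,1,4,1,5,1,5,1,4,1,4,4,1,5,1,4]), ([], 283, [1,4,1,5,1,5,1,4,4,1,4,1,4,4])], []⟩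
def c942 : Clm := ⟨8, 8, true, [4,4,1,4,4,1,4,4,1,4,1,4,1,4,4,1,4,1,4,1,5,1,10,13,11], [4,4,1,4,1,4,4,1,4,1,5,1,4,4,1,4,4,1,5,1,8,14,13,7], 5, [([], 941, [])], []⟩
def c943 : Clm := ⟨8, 8, true, [4,4,1,4,4,1,5,1,5,1,5,1,4,4,1,4,1,4,4,1,4,3,6,8,12], [1,4,4,1,4,1,4,4,1,5,1,4,4,1,5,1,4,1,5,1,2,11,7,9], 11, [([356], 186, [5,1,5,1,4,1,4,4,1,5,1,5,1,4,1,4,1,4,1]), ([], 428, [1,4,4,1,4,1,4,1,5,1,5,1,4,1,5,1,4,1,5,1,5,1,4,1]), ([356], 225, [1,5,1,4,1,5,1,4,1,5,1,4,1,5,1,4,4,1,5])], []⟩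
def c944 : Clm := ⟨8, 8, true, [1,4,4,1,4,1,4,4,1,5,1,4,4,1,5,1,4,1,5,1,2,11,7,9], [4,4,1,4,4,1,5,1,5,1,5,1,4,4,1,4,1,4,4,1,4,3,6,8,12], 5, [([], 943, [])], []⟩
def c945 : Clm := ⟨8, 8, true, [5,1,4,1,4,1,4,1,4,4,1,4,1,4,4,1,4,1,4,4,3,4,6,5], [4,1,5,1,5,1,5,1,4,1,4,4,1,4,3,1,5,13], 11, [([], 515, [4,1,4,4,1,4,1,5,1,5,1,5,1,4,4,1,5]), ([], 557, [1,4,1,4,1,4,1,4,1,4,1,4,4,1,5,1,4,1,5,1,5,1,5]), ([356], 186, [1,4,1,5,1,4,4,1,5,1,5,1,4,1,4,1,4,4,1,4,4,1,4])], []⟩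
def c946 : Clm := ⟨8, 8, true, [4,1,5,1,5,1,5,1,4,1,4,4,1,4,3,1,5,13], [5,1,4,1,4,1,4,1,4,4,1,4,1,4,4,1,4,1,4,4,3,4,6,5], 5, [([], 945, [])], []⟩
def c947 : Clm := ⟨8, 8, true, [5,1,4,1,4,1,4,4,1,4,1,4,1,5,1,4,4,1,5,1,6,9,3,7], [4,4,1,4,1,4,1,5,1,4,1,4,4,1,5,1,5,1,4,4,1,4,3,5,12,10], 11, [([356], 186, [1,5,1,5,1,4,1,4,4,1,4,1,4,4,1,4,1,5]), ([357], 271, [1,4,4,1,5,1,4,1,4,1,5,1]), ([356], 889, [1,5,1,5,1,4,4,1,5,1,4,1,5,1,4])], []⟩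
def c948 : Clm := ⟨8, 8, true, [4,4,1,4,1,4,1,5,1,4,1,4,4,1,5,1,5,1,4,4,1,4,3,5,12,10], [5,1,4,1,4,1,4,4,1,4,1,4,1,5,1,4,4,1,5,1,6,9,3,7], 5, [([], 947, [])], []⟩
def c949 : Clm := ⟨8, 8, true, [4,4,1,5,1,4,1,5,1,5,1,4,4,1,5,1,5,1,8,10,3], [5,1,5,1,5,1,4,4,1,5,1,5,1,5,1,4,4,1,4,4,8,2,7,8], 9, [([], 539, [4,1,4,1,4,1,4,1,5,1,5,1,4,1,4,1,4,4,1]), ([], 186, [5,1,5,1,4,1,4,4]), ([356], 526, [1,4,4,1,5,1,5,1,5,1,5,1,4,4,1,4,1,5])], []⟩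
def c950 : Clm := ⟨8, 8, true, [5,1,5,1,5,1,4,4,1,5,1,5,1,5,1,4,4,1,4,4,8,2,7,8], [4,4,1,5,1,4,1,5,1,5,1,4,4,1,5,1,5,1,8,10,3], 5, [([], 949, [])], []⟩
def c951 : Clm := ⟨8, 8, true, [4,4,1,4,1,5,1,5,1,4,4,1,4,4,1,4,4,1,5,1,4,1,3,7,9,6], [1,5,1,4,1,4,1,4,4,1,4,4,1,5,1,4,4,1,4,8,14,13,7], 11, [([], 372, [1,4,4,1,4,1,5,1,4,1,4,4,1,5,1,4,1,4,1,4,1,4]), ([357], 450, [5,1,4,4,1,4,1,5,1,5,1,4,1,4,1,5]), ([], 186, [4,1,5,1,4,1,5,1,4,1,4,1])], []⟩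
def c952 : Clm := ⟨8, 8, true, [1,5,1,4,1,4,1,4,4,1,4,4,1,5,1,4,4,1,4,8,14,13,7], [4,4,1,4,1,5,1,5,1,4,4,1,4,4,1,4,4,1,5,1,4,1,3,7,9,6], 5, [([], 951, [])], []⟩
def c953 : Clm := ⟨8, 8, true, [5,1,5,1,4,4,1,4,1,4,1,5,1,5,1,4,1,4,4,1,4,7,8,8,6], [5,1,4,4,1,4,4,1,5,1,5,1,5,1,4,1,4,4,1,4,1,2,10,5,8,12], 11, [([], 654, [1,5,1,4,4,1,4,4,1,4,1,4,4,1,4,4,1,4,4,1,5,1]), ([], 950, [4,1,4,4,1,4,1,5,1,5,1,4,1,5,1,4,1,5,1,5,1]), ([357], 186, [1,5,1,4,1,4,1,5,1,4,1,4,4,1,5,1,4])], []⟩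
def c954 : Clm := ⟨8, 8, true, [1,4,4,1,4,1,5,1,5,1,4,1,4,1,5,1,4,1,4,4,12,9,1,8], [4,4,1,4,4,1,4,1,4,1,4,1,5,1,5,1,4,4,1,5,2,5,6,11,4], 11, [([], 609, [1,4,4,1,4,4,1,4,4,1,4,1,4,4,1,4,4,1,5,1,4]), ([357], 186, [1,4,1,4,4,1,4,4,1,4,1,4,4,1,4,4,1,5,1,5,1]), ([], 230, [4,1,5,1,4,1,4,4,1,4,4,1,4,4,1,4,1,4,1,5,1,4,4])], []⟩
def c955 : Clm := ⟨8, 8, true, [4,4,1,4,4,1,4,1,4,1,4,1,5,1,5,1,4,4,1,5,2,5,6,11,4], [1,4,4,1,4,1,5,1,5,1,4,1,4,1,5,1,4,1,4,4,12,9,1,8], 5, [([], 954, [])], []⟩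
def c956 : Clm := ⟨8, 8, true, [1,5,1,4,1,4,1,4,4,1,4,4,1,4,4,1,8,3,12,11], [1,4,1,4,4,1,4,4,1,4,1,4,1,5,1,4,8,3,12,11], 9, [([356], 186, [1,5,1,4,1,4,4,1,4,4,1,5,1,4,1,5,1,5,1]), ([], 348, [1,5,1,4,1,4,1,4,1,4,4,1,5,1,5,1,4,4]), ([357], 445, [1,4,1,4,1,4,4,1,4,1,4,1,5,1,5,1,4,1,4,4,1,4,1])], []⟩
def c957 : Clm := ⟨8, 8, true, [5,1,5,1,4,1,4,4,1,4,4,1,4,1,5,1,4,4,1,7,3,13,6], [4,4,1,5,1,4,1,5,1,4,1,4,4,1,5,1,5,1,5,1,4,9,13,5], 11, [([], 727, [5,1,4,4,1,4,1,4,1,4,1,4,1,5,1,5]), ([357], 186, [1,4,4,1,4,1,5,1,4,1,4,4,1,5,1,4,1,4,1,4]), ([357], 728, [1,4,1,4,1,4,1,5,1,4,1,5,1,5,1,4,4,1,4,1,4,1,4])], []⟩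
def c958 : Clm := ⟨8, 8, true, [4,1,4,4,1,4,1,4,1,5,1,4,4,1,5,1,4,4,1,9,13,8,5], [4,1,4,4,1,5,1,4,4,1,4,1,5,1,5,1,5,1,7,9,7], 11, [([], 737, [1,4,1,4,1,4,4,1,4,4,1,4,1,5,1,4,4,1]), ([], 186, [4,1,5,1,4,1,4,4,1,5,1,4,1,4,1]), ([357], 935, [1,4,4,1,4,1,4,1,4,4,1,4,4])], []⟩
def c959 : Clm := ⟨8, 8, true, [1,4,4,1,4,4,1,5,1,4,1,4,1,5,1,4,4,1,5,1,8,10,3,8], [1,4,4,1,4,1,5,1,5,1,4,4,1,5,1,5,1,4,1,5,1,6,1,4,8], 9, [([], 448, [1,4,1,4,1,4,1,4,1,4,1,5,1,4,4,1,5,1,4,1,5]), ([], 678, [4,1,5,1,4,1,4,1,5,1,5,1,4,1,4,1,4,1,5]), ([], 186, [1,4,1,4,4,1,5,1,5,1,5,1,4,1,4,4,1])], []⟩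
def c960 : Clm := ⟨8, 8, true, [1,4,4,1,4,1,5,1,5,1,4,4,1,5,1,5,1,4,1,5,1,6,1,4,8], [1,4,4,1,4,4,1,5,1,4,1,4,1,5,1,4,4,1,5,1,8,10,3,8], 5, [([], 959, [])], []⟩
def c961 : Clm := ⟨8, 8, true, [1,4,1,5,1,4,4,1,5,1,4,1,5,1,4,4,1,4,7,10], [4,1,5,1,5,1,4,4,1,5,1,5,1,5,1,5,1,4,1,5,6,1,10,5], 9, [([356], 186, [1,4,4,1,4,4,1,4,1,4,4,1,4,4,1,5,1,5,1,4,1]), ([], 740, [5,1,5,1,5,1,4,4,1,5,1,5,1,4,4,1,4,4,1]), ([356], 186, [1,4,1,4,1,5,1,5,1,4,4,1,4,1,5,1,4])], []⟩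
def c962 : Clm := ⟨8, 8, true, [4,4,1,4,1,5,1,4,1,5,1,5,1,5,1,5,1,5,1,3,5,8,3], [5,1,4,4,1,4,1,4,1,4,4,1,5,3,5,12,6], 11, [([], 470, [1,4,1,4,1,4,1,5,1,4,1,4,4,1,5,1,4,1]), ([], 186, [4,4,1,4,4,1,4,1,5,1,4,1,4,4,1,5,1,4,4,1,5]), ([357], 930, [1,5,1,4,4,1,5,1,5,1,4,4,1,4,4,1,4,1,4,4])], []⟩
def c963 : Clm := ⟨8, 8, true, [5,1,4,4,1,4,1,4,1,4,4,1,5,3,5,12,6], [4,4,1,4,1,5,1,4,1,5,1,5,1,5,1,5,1,5,1,3,5,8,3], 5, [([], 962, [])], []⟩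
def c964 : Clm := ⟨8, 8, true, [4,1,4,4,1,5,1,4,1,4,1,4,1,4,1,5,1,4,4,1,5,1,3,12,6], [1,5,1,5,1,4,1,4,1,4,1,5,1,10,8,1,7], 9, [([356], 186, [4,1,5,1,4,1,4,4,1,4,4,1,4,1,4]), ([356], 332, [1,5,1,5,1,4,4,1,4,1,4,1,4,1,5,1,4]), ([357], 348, [5,1,4,4,1,5,1,5,1,4,4,1,5,1,4,1,5,1,4,1])], []⟩
def c965 : Clm := ⟨8, 8, true, [1,4,1,4,4,1,4,4,1,4,4,1,4,1,4,1,5,1,5,1,4,3,8,1,9], [4,1,5,1,4,4,1,4,1,4,4,1,5,1,4,1,4,4,1,6,2,8,10], 9, [([356], 186, [1,4,4,1,4,1,5,1,4,1,4,4,1,5,1,4,4,1,4,4,1]), ([356], 494, [1,4,1,5,1,4,4,1,4,1,5,1,4,1,5,1,4,1,4]), ([92,158,88], 433, [1,5,1,4,4,1,5,1,4,1,5,1,4,1,4,4,1])], []⟩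
def c966 : Clm := ⟨8, 8, true, [4,4,1,4,1,4,4,1,4,1,4,4,1,4,4,1,4,6,10], [5,1,4,1,4,4,1,5,1,4,4,1,4,1,5,1,4,1,4,4,1,9,5,3,12], 11, [([], 613, [1,5,1,5,1,5,1,4,1,4,4,1,4,4,1,5,1]), ([357], 186, [1,4,1,5,1,5,1,4,1,4,4,1,5,1,5,1,5,1,5]), ([], 500, [1,4,1,4,4,1,4,4,1,5,1,4,1,4,1,4,1,4,4,1,4,4,1])], []⟩
def c967 : Clm := ⟨8, 8, true, [5,1,4,1,4,4,1,5,1,4,4,1,4,1,5,1,4,1,4,4,1,9,5,3,12], [4,4,1,4,1,4,4,1,4,1,4,4,1,4,4,1,4,6,10], 5, [([], 966, [])], []⟩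
def c968 : Clm := ⟨8, 8, true, [5,1,4,1,4,4,1,4,1,4,1,4,1,4,1,5,1,4,1,10,13,3,14], [1,5,1,5,1,4,4,1,4,4,1,4,1,4,1,3,5,9,1], 11, [([], 188, [4,4,1,5,1,4,1,5,1,4,1,4,1]), ([], 850, [4,1,5,1,4,4,1,4,4,1,4,1,4,1,4,4,1,5,1,5,1]), ([356], 925, [1,4,4,1,4,4,1,5,1,4,1,4,1,5,1])], []⟩
def c969 : Clm := ⟨8, 8, true, [1,4,4,1,4,1,5,1,4,1,5,1,5,1,4,1,4,4,1,4,4,1,4,3,11,11,6], [4,4,1,4,1,5,1,4,4,1,4,4,1,5,1,5,1,5,1,4,4,6,12,10,4], 11, [([], 188, [1,4,1,4,1,4,1,4,1,4,1,5,1,4,1]), ([357], 427, [4,1,5,1,4,1,4,1,4,4,1,5,1,4,1,4,1,4,1,4,4]), ([357], 508, [1,4,4,1,4,4,1,5,1,4,1,5,1,4,4,1,4,1,4])], []⟩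
def c970 : Clm := ⟨8, 8, true, [4,4,1,4,1,5,1,4,4,1,4,4,1,5,1,5,1,5,1,4,4,6,12,10,4], [1,4,4,1,4,1,5,1,4,1,5,1,5,1,4,1,4,4,1,4,4,1,4,3,11,11,6], 5, [([], 969, [])], []⟩
def c971 : Clm := ⟨8, 8, true, [1,4,4,1,4,4,1,4,4,1,4,4,1,5,1,5,1,10,12,5], [1,5,1,4,1,4,1,4,1,4,1,4,1,5,1,5,1,5,2,4,4,8], 9, [([], 348, [1,4,4,1,4,1,4,1,5,1,4,4,1,4,1,4,1,5]), ([], 453, [5,1,5,1,5,1,5,1,4,1,4,1,4,4,1,4,4,1]), ([], 188, [5,1,4,4,1,4,4,1,4,1,4,1,5,1,5,1,4,4,1,5,1])], []⟩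
def c972 : Clm := ⟨8, 8, true, [1,5,1,4,1,4,1,4,1,4,1,4,1,5,1,5,1,5,2,4,4,8], [1,4,4,1,4,4,1,4,4,1,4,4,1,5,1,5,1,10,12,5], 5, [([], 971, [])], []⟩
def c973 : Clm := ⟨8, 8, true, [1,4,1,4,1,5,1,5,1,4,1,4,1,4,1,4,1,4,4,1,4,1,4,1,6,3,10,14], [4,1,4,4,1,4,1,4,1,4,1,4,4,1,4,1,4,4,3,4,11,13], 11, [([356], 900, [1,4,4,1,4,4,1,5,1,4,1,4,1,4,4]), ([356], 188, [4,1,4,4,1,4,1,4,4,1,5,1,4,1,4,1,5,1,4,4,1,4,4]), ([357], 572, [4,4,1,4,4,1,5,1,4,1,4,1,4,1,4,1,4,1,5,1])], []⟩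
def c974 : Clm := ⟨8, 8, true, [4,1,4,4,1,5,1,5,1,5,1,4,4,1,4,1,4,4,1,4,1,13,2,1,6], [4,1,5,1,4,1,4,4,1,5,1,4,4,1,4,4,1,10,1,12], 9, [([], 928, [4,1,5,1,5,1,4,1,4,4,1,5,1,5,1,4,4,1]), ([356], 877, [1,4,1,4,4,1,4,1,5,1,5,1,4,4,1,4,1,5,1,4,4]), ([357], 188, [4,4,1,5,1,4,4,1,4,4,1,4])], []⟩
def c975 : Clm := ⟨8, 8, true, [4,1,5,1,4,1,4,4,1,5,1,4,4,1,4,4,1,10,1,12], [4,1,4,4,1,5,1,5,1,5,1,4,4,1,4,1,4,4,1,4,1,13,2,1,6], 5, [([], 974, [])], []⟩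
def c976 : Clm := ⟨8, 8, true, [4,1,4,1,5,1,4,1,4,4,1,4,1,5,1,5,1,9,11,6,3], [1,5,1,4,1,4,4,1,5,1,4,1,4,1,4,4,1,4,1,5,1,7,10,14,4], 9, [([], 841, [1,4,1,5,1,5,1,5,1,5,1,4,4,1,4,1,4,4,1]), ([357], 452, [4,1,5,1,4,1,5,1,4,4,1,4,4,1,4,1,4,1,4,1]), ([], 188, [1,4,1,5,1,4,1,5,1,4,4,1,4,1,4,1,5,1,4,4,1])], []⟩
def c977 : Clm := ⟨8, 8, true, [1,4,1,5,1,5,1,5,1,5,1,5,1,5,1,9,1,4,10], [5,1,4,1,4,4,1,5,1,4,4,1,5,8,13,3,7], 9, [([], 188, [1,4]), ([357], 882, [1,4,1,4,4,1,4,4,1,5,1,5,1,5,1,5,1,4,1]), ([357], 496, [1,5,1,4,4,1,4,1,5,1,4,1,5,1,5,1,4,1,4,4,1,4])], []⟩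
def c978 : Clm := ⟨8, 8, true, [5,1,4,1,4,4,1,5,1,4,4,1,5,8,13,3,7], [1,4,1,5,1,5,1,5,1,5,1,5,1,5,1,9,1,4,10], 5, [([], 977, [])], []⟩
def c979 : Clm := ⟨8, 8, true, [1,5,1,5,1,4,1,4,4,1,4,1,4,4,1,5,1,5,1,4,2,5,2,8], [4,4,1,4,1,5,1,4,4,1,5,1,4,1,4,1,4,4,1,5,1,4,1,6,13,11,12], 11, [([], 316, [4,1,5,1,4,4,1,4,1,4,1,4,4,1,4,1,5]), ([240,230,226], 315, [1,4,1,5,1,5,1,5,1,4,1,4,1,5,1,4,1,4,4]), ([], 190, [5,1,4,1,5,1,5,1,4,1,5,1,4,4,1,5])], []⟩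
def c980 : Clm := ⟨8, 8, true, [4,4,1,4,1,5,1,4,4,1,5,1,4,1,4,1,4,4,1,5,1,4,1,6,13,11,12], [1,5,1,5,1,4,1,4,4,1,4,1,4,4,1,5,1,5,1,4,2,5,2,8], 5, [([], 979, [])], []⟩
def c981 : Clm := ⟨8, 8, true, [4,1,4,1,4,4,1,5,1,4,1,5,1,5,1,4,4,1,4,1,5,8,12,14], [4,1,4,1,4,1,5,1,4,1,5,1,4,4,1,4,1,5,3,8,11], 11, [([], 943, [1,4,1,4,1,4,1,4,4,1,5,1,5,1,4,4,1,5,1,4,4,1]), ([357], 513, [5,1,4,4,1,5,1,5,1,5,1,5,1,4,1,5,1,4,1,5]), ([], 190, [4,1,5,1,4,1,5,1,5,1,4,1,5,1,4])], []⟩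
def c982 : Clm := ⟨8, 8, true, [1,5,1,4,4,1,4,1,4,1,5,1,4,1,5,1,4,1,4,1,5,9,1,3,5], [4,1,4,1,4,1,5,1,4,4,1,5,1,4,4,6,3,10,1], 11, [([], 453, [1,5,1,4,4,1,5,1,4,1,4,1,4,1,4,1,4,1,4,4]), ([357], 471, [1,4,4,1,4,4,1,4,1,5,1,4,1,4,4,1,4,4,1,4,1]), ([356], 190, [4,4,1,4,4,1,5,1,5,1,4,1,4,4,1,5,1,5,1,4,1,4])], []⟩
def c983 : Clm := ⟨8, 8, true, [1,4,4,1,4,1,4,1,4,1,5,1,4,1,5,1,5,1,4,4,9,1,12,7], [5,1,4,1,4,1,4,4,1,4,4,1,4,1,4,4,1,2,1,8,12], 11, [([], 759, [4,1,4,1,4,1,4,1,4,1,4,1,4]), ([], 190, [4,4,1,4,1,4,1,4,1,4,4,1,4,4,1,4,1,4,1]), ([357], 730, [1,4,4,1,4,4,1,4,1,4,1,4,1,4,4,1,5,1,5])], []⟩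
def c984 : Clm := ⟨8, 8, true, [4,1,5,1,4,1,4,1,4,4,1,5,1,5,1,4,1,4,4,1,10,14,6], [1,5,1,4,1,5,1,5,1,4,1,4,4,1,5,1,5,1,4,1,4,1,5,8,6,2], 9, [([], 917, [4,1,4,1,4,4,1,4,1,4,1,4,1,4,1,5,1,5]), ([356], 657, [4,1,5,1,5,1,4,1,4,4,1,4,4,1,4,1,4,1,5,1]), ([], 190, [4,1,4,1,5,1,4,1,5,1,4,1,5,1,4,4,1,4])], []⟩
def c985 : Clm := ⟨8, 8, true, [1,5,1,4,1,5,1,5,1,4,1,4,4,1,5,1,5,1,4,1,4,1,5,8,6,2], [4,1,5,1,4,1,4,1,4,4,1,5,1,5,1,4,1,4,4,1,10,14,6], 5, [([], 984, [])], []⟩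
def c986 : Clm := ⟨8, 8, true, [5,1,4,1,4,4,1,4,1,4,1,4,1,4,1,5,1,4,1,4,4,6,4,12,9], [1,5,1,4,1,4,4,1,5,1,4,1,5,1,4,4,1,5,1,4,4,9,6,5,12], 9, [([], 527, [1,5,1,5,1,5,1,5,1,5,1,5,1,5,1,5,1,4,1,5,1]), ([92,158,90], 191, [4,4,1,5,1,4,4,1]), ([], 688, [5,1,4,1,5,1,5,1,5,1,5,1,4,4,1,5,1,4,4])], []⟩
def c987 : Clm := ⟨8, 8, true, [1,5,1,4,1,4,4,1,5,1,4,1,5,1,4,4,1,5,1,4,4,9,6,5,12], [5,1,4,1,4,4,1,4,1,4,1,4,1,4,1,5,1,4,1,4,4,6,4,12,9], 5, [([], 986, [])], []⟩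
def c988 : Clm := ⟨8, 8, true, [1,5,1,4,4,1,5,1,4,4,1,5,1,4,1,4,1,4,1,7,10,12,4], [1,5,1,5,1,5,1,5,1,5,1,4,4,1,5,1,5,1,5,2,5,6,13], 11, [([356], 300, [1,5,1,5,1,4,4,1,4,4,1,5,1,4,1,4,4,1,4,1,4]), ([357], 290, [4,4,1,4,4,1,4,1,5,1,4,1,4,4,1,5,1,4,1,4,1]), ([90,93], 191, [1,4,1,4,1,5,1,5,1,4,4,1,5,1])], []⟩
def c989 : Clm := ⟨8, 8, true, [1,4,1,5,1,5,1,4,1,4,1,4,1,4,1,5,2,11,5,9], [4,1,4,1,4,1,4,4,1,4,4,1,4,1,5,1,5,1,5,1,13,6,4], 9, [([], 931, [1,5,1,5,1,4,1,4,4,1,4,4,1,4,1,4,1,4,4,1]), ([], 408, [4,1,5,1,5,1,5,1,5,1,4,1,4,1,4,1,5,1,5]), ([88,93,88], 191, [5,1,4,1,4,1,5,1,5,1,4,1,4])], []⟩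
def c990 : Clm := ⟨8, 8, true, [4,1,4,1,4,1,4,4,1,4,4,1,4,1,5,1,5,1,5,1,13,6,4], [1,4,1,5,1,5,1,4,1,4,1,4,1,4,1,5,2,11,5,9], 5, [([], 989, [])], []⟩
def c991 : Clm := ⟨8, 8, true, [1,4,4,1,5,1,5,1,5,1,4,4,1,4,1,4,1,4,4,3,7,11,7], [4,4,1,4,4,1,4,1,4,1,5,1,4,1,4,4,1,4,4,1,5,7,11,12,4], 11, [([], 523, [5,1,4,1,5,1,5,1,4,1,4,4,1,4,4,1,4,1,4,1]), ([158,88], 191, [1,5,1,5,1,4,1,4,4,1,4]), ([], 636, [4,4,1,5,1,4,4,1,4,1,4,1,4,4,1,5,1,4,4])], []⟩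
def c992 : Clm := ⟨8, 8, true, [4,4,1,4,4,1,4,1,4,1,5,1,4,1,4,4,1,4,4,1,5,7,11,12,4], [1,4,4,1,5,1,5,1,5,1,4,4,1,4,1,4,1,4,4,3,7,11,7], 5, [([], 991, [])], []⟩
def c993 : Clm := ⟨8, 8, true, [1,4,4,1,4,4,1,5,1,4,1,5,1,5,1,5,1,9,14,6], [5,1,5,1,4,4,1,4,4,1,4,1,4,4,1,4,4,1,4,3,13,5,8], 11, [([], 237, [1,5,1,4,4,1,4,4,1,5,1,4,1,4,1,4,1,4,1,4,4,1]), ([], 316, [4,1,4,1,4,1,4,1,4,1,4,4,1,4]), ([228,228,230,240], 193, [1,4,1,5,1,4,1,4,1,4,1,4,1])], []⟩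
def c994 : Clm := ⟨8, 8, true, [5,1,5,1,4,4,1,4,4,1,4,1,4,4,1,4,4,1,4,3,13,5,8], [1,4,4,1,4,4,1,5,1,4,1,5,1,5,1,5,1,9,14,6], 5, [([], 993, [])], []⟩
def c995 : Clm := ⟨8, 8, true, [5,1,4,1,4,1,4,1,5,1,5,1,5,1,5,1,4,6,2,1,12], [1,4,1,4,4,1,4,1,4,4,1,4,1,4,1,5,1,4,1,2,4,4,6,14], 9, [([], 194, [4,4,1,5,1,4,1,4,4,1,5,1,5,1,5,1,4,1,4,4,1,5]), ([229], 193, [1,4,1,4,1,4,1,4,1,4]), ([356], 632, [1,4,4,1,4,1,4,4,1,4,1,5,1,4,4,1,5,1,4,4])], []⟩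
def c996 : Clm := ⟨8, 8, true, [1,4,4,1,4,4,1,4,1,5,1,5,1,5,1,5,1,4,4,8,10,8,1], [1,4,1,5,1,4,4,1,4,4,1,4,1,4,4,1,5,1,5,1,5,8,3,1,6], 11, [([], 194, [4,1,4,1,4,4,1,4,1,4,1,4]), ([240,229,226], 821, [1,4,4,1,5,1,4,1,4,4,1,5,1,4,4,1,4,4,1,4]), ([], 219, [1,4,1,4,4,1,4,1,4,1,4,4,1,5,1,5,1,4,4,1])], []⟩
def c997 : Clm := ⟨8, 8, true, [4,1,5,1,5,1,4,1,4,1,5,1,4,1,5,1,4,4,1,4,8,12,7,3], [4,1,5,1,5,1,5,1,4,4,1,4,1,10,10,8,1], 11, [([], 197, [1,4,4,1,5,1,4,1,4,1]), ([357], 444, [4,1,4,1,4,4,1,4,4,1,5,1,4,4,1,4,1,4,1,4,4]), ([357], 932, [1,4,1,4,1,5,1,5,1,4,1,4,1,4,4,1])], []⟩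
def c998 : Clm := ⟨8, 8, true, [1,5,1,5,1,5,1,5,1,4,4,1,5,1,5,1,5,1,5,1,8,1,12,4], [4,4,1,5,1,4,4,1,4,1,4,1,4,1,4,1,2,9,5,3], 11, [([], 740, [4,1,5,1,4,4,1,4,1,4,4,1,4,4,1,5,1,4,4,1,5,1,5]), ([356], 202, [1,5,1,4,1,4,1,4,4,1,4,4,1,4,4,1,4,1]), ([356], 328, [1,5,1,5,1,4,4,1,5])], []⟩
def c999 : Clm := ⟨8, 8, true, [4,1,4,1,4,4,1,5,1,4,4,1,5,1,5,1,4,1,4,1,4,1,5,9,4,12,6], [4,1,4,1,4,4,1,4,1,5,1,4,1,5,1,4,1,4,4,9,13,8,5], 9, [([], 767, [4,4,1,4,1,4,4,1,5,1,4,4,1,5,1,4,1,4,4]), ([], 412, [1,4,1,4,4,1,5,1,4,4,1,5,1,4,4,1,5,1,5,1]), ([], 202, [1,5,1,5,1,5,1,5,1,4,4,1,5,1,4])], []⟩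
def c1000 : Clm := ⟨4, 9, true, [14,2], [], 1, [], []⟩
def c1001 : Clm := ⟨9, 4, true, [], [1,5,1,5,1,5,1,4,1,4,4,1,4,1,5,1,5,12,2], 5, [([], 1000, [])], []⟩
def c1002 : Clm := ⟨9, 9, false, [], [1,4,1,4,1,5,1,4,1,5,1,4,1,5,1,4,1,5,1,5,1], 3, [([], 1000, []), ([72,72,43,46,66,44], 1000, [1,4,1,4,1,5,1,4,1,5,1,4,1,5,1,4,1,5,1,5,1])], []⟩
def c1003 : Clm := ⟨9, 5, true, [6], [4,1,4,4,1,5,1,5,1,4,4,1,5,1,5,1,5,1,5,1,4,6,3,10,2], 7, [([], 1000, []), ([78,72,47], 100, [4,1,4,1,4,4,1,5,1,4,1,4,1,5,1,5,1,4,4,1,4,1])], []⟩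
def c1004 : Clm := ⟨5, 9, true, [4,1,4,4,1,5,1,5,1,4,4,1,5,1,5,1,5,1,5,1,4,6,3,10,2], [6], 5, [([], 1003, [])], []⟩
def c1005 : Clm := ⟨9, 9, false, [6], [4,1,5,1,5,1,4,1,4,1,4,4,1,4,1,4,1,4,1,4,4,6,1,4,1], 3, [([], 1004, []), ([159,88], 1004, [1,4,1,5,1,4,1,4,4,1,4,1,4,1,5,1,4,1,4])], []⟩
def c1006 : Clm := ⟨9, 8, true, [1,6], [1,4,1,5,1,4,4,1,5,1,4,4,1,4,1,4,4,1,5,3,10,1], 7, [([], 1000, [1]), ([73,47,79,40], 234, [4,4,1,4,1,4,4,1,4,1,5,1,5,1,4,1,5,1,4,1,4])], []⟩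
def c1007 : Clm := ⟨8, 9, true, [1,4,1,5,1,4,4,1,5,1,4,4,1,4,1,4,4,1,5,3,10,1], [1,6], 5, [([], 1006, [])], []⟩
def c1008 : Clm := ⟨9, 7, true, [4,6], [1,4,1,4,1,5,1,5,1,4,4,1,5,1,4,1,5,1,4,4,7], 7, [([], 1000, [4]), ([44,42,44], 131, [1,4,1,4,1,5,1,5,1,4,4,1,5,1,4,1,5,1,4,4])], []⟩
def c1009 : Clm := ⟨7, 9, true, [1,4,1,4,1,5,1,5,1,4,4,1,5,1,4,1,5,1,4,4,7], [4,6], 5, [([], 1008, [])], []⟩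
def c1010 : Clm := ⟨9, 9, true, [4,4,6], [5,1,4,1,4,1,5,1,4,4,1,5,1,4,1,4,4,1,5,1,7], 7, [([], 1000, [4,4]), ([46,79,72,40], 1001, [5,1,4,1,4,1,5,1,4,4,1,5,1,4,1,4,4,1,5,1])], []⟩
def c1011 : Clm := ⟨9, 6, true, [5,1,6], [1,4,1,4,1,5,1,4,4,1,4,4,1,5,1,5,1,4,1,4,4,1,5,6,3,9,13], 7, [([], 1000, [5,1]), ([46,42,40], 125, [4,1,5,1,5,1,5,1,4,4,1,5,1,4,1,4,1,5,1,5,1])], []⟩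
def c1012 : Clm := ⟨6, 9, true, [1,4,1,4,1,5,1,4,4,1,4,4,1,5,1,5,1,4,1,4,4,1,5,6,3,9,13], [5,1,6], 5, [([], 1011, [])], []⟩
def c1013 : Clm := ⟨9, 5, true, [1,4,1,6], [1,4,1,5,1,4,1,4,1,4,1,4,1,4,1,13,2,11], 7, [([], 1000, [1,4,1]), ([78,46,44], 100, [4,4,1,5,1,4,1,5,1,5,1,4,4,1,4,1,4,1])], []⟩
def c1014 : Clm := ⟨5, 9, true, [1,4,1,5,1,4,1,4,1,4,1,4,1,4,1,13,2,11], [1,4,1,6], 5, [([], 1013, [])], []⟩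
def c1015 : Clm := ⟨9, 8, true, [1,4,4,6], [1,5,1,5,1,5,1,5,1,5,1,5,1,4,4,1,5,1,4,1,4,1,5,1,3,4,8,1], 7, [([], 1000, [1,4,4]), ([66,72,72], 234, [5,1,4,1,5,1,4,1,5,1,5,1,5,1,5,1,5,1,5,1,4,1])], []⟩
def c1016 : Clm := ⟨8, 9, true, [1,5,1,5,1,5,1,5,1,5,1,5,1,4,4,1,5,1,4,1,4,1,5,1,3,4,8,1], [1,4,4,6], 5, [([], 1015, [])], []⟩
def c1017 : Clm := ⟨9, 9, true, [1,5,1,6], [1,5,1,4,1,4,1,4,4,1,5,1,4,1,4,1,5,1,4,1,5,1,7], 7, [([], 1000, [1,5,1]), ([40], 1001, [1,5,1,4,1,4,1,4,4,1,5,1,4,1,4,1,5,1,4,1,5,1])], []⟩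
def c1018 : Clm := ⟨9, 9, true, [1,5,1,4,1,4,1,4,4,1,5,1,4,1,4,1,5,1,4,1,5,1,7], [1,5,1,6], 5, [([], 1017, [])], []⟩
def c1019 : Clm := ⟨9, 8, true, [4,4,1,6], [5,1,4,1,4,4,1,4,1,4,4,1,4,4,1,5,1,5,1,7], 7, [([], 1000, [4,4,1]), ([72,47], 177, [5,1,4,1,4,4,1,4,1,4,4,1,4,4,1,5,1,5,1])], []⟩
def c1020 : Clm := ⟨8, 9, true, [5,1,4,1,4,4,1,4,1,4,4,1,4,4,1,5,1,5,1,7], [4,4,1,6], 5, [([], 1019, [])], []⟩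
def c1021 : Clm := ⟨9, 9, true, [1,4,4,1,6], [1,4,4,1,4,1,4,1,5,1,5,1,4,1,4,1,4,1,5,7], 7, [([], 1000, [1,4,4,1]), ([44,66,44], 1001, [1,4,4,1,4,1,4,1,5,1,5,1,4,1,4,1,4,1,5])], []⟩
def c1022 : Clm := ⟨9, 8, true, [4,1,4,1,6], [4,1,4,4,1,4,1,4,4,1,4,1,5,1,5,1,4,4,3,14,6,11], 7, [([], 1000, [4,1,4,1]), ([46,72,47], 845, [4,4,1,5,1,4,1,4,4,1,4,1,4,1,4,1,4,1,5,1,5,1])], []⟩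
def c1023 : Clm := ⟨8, 9, true, [4,1,4,4,1,4,1,4,4,1,4,1,5,1,5,1,4,4,3,14,6,11], [4,1,4,1,6], 5, [([], 1022, [])], []⟩
def c1024 : Clm := ⟨9, 9, true, [4,1,5,1,6], [4,1,4,1,4,1,4,1,4,1,4,1,5,1,4,1,7], 7, [([], 1000, [4,1,5,1]), ([47,44,42], 1001, [4,1,4,1,4,1,4,1,4,1,4,1,5,1,4,1])], []⟩
def c1025 : Clm := ⟨9, 9, true, [4,1,4,1,4,1,4,1,4,1,4,1,5,1,4,1,7], [4,1,5,1,6], 5, [([], 1024, [])], []⟩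
def c1026 : Clm := ⟨9, 8, true, [1,4,1,5,1,6], [4,4,1,4,1,4,4,1,4,1,4,1,4,4,1,4,1,12,10,4], 7, [([], 1000, [1,4,1,5,1]), ([46,46], 234, [4,1,4,1,5,1,5,1,5,1,4,4,1,4,1,4,1,5])], []⟩
def c1027 : Clm := ⟨8, 9, true, [4,4,1,4,1,4,4,1,4,1,4,1,4,4,1,4,1,12,10,4], [1,4,1,5,1,6], 5, [([], 1026, [])], []⟩
def c1028 : Clm := ⟨9, 8, true, [4,1,4,4,1,6], [1,4,1,4,4,1,4,4,1,5,1,4,4,1,4,4,1,4,7], 7, [([], 1000, [4,1,4,4,1]), ([46,72,40], 177, [1,4,1,4,4,1,4,4,1,5,1,4,4,1,4,4,1,4])], []⟩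
def c1029 : Clm := ⟨8, 9, true, [1,4,1,4,4,1,4,4,1,5,1,4,4,1,4,4,1,4,7], [4,1,4,4,1,6], 5, [([], 1028, [])], []⟩
def c1030 : Clm := ⟨9, 8, true, [5,1,4,4,1,6], [1,4,4,1,4,1,4,1,4,1,4,1,5,1,5,1,5,7,1,11,4], 7, [([], 1000, [5,1,4,4,1]), ([44,72,79], 234, [1,4,1,4,1,5,1,4,1,4,1,5,1,5,1,4,1,4,1,4,4])], []⟩
def c1031 : Clm := ⟨8, 9, true, [1,4,4,1,4,1,4,1,4,1,4,1,5,1,5,1,5,7,1,11,4], [5,1,4,4,1,6], 5, [([], 1030, [])], []⟩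
def c1032 : Clm := ⟨9, 5, true, [1,4,1,4,4,1,6], [4,1,4,1,5,1,4,1,4,4,1,5,1,5,1,4,3,9,13,3], 7, [([], 1000, [1,4,1,4,4,1]), ([78,72,46], 51, [1,4,1,4,1,4,1,4,1,5,1,4,4,1,5,1,4])], []⟩
def c1033 : Clm := ⟨5, 9, true, [4,1,4,1,5,1,4,1,4,4,1,5,1,5,1,4,3,9,13,3], [1,4,1,4,4,1,6], 5, [([], 1032, [])], []⟩
def c1034 : Clm := ⟨9, 6, true, [1,4,4,1,4,4,6], [1,4,1,5,1,5,1,4,1,4,1,4,1,4,4,1,4,1,5,1,4,1,7], 7, [([], 1000, [1,4,4,1,4,4]), ([47], 112, [1,4,1,5,1,5,1,4,1,4,1,4,1,4,4,1,4,1,5,1,4,1])], []⟩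
def c1035 : Clm := ⟨6, 9, true, [1,4,1,5,1,5,1,4,1,4,1,4,1,4,4,1,4,1,5,1,4,1,7], [1,4,4,1,4,4,6], 5, [([], 1034, [])], []⟩
def c1036 : Clm := ⟨9, 9, true, [4,4,1,4,4,1,6], [4,1,4,4,1,5,1,4,4,1,4,1,5,1,5,1,7], 7, [([], 1000, [4,4,1,4,4,1]), ([73,40,72], 1001, [4,1,4,4,1,5,1,4,4,1,4,1,5,1,5,1])], []⟩
def c1037 : Clm := ⟨9, 9, true, [4,1,4,4,1,5,1,4,4,1,4,1,5,1,5,1,7], [4,4,1,4,4,1,6], 5, [([], 1036, [])], []⟩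
def c1038 : Clm := ⟨9, 8, true, [1,5,1,5,1,4,1,6], [1,4,4,1,5,1,4,4,1,4,1,4,1,5,1,4,4,1,5,1,4,1,5,9,14,7], 7, [([], 1000, [1,5,1,5,1,4,1]), ([72,40], 845, [5,1,5,1,4,1,4,4,1,4,4,1,5,1,4,1,5,1,5,1])], []⟩
def c1039 : Clm := ⟨8, 9, true, [1,4,4,1,5,1,4,4,1,4,1,4,1,5,1,4,4,1,5,1,4,1,5,9,14,7], [1,5,1,5,1,4,1,6], 5, [([], 1038, [])], []⟩
def c1040 : Clm := ⟨9, 5, true, [4,1,5,1,4,1,5,1,4,1,9], [1,4,1,4,1,4,1,5,1,4,4,1,4,4,1,5,1,4,1,5,9], 11, [([], 1000, [4,1,5,1,4,1,5,1,4,1]), ([78], 18, [4,1,5,1,5,1,4,1,5,1,4,4,1,5,1,4,1,4,1,4,1,4]), ([25,29,30,30,25], 43, [1,5,1,4,4,1,5,1,4,4,1,4,4])], []⟩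
def c1041 : Clm := ⟨5, 9, true, [1,4,1,4,1,4,1,5,1,4,4,1,4,4,1,5,1,4,1,5,9], [4,1,5,1,4,1,5,1,4,1,9], 5, [([], 1040, [])], []⟩
def c1042 : Clm := ⟨9, 8, true, [1,5,1,5,1,4,4,1,4,4,1,5,1,9], [4,4,1,4,4,1,5,1,4,1,4,1,5,1,5,1,4,1,4,1,5,3,1,13], 11, [([], 1000, [1,5,1,5,1,4,4,1,4,4,1,5,1]), ([47,79,47], 234, [1,4,4,1,4,1,4,4,1,4,1,4,4,1,4,1,4,4]), ([], 446, [1,4,1,4,4,1,4,4,1,5,1,5,1,4,1,4,4,1,5,1,5,1,4,4])], []⟩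
def c1043 : Clm := ⟨8, 9, true, [4,4,1,4,4,1,5,1,4,1,4,1,5,1,5,1,4,1,4,1,5,3,1,13], [1,5,1,5,1,4,4,1,4,4,1,5,1,9], 5, [([], 1042, [])], []⟩
def c1044 : Clm := ⟨9, 8, true, [1,4,1,4,1,4,1,4,4,1,5,1,9], [5,1,4,1,5,1,4,1,5,1,4,1,5,1,4,2,4,14,4], 11, [([], 1000, [1,4,1,4,1,4,1,4,4,1,5,1]), ([46,73], 234, [1,4,1,4,1,4,1,5,1,5,1,5,1,4,4,1,4,4,1,4]), ([357], 726, [5,1,4,1,4,4,1,4,4,1,4,4,1,5,1,4,4,1,4])], []⟩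
def c1045 : Clm := ⟨8, 9, true, [5,1,4,1,5,1,4,1,5,1,4,1,5,1,4,2,4,14,4], [1,4,1,4,1,4,1,4,4,1,5,1,9], 5, [([], 1044, [])], []⟩
def c1046 : Clm := ⟨9, 8, true, [4,1,4,4,1,4,1,5,1,4,1,9], [1,5,1,4,4,1,5,1,4,1,4,4,1,4,4,1,4,4,1,4,1,5,1,6,9,1,5], 11, [([], 1000, [4,1,4,4,1,4,1,5,1,4,1]), ([72,42,40], 55, [5,1,4,4,1,5,1,4,1,4,4,1,4,1,5,1,4,1]), ([92,92,158], 528, [4,1,5,1,4,1,4,4,1,4,4,1,4,4,1,4,1])], []⟩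
def c1047 : Clm := ⟨8, 9, true, [1,5,1,4,4,1,5,1,4,1,4,4,1,4,4,1,4,4,1,4,1,5,1,6,9,1,5], [4,1,4,4,1,4,1,5,1,4,1,9], 5, [([], 1046, [])], []⟩
def c1048 : Clm := ⟨9, 8, true, [5,1,4,1,4,1,4,4,1,5,1,5,1,5,1,9], [1,4,1,4,1,5,1,5,1,4,1,4,1,4,1,4,4,1,4,1,5,1,3,13,3], 11, [([], 1000, [5,1,4,1,4,1,4,4,1,5,1,5,1,5,1]), ([73,73,42], 845, [5,1,4,1,4,1,4,1,4,4,1,5,1,4,1,4,4,1,4]), ([357], 614, [1,5,1,5,1,5,1,4,4,1,4,4,1,4,4,1,5,1,4,1,4,4,1])], []⟩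
def c1049 : Clm := ⟨8, 9, true, [1,4,1,4,1,5,1,5,1,4,1,4,1,4,1,4,4,1,4,1,5,1,3,13,3], [5,1,4,1,4,1,4,4,1,5,1,5,1,5,1,9], 5, [([], 1048, [])], []⟩
def c1050 : Clm := ⟨9, 8, true, [5,1,4,1,4,1,4,1,4,1,4,1,4,4,1,9], [4,4,1,4,1,5,1,4,4,1,4,4,1,5,1,5,1,5,1,4,1,2,8,10,4], 11, [([], 1000, [5,1,4,1,4,1,4,1,4,1,4,1,4,4,1]), ([47,79,42], 131, [1,4,1,5,1,5,1,5,1,4,1,4,4,1,4]), ([317,282,276], 312, [1,4,4,1,4,1,4,1,4,4,1,4,1,4,1,5,1,4])], []⟩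
def c1051 : Clm := ⟨8, 9, true, [4,4,1,4,1,5,1,4,4,1,4,4,1,5,1,5,1,5,1,4,1,2,8,10,4], [5,1,4,1,4,1,4,1,4,1,4,1,4,4,1,9], 5, [([], 1050, [])], []⟩
def c1052 : Clm := ⟨9, 8, true, [1,5,1,5,1,4,4,1,4,4,1,4,1,4,9], [1,4,1,5,1,5,1,5,1,5,1,5,1,5,1,5,1,4,1,4,1,5,1,2,1,14,11,3], 11, [([], 1000, [1,5,1,5,1,4,4,1,4,4,1,4,1,4]), ([47,42], 177, [1,4,4,1,5,1,4,4,1,4,1,4,1,4,1,4,4,1,5]), ([357], 327, [4,1,4,4,1,4,4,1,4,4,1,4,4,1,4,4,1,5])], []⟩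
def c1053 : Clm := ⟨8, 9, true, [1,4,1,5,1,5,1,5,1,5,1,5,1,5,1,5,1,4,1,4,1,5,1,2,1,14,11,3], [1,5,1,5,1,4,4,1,4,4,1,4,1,4,9], 5, [([], 1052, [])], []⟩
def c1054 : Clm := ⟨9, 9, true, [4,1,4,4,1,5,1,4,4,1,5,1,5,1,9], [1,4,1,5,1,5,1,4,4,1,5,1,5,1,5,1,4,1,4,1,4,13,4], 11, [([], 1000, [4,1,4,4,1,5,1,4,4,1,5,1,5,1]), ([42,46], 100, [1,5,1,5,1,4,4,1,4,4,1,5,1,5,1,5,1,4,4,1,5]), ([93,88], 1013, [1,4,1,4,1,5,1,4,1,5,1,5,1,4,1,4,4,1,4,4,1,4,4,1])], []⟩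
def c1055 : Clm := ⟨9, 7, true, [4,1,4,4,1,4,4,1,4,1,4,1,4,1,9], [4,1,4,1,4,1,5,1,5,1,5,1,4,1,4,4,1,4,6,11,1], 11, [([], 1000, [4,1,4,4,1,4,4,1,4,1,4,1,4,1]), ([44,79], 131, [1,5,1,4,4,1,4,1,4,4,1,4,1,5,1,5,1,4,1,5]), ([316,282,277,264], 155, [4,1,4,4,1,4,4,1,4,4,1,5,1,5,1,5,1,4,4,1])], []⟩
def c1056 : Clm := ⟨7, 9, true, [4,1,4,1,4,1,5,1,5,1,5,1,4,1,4,4,1,4,6,11,1], [4,1,4,4,1,4,4,1,4,1,4,1,4,1,9], 5, [([], 1055, [])], []⟩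
def c1057 : Clm := ⟨9, 9, false, [4,1,4,4,1,4,4,1,4,1,4,1,4,1,9], [1,5,1,5,1,4,1,4,1,4,1,4,1,4,1,5,1,4,1,10,6,12,5], 3, [([], 1056, []), ([283,277,264], 1009, [5,1,4,1,5,1,5,1,4,4,1,5,1,5,1,4,1,5,1])], []⟩
def c1058 : Clm := ⟨9, 5, true, [5,1,4,4,1,4,1,4,4,1,5,1,5,1,9], [5,1,5,1,4,1,5,1,5,1,4,1,4,1,4,1,6,12,2,4], 11, [([], 1000, [5,1,4,4,1,4,1,4,4,1,5,1,5,1]), ([46,78], 1001, [5,1,5,1,4,4,1,4,1,4,4,1,5,1,4,4,1,4]), ([2114,2010], 1041, [4,4,1,4,4,1,4,1,5,1,5,1,4,4,1,5,1,5])], []⟩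
def c1059 : Clm := ⟨5, 9, true, [5,1,5,1,4,1,5,1,5,1,4,1,4,1,4,1,6,12,2,4], [5,1,4,4,1,4,1,4,4,1,5,1,5,1,9], 5, [([], 1058, [])], []⟩
def c1060 : Clm := ⟨9, 8, true, [1,4,4,1,5,1,5,1,4,4,1,4,4,1,4,1,9], [4,1,4,1,5,1,4,4,1,4,4,1,4,1,5,8,13,5,13], 11, [([], 1000, [1,4,4,1,5,1,5,1,4,4,1,4,4,1,4,1]), ([44], 234, [1,5,1,4,1,4,1,4,4,1,4,1,4,1,5,1,4]), ([356], 931, [4,4,1,4,1,4,4,1,4,4,1,4,1,4,4,1,4,1])], []⟩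
def c1061 : Clm := ⟨8, 9, true, [4,1,4,1,5,1,4,4,1,4,4,1,4,1,5,8,13,5,13], [1,4,4,1,5,1,5,1,4,4,1,4,4,1,4,1,9], 5, [([], 1060, [])], []⟩
def c1062 : Clm := ⟨9, 8, true, [5,1,5,1,4,1,4,4,1,4,1,4,1,9], [1,4,4,1,5,1,4,4,1,4,4,1,5,1,5,1,4,2,11,1,5], 11, [([], 1000, [5,1,5,1,4,1,4,4,1,4,1,4,1]), ([78,73,66], 100, [4,4,1,5,1,4,1,4,1,5,1,4,1,4,1,5,1]), ([92,158,90,88], 719, [1,4,4,1,4,1,4,1,4,4,1,5,1,4,1,4,4,1,4,1])], []⟩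
def c1063 : Clm := ⟨8, 9, true, [1,4,4,1,5,1,4,4,1,4,4,1,5,1,5,1,4,2,11,1,5], [5,1,5,1,4,1,4,4,1,4,1,4,1,9], 5, [([], 1062, [])], []⟩
def c1064 : Clm := ⟨9, 8, true, [5,1,4,1,4,1,4,1,4,1,5,1,9], [5,1,5,1,5,1,5,1,5,1,4,4,1,4,1,5,1,4,8,10,6], 11, [([], 1000, [5,1,4,1,4,1,4,1,4,1,5,1]), ([46,73,42], 234, [1,5,1,5,1,4,1,4,4,1,4,4,1,4,1,5,1,4,4,1,4]), ([356], 356, [5,1,4,4,1,5,1,4,4,1,4,1,4,1,4,1])], []⟩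
def c1065 : Clm := ⟨8, 9, true, [5,1,5,1,5,1,5,1,5,1,4,4,1,4,1,5,1,4,8,10,6], [5,1,4,1,4,1,4,1,4,1,5,1,9], 5, [([], 1064, [])], []⟩
def c1066 : Clm := ⟨9, 9, true, [4,1,4,1,4,1,4,1,4,1,4,9], [4,4,1,4,4,1,4,1,4,1,4,4,1,4,4,1,4,4,9,1], 11, [([], 1000, [4,1,4,1,4,1,4,1,4,1,4]), ([42,44], 118, [5,1,5,1,5,1,5,1,5,1,5,1,4,1,4,4,1,5,1,5,1,5]), ([228,230,228], 1034, [4,1,5,1,5,1,4,1,5,1,4,4,1,5,1,4,1,4,4])], []⟩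
def c1067 : Clm := ⟨9, 8, true, [1,4,1,4,1,5,1,5,1,4,1,4,1,4,9], [1,5,1,4,1,5,1,4,1,4,1,5,1,5,1,5,1,5,1,5,1,5,6,12,10], 11, [([], 1000, [1,4,1,4,1,5,1,5,1,4,1,4,1,4]), ([47,79,46,40], 234, [4,1,5,1,4,4,1,5,1,4,1,5,1,4,4,1,4,1,4,1]), ([356], 426, [1,5,1,5,1,4,4,1,4,4,1,5,1,4,1,4,4])], []⟩
def c1068 : Clm := ⟨8, 9, true, [1,5,1,4,1,5,1,4,1,4,1,5,1,5,1,5,1,5,1,5,1,5,6,12,10], [1,4,1,4,1,5,1,5,1,4,1,4,1,4,9], 5, [([], 1067, [])], []⟩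
def c1069 : Clm := ⟨5, 9, true, [4,1,4,1,4,1,5,1,4,4,1,5,1,5,2,10,1,11], [4,1,4,4,1,5,1,5,1,5,1,5,1,5,1,5,1,4,1,4,1,4,8], 9, [([], 1040, [1,5,1,4,1,5,1,4,1,5,1,5,1,4,1,5,1,5]), ([2114,2010], 1000, [1,4,1,4,1,5,1,5,1,4,4,1,5,1,5,1,4,1]), ([79,47], 1001, [4,1,4,4,1,5,1,5,1,5,1,5,1,5,1,5,1,4,1,4,1,4])], []⟩
def c1070 : Clm := ⟨9, 5, true, [4,1,4,4,1,5,1,5,1,5,1,5,1,5,1,5,1,4,1,4,1,4,8], [4,1,4,1,4,1,5,1,4,4,1,5,1,5,2,10,1,11], 5, [([], 1069, [])], []⟩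
def c1071 : Clm := ⟨9, 8, true, [1,4,4,1,4,1,4,1,4,1,4,1,4,4,1,9], [5,1,4,4,1,4,4,1,4,4,1,5,1,4,1,4,1,4,4,1,8,3,9,9], 11, [([], 1000, [1,4,4,1,4,1,4,1,4,1,4,1,4,4,1]), ([72,42,40], 360, [1,4,4,1,4,1,4,1,5,1,5,1,4,4,1,4,4,1,4]), ([356], 843, [1,5,1,4,4,1,5,1,5,1,5,1,4,1,4,4,1,4,4,1,5,1,4])], []⟩
def c1072 : Clm := ⟨8, 9, true, [5,1,4,4,1,4,4,1,4,4,1,5,1,4,1,4,1,4,4,1,8,3,9,9], [1,4,4,1,4,1,4,1,4,1,4,1,4,4,1,9], 5, [([], 1071, [])], []⟩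
def c1073 : Clm := ⟨9, 8, true, [5,1,4,1,4,4,1,4,1,4,1,5,1,9], [4,1,4,1,5,1,5,1,4,1,4,1,5,1,5,1,4,1,4,1,5,6,8,12], 11, [([], 1000, [5,1,4,1,4,4,1,4,1,4,1,5,1]), ([44,66,40], 51, [4,1,4,1,4,4,1,5,1,5,1,4,4,1,5,1,5]), ([158,93,88], 353, [1,4,4,1,5,1,4,4,1,4,1,4,1,4,1,4,1,4,4])], []⟩
def c1074 : Clm := ⟨8, 9, true, [4,1,4,1,5,1,5,1,4,1,4,1,5,1,5,1,4,1,4,1,5,6,8,12], [5,1,4,1,4,4,1,4,1,4,1,5,1,9], 5, [([], 1073, [])], []⟩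
def c1075 : Clm := ⟨9, 8, true, [4,1,4,4,1,4,1,5,1,5,1,4,9], [1,5,1,4,1,5,1,5,1,4,1,4,4,1,4,4,1,4,1,6,8,13,4], 11, [([], 1000, [4,1,4,4,1,4,1,5,1,5,1,4]), ([66,73], 51, [4,4,1,4,1,5,1,4,4,1,5,1,5,1,4,1,5,1,4]), ([158,90,88], 330, [4,1,5,1,4,4,1,4,4,1,4,4,1,5,1,4,1])], []⟩
def c1076 : Clm := ⟨8, 9, true, [1,5,1,4,1,5,1,5,1,4,1,4,4,1,4,4,1,4,1,6,8,13,4], [4,1,4,4,1,4,1,5,1,5,1,4,9], 5, [([], 1075, [])], []⟩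
def c1077 : Clm := ⟨9, 8, true, [4,1,5,1,4,1,4,1,5,1,4,9], [1,4,1,5,1,4,1,4,1,5,1,4,4,1,4,1,4,1,4,4,1,5,3,6,10,8], 11, [([], 1000, [4,1,5,1,4,1,4,1,5,1,4]), ([40,78,66], 845, [4,4,1,4,4,1,5,1,5,1,5,1,4,1,4,1,5,1,5]), ([357], 542, [5,1,4,1,5,1,4,1,5,1,4,1,4,4,1,5,1,5])], []⟩
def c1078 : Clm := ⟨8, 9, true, [1,4,1,5,1,4,1,4,1,5,1,4,4,1,4,1,4,1,4,4,1,5,3,6,10,8], [4,1,5,1,4,1,4,1,5,1,4,9], 5, [([], 1077, [])], []⟩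
def c1079 : Clm := ⟨9, 8, true, [5,1,5,1,5,1,5,1,4,1,4,1,4,9], [1,4,1,4,1,4,1,5,1,5,1,5,1,5,1,4,1,5,1,4,1,12,10,3,11], 11, [([], 1000, [5,1,5,1,5,1,5,1,4,1,4,1,4]), ([78,42,47], 131, [5,1,5,1,4,1,4,1,4,4,1,5,1,4,1,4,4,1,5]), ([264,283], 220, [5,1,4,1,4,4,1,4,4,1,4,4,1,5,1,4,4])], []⟩
def c1080 : Clm := ⟨8, 9, true, [1,4,1,4,1,4,1,5,1,5,1,5,1,5,1,4,1,5,1,4,1,12,10,3,11], [5,1,5,1,5,1,5,1,4,1,4,1,4,9], 5, [([], 1079, [])], []⟩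
def c1081 : Clm := ⟨9, 9, true, [5,1,4,1,5,1,4,1,4,1,4,4,1,9], [4,1,4,4,1,5,1,4,4,1,5,1,5,1,5,1,4,1,9], 11, [([], 1000, [5,1,4,1,5,1,4,1,4,1,4,4,1]), ([47,79], 41, [1,4,4,1,5,1,4,4,1,4,4,1,5,1,5,1,4,1]), ([78,47], 1001, [1,5,1,5,1,5,1,4,4,1,4,4,1,4,1,4,4])], []⟩
def c1082 : Clm := ⟨9, 9, true, [4,1,4,4,1,5,1,4,4,1,5,1,5,1,5,1,4,1,9], [5,1,4,1,5,1,4,1,4,1,4,4,1,9], 5, [([], 1081, [])], []⟩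
def c1083 : Clm := ⟨9, 8, true, [1,5,1,4,1,4,1,4,4,1,4,4,1,9], [1,5,1,4,4,1,4,1,4,4,1,4,1,4,1,4,4,1,5,2,10,7], 11, [([], 1000, [1,5,1,4,1,4,1,4,4,1,4,4,1]), ([42,78,47], 51, [4,4,1,5,1,4,4,1,5,1,4,1,5,1,5,1,4,4]), ([158,92,88], 433, [1,4,4,1,5,1,4,4,1,4,4,1,4,4,1,5,1,4,4,1,5,1])], []⟩
def c1084 : Clm := ⟨8, 9, true, [1,5,1,4,4,1,4,1,4,4,1,4,1,4,1,4,4,1,5,2,10,7], [1,5,1,4,1,4,1,4,4,1,4,4,1,9], 5, [([], 1083, [])], []⟩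
def c1085 : Clm := ⟨9, 8, true, [4,4,1,4,4,1,5,1,4,1,4,1,9], [4,1,5,1,4,1,4,1,4,1,4,1,5,1,5,1,4,1,7,10,13,10], 11, [([], 1000, [4,4,1,4,4,1,5,1,4,1,4,1]), ([72,44,73], 234, [1,5,1,4,4,1,4,4,1,4,1,4,1,5,1,4,4,1]), ([356], 515, [4,1,4,4,1,4,4,1,4,1,5,1,4,4,1,5,1,5,1,4])], []⟩
def c1086 : Clm := ⟨8, 9, true, [4,1,5,1,4,1,4,1,4,1,4,1,5,1,5,1,4,1,7,10,13,10], [4,4,1,4,4,1,5,1,4,1,4,1,9], 5, [([], 1085, [])], []⟩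
def c1087 : Clm := ⟨9, 8, true, [5,1,5,1,5,1,4,1,4,1,5,1,9], [1,4,4,1,4,1,5,1,4,4,1,4,4,1,5,1,5,1,4,1,12,11,5], 11, [([], 1000, [5,1,5,1,5,1,4,1,4,1,5,1]), ([72,46,73], 234, [1,4,1,5,1,5,1,5,1,4,1,4,4,1,5,1,4,4,1,4,1]), ([], 697, [5,1,5,1,4,1,4,1,4,4,1,4,1,4,1,4,1,5,1])], []⟩
def c1088 : Clm := ⟨8, 9, true, [1,4,4,1,4,1,5,1,4,4,1,4,4,1,5,1,5,1,4,1,12,11,5], [5,1,5,1,5,1,4,1,4,1,5,1,9], 5, [([], 1087, [])], []⟩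
def c1089 : Clm := ⟨9, 9, true, [1,5,1,5,1,5,1,4,4,1,5,1,9], [4,4,1,4,1,5,1,4,1,4,1,5,1,5,1,4,1,4,1,4,1,6,9,3,7], 11, [([], 1000, [1,5,1,5,1,5,1,4,4,1,5,1]), ([46,46,40], 131, [4,1,4,1,5,1,5,1,5,1,5,1,4,4,1,4,4]), ([271], 1008, [5,1,4,4,1,5,1,4,1,5,1,5,1,4,4])], []⟩
def c1090 : Clm := ⟨9, 8, true, [4,1,5,1,5,1,5,1,5,1,4,9], [4,1,4,4,1,5,1,5,1,5,1,5,1,4,1,5,1,4,1,4,1,10,14,6,4], 11, [([], 1000, [4,1,5,1,5,1,5,1,5,1,4]), ([73,46], 360, [1,4,4,1,4,1,5,1,4,1,5,1,5,1,5,1,5,1,5,1,5,1,5]), ([357], 261, [4,1,4,1,4,1,5,1,5,1,4,4,1,4,4,1,4,4,1,4,1,4])], []⟩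
def c1091 : Clm := ⟨8, 9, true, [4,1,4,4,1,5,1,5,1,5,1,5,1,4,1,5,1,4,1,4,1,10,14,6,4], [4,1,5,1,5,1,5,1,5,1,4,9], 5, [([], 1090, [])], []⟩
def c1092 : Clm := ⟨9, 8, true, [4,1,5,1,4,4,1,4,1,4,1,9], [1,4,1,5,1,4,1,5,1,5,1,4,4,1,4,1,5,1,4,1,7,2,6,4], 11, [([], 1000, [4,1,5,1,4,4,1,4,1,4,1]), ([42,73,46], 234, [5,1,4,1,4,4,1,5,1,5,1,4,4,1,4,4,1,5,1,5]), ([356], 498, [1,4,1,4,1,4,4,1,5,1,4,1,5,1,4,4,1,4,1,4,1,5,1,4])], []⟩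
def c1093 : Clm := ⟨8, 9, true, [1,4,1,5,1,4,1,5,1,5,1,4,4,1,4,1,5,1,4,1,7,2,6,4], [4,1,5,1,4,4,1,4,1,4,1,9], 5, [([], 1092, [])], []⟩
def c1094 : Clm := ⟨8, 9, true, [1,4,4,1,4,1,4,1,4,1,4,4,1,5,1,4,1,4,1,4,1,4,1,4,7,10], [1,4,4,1,4,1,4,1,4,4,1,4,1,4,1,4,1,5,1,5,1,5,8], 9, [([], 1019, [1,4,4,1,4,1,4,4,1,4,1,5,1,4,4]), ([2114,2010], 1000, [4,1,4,4,1,5,1,5,1,4,1,4,1,4,1,4]), ([79,44,40], 1001, [1,4,4,1,4,1,4,1,4,4,1,4,1,4,1,4,1,5,1,5,1,5])], []⟩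
def c1095 : Clm := ⟨9, 8, true, [1,4,4,1,4,1,4,1,4,4,1,4,1,4,1,4,1,5,1,5,1,5,8], [1,4,4,1,4,1,4,1,4,1,4,4,1,5,1,4,1,4,1,4,1,4,1,4,7,10], 5, [([], 1094, [])], []⟩
def c1096 : Clm := ⟨9, 8, true, [1,5,1,5,1,4,1,4,1,4,1,4,1,9], [1,4,1,4,1,4,1,5,1,5,1,4,1,9,14,4,13], 11, [([], 1000, [1,5,1,5,1,4,1,4,1,4,1,4,1]), ([79,47,42], 177, [1,5,1,4,4,1,4,1,4,1,4,1,4,4,1,4,4,1,5,1,4]), ([], 597, [1,5,1,4,4,1,5,1,5,1,5,1,4,1,4,4,1,5,1,4])], []⟩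
def c1097 : Clm := ⟨8, 9, true, [1,4,1,4,1,4,1,5,1,5,1,4,1,9,14,4,13], [1,5,1,5,1,4,1,4,1,4,1,4,1,9], 5, [([], 1096, [])], []⟩
def c1098 : Clm := ⟨9, 9, false, [1,5,1,5,1,4,1,4,1,4,1,4,1,9], [1,4,1,4,1,5,1,4,1,4,4,1,5,1,4,4,1,4,4,1,5,1,13,1,6], 3, [([], 1097, []), ([356], 1078, [5,1,5,1,4,4,1,4,1,4,1,4,1,4,4,1,4,4,1,4,1])], []⟩
def c1099 : Clm := ⟨9, 8, true, [5,1,4,4,1,4,1,4,1,4,1,9], [1,4,1,4,1,4,1,5,1,4,1,5,1,4,1,4,1,4,4,1,4,4,1,4,7,11,11,14], 11, [([], 1000, [5,1,4,4,1,4,1,4,1,4,1]), ([73,66,78], 55, [1,4,1,4,4,1,4,1,5,1,5,1,4,1,5,1,4,4,1,4,1]), ([93,158,90,88], 493, [5,1,4,1,4,1,4,1,4,4,1,4,1,4,4,1,4,1])], []⟩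
def c1100 : Clm := ⟨8, 9, true, [1,4,1,4,1,4,1,5,1,4,1,5,1,4,1,4,1,4,4,1,4,4,1,4,7,11,11,14], [5,1,4,4,1,4,1,4,1,4,1,9], 5, [([], 1099, [])], []⟩
def c1101 : Clm := ⟨9, 8, true, [1,5,1,4,1,5,1,4,1,4,9], [1,5,1,4,1,5,1,5,1,4,1,4,1,4,1,4,1,4,4,1,5,1,2,4,4,10], 11, [([], 1000, [1,5,1,4,1,5,1,4,1,4]), ([78,72,42], 55, [1,4,1,4,1,4,1,4,1,5,1,5,1,5,1,5,1]), ([92,92,158], 336, [1,4,1,5,1,5,1,5,1,5,1,4,1,4,4,1,5,1,4,4,1,5])], []⟩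
def c1102 : Clm := ⟨8, 9, true, [1,5,1,4,1,5,1,5,1,4,1,4,1,4,1,4,1,4,4,1,5,1,2,4,4,10], [1,5,1,4,1,5,1,4,1,4,9], 5, [([], 1101, [])], []⟩
def c1103 : Clm := ⟨9, 7, true, [1,4,1,4,1,4,1,4,1,4,1,4,9], [1,4,1,5,1,5,1,4,1,5,1,4,1,5,1,5,1,4,1,5,6,13,7], 11, [([], 1000, [1,4,1,4,1,4,1,4,1,4,1,4]), ([46,73,40], 845, [4,1,4,4,1,5,1,5,1,4,4,1,5,1,5,1,4,4,1]), ([], 323, [4,1,4,1,4,1,5,1,4,1,5,1,4,1,4])], []⟩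
def c1104 : Clm := ⟨7, 9, true, [1,4,1,5,1,5,1,4,1,5,1,4,1,5,1,5,1,4,1,5,6,13,7], [1,4,1,4,1,4,1,4,1,4,1,4,9], 5, [([], 1103, [])], []⟩
def c1105 : Clm := ⟨9, 8, true, [4,4,1,5,1,4,1,4,4,1,4,1,4,1,9], [4,1,5,1,4,4,1,5,1,4,1,5,1,5,1,5,1,5,1,5,1,6,14,8,8], 11, [([], 1000, [4,4,1,5,1,4,1,4,4,1,4,1,4,1]), ([46,40], 125, [1,4,4,1,4,1,4,4,1,5,1,4,4,1,5,1,5,1,4,1,5,1]), ([228,228,230,228], 193, [4,1,5,1,4,4,1,4,4,1,5,1,5,1,5,1,4,4])], []⟩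
def c1106 : Clm := ⟨8, 9, true, [4,1,5,1,4,4,1,5,1,4,1,5,1,5,1,5,1,5,1,5,1,6,14,8,8], [4,4,1,5,1,4,1,4,4,1,4,1,4,1,9], 5, [([], 1105, [])], []⟩
def c1107 : Clm := ⟨9, 8, true, [1,5,1,4,1,4,4,1,4,4,1,4,1,9], [1,5,1,4,4,1,4,4,1,4,1,4,4,1,5,1,2,1,11,8], 11, [([], 1000, [1,5,1,4,1,4,4,1,4,4,1,4,1]), ([79,66,44], 234, [4,1,4,1,5,1,5,1,4,1,5,1,4,4,1,5,1,4,1,4,4]), ([], 590, [5,1,4,1,4,1,5,1,4,4,1,4,1,4,1])], []⟩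
def c1108 : Clm := ⟨8, 9, true, [1,5,1,4,4,1,4,4,1,4,1,4,4,1,5,1,2,1,11,8], [1,5,1,4,1,4,4,1,4,4,1,4,1,9], 5, [([], 1107, [])], []⟩
def c1109 : Clm := ⟨9, 8, true, [1,5,1,4,4,1,4,1,4,4,1,4,4,1,9], [1,5,1,4,4,1,4,1,4,4,1,4,1,4,1,5,1,5,1,13,9,2], 11, [([], 1000, [1,5,1,4,4,1,4,1,4,4,1,4,4,1]), ([78,66], 131, [1,4,1,5,1,5,1,5,1,4,1,4,1,4,1,4,1,5,1]), ([270,316,264], 220, [4,4,1,4,1,4,4,1,4,4,1,4,1,5,1])], []⟩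
def c1110 : Clm := ⟨8, 9, true, [1,5,1,4,4,1,4,1,4,4,1,4,1,4,1,5,1,5,1,13,9,2], [1,5,1,4,4,1,4,1,4,4,1,4,4,1,9], 5, [([], 1109, [])], []⟩
def c1111 : Clm := ⟨9, 8, true, [1,4,1,4,4,1,5,1,4,9], [4,1,5,1,4,1,5,1,5,1,4,4,1,4,1,4,4,1,5,6,8,3], 11, [([], 1000, [1,4,1,4,4,1,5,1,4]), ([79,44,40], 100, [4,1,4,4,1,5,1,4,4,1,4,1,4,4,1]), ([158,90], 281, [5,1,5,1,4,4,1,4,4,1,4,4,1,4,1,4,1,5,1,4,1])], []⟩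
def c1112 : Clm := ⟨8, 9, true, [4,1,5,1,4,1,5,1,5,1,4,4,1,4,1,4,4,1,5,6,8,3], [1,4,1,4,4,1,5,1,4,9], 5, [([], 1111, [])], []⟩
def c1113 : Clm := ⟨9, 8, true, [4,1,4,1,5,1,4,4,1,4,4,1,4,1,9], [1,5,1,4,4,1,5,1,4,4,1,5,1,4,1,4,1,4,4,1,5,1,4,1,3,6,10,1], 11, [([], 1000, [4,1,4,1,5,1,4,4,1,4,4,1,4,1]), ([46,79,72], 100, [5,1,4,1,4,1,4,1,5,1,5,1,4,1,5,1,4,1,5,1]), ([158,93,88], 512, [4,4,1,4,1,4,4,1,5,1,4,4,1,5,1,4,4,1])], []⟩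
def c1114 : Clm := ⟨8, 9, true, [1,5,1,4,4,1,5,1,4,4,1,5,1,4,1,4,1,4,4,1,5,1,4,1,3,6,10,1], [4,1,4,1,5,1,4,4,1,4,4,1,4,1,9], 5, [([], 1113, [])], []⟩
def c1115 : Clm := ⟨9, 8, true, [4,1,4,4,1,4,4,1,5,1,4,9], [1,4,4,1,4,1,5,1,5,1,4,4,1,5,1,5,1,4,1,6,13,9,3], 11, [([], 1000, [4,1,4,4,1,4,4,1,5,1,4]), ([40,79,46], 125, [4,4,1,4,4,1,5,1,5,1,5,1,5,1,5]), ([228,241,230], 483, [1,4,1,4,4,1,4,4,1,5,1,4,1,5,1,5,1,4,4,1,5])], []⟩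
def c1116 : Clm := ⟨8, 9, true, [1,4,4,1,4,1,5,1,5,1,4,4,1,5,1,5,1,4,1,6,13,9,3], [4,1,4,4,1,4,4,1,5,1,4,9], 5, [([], 1115, [])], []⟩
def c1117 : Clm := ⟨9, 8, true, [1,5,1,4,1,4,1,4,1,4,9], [1,4,1,4,1,5,1,4,1,4,1,4,4,1,4,1,4,4,2,8,5,1,14], 11, [([], 1000, [1,5,1,4,1,4,1,4,1,4]), ([44,42,44], 234, [1,4,1,5,1,4,4,1,4,4,1,4,1,4,1,5,1,4,1]), ([], 263, [1,5,1,5,1,5,1,5,1,5,1,4,1,4,1,5,1,4,1])], []⟩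
def c1118 : Clm := ⟨8, 9, true, [1,4,1,4,1,5,1,4,1,4,1,4,4,1,4,1,4,4,2,8,5,1,14], [1,5,1,4,1,4,1,4,1,4,9], 5, [([], 1117, [])], []⟩
def c1119 : Clm := ⟨9, 8, true, [4,4,1,5,1,4,1,5,1,4,1,9], [4,4,1,5,1,4,1,5,1,4,1,5,1,5,1,2,6,4,2,4], 11, [([], 1000, [4,4,1,5,1,4,1,5,1,4,1]), ([42,78,72], 51, [4,1,5,1,4,1,5,1,4,1,4,1,5,1,4,4,1]), ([158,92], 322, [5,1,4,4,1,4,4,1,5,1,4,1,4,4])], []⟩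
def c1120 : Clm := ⟨8, 9, true, [4,4,1,5,1,4,1,5,1,4,1,5,1,5,1,2,6,4,2,4], [4,4,1,5,1,4,1,5,1,4,1,9], 5, [([], 1119, [])], []⟩
def c1121 : Clm := ⟨8, 9, true, [4,1,5,1,4,1,5,1,4,1,4,4,1,4,4,1,4,1,2,1,5], [5,1,4,4,1,5,1,4,1,5,1,5,1,5,1,5,1,4,4,1,5,8], 9, [([], 1083, [1,4,4,1,4,1,4,4,1,4,1,5,1,5,1,5]), ([2010], 1000, [4,4,1,4,1,4,4,1,4,1,4,4,1]), ([47,72,78,40], 1001, [5,1,4,4,1,5,1,4,1,5,1,5,1,5,1,5,1,4,4,1,5])], []⟩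
def c1122 : Clm := ⟨9, 8, true, [5,1,4,4,1,5,1,4,1,5,1,5,1,5,1,5,1,4,4,1,5,8], [4,1,5,1,4,1,5,1,4,1,4,4,1,4,4,1,4,1,2,1,5], 5, [([], 1121, [])], []⟩
def c1123 : Clm := ⟨9, 8, true, [1,5,1,4,1,4,1,4,4,1,9], [1,5,1,5,1,4,4,1,4,4,1,4,4,1,5,1,5,2,8,13,3], 11, [([], 1000, [1,5,1,4,1,4,1,4,4,1]), ([79,40,72,44], 234, [5,1,4,1,4,1,4,4,1,4,1,5,1,4,1,5,1,5,1]), ([357], 413, [1,5,1,4,4,1,4,1,5,1,5,1,4,1,4,1,5])], []⟩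
def c1124 : Clm := ⟨8, 9, true, [1,5,1,5,1,4,4,1,4,4,1,4,4,1,5,1,5,2,8,13,3], [1,5,1,4,1,4,1,4,4,1,9], 5, [([], 1123, [])], []⟩
def c1125 : Clm := ⟨9, 8, true, [1,4,4,1,5,1,5,1,4,1,4,1,4,1,4,1,9], [4,4,1,4,1,5,1,4,4,1,4,1,4,1,5,1,5,1,4,1,5,8,8,4], 11, [([], 1000, [1,4,4,1,5,1,5,1,4,1,4,1,4,1,4,1]), ([78,73,46], 177, [1,4,1,4,4,1,4,1,5,1,4,1,4,1,5,1,4]), ([], 766, [1,5,1,5,1,4,4,1,4,1,4,1,4])], []⟩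
def c1126 : Clm := ⟨8, 9, true, [4,4,1,4,1,5,1,4,4,1,4,1,4,1,5,1,5,1,4,1,5,8,8,4], [1,4,4,1,5,1,5,1,4,1,4,1,4,1,4,1,9], 5, [([], 1125, [])], []⟩
def c1127 : Clm := ⟨9, 5, true, [5,1,4,1,5,1,4,4,1,4,4,1,4,4,1,9], [1,5,1,4,1,4,1,5,1,4,1,5,1,5,1,5,1,4,9], 11, [([], 1000, [5,1,4,1,5,1,4,4,1,4,4,1,4,4,1]), ([78,73], 18, [1,5,1,4,4,1,4,1,5,1,5,1,5,1,4,1,4,1,4,1]), ([28,26,28,28,24], 43, [1,4,1,5,1,5,1,5,1,5,1,4,1,4,1,4,4,1,4,1,4])], []⟩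
def c1128 : Clm := ⟨5, 9, true, [1,5,1,4,1,4,1,5,1,4,1,5,1,5,1,5,1,4,9], [5,1,4,1,5,1,4,4,1,4,4,1,4,4,1,9], 5, [([], 1127, [])], []⟩
def c1129 : Clm := ⟨9, 8, true, [1,4,4,1,4,4,1,5,1,4,1,4,1,4,9], [4,1,4,1,4,4,1,4,1,4,1,4,4,1,4,4,2,5,3,13], 11, [([], 1000, [1,4,4,1,4,4,1,5,1,4,1,4,1,4]), ([44,42,44], 177, [1,5,1,4,4,1,4,4,1,5,1,4,4,1,5,1,5,1,4,4,1,5]), ([356], 990, [5,1,4,1,4,1,5,1,4,1,5,1,4,1,4])], []⟩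
def c1130 : Clm := ⟨8, 9, true, [4,1,4,1,4,4,1,4,1,4,1,4,4,1,4,4,2,5,3,13], [1,4,4,1,4,4,1,5,1,4,1,4,1,4,9], 5, [([], 1129, [])], []⟩
def c1131 : Clm := ⟨9, 8, true, [5,1,5,1,5,1,4,4,1,4,9], [1,5,1,4,4,1,5,1,5,1,4,1,5,1,4,1,4,1,4,1,4,2,4,9,12], 11, [([], 1000, [5,1,5,1,5,1,4,4,1,4]), ([66,47], 177, [1,5,1,5,1,4,1,4,4,1,5,1,4,4,1,5,1,4,1]), ([357], 402, [1,4,4,1,4,1,4,1,4,4,1,4,1,4,1,4,1,5])], []⟩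
def c1132 : Clm := ⟨8, 9, true, [1,5,1,4,4,1,5,1,5,1,4,1,5,1,4,1,4,1,4,1,4,2,4,9,12], [5,1,5,1,5,1,4,4,1,4,9], 5, [([], 1131, [])], []⟩
def c1133 : Clm := ⟨9, 5, true, [4,4,1,4,4,1,4,4,1,4,4,1,4,4,1,9], [1,5,1,4,1,4,4,1,4,4,1,4,1,5,1,5,9,12,9,3], 11, [([], 1000, [4,4,1,4,4,1,4,4,1,4,4,1,4,4,1]), ([79,72,66,40], 234, [1,4,1,4,1,4,1,4,1,5,1,5,1,5,1,4,4,1,5]), ([356], 284, [1,5,1,4,1,4,4,1,4,1,5,1,4,1,4,4,1,5,1,5,1,5])], []⟩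
def c1134 : Clm := ⟨5, 9, true, [1,5,1,4,1,4,4,1,4,4,1,4,1,5,1,5,9,12,9,3], [4,4,1,4,4,1,4,4,1,4,4,1,4,4,1,9], 5, [([], 1133, [])], []⟩
def c1135 : Clm := ⟨9, 8, true, [4,1,5,1,5,1,4,4,1,4,4,1,5,1,9], [1,4,1,5,1,5,1,4,4,1,4,4,1,5,1,4,1,4,1,4,4,1,5,7,11], 11, [([], 1000, [4,1,5,1,5,1,4,4,1,4,4,1,5,1]), ([42,78], 131, [1,5,1,4,4,1,4,1,4,1,5,1,4,1,4,4,1,4,1,4,4,1]), ([316,265], 179, [1,5,1,5,1,4,1,4,1,5,1,4,4,1,4,4,1,5])], []⟩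
def c1136 : Clm := ⟨8, 9, true, [1,4,1,5,1,5,1,4,4,1,4,4,1,5,1,4,1,4,1,4,4,1,5,7,11], [4,1,5,1,5,1,4,4,1,4,4,1,5,1,9], 5, [([], 1135, [])], []⟩
def c1137 : Clm := ⟨9, 8, true, [4,4,1,4,4,1,5,1,5,1,5,1,5,1,9], [5,1,4,1,4,4,1,5,1,4,1,5,1,4,1,5,1,5,1,7,8,6], 11, [([], 1000, [4,4,1,4,4,1,5,1,5,1,5,1,5,1]), ([44,42,40], 360, [1,4,1,5,1,5,1,4,1,4,1,4,4,1,4,1,5,1]), ([357], 629, [1,4,1,4,1,5,1,5,1,5,1,4,4,1,4,4,1,4,4])], []⟩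
def c1138 : Clm := ⟨8, 9, true, [5,1,4,1,4,4,1,5,1,4,1,5,1,4,1,5,1,5,1,7,8,6], [4,4,1,4,4,1,5,1,5,1,5,1,5,1,9], 5, [([], 1137, [])], []⟩
def c1139 : Clm := ⟨9, 8, true, [1,4,1,4,1,5,1,4,1,4,1,4,4,1,9], [1,5,1,4,4,1,5,1,4,4,1,4,1,4,1,5,1,9,1,11,2], 11, [([], 1000, [1,4,1,4,1,5,1,4,1,4,1,4,4,1]), ([44,72,78], 125, [4,1,4,1,5,1,4,4,1,5,1,4,1,5]), ([230,240,229,226], 819, [1,5,1,4,1,4,4,1,4,1,5,1,4,4])], []⟩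
def c1140 : Clm := ⟨8, 9, true, [1,5,1,4,4,1,5,1,4,4,1,4,1,4,1,5,1,9,1,11,2], [1,4,1,4,1,5,1,4,1,4,1,4,4,1,9], 5, [([], 1139, [])], []⟩
def c1141 : Clm := ⟨9, 5, true, [4,1,4,4,1,5,1,5,1,4,1,4,1,9], [4,1,4,1,4,4,1,5,1,5,1,4,4,1,5,1,5,1,5,1,2,1,10,5,6], 11, [([], 1000, [4,1,4,4,1,5,1,5,1,4,1,4,1]), ([42,72,40], 100, [1,4,4,1,4,4,1,4,1,4,1,5,1,4,4,1,4,4,1,5]), ([93,88], 108, [1,5,1,5,1,4,1,4,1,4,4,1,4,4,1,4,1,4,4,1,4,4])], []⟩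
def c1142 : Clm := ⟨5, 9, true, [4,1,4,1,4,4,1,5,1,5,1,4,4,1,5,1,5,1,5,1,2,1,10,5,6], [4,1,4,4,1,5,1,5,1,4,1,4,1,9], 5, [([], 1141, [])], []⟩
def c1143 : Clm := ⟨9, 8, true, [4,4,1,4,4,1,5,1,4,4,1,5,1,5,1,9], [1,5,1,5,1,4,1,5,1,4,1,4,1,5,1,5,1,4,2,10,12,9], 11, [([], 1000, [4,4,1,4,4,1,5,1,4,4,1,5,1,5,1]), ([79,46,40], 100, [4,4,1,4,1,5,1,4,1,4,1,4,4,1,4,4,1,4,1,4,4,1]), ([92,92,158,88], 191, [1,5,1,5,1,4,1,4,4,1,4,1,4,4,1,4,1,4,1,5,1])], []⟩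
def c1144 : Clm := ⟨8, 9, true, [1,5,1,5,1,4,1,5,1,4,1,4,1,5,1,5,1,4,2,10,12,9], [4,4,1,4,4,1,5,1,4,4,1,5,1,5,1,9], 5, [([], 1143, [])], []⟩
def c1145 : Clm := ⟨9, 8, true, [4,1,5,1,5,1,4,4,1,4,1,9], [1,4,1,4,4,1,4,4,1,4,4,1,4,1,4,1,10,2,4], 11, [([], 1000, [4,1,5,1,5,1,4,4,1,4,1]), ([73,79,44], 234, [1,4,1,4,1,4,1,4,4,1,5,1,4,1,5,1,5,1]), ([], 583, [1,4,1,4,4,1,5,1,4,1,5,1,4,1,5,1,4,1,5,1])], []⟩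
def c1146 : Clm := ⟨8, 9, true, [1,4,1,4,4,1,4,4,1,4,4,1,4,1,4,1,10,2,4], [4,1,5,1,5,1,4,4,1,4,1,9], 5, [([], 1145, [])], []⟩
def c1147 : Clm := ⟨9, 8, true, [1,4,1,4,1,5,1,5,1,4,4,1,5,1,9], [5,1,4,1,5,1,4,4,1,4,4,1,4,4,2,5,6,14], 11, [([], 1000, [1,4,1,4,1,5,1,5,1,4,4,1,5,1]), ([78,40], 125, [1,4,1,4,1,4,1,4,1,5,1,4,4,1,5,1,5,1,4,1]), ([228,228,230], 193, [1,4,4,1,4,4,1,4,1,5,1,5,1,4,1,5,1])], []⟩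
def c1148 : Clm := ⟨8, 9, true, [5,1,4,1,5,1,4,4,1,4,4,1,4,4,2,5,6,14], [1,4,1,4,1,5,1,5,1,4,4,1,5,1,9], 5, [([], 1147, [])], []⟩
def c1149 : Clm := ⟨9, 9, true, [1,4,4,1,5,1,4,4,1,4,4,1,4,1,9], [5,1,4,1,4,1,4,1,5,1,4,4,1,4,1,4,1,9], 11, [([], 1000, [1,4,4,1,5,1,4,4,1,4,4,1,4,1]), ([78], 29, [5,1,5,1,4,1,5,1,4,1,5,1,4,1,4,4,1,4,4]), ([78,72,46], 1001, [5,1,5,1,4,4,1,5,1,4,1,4,1,5,1,4,1,5])], []⟩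
def c1150 : Clm := ⟨9, 8, true, [1,4,1,4,1,4,1,4,4,1,9], [4,1,5,1,5,1,4,1,5,1,4,4,1,5,1,4,1,4,1,4,1,5,9,3,5,6], 11, [([], 1000, [1,4,1,4,1,4,1,4,4,1]), ([79,47,79,40], 234, [4,1,4,1,5,1,4,1,5,1,4,1,4,1,5,1,4,4,1,5]), ([356], 812, [5,1,4,1,5,1,4,4,1,5,1,5,1])], []⟩
def c1151 : Clm := ⟨8, 9, true, [4,1,5,1,5,1,4,1,5,1,4,4,1,5,1,4,1,4,1,4,1,5,9,3,5,6], [1,4,1,4,1,4,1,4,4,1,9], 5, [([], 1150, [])], []⟩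
def c1152 : Clm := ⟨9, 8, true, [1,4,1,4,4,1,5,1,5,1,5,1,5,1,9], [1,4,1,4,1,5,1,4,1,4,1,4,4,1,4,1,4,1,4,4,2,1,10,13,14], 11, [([], 1000, [1,4,1,4,4,1,5,1,5,1,5,1,5,1]), ([47,79], 100, [4,1,4,1,5,1,4,1,5,1,5,1,4,1]), ([92], 291, [1,4,1,4,1,4,4,1,5,1,4,1,4,4])], []⟩
def c1153 : Clm := ⟨8, 9, true, [1,4,1,4,1,5,1,4,1,4,1,4,4,1,4,1,4,1,4,4,2,1,10,13,14], [1,4,1,4,4,1,5,1,5,1,5,1,5,1,9], 5, [([], 1152, [])], []⟩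
def c1154 : Clm := ⟨9, 8, true, [1,4,1,5,1,4,1,4,1,4,1,4,1,9], [4,1,4,4,1,5,1,4,4,1,5,1,4,1,4,4,1,4,1,6,10,2], 11, [([], 1000, [1,4,1,5,1,4,1,4,1,4,1,4,1]), ([79,72,42], 1001, [4,1,4,1,4,4,1,4,1,4,1,4,1,4,1,4,1,4,1]), ([], 1063, [4,1,4,1,4,4,1,4,1,5,1,4,1,5,1,4,1,4,1,4,4])], []⟩
def c1155 : Clm := ⟨8, 9, true, [4,1,4,4,1,5,1,4,4,1,5,1,4,1,4,4,1,4,1,6,10,2], [1,4,1,5,1,4,1,4,1,4,1,4,1,9], 5, [([], 1154, [])], []⟩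
def c1156 : Clm := ⟨9, 8, true, [1,5,1,4,1,4,1,4,4,1,5,1,9], [4,1,4,1,5,1,4,4,1,5,1,5,1,4,4,1,4,4,9,9,2], 11, [([], 1000, [1,5,1,4,1,4,1,4,4,1,5,1]), ([66,73,78], 1001, [1,5,1,4,1,5,1,4,4,1,5,1,5,1,4,4,1,4,1]), ([2010,2004], 1155, [1,5,1,4,4,1,5,1,5,1,5,1,4,1,4,4,1,4,4,1,5,1,4])], []⟩
def c1157 : Clm := ⟨8, 9, true, [4,1,4,1,5,1,4,4,1,5,1,5,1,4,4,1,4,4,9,9,2], [1,5,1,4,1,4,1,4,4,1,5,1,9], 5, [([], 1156, [])], []⟩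
def c1158 : Clm := ⟨9, 8, true, [1,4,1,5,1,4,4,1,4,1,4,4,1,9], [1,4,4,1,4,4,1,4,1,4,1,4,1,4,4,1,5,1,4,1,9,3,13], 11, [([], 1000, [1,4,1,5,1,4,4,1,4,1,4,4,1]), ([42,78,72], 234, [5,1,4,1,4,1,4,1,4,4,1,5,1,4,1,4,4,1,5]), ([], 402, [1,5,1,4,1,4,4,1,5,1,4,4,1,5,1,4,4,1,5])], []⟩
def c1159 : Clm := ⟨8, 9, true, [1,4,4,1,4,4,1,4,1,4,1,4,1,4,4,1,5,1,4,1,9,3,13], [1,4,1,5,1,4,4,1,4,1,4,4,1,9], 5, [([], 1158, [])], []⟩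
def c1160 : Clm := ⟨9, 8, true, [1,4,4,1,4,1,4,4,1,4,1,4,4,1,9], [4,4,1,5,1,4,4,1,5,1,4,1,4,1,5,1,5,1,7,1,13], 11, [([], 1000, [1,4,4,1,4,1,4,4,1,4,1,4,4,1]), ([66,42,44], 234, [1,5,1,5,1,4,1,4,4,1,4,1,4,1,5,1,4,4,1,4,1]), ([357], 759, [1,4,1,4,4,1,4,1,4,4,1,5,1,5,1,4,4])], []⟩
def c1161 : Clm := ⟨8, 9, true, [4,4,1,5,1,4,4,1,5,1,4,1,4,1,5,1,5,1,7,1,13], [1,4,4,1,4,1,4,4,1,4,1,4,4,1,9], 5, [([], 1160, [])], []⟩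
def c1162 : Clm := ⟨9, 9, true, [4,1,4,1,4,1,5,1,5,1,4,9], [1,5,1,4,1,5,1,4,1,5,1,4,1,4,1,4,1,6,9,3,7], 11, [([], 1000, [4,1,4,1,4,1,5,1,5,1,4]), ([47,78,46,40], 100, [4,4,1,4,4,1,5,1,4,1,4,4,1,4,4,1,4,4]), ([90,93,88], 1003, [1,4,1,4,4,1,5,1,4,4,1,4,1,4,4,1,4,1,4,4,1])], []⟩
def c1163 : Clm := ⟨9, 8, true, [1,5,1,5,1,5,1,9], [1,4,1,5,1,5,1,4,4,1,4,4,1,5,1,5,1,5,1,5,12,1,4], 11, [([], 1000, [1,5,1,5,1,5,1]), ([44,73,66], 360, [4,1,4,4,1,5,1,4,1,4,1,5,1,5,1,4,4,1,4,1,5]), ([356], 368, [1,5,1,4,1,4,4,1,4,1,5,1,4,4,1,5,1,4,1,4,4,1,5])], []⟩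
def c1164 : Clm := ⟨8, 9, true, [1,4,1,5,1,5,1,4,4,1,4,4,1,5,1,5,1,5,1,5,12,1,4], [1,5,1,5,1,5,1,9], 5, [([], 1163, [])], []⟩
def c1165 : Clm := ⟨9, 8, true, [4,1,4,4,1,4,4,1,4,1,4,1,9], [5,1,4,1,5,1,5,1,5,1,5,1,5,1,5,1,5,1,4,1,4,6,1,2], 11, [([], 1000, [4,1,4,4,1,4,4,1,4,1,4,1]), ([46,72], 122, [5,1,5,1,5,1,4,4,1,5,1,4,4,1,5,1,5,1]), ([240,230,226], 809, [4,4,1,4,1,4,4,1,5,1,5,1,4,1,4,1,4])], []⟩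
def c1166 : Clm := ⟨8, 9, true, [5,1,4,1,5,1,5,1,5,1,5,1,5,1,5,1,5,1,4,1,4,6,1,2], [4,1,4,4,1,4,4,1,4,1,4,1,9], 5, [([], 1165, [])], []⟩
def c1167 : Clm := ⟨9, 9, true, [1,5,1,4,1,4,1,4,4,1,4,1,5,1,5,1,4,9], [1,4,1,4,4,1,4,1,4,1,5,1,4,4,1,4,4,2,10,5,8,12], 11, [([], 1000, [1,5,1,4,1,4,1,4,4,1,4,1,5,1,5,1,4]), ([47], 125, [4,1,4,1,5,1,5,1,4,4,1,4,1,4,4,1,5,1]), ([228,228,240], 1011, [1,4,1,4,1,5,1,4,4,1,4,1,4,1,4,4,1,4,1,5,1])], []⟩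
def c1168 : Clm := ⟨9, 9, true, [1,4,1,4,4,1,4,1,4,1,5,1,4,4,1,4,4,2,10,5,8,12], [1,5,1,4,1,4,1,4,4,1,4,1,5,1,5,1,4,9], 5, [([], 1167, [])], []⟩
def c1169 : Clm := ⟨9, 8, true, [4,1,5,1,9], [1,5,1,4,4,1,4,1,5,1,5,1,4,4,1,4,1,4,4,1,4,10,10,6,2], 11, [([], 1000, [4,1,5,1]), ([78,42,46], 51, [4,4,1,5,1,5,1,5,1,4,1,4,4]), ([88,92], 638, [1,4,1,4,1,5,1,5,1,4,4,1,4,1,4,4,1,4,1,4])], []⟩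
def c1170 : Clm := ⟨8, 9, true, [1,5,1,4,4,1,4,1,5,1,5,1,4,4,1,4,1,4,4,1,4,10,10,6,2], [4,1,5,1,9], 5, [([], 1169, [])], []⟩
def c1171 : Clm := ⟨9, 9, true, [4,1,4,1,4,4,1,4,1,4,1,4,9], [1,4,1,5,1,5,1,4,4,1,4,1,5,1,4,1,4,1,5,1,5,2,4,2,10], 11, [([], 1000, [4,1,4,1,4,4,1,4,1,4,1,4]), ([42,79,72], 234, [4,1,5,1,4,4,1,4,4,1,5,1,4,1,5,1,5]), ([], 1062, [4,4,1,4,4,1,4,1,4,1,5,1,4,1,5])], []⟩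
def c1172 : Clm := ⟨9, 9, true, [1,4,1,5,1,5,1,4,4,1,4,1,5,1,4,1,4,1,5,1,5,2,4,2,10], [4,1,4,1,4,4,1,4,1,4,1,4,9], 5, [([], 1171, [])], []⟩
def c1173 : Clm := ⟨9, 8, true, [1,4,1,4,9], [4,4,1,4,1,5,1,4,1,4,4,1,4,4,1,4,1,4,2,8,4,12], 11, [([], 1000, [1,4,1,4]), ([73,46,40], 131, [1,5,1,4,1,4,1,4,1,5,1,5,1,4,1,5,1,4,4]), ([265,283,264], 312, [1,5,1,5,1,4,1,5,1,5,1,4,1,4,1,5,1,5])], []⟩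
def c1174 : Clm := ⟨8, 9, true, [4,4,1,4,1,5,1,4,1,4,4,1,4,4,1,4,1,4,2,8,4,12], [1,4,1,4,9], 5, [([], 1173, [])], []⟩
def c1175 : Clm := ⟨9, 8, true, [1,4,4,1,4,4,1,4,4,1,4,4,1,4,4,1,9], [1,4,4,1,4,1,4,1,4,1,4,4,1,4,4,1,4,1,5,2,8,4,7], 11, [([], 1000, [1,4,4,1,4,4,1,4,4,1,4,4,1,4,4,1]), ([78,72,40], 55, [1,4,1,5,1,5,1,5,1,4,1,4,1,4,4,1,4,1,4,4,1,4,4]), ([92,88], 336, [1,5,1,5,1,4,1,4,1,5,1,5,1,5,1,5])], []⟩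
def c1176 : Clm := ⟨8, 9, true, [1,4,4,1,4,1,4,1,4,1,4,4,1,4,4,1,4,1,5,2,8,4,7], [1,4,4,1,4,4,1,4,4,1,4,4,1,4,4,1,9], 5, [([], 1175, [])], []⟩
def c1177 : Clm := ⟨9, 8, true, [1,5,1,4,1,4,1,4,1,4,1,9], [1,4,4,1,5,1,5,1,4,4,1,4,1,4,4,1,4,1,5,1,9,13,8], 11, [([], 1000, [1,5,1,4,1,4,1,4,1,4,1]), ([79,47,40], 125, [4,4,1,5,1,4,4,1,5,1,4,4,1,4,1,4,1,5,1,4,4,1,5]), ([230,240,228,227], 819, [4,1,5,1,4,1,5,1,4,4,1,5,1,4,1,4,4,1,4,1,4,4])], []⟩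
def c1178 : Clm := ⟨8, 9, true, [1,4,4,1,5,1,5,1,4,4,1,4,1,4,4,1,4,1,5,1,9,13,8], [1,5,1,4,1,4,1,4,1,4,1,9], 5, [([], 1177, [])], []⟩
def c1179 : Clm := ⟨9, 8, true, [5,1,4,4,1,4,4,1,4,4,1,4,4,1,9], [4,4,1,4,1,4,1,4,1,5,1,5,1,4,4,1,12,1,4], 11, [([], 1000, [5,1,4,4,1,4,4,1,4,4,1,4,4,1]), ([42,78,44], 177, [4,4,1,4,4,1,4,1,4,4,1,4,4,1,4,1,5,1,5]), ([], 247, [1,4,1,4,1,4,4,1,4,1,4,4,1,5,1,4,1,5,1,4,4])], []⟩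
def c1180 : Clm := ⟨8, 9, true, [4,4,1,4,1,4,1,4,1,5,1,5,1,4,4,1,12,1,4], [5,1,4,4,1,4,4,1,4,4,1,4,4,1,9], 5, [([], 1179, [])], []⟩
def c1181 : Clm := ⟨9, 8, true, [4,4,1,4,1,5,1,5,1,5,1,5,1,4,9], [5,1,4,1,4,4,1,4,4,1,5,1,4,4,1,5,1,4,4,6,8,5,13], 11, [([], 1000, [4,4,1,4,1,5,1,5,1,5,1,5,1,4]), ([73,78,42], 131, [4,1,4,4,1,4,1,4,4,1,5,1,4,1,4,1,4,4,1,5]), ([271,316], 310, [1,4,1,4,4,1,4,1,5,1,5,1,4,4,1,4,1,5,1,4,1])], []⟩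
def c1182 : Clm := ⟨8, 9, true, [5,1,4,1,4,4,1,4,4,1,5,1,4,4,1,5,1,4,4,6,8,5,13], [4,4,1,4,1,5,1,5,1,5,1,5,1,4,9], 5, [([], 1181, [])], []⟩
def c1183 : Clm := ⟨9, 8, true, [1,4,1,4,4,1,4,4,1,4,4,1,4,4,1,9], [4,4,1,4,1,4,1,4,4,1,4,1,4,1,5,1,5,1,4,1,5,6,10,2,1], 11, [([], 1000, [1,4,1,4,4,1,4,4,1,4,4,1,4,4,1]), ([66,79,42], 125, [1,4,1,4,4,1,4,1,5,1,5,1,4,1,4,4,1,4,1,5]), ([230,241,230,226], 823, [1,5,1,4,4,1,5,1,5,1,4,4,1,5,1,4,4,1,4,4,1])], []⟩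
def c1184 : Clm := ⟨8, 9, true, [4,4,1,4,1,4,1,4,4,1,4,1,4,1,5,1,5,1,4,1,5,6,10,2,1], [1,4,1,4,4,1,4,4,1,4,4,1,4,4,1,9], 5, [([], 1183, [])], []⟩
def c1185 : Clm := ⟨9, 8, true, [4,4,1,5,1,5,1,5,1,4,1,4,1,4,9], [4,1,5,1,5,1,4,1,4,1,4,1,4,4,1,5,1,4,1,4,1,2,5,14,8], 11, [([], 1000, [4,4,1,5,1,5,1,5,1,4,1,4,1,4]), ([42,72,40], 234, [4,4,1,4,1,5,1,5,1,4,1,5,1,4,1,5,1,4,4,1,5,1]), ([], 894, [4,1,5,1,5,1,4,1,4,1,5,1,5,1,4,1,5])], []⟩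
def c1186 : Clm := ⟨8, 9, true, [4,1,5,1,5,1,4,1,4,1,4,1,4,4,1,5,1,4,1,4,1,2,5,14,8], [4,4,1,5,1,5,1,5,1,4,1,4,1,4,9], 5, [([], 1185, [])], []⟩
def c1187 : Clm := ⟨9, 8, true, [1,5,1,5,1,4,1,4,1,4,4,1,4,1,4,4,1,9], [5,1,5,1,4,1,4,1,5,1,4,4,1,5,2,4,4], 11, [([], 1000, [1,5,1,5,1,4,1,4,1,4,4,1,4,1,4,4,1]), ([73,78,42,47], 234, [1,4,4,1,5,1,5,1,5,1,4,1,4,4,1,5,1,5,1,4,1,5]), ([357], 918, [4,4,1,5,1,4,1,5,1,4,4,1,4,1,5,1])], []⟩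
def c1188 : Clm := ⟨8, 9, true, [5,1,5,1,4,1,4,1,5,1,4,4,1,5,2,4,4], [1,5,1,5,1,4,1,4,1,4,4,1,4,1,4,4,1,9], 5, [([], 1187, [])], []⟩
def c1189 : Clm := ⟨9, 8, true, [4,1,4,4,1,4,1,5,1,4,4,1,4,1,10], [1,4,4,1,4,1,4,4,1,4,1,5,1,5,1,4,1,5,1,5,9,9,14], 9, [([], 1000, [4,1,4,4,1,4,1,5,1,4,4,1,4,1]), ([44,78,40], 1001, [4,1,5,1,5,1,4,1,4,4,1,4,4,1,4,1,4,1,5,1,5]), ([2196,2114,2004], 1091, [1,4,4,1,5,1,4,1,4,1,4,4,1,4,4,1,5,1,4,4,1])], []⟩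
def c1190 : Clm := ⟨8, 9, true, [1,4,4,1,4,1,4,4,1,4,1,5,1,5,1,4,1,5,1,5,9,9,14], [4,1,4,4,1,4,1,5,1,4,4,1,4,1,10], 5, [([], 1189, [])], []⟩
def c1191 : Clm := ⟨9, 8, true, [5,1,5,1,4,1,4,1,4,1,4,4,10], [1,4,1,4,4,1,5,1,4,4,12,8,4], 9, [([], 1000, [5,1,5,1,4,1,4,1,4,1,4,4]), ([40,73,46], 100, [1,5,1,4,1,5,1,4,4,1,4,4,1,4,1,4,1,5,1]), ([88,93], 191, [4,1,4,1,5,1,4,1,4,1,4,4,1,5,1,5,1])], []⟩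
def c1192 : Clm := ⟨8, 9, true, [1,4,1,4,4,1,5,1,4,4,12,8,4], [5,1,5,1,4,1,4,1,4,1,4,4,10], 5, [([], 1191, [])], []⟩
def c1193 : Clm := ⟨9, 9, true, [1,5,1,4,1,5,10], [1,4,1,4,1,5,1,4,4,1,4,4,1,5,1,4,4,1,4,4,1,3,5,2,11], 9, [([], 1000, [1,5,1,4,1,5]), ([72,79,42], 234, [1,5,1,4,1,4,4,1,4,1,5,1,4,4,1]), ([], 1179, [4,4,1,4,1,4,1,5,1,5,1,4,1,5,1,4,1,5,1])], []⟩
def c1194 : Clm := ⟨9, 9, true, [1,4,1,4,1,5,1,4,4,1,4,4,1,5,1,4,4,1,4,4,1,3,5,2,11], [1,5,1,4,1,5,10], 5, [([], 1193, [])], []⟩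
def c1195 : Clm := ⟨9, 8, true, [5,1,4,4,1,4,4,1,4,1,10], [1,5,1,4,1,4,1,4,1,5,1,4,12,8,8], 9, [([], 1000, [5,1,4,4,1,4,4,1,4,1]), ([46,79,66], 125, [1,4,1,4,4,1,4,4,1,4,1,4,1,4,4,1,5,1,5,1,4,4,1]), ([228,230,240], 819, [4,1,4,1,4,1,4,1,4,4,1,4,1,5,1,4])], []⟩
def c1196 : Clm := ⟨8, 9, true, [1,5,1,4,1,4,1,4,1,5,1,4,12,8,8], [5,1,4,4,1,4,4,1,4,1,10], 5, [([], 1195, [])], []⟩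
def c1197 : Clm := ⟨9, 8, true, [4,4,1,5,1,5,1,5,1,4,1,4,4,1,4,10], [5,1,4,4,1,5,1,4,4,1,4,4,1,12,6,11,3], 9, [([], 1000, [4,4,1,5,1,5,1,5,1,4,1,4,4,1,4]), ([66,73,66], 234, [4,4,1,4,1,5,1,4,1,4,1,5,1,4,4,1,4,4,1,5]), ([357], 735, [1,4,4,1,5,1,4,4,1,5,1,4,1,4,4,1,4,1,5,1,4,4])], []⟩
def c1198 : Clm := ⟨8, 9, true, [5,1,4,4,1,5,1,4,4,1,4,4,1,12,6,11,3], [4,4,1,5,1,5,1,5,1,4,1,4,4,1,4,10], 5, [([], 1197, [])], []⟩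
def c1199 : Clm := ⟨9, 8, true, [1,5,1,4,4,1,4,1,5,1,4,10], [1,4,1,4,4,1,5,1,4,1,4,1,4,4,1,5,1,4,1,4,1,4,1,2,5,9], 9, [([], 1000, [1,5,1,4,4,1,4,1,5,1,4]), ([79,44,72], 234, [1,4,1,4,4,1,4,1,4,1,4,1,4,4,1,4,1,4,4]), ([], 886, [4,4,1,4,1,4,1,5,1,4,4,1,5,1,4,4,1,5])], []⟩
def c1200 : Clm := ⟨8, 9, true, [1,4,1,4,4,1,5,1,4,1,4,1,4,4,1,5,1,4,1,4,1,4,1,2,5,9], [1,5,1,4,4,1,4,1,5,1,4,10], 5, [([], 1199, [])], []⟩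
def c1201 : Clm := ⟨9, 9, true, [4,1,4,4,1,4,4,1,4,10], [4,4,1,5,1,4,1,5,1,4,1,4,1,5,1,5,1,4,4,8], 9, [([], 1000, [4,1,4,4,1,4,4,1,4]), ([47,72], 41, [1,5,1,5,1,4,1,4,4,1,5,1,5,1,5,1,5,1,5,1,5]), ([79,66,40], 1001, [4,4,1,5,1,4,1,5,1,4,1,4,1,5,1,5,1,4,4])], []⟩
def c1202 : Clm := ⟨9, 9, true, [4,4,1,5,1,4,1,5,1,4,1,4,1,5,1,5,1,4,4,8], [4,1,4,4,1,4,4,1,4,10], 5, [([], 1201, [])], []⟩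
def c1203 : Clm := ⟨8, 9, true, [4,4,1,4,4,1,4,1,4,1,5,1,4,4,1,4,1,2,10,8,3], [5,1,5,1,4,4,1,5,1,4,1,4,4,1,4,1,5,1,4,1,4,4,9], 11, [([], 1125, [5,1,4,4,1,4,1,5,1,4,1,4,4,1,5,1,4,4,1,4]), ([2196,2114], 1000, [1,5,1,4,1,5,1,4,1,5,1,4,1,4,1,4,4,1,4]), ([72,47,79], 1001, [5,1,4,4,1,5,1,5,1,4,1,4,1,5,1,5,1,4,4])], []⟩
def c1204 : Clm := ⟨9, 8, true, [5,1,5,1,4,4,1,5,1,4,1,4,4,1,4,1,5,1,4,1,4,4,9], [4,4,1,4,4,1,4,1,4,1,5,1,4,4,1,4,1,2,10,8,3], 5, [([], 1203, [])], []⟩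
def c1205 : Clm := ⟨9, 8, true, [5,1,4,1,5,1,4,4,1,4,1,10], [4,1,4,1,5,1,4,1,4,4,1,5,1,5,1,5,1,5,1,5,1,3,8,7,8], 9, [([], 1000, [5,1,4,1,5,1,4,4,1,4,1]), ([72,44,72], 131, [4,1,5,1,4,4,1,5,1,5,1,4,1,4,1,4,4,1,4,1]), ([265,283], 312, [1,4,1,5,1,5,1,5,1,4,1,4,1,4,1,4,4])], []⟩
def c1206 : Clm := ⟨8, 9, true, [4,1,4,1,5,1,4,1,4,4,1,5,1,5,1,5,1,5,1,5,1,3,8,7,8], [5,1,4,1,5,1,4,4,1,4,1,10], 5, [([], 1205, [])], []⟩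
def c1207 : Clm := ⟨9, 8, true, [4,1,4,1,4,4,1,4,4,1,4,1,4,1,5,1,5,1,13,4,14], [1,5,1,5,1,4,1,5,1,4,4,1,4,4,1,4,1,4,1,5,3,11,7,1], 11, [([], 1082, [4,1,4,4,1,5,1,5,1,4,1,4,4,1,5,1,5,1,4,1,4,1]), ([2196], 1000, [1,4,1,4,1,4,1,5,1,4,4,1]), ([72,42,40], 360, [1,4,1,4,1,5,1,4,1,5,1,4])], []⟩
def c1208 : Clm := ⟨8, 9, true, [1,5,1,5,1,4,1,5,1,4,4,1,4,4,1,4,1,4,1,5,3,11,7,1], [4,1,4,1,4,4,1,4,4,1,4,1,4,1,5,1,5,1,13,4,14], 5, [([], 1207, [])], []⟩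
def c1209 : Clm := ⟨9, 8, true, [1,4,1,4,4,1,4,4,1,4,4,1,4,10], [1,4,1,4,1,4,4,1,4,1,4,4,1,5,1,4,4,3,4,1,12], 9, [([], 1000, [1,4,1,4,4,1,4,4,1,4,4,1,4]), ([73,40], 131, [4,1,4,1,5,1,5,1,5,1,4,1,4,4,1,4,1,5,1]), ([316,283,264], 326, [4,4,1,4,4,1,5,1,5,1,4,4,1,4,1,5])], []⟩
def c1210 : Clm := ⟨8, 9, true, [1,4,1,4,1,4,4,1,4,1,4,4,1,5,1,4,4,3,4,1,12], [1,4,1,4,4,1,4,4,1,4,4,1,4,10], 5, [([], 1209, [])], []⟩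
def c1211 : Clm := ⟨9, 8, true, [1,4,1,4,4,1,5,1,4,10], [1,4,1,4,1,4,4,1,5,1,4,1,4,1,4,4,2,4,9,9], 9, [([], 1000, [1,4,1,4,4,1,5,1,4]), ([78,42,46], 51, [4,4,1,4,4,1,5,1,4,1,5,1,4,1,5,1,4,1,4]), ([158,88], 524, [1,5,1,4,1,5,1,4,4,1,4,1,4,4,1,5,1,4,1,4,4])], []⟩
def c1212 : Clm := ⟨8, 9, true, [1,4,1,4,1,4,4,1,5,1,4,1,4,1,4,4,2,4,9,9], [1,4,1,4,4,1,5,1,4,10], 5, [([], 1211, [])], []⟩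
def c1213 : Clm := ⟨9, 9, true, [5,1,4,1,4,1,4,1,4,1,5,1,4,10], [4,1,4,4,1,5,1,4,1,4,4,1,4,1,4,1,4,1,6,2,1], 9, [([], 1000, [5,1,4,1,4,1,4,1,4,1,5,1,4]), ([47,66,79], 234, [1,5,1,4,1,4,4,1,5,1,5,1,4,1,4,1,4,1,4,4,1]), ([357], 1158, [1,4,4,1,4,1,4,1,4,1,4,1,4,1,4,1,4,1,5,1,4])], []⟩
def c1214 : Clm := ⟨9, 9, true, [4,1,4,4,1,5,1,4,1,4,4,1,4,1,4,1,4,1,6,2,1], [5,1,4,1,4,1,4,1,4,1,5,1,4,10], 5, [([], 1213, [])], []⟩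
def c1215 : Clm := ⟨9, 9, true, [4,1,5,1,4,1,4,4,1,5,1,4,10], [1,4,1,4,1,4,1,5,1,5,1,4,1,4,1,4,4,1,3,12,10,14], 9, [([], 1000, [4,1,5,1,4,1,4,4,1,5,1,4]), ([79,46], 125, [5,1,4,1,5,1,4,1,4,1,4,4,1,5,1,4,1,4,4,1]), ([228,230,228], 1011, [4,1,4,1,4,1,4,4,1,5,1,5,1,4,4,1,5,1,5,1,5,1,4])], []⟩
def c1216 : Clm := ⟨9, 9, true, [1,4,1,4,1,4,1,5,1,5,1,4,1,4,1,4,4,1,3,12,10,14], [4,1,5,1,4,1,4,4,1,5,1,4,10], 5, [([], 1215, [])], []⟩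
def c1217 : Clm := ⟨9, 8, true, [1,4,1,5,1,4,1,4,4,1,4,1,4,1,10], [1,4,1,4,1,5,1,4,4,1,4,1,4,1,4,4,1,5,1,4,4,1,2,7,4,12], 9, [([], 1000, [1,4,1,5,1,4,1,4,4,1,4,1,4,1]), ([66,46,44], 360, [1,4,1,5,1,4,1,4,4,1,4,1,4,4,1,4,1,5,1,4,1,4,1]), ([357], 634, [4,4,1,4,1,5,1,4,4,1,4,4,1,4,4,1,4,4,1,5,1])], []⟩
def c1218 : Clm := ⟨8, 9, true, [1,4,1,4,1,5,1,4,4,1,4,1,4,1,4,4,1,5,1,4,4,1,2,7,4,12], [1,4,1,5,1,4,1,4,4,1,4,1,4,1,10], 5, [([], 1217, [])], []⟩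
def c1219 : Clm := ⟨9, 8, true, [4,4,1,5,1,4,4,1,4,1,4,1,5,1,4,4,10], [1,4,1,4,1,5,1,5,1,5,1,4,1,4,1,4,1,4,1,4,4,8,7,3,4], 9, [([], 1000, [4,4,1,5,1,4,4,1,4,1,4,1,5,1,4,4]), ([72,46,66], 845, [4,4,1,5,1,5,1,4,1,5,1,4,1,5,1,5,1,4,1,5,1,4]), ([356], 963, [5,1,5,1,5,1,4,1,5,1,4,1,5,1,4,1,4,1])], []⟩
def c1220 : Clm := ⟨8, 9, true, [1,4,1,4,1,5,1,5,1,5,1,4,1,4,1,4,1,4,1,4,4,8,7,3,4], [4,4,1,5,1,4,4,1,4,1,4,1,5,1,4,4,10], 5, [([], 1219, [])], []⟩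
def c1221 : Clm := ⟨9, 8, true, [4,4,1,4,4,1,4,4,1,4,1,10], [4,1,4,1,4,1,5,1,4,1,5,1,4,1,4,1,5,1,4,1,4,1,3,10,10,1], 9, [([], 1000, [4,4,1,4,4,1,4,4,1,4,1]), ([47,73,78], 177, [5,1,4,1,4,1,4,4,1,4,4,1,4,1,5,1,4,1,5,1]), ([], 906, [1,5,1,4,4,1,4,1,4,1,4,1,4,4,1,4,1,4,4,1,4,1])], []⟩
def c1222 : Clm := ⟨8, 9, true, [4,1,4,1,4,1,5,1,4,1,5,1,4,1,4,1,5,1,4,1,4,1,3,10,10,1], [4,4,1,4,4,1,4,4,1,4,1,10], 5, [([], 1221, [])], []⟩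
def c1223 : Clm := ⟨9, 8, true, [4,1,4,1,4,4,1,5,1,4,1,5,10], [1,4,1,5,1,5,1,4,4,1,5,1,4,1,5,1,4,4,1,4,4,1,12,8,4,12], 9, [([], 1000, [4,1,4,1,4,4,1,5,1,4,1,5]), ([72,66,40], 845, [4,1,5,1,4,1,4,4,1,5,1,4,1,5,1,5,1,5,1,5]), ([], 575, [4,1,5,1,5,1,4,1,5,1,4,4,1,5,1])], []⟩
def c1224 : Clm := ⟨8, 9, true, [1,4,1,5,1,5,1,4,4,1,5,1,4,1,5,1,4,4,1,4,4,1,12,8,4,12], [4,1,4,1,4,4,1,5,1,4,1,5,10], 5, [([], 1223, [])], []⟩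
def c1225 : Clm := ⟨9, 8, true, [4,4,1,5,1,5,1,4,1,5,10], [4,1,4,1,4,4,1,5,1,5,1,4,4,1,5,1,4,4,1,4,1,4,4,2,10,7,8], 9, [([], 1000, [4,4,1,5,1,5,1,4,1,5]), ([78,73,66], 100, [4,1,5,1,5,1,4,4,1,4,1,5,1,5,1,4,4,1,4]), ([93,158,88], 719, [1,4,4,1,4,4,1,4,4,1,4,4,1,5,1,4,1,4,4])], []⟩
def c1226 : Clm := ⟨8, 9, true, [4,1,4,1,4,4,1,5,1,5,1,4,4,1,5,1,4,4,1,4,1,4,4,2,10,7,8], [4,4,1,5,1,5,1,4,1,5,10], 5, [([], 1225, [])], []⟩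
def c1227 : Clm := ⟨9, 8, true, [1,4,4,1,4,1,5,1,4,4,1,4,10], [4,4,1,4,4,1,4,1,4,4,1,4,1,4,1,5,1,4,1,4,6,4,2,12], 9, [([], 1000, [1,4,4,1,4,1,5,1,4,4,1,4]), ([73,73,42], 234, [1,5,1,4,1,4,1,5,1,4,1,5,1,4,4,1,5,1,5]), ([356], 560, [4,1,5,1,4,4,1,5,1,5,1,4,4,1,4,4,1,5])], []⟩
def c1228 : Clm := ⟨8, 9, true, [4,4,1,4,4,1,4,1,4,4,1,4,1,4,1,5,1,4,1,4,6,4,2,12], [1,4,4,1,4,1,5,1,4,4,1,4,10], 5, [([], 1227, [])], []⟩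
def c1229 : Clm := ⟨9, 8, true, [4,1,5,1,5,1,4,4,1,4,10], [1,4,1,4,1,4,1,5,1,4,4,1,4,4,1,4,4,1,4,2,10,14,9], 9, [([], 1000, [4,1,5,1,5,1,4,4,1,4]), ([40,79], 122, [4,1,5,1,5,1,5,1,4,4,1,5,1,4,1,5,1]), ([240,227], 823, [5,1,5,1,4,1,5,1,4,4,1,4,1,4,1,5,1,5,1])], []⟩
def c1230 : Clm := ⟨8, 9, true, [1,4,1,4,1,4,1,5,1,4,4,1,4,4,1,4,4,1,4,2,10,14,9], [4,1,5,1,5,1,4,4,1,4,10], 5, [([], 1229, [])], []⟩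
def c1231 : Clm := ⟨9, 8, true, [1,5,1,4,1,4,1,4,1,4,1,4,10], [4,1,4,4,1,5,1,4,1,5,1,4,4,1,5,1,5,6,13,9,14], 9, [([], 1000, [1,5,1,4,1,4,1,4,1,4,1,4]), ([79,44,42], 845, [1,4,1,5,1,4,1,4,1,5,1,4,4,1,4,1,4,1,4,1]), ([357], 723, [1,4,1,4,4,1,5,1,5,1,5,1,4,4,1,5,1,5,1,4,1,4,1,5])], []⟩
def c1232 : Clm := ⟨8, 9, true, [4,1,4,4,1,5,1,4,1,5,1,4,4,1,5,1,5,6,13,9,14], [1,5,1,4,1,4,1,4,1,4,1,4,10], 5, [([], 1231, [])], []⟩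
def c1233 : Clm := ⟨9, 9, true, [1,4,1,4,1,4,1,5,1,5,1,4,1,4,10], [5,1,4,4,1,5,1,5,1,4,1,4,4,1,4,4,1,2,11,14,13], 9, [([], 1000, [1,4,1,4,1,4,1,5,1,5,1,4,1,4]), ([47,44,40], 177, [4,1,4,1,5,1,5,1,5,1,5,1,4,4,1,4,1]), ([356], 1160, [1,4,1,4,4,1,5,1,5,1,5,1,4,4,1,4,4,1,4,1,5])], []⟩
def c1234 : Clm := ⟨9, 9, true, [5,1,4,4,1,5,1,5,1,4,1,4,4,1,4,4,1,2,11,14,13], [1,4,1,4,1,4,1,5,1,5,1,4,1,4,10], 5, [([], 1233, [])], []⟩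
def c1235 : Clm := ⟨9, 8, true, [1,4,1,4,4,1,4,1,4,1,4,1,10], [1,5,1,4,4,1,4,1,4,1,4,1,4,4,1,4,4,1,5,1,4,9,5,1,8], 9, [([], 1000, [1,4,1,4,4,1,4,1,4,1,4,1]), ([66,72,66,42], 234, [1,5,1,4,1,4,1,4,1,4,4,1,4,1,4,4,1,4,1,5,1,5]), ([356], 558, [1,5,1,5,1,4,1,4,1,5,1,4,1,4,4,1,4,1,5])], []⟩
def c1236 : Clm := ⟨8, 9, true, [1,5,1,4,4,1,4,1,4,1,4,1,4,4,1,4,4,1,5,1,4,9,5,1,8], [1,4,1,4,4,1,4,1,4,1,4,1,10], 5, [([], 1235, [])], []⟩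
def c1237 : Clm := ⟨9, 9, true, [1,5,1,5,1,4,10], [1,4,4,1,4,4,1,5,1,4,4,1,5,1,4,4,1,4,1,4,10,1,8], 9, [([], 1000, [1,5,1,5,1,4]), ([78,47,78,42], 845, [1,4,1,4,4,1,4,1,4,1,4,1,4,1,4,1,5,1,4,4]), ([356], 1154, [4,1,5,1,4,4,1,4,1,4,1,5,1,4,4,1,4,4,1,5,1])], []⟩
def c1238 : Clm := ⟨9, 8, true, [1,4,4,1,4,1,4,1,4,1,4,1,5,10], [4,1,4,1,4,4,1,4,1,5,1,4,4,1,4,4,1,2,12,4,8], 9, [([], 1000, [1,4,4,1,4,1,4,1,4,1,4,1,5]), ([42,47,42], 177, [1,5,1,4,1,4,1,5,1,5,1,5,1,4,1,4]), ([], 267, [1,4,1,4,4,1,4,4,1,5,1,4,1,5,1,4])], []⟩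
def c1239 : Clm := ⟨8, 9, true, [4,1,4,1,4,4,1,4,1,5,1,4,4,1,4,4,1,2,12,4,8], [1,4,4,1,4,1,4,1,4,1,4,1,5,10], 5, [([], 1238, [])], []⟩
def c1240 : Clm := ⟨9, 9, true, [5,1,4,1,4,1,5,1,5,1,4,10], [4,1,4,1,4,4,1,4,1,5,1,4,1,4,4,1,5,1,4,1,5,1,2,4,8,5], 9, [([], 1000, [5,1,4,1,4,1,5,1,5,1,4]), ([66,72], 122, [4,1,4,4,1,5,1,4,4,1,4,1,5,1,4,1,4,4,1,4,4,1,4]), ([228,230], 1011, [1,5,1,5,1,4,1,5,1,4,4,1,4,1,4,1,5,1,4,4])], []⟩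
def c1241 : Clm := ⟨9, 9, true, [4,1,4,1,4,4,1,4,1,5,1,4,1,4,4,1,5,1,4,1,5,1,2,4,8,5], [5,1,4,1,4,1,5,1,5,1,4,10], 5, [([], 1240, [])], []⟩
def c1242 : Clm := ⟨9, 8, true, [1,4,1,5,1,4,4,1,4,1,4,1,5,1,10], [1,4,4,1,4,4,1,4,1,4,1,4,4,1,5,1,4,1,4,1,9,4,4,10], 9, [([], 1000, [1,4,1,5,1,4,4,1,4,1,4,1,5,1]), ([66], 234, [1,4,1,5,1,5,1,4,1,4,4,1,4,4,1,5,1,5,1,4,1,5]), ([357], 642, [1,5,1,5,1,4,4,1,4,1,4,1,4,1,4,4,1,4,4,1,4,1])], []⟩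
def c1243 : Clm := ⟨8, 9, true, [1,4,4,1,4,4,1,4,1,4,1,4,4,1,5,1,4,1,4,1,9,4,4,10], [1,4,1,5,1,4,4,1,4,1,4,1,5,1,10], 5, [([], 1242, [])], []⟩
def c1244 : Clm := ⟨9, 8, true, [1,4,4,1,4,1,5,10], [4,1,4,1,5,1,4,4,1,4,1,4,1,4,1,4,1,3,10,6,12], 9, [([], 1000, [1,4,4,1,4,1,5]), ([73,78,44], 100, [4,4,1,4,1,4,4,1,5,1,5,1,4,4,1,4,1,5]), ([158], 713, [1,5,1,4,1,4,1,5,1,5,1,4,4,1,4,1,4,4,1,4])], []⟩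
def c1245 : Clm := ⟨8, 9, true, [4,1,4,1,5,1,4,4,1,4,1,4,1,4,1,4,1,3,10,6,12], [1,4,4,1,4,1,5,10], 5, [([], 1244, [])], []⟩
def c1246 : Clm := ⟨9, 8, true, [5,1,5,1,5,1,4,1,4,1,5,1,4,4,10], [1,4,4,1,4,1,5,1,5,1,5,1,5,1,4,4,1,5,1,4,1,4,4,2,5,7,12], 9, [([], 1000, [5,1,5,1,5,1,4,1,4,1,5,1,4,4]), ([78,44,72], 55, [4,1,4,1,5,1,5,1,4,1,5,1,4,1,4,1,4,4]), ([158,90,88], 336, [4,4,1,4,4,1,4,1,5,1,4,1,5,1,5])], []⟩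
def c1247 : Clm := ⟨8, 9, true, [1,4,4,1,4,1,5,1,5,1,5,1,5,1,4,4,1,5,1,4,1,4,4,2,5,7,12], [5,1,5,1,5,1,4,1,4,1,5,1,4,4,10], 5, [([], 1246, [])], []⟩
def c1248 : Clm := ⟨9, 9, true, [1,4,1,5,1,4,1,4,1,5,1,5,1,4,1,5,1,5,1,9,1,13], [4,1,4,4,1,5,1,5,1,4,1,4,1,4,4,1,4,1,4,1,9], 11, [([], 1159, [4,4,1,4,4,1,4,1,4,4,1,4,1,5,1,4,4,1,5,1,5,1]), ([356], 235, [4,4,1,5,1,4,1,5,1,5,1,5,1,5,1,4,1,4,1]), ([72,66,42], 1001, [4,4,1,4,1,4,1,4,1,4,1,5,1,5,1])], []⟩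
def c1249 : Clm := ⟨9, 9, true, [4,1,4,4,1,5,1,5,1,4,1,4,1,4,4,1,4,1,4,1,9], [1,4,1,5,1,4,1,4,1,5,1,5,1,4,1,5,1,5,1,9,1,13], 5, [([], 1248, [])], []⟩
def c1250 : Clm := ⟨8, 9, true, [1,4,1,4,4,1,4,4,1,5,1,5,1,4,1,4,1,4,1,4,1,5,1,9,3,12,2], [4,1,4,1,4,4,1,5,1,4,1,4,4,1,4,1,5,1,4,1,9], 11, [([], 844, [1,4,1,4,4,1,5,1,5,1,4,4,1,4,1,5,1,4,1,4,1,5]), ([78,40], 41, [5,1,4,1,4,1,5,1,5,1,5,1,4,4,1,4,1,4,1,5]), ([46,42,79], 1001, [1,5,1,4,1,4,1,5,1,5,1])], []⟩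
def c1251 : Clm := ⟨9, 8, true, [4,1,4,1,4,4,1,5,1,4,1,4,4,1,4,1,5,1,4,1,9], [1,4,1,4,4,1,4,4,1,5,1,5,1,4,1,4,1,4,1,4,1,5,1,9,3,12,2], 5, [([], 1250, [])], []⟩
def c1252 : Clm := ⟨9, 9, true, [1,4,1,4,4,1,4,1,4,1,5,1,4,1,4,4,1,4,4,2,10,5,8,12], [1,5,1,4,4,1,4,1,5,1,4,1,4,4,1,5,1,4,4,9], 11, [([], 1009, [5,1,4,1,4,1,5,1,5,1,4,4,1,5,1,4,1]), ([276,270], 130, [1,5,1,5,1,4,4,1,5,1,4,1,4,1,5,1]), ([46,46,42,40], 1001, [4,1,5,1,4,1,4,1,4,4,1,4,1,4,1,4,1,4])], []⟩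
def c1253 : Clm := ⟨9, 9, true, [1,5,1,4,4,1,4,1,5,1,4,1,4,4,1,5,1,4,4,9], [1,4,1,4,4,1,4,1,4,1,5,1,4,1,4,4,1,4,4,2,10,5,8,12], 5, [([], 1252, [])], []⟩
def c1254 : Clm := ⟨9, 9, true, [1,5,1,5,1,5,1,4,4,1,4,4,1,5,1,4,1,4,1,4,1,5,7,10,10,7], [4,1,4,1,5,1,4,1,4,4,1,4,1,4,4,1,4,1,5,1,4,1,4,1,9], 11, [([], 1178, [1,4,1,4,4,1,5,1,4,4,1,4,4,1,4,1,4,4]), ([357], 235, [1,5,1,4,4,1,4,4,1,4,1,5,1,5,1,4,1,5,1]), ([78,42], 1001, [4,4,1,4,1,4,1,5,1,4,1,5,1,4,1,5,1])], []⟩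
def c1255 : Clm := ⟨9, 9, true, [4,1,4,1,5,1,4,1,4,4,1,4,1,4,4,1,4,1,5,1,4,1,4,1,9], [1,5,1,5,1,5,1,4,4,1,4,4,1,5,1,4,1,4,1,4,1,5,7,10,10,7], 5, [([], 1254, [])], []⟩
def c1256 : Clm := ⟨8, 9, true, [5,1,4,1,5,1,5,1,4,1,4,4,3,6,3], [5,1,5,1,4,1,4,4,1,4,1,4,4,1,5,1,5,1,5,9], 11, [([], 661, [4,4,1,4,1,4,1,5,1,4]), ([], 844, [5,1,4,1,5,1,5,1,4,1,4,1,5,1,5,1,4,1]), ([78,46,40], 1001, [1,5,1,4,1,4,4,1,4,1,4,4,1,4])], []⟩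
def c1257 : Clm := ⟨9, 8, true, [5,1,5,1,4,1,4,4,1,4,1,4,4,1,5,1,5,1,5,9], [5,1,4,1,5,1,5,1,4,1,4,4,3,6,3], 5, [([], 1256, [])], []⟩
def c1258 : Clm := ⟨9, 9, true, [5,1,4,4,1,5,1,4,4,1,4,4,1,5,1,5,1,4,1,5,10], [4,1,4,1,4,1,4,1,5,1,4,1,4,4,1,5,1,4,4,1,6,2,8,10], 9, [([], 1000, [5,1,4,4,1,5,1,4,4,1,4,4,1,5,1,5,1,4,1,5]), ([73], 1001, [4,1,4,1,4,4,1,4,1,5,1,5,1,4]), ([2114,2010,2004], 1253, [1,5,1,4,1,4,4,1,5,1,5,1,4,1,4,4,1,4,1])], []⟩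
def c1259 : Clm := ⟨9, 9, true, [5,1,5,1,5,1,5,1,4,1,5,1,4,1,5,1,4,1,4,1,5,1,9], [5,1,5,1,4,4,1,4,4,1,4,1,4,4,1,4,4,9], 11, [([], 1000, [5,1,5,1,5,1,5,1,4,1,5,1,4,1,5,1,4,1,4,1,5,1]), ([46,78], 25, [4,1,4,1,5,1,4,4,1,4,1,4,1,4,4,1,5,1,4,1,4]), ([78,47,73], 1001, [1,4,4,1,5,1,4,4,1,4,4,1,4,1])], []⟩
def c1260 : Clm := ⟨8, 9, true, [5,1,5,1,4,1,4,1,4,1,5,1,5,1,4,1,5,6,1,9,14], [1,4,1,4,1,4,4,1,5,1,4,4,1,4,4,1,4,1,9], 11, [([], 587, [1,4,1,4,1,4,1,5,1,5,1,4,1,5,1,4,1,5,1]), ([], 235, [1,4,1,4,1,5,1,5,1,4]), ([78,72,40], 1001, [4,4,1,4,4,1,4,1,4,4,1])], []⟩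
def c1261 : Clm := ⟨9, 8, true, [1,4,1,4,1,4,4,1,5,1,4,4,1,4,4,1,4,1,9], [5,1,5,1,4,1,4,1,4,1,5,1,5,1,4,1,5,6,1,9,14], 5, [([], 1260, [])], []⟩
def c1262 : Clm := ⟨9, 8, true, [1,5,1,5,1,4,4,1,4,1,4,4,1,4,1,5,1,5,10], [1,4,1,4,1,4,4,1,5,1,4,1,5,1,5,1,4,4,1,4,4,1,7,10,13,10], 9, [([], 1000, [1,5,1,5,1,4,4,1,4,1,4,4,1,4,1,5,1,5]), ([72,66,40], 1001, [5,1,4,4,1,4,4,1,4,1,4,1,4,1]), ([2196,2114,2004], 1196, [4,4,1,5,1,4,4,1,5,1,4,4,1,4,4,1,5,1,4,4])], []⟩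
def c1263 : Clm := ⟨8, 9, true, [1,4,1,4,1,4,4,1,5,1,4,1,5,1,5,1,4,4,1,4,4,1,7,10,13,10], [1,5,1,5,1,4,4,1,4,1,4,4,1,4,1,5,1,5,10], 5, [([], 1262, [])], []⟩
def c1264 : Clm := ⟨9, 9, true, [5,1,4,4,1,5,1,5,1,4,4,1,4,4,1,4,1,4,9,1], [4,1,5,1,5,1,5,1,5,1,5,1,5,1,5,1,5,1,9], 11, [([], 1012, [1,4,4,1,5,1,4,1,4,4,1,4,4,1,4,4]), ([241,228], 126, [5,1,4,4,1,4,1,4,4,1,5,1,4,4,1,5,1,4,4]), ([47,73,40], 1001, [4,4,1,4,1,5,1,4,1,5,1,4,1,5,1,4,1,4,4,1,5,1,5])], []⟩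
def c1265 : Clm := ⟨8, 9, true, [1,4,4,1,4,1,4,1,4,4,1,4,1,5,1,5,1,5,1,12,9,12], [4,1,5,1,5,1,4,4,1,4,1,4,1,5,1,5,8], 9, [([], 339, [1,4,1,4,4,1,4,1,5,1,4,1,4,1,4,4,1,4,1,4,4]), ([92,158], 56, [4,4,1,5,1,5,1,5,1,5,1,5,1,5,1,4,1,5,1]), ([46,78,46], 1001, [4,1,5,1,5,1,4,4,1,4,1,4,1,5,1,5])], []⟩
def c1266 : Clm := ⟨9, 8, true, [4,1,5,1,5,1,4,4,1,4,1,4,1,5,1,5,8], [1,4,4,1,4,1,4,1,4,4,1,4,1,5,1,5,1,5,1,12,9,12], 5, [([], 1265, [])], []⟩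
def c1267 : Clm := ⟨5, 9, true, [1,4,1,4,4,1,4,4,1,4,1,4,4,1,5,1,4,1,5,1,5,1,4,8,3,4,10], [5,1,5,1,4,1,4,1,4,4,1,5,1,5,1,4,1,4,4,3,9,3,13], 11, [([], 52, [1,5,1,4,4,1,4,1,4,1,5,1,4,4,1,5,1,4,4,1]), ([66,42,40], 1001, [4,1,4,1,5,1,4,1,4]), ([2114], 1254, [1,4,4,1,4,1,4,1,5,1,5,1,4,1,4,4,1,5,1,4])], []⟩
def c1268 : Clm := ⟨9, 5, true, [5,1,5,1,4,1,4,1,4,4,1,5,1,5,1,4,1,4,4,3,9,3,13], [1,4,1,4,4,1,4,4,1,4,1,4,4,1,5,1,4,1,5,1,5,1,4,8,3,4,10], 5, [([], 1267, [])], []⟩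
def c1269 : Clm := ⟨9, 9, true, [4,1,5,1,4,1,4,1,5,1,5,1,4,1,4,4,1,5,6,13,11,2], [5,1,4,4,1,5,1,4,1,4,1,8], 9, [([], 1035, [5,1,5,1,5,1,5,1,4,4,1,5,1,4,4,1,4,1]), ([241], 111, [5,1,4,4,1,4,1,4,1,5,1,4,4,1,5,1,4,4]), ([47,44,79], 1001, [5,1,4,4,1,5,1,4,1,4,1])], []⟩
def c1270 : Clm := ⟨7, 9, true, [4,1,5,1,5,1,5,1,4,4,1,4,1,4,1,5,1,4,1,13,2,11], [5,1,5,1,4,1,4,1,4,8], 9, [([316,283,276], 155, [4,1,4,1,4,1,5,1,4,1,4,4,1,4,1,4,4,1,4,1,4]), ([276], 130, [1,5,1,4,1,4,1,4,4,1,4,1,4,1,5,1,5,1,5,1,5]), ([79,47,79,42], 1001, [5,1,5,1,4,1,4,1,4])], []⟩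
def c1271 : Clm := ⟨9, 7, true, [5,1,5,1,4,1,4,1,4,8], [4,1,5,1,5,1,5,1,4,4,1,4,1,4,1,5,1,4,1,13,2,11], 5, [([], 1270, [])], []⟩
def c1272 : Clm := ⟨8, 9, true, [4,4,1,5,1,5,1,4,1,4,4,1,4,1,5,1,4,1,4,4,9], [1,4,4,1,4,4,1,4,4,1,4,1,4,1,5,1,4,4,1,4,1,4,4,10,1,6,3], 11, [([], 176, [4,4,1,5,1,5,1,4,1,4,4,1,4,1,5,1,4,1,4,4]), ([79,72,66], 1001, [1,4,1,4,1,5,1,4,1,5,1,4,1,5,1,4,1,5,1,4,1]), ([2196,2114,2004], 1168, [4,1,5,1,4,1,4,4,1,4,1,4,1,4,1,4,4,1,5,1])], []⟩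
def c1273 : Clm := ⟨9, 8, true, [1,4,4,1,4,4,1,4,4,1,4,1,4,1,5,1,4,4,1,4,1,4,4,10,1,6,3], [4,4,1,5,1,5,1,4,1,4,4,1,4,1,5,1,4,1,4,4,9], 5, [([], 1272, [])], []⟩
def c1274 : Clm := ⟨8, 9, true, [1,5,1,4,1,5,1,4,1,5,1,4,1,4,1,4,2,4,1,10,1], [4,1,5,1,5,1,4,1,4,4,1,4,4,1,4,1,5,1,4,7,9,14], 11, [([], 235, [4,1,4,1,4,4,1,5,1,5,1,4,1,4,4,1,4,4,1,4,1,5,1]), ([78,66,46,40], 1001, [4,4,1,5,1,4,1,5,1,4,1,4]), ([2114,2010,2004], 1249, [4,1,5,1,5,1,5,1,4,1,4,1,4,1,4,1,4,4,1])], []⟩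
def c1275 : Clm := ⟨9, 8, true, [4,1,5,1,5,1,4,1,4,4,1,4,4,1,4,1,5,1,4,7,9,14], [1,5,1,4,1,5,1,4,1,5,1,4,1,4,1,4,2,4,1,10,1], 5, [([], 1274, [])], []⟩
def c1276 : Clm := ⟨8, 9, true, [1,4,1,4,4,1,4,1,5,1,4,1,5,1,4,1,5,1,5,6,4,2,4], [1,4,4,1,4,1,5,1,4,4,1,4,1,8], 9, [([356], 233, [5,1,5,1,5,1,5,1,5,1,4,1,5,1,4,1,5,1,4]), ([], 235, [1,4,1,4,1,5,1,5,1,4,1,4,4,1,4,1,4,1,4]), ([42,72,79], 1001, [1,4,4,1,4,1,5,1,4,4,1,4,1])], []⟩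
def c1277 : Clm := ⟨9, 8, true, [1,4,4,1,4,1,5,1,4,4,1,4,1,8], [1,4,1,4,4,1,4,1,5,1,4,1,5,1,4,1,5,1,5,6,4,2,4], 5, [([], 1276, [])], []⟩
def c1278 : Clm := ⟨9, 9, true, [1,4,1,5,1,4,1,4,1,4,4,1,5,1,4,4,1,7,10,12,3], [1,5,1,4,1,4,1,5,1,4,4,1,5,1,4,1,4,4,1,4,1,3,1,5,6], 9, [([], 1033, [5,1,4,4,1,5,1,5,1,4,1,5,1,4,4,1,5,1,4,1,4]), ([92,92,88], 1003, [4,1,4,1,5,1,4,4,1,4,4,1,4]), ([2010], 1253, [5,1,5,1,5,1,5,1,4,1,4,1,4,1,4,4,1,5,1])], []⟩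
def c1279 : Clm := ⟨5, 9, true, [1,5,1,4,1,4,1,4,4,1,4,4,1,4,1,4,1,5,1,5,1,2,11,1,4], [1,5,1,4,1,4,4,1,4,1,4,1,4,1,4,4,1,4,9,14,4], 11, [([], 1003, [1,4,1,4,1]), ([2010], 1234, [4,4,1,5,1]), ([2114,2004], 1194, [4,1,4,1,5,1,4,1,5,1,5,1,4,4,1,4,1,4,4,1,5])], []⟩
def c1280 : Clm := ⟨9, 5, true, [1,5,1,4,1,4,4,1,4,1,4,1,4,1,4,4,1,4,9,14,4], [1,5,1,4,1,4,1,4,4,1,4,4,1,4,1,4,1,5,1,5,1,2,11,1,4], 5, [([], 1279, [])], []⟩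
def c1281 : Clm := ⟨8, 9, true, [4,1,4,1,4,4,1,4,1,4,1,4,1,4,1,5,1,5,1,4,4,1,8,10,7,1], [5,1,4,1,4,1,5,1,4,1,5,1,4,4,1,4,4,1,5,1,2,8,3,11], 11, [([], 609, [1,4,1,4,4,1,4,4,1,5,1,4,1,4,1,5,1,4,1,5,1]), ([356], 329, [5,1,5,1,5,1,4,1,5,1,4,1,4]), ([158,92,88], 1003, [1,4,1,4,1,4,4,1,4,1,5,1,4,4,1,4,1])], []⟩
def c1282 : Clm := ⟨9, 8, true, [5,1,4,1,4,1,5,1,4,1,5,1,4,4,1,4,4,1,5,1,2,8,3,11], [4,1,4,1,4,4,1,4,1,4,1,4,1,4,1,5,1,5,1,4,4,1,8,10,7,1], 5, [([], 1281, [])], []⟩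
def c1283 : Clm := ⟨7, 9, true, [1,4,1,4,1,4,1,4,4,1,5,1,4,4,1,4,4,1,5,1,6,3,11,4], [1,5,1,5,1,4,1,4,1,4,4,1,5,1,5,1,4,1,4,1,7,1,11], 11, [([], 162, [1,4,4,1,4,1,4,1,5,1,4,4,1,4,4,1,5,1,5,1]), ([88], 105, [5,1,4,1,5,1,5,1,4,4,1,5,1,5,1,5,1,4,1,5]), ([93,90], 1003, [5,1,5,1,4,1,4,1,4,4,1,4,1,4,1,4,1,5,1,4])], []⟩
def c1284 : Clm := ⟨9, 7, true, [1,5,1,5,1,4,1,4,1,4,4,1,5,1,5,1,4,1,4,1,7,1,11], [1,4,1,4,1,4,1,4,4,1,5,1,4,4,1,4,4,1,5,1,6,3,11,4], 5, [([], 1283, [])], []⟩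
def c1285 : Clm := ⟨8, 9, true, [4,1,5,1,4,4,1,5,1,4,1,4,1,5,1,4,4,1,4,1,4,1,7,3,13], [1,4,4,1,4,1,5,1,5,1,4,1,4,4,1,5,1,5,1,4,1,4,2,1,5,13,1], 11, [([], 376, [1,4,1,4,1,4,1,4,1,4,4,1,5,1,4,1,5,1,5,1,5,1,5]), ([90,92], 87, [1,4,1,4,4,1,4,4,1,4,1,5,1,4,1]), ([92,92,88], 1003, [1,4,4,1,4,1,5,1,5,1,5,1,4,1,4,1,4,1])], []⟩
def c1286 : Clm := ⟨9, 8, true, [1,4,4,1,4,1,5,1,5,1,4,1,4,4,1,5,1,5,1,4,1,4,2,1,5,13,1], [4,1,5,1,4,4,1,5,1,4,1,4,1,5,1,4,4,1,4,1,4,1,7,3,13], 5, [([], 1285, [])], []⟩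
def c1287 : Clm := ⟨8, 9, true, [4,4,1,4,4,1,4,4,1,5,1,4,4,1,4,4,1,4,3,11,3,6], [1,4,4,1,4,1,4,4,1,5,1,5,1,4,1,4,4,1,5,6,9], 11, [([], 648, [1,4,1,4,1,4,4,1,4,1,4,4]), ([356], 335, [4,4,1,4,1,4,1,5,1,4,1,5,1,5,1,5,1,5]), ([158,92,88], 1003, [4])], []⟩
def c1288 : Clm := ⟨9, 8, true, [1,4,4,1,4,1,4,4,1,5,1,5,1,4,1,4,4,1,5,6,9], [4,4,1,4,4,1,4,4,1,5,1,4,4,1,4,4,1,4,3,11,3,6], 5, [([], 1287, [])], []⟩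
def c1289 : Clm := ⟨8, 9, true, [4,1,4,4,1,4,1,4,1,5,1,4,4,1,4,4,1,5,1,4,4,1,2,5,6,1], [1,4,1,4,1,4,4,1,4,4,1,4,1,4,4,1,5,1,4,1,4,1,6,11], 11, [([], 578, [4,1,4,4,1,4,4,1,4,1,4,4,1,4,1,4,1,4]), ([357], 335, [1,4,4,1,4,4,1,5,1,4,4,1,5,1,4]), ([], 1003, [1,4,4,1,4,4,1,4,4,1,4,4,1,4,4,1])], []⟩
def c1290 : Clm := ⟨9, 8, true, [1,4,1,4,1,4,4,1,4,4,1,4,1,4,4,1,5,1,4,1,4,1,6,11], [4,1,4,4,1,4,1,4,1,5,1,4,4,1,4,4,1,5,1,4,4,1,2,5,6,1], 5, [([], 1289, [])], []⟩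
def c1291 : Clm := ⟨8, 9, true, [1,4,1,5,1,4,1,4,4,1,5,1,4,4,1,5,1,5,1,4,1,4,2,12,9], [1,5,1,5,1,5,1,4,1,4,1,4,1,4,1,4,4,1,4,4,1,4,2,1,14,9], 11, [([], 377, [1,5,1,4,1,5,1,5,1,5,1,5,1,4,1,4]), ([], 343, [5,1,4,1,5,1,4,1,4,1,5,1,4,1,4]), ([92], 1003, [1,4,1,4,4,1,5,1,5,1,5,1,5,1,4,1,4,4,1])], []⟩
def c1292 : Clm := ⟨9, 8, true, [1,5,1,5,1,5,1,4,1,4,1,4,1,4,1,4,4,1,4,4,1,4,2,1,14,9], [1,4,1,5,1,4,1,4,4,1,5,1,4,4,1,5,1,5,1,4,1,4,2,12,9], 5, [([], 1291, [])], []⟩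
def c1293 : Clm := ⟨5, 9, true, [1,5,1,4,4,1,5,1,4,4,1,4,4,1,5,1,5,1,4,1,5,1,4,9,12,8], [1,4,1,4,4,1,4,4,1,4,1,4,1,4,1,4,4,1,4,4,1,5,1,5,2,9,3,6,2], 11, [([], 1003, [1,5,1,4,1,5,1,4,1,4,1,4,4,1]), ([2197,2114,2004], 1027, [4,1,5,1,5,1,4,1,5,1,4,4,1,5,1,4,1]), ([], 1090, [5,1,4,4,1,4,1,4,1,4,1,4,4,1,4,4,1,4,1,4])], []⟩
def c1294 : Clm := ⟨9, 5, true, [1,4,1,4,4,1,4,4,1,4,1,4,1,4,1,4,4,1,4,4,1,5,1,5,2,9,3,6,2], [1,5,1,4,4,1,5,1,4,4,1,4,4,1,5,1,5,1,4,1,5,1,4,9,12,8], 5, [([], 1293, [])], []⟩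
def c1295 : Clm := ⟨8, 9, true, [4,4,1,4,1,5,1,4,4,1,4,1,4,1,5,1,5,1,5,1,5,2,7,4,8,14], [1,4,1,4,1,4,1,5,1,4,4,1,5,1,4,4,1,4,4,1,4,1,8,11,9], 11, [([], 804, [1,4,1,4,1,4,1,5,1,4,1,5,1,4,1,5,1,5,1,4]), ([], 319, [4,4,1,4,1,4,1,4,1,4,4,1,4,4,1,4,1,4,4,1,4]), ([90,88], 1003, [1,5,1,4,1,4,4,1,5,1,5,1,5,1,4,1,4,1])], []⟩
def c1296 : Clm := ⟨9, 8, true, [1,4,1,4,1,4,1,5,1,4,4,1,5,1,4,4,1,4,4,1,4,1,8,11,9], [4,4,1,4,1,5,1,4,4,1,4,1,4,1,5,1,5,1,5,1,5,2,7,4,8,14], 5, [([], 1295, [])], []⟩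
def c1297 : Clm := ⟨8, 9, true, [1,5,1,5,1,4,1,4,4,1,4,4,1,4,4,1,4,4,1,5,10,14,6,4], [4,1,5,1,5,1,4,1,4,1,5,1,4,1,4,4,1,4,1,4,2,7,4,1], 9, [([], 527, [5,1,5,1,5,1,4,4,1,5,1,4,4,1,5,1,4,1,4,1,5]), ([88,92,88], 1003, [4,4,1,4,4,1,5,1,4,1,4,1,4]), ([2197,2114,2004], 1241, [1,5,1,4,4,1,4,1,5,1,4,4,1,4])], []⟩
def c1298 : Clm := ⟨9, 8, true, [4,1,5,1,5,1,4,1,4,1,5,1,4,1,4,4,1,4,1,4,2,7,4,1], [1,5,1,5,1,4,1,4,4,1,4,4,1,4,4,1,4,4,1,5,10,14,6,4], 5, [([], 1297, [])], []⟩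
def c1299 : Clm := ⟨8, 9, true, [1,4,4,1,5,1,4,4,1,4,4,1,4,1,4,4,1,5,1,10,10,5], [5,1,4,4,1,5,1,4,1,4,1,5,1,4,4,1,5,1,2,1,13,11], 11, [([], 720, [4,1,5,1,4,1,4,1,4,4,1,5,1,4,1,5,1,4,4]), ([93], 102, [4,4,1,5,1,4,1,4,4,1,4,1,4,1,4,4,1,4,1]), ([], 1003, [4,4,1,4,1,4,4,1,5,1,4,4,1,4,1,5,1,4,1,4,1,4,4])], []⟩
def c1300 : Clm := ⟨9, 8, true, [5,1,4,4,1,5,1,4,1,4,1,5,1,4,4,1,5,1,2,1,13,11], [1,4,4,1,5,1,4,4,1,4,4,1,4,1,4,4,1,5,1,10,10,5], 5, [([], 1299, [])], []⟩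
def c1301 : Clm := ⟨8, 9, true, [4,1,4,1,4,1,4,1,5,1,4,1,5,1,4,1,5,1,5,12,4], [1,4,1,4,4,1,5,1,4,4,1,4,4,1,5,1,4,4,1,4,4,1,2,1,14,8], 9, [([357], 934, [4,1,4,4,1,4,1,5,1,5,1,5,1,4,4,1,5]), ([], 335, [4,4,1,5,1,4,1,4,1,4,4,1,4,4,1,5,1,4,1]), ([93,88], 1003, [4,1,5,1,5,1,4,4,1,4,1])], []⟩
def c1302 : Clm := ⟨9, 8, true, [1,4,1,4,4,1,5,1,4,4,1,4,4,1,5,1,4,4,1,4,4,1,2,1,14,8], [4,1,4,1,4,1,4,1,5,1,4,1,5,1,4,1,5,1,5,12,4], 5, [([], 1301, [])], []⟩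
def c1303 : Clm := ⟨9, 9, true, [1,5,1,5,1,4,1,4,4,1,4,1,4,1,4,1,4,1,5,1,4,1,4,3,13,9], [4,1,4,1,4,4,1,5,1,5,1,5,1,4,1,4,4,1,4,6,4,8], 9, [([], 1014, [5,1,4,4,1,4,4,1,4,1,4,1,4,4,1,4,1,5]), ([88,92,88], 85, [4,4,1,4,4,1,5,1,4,1,4,4,1,4,1,4,1,5]), ([90,93], 1003, [4,4,1,5,1,4,1,5,1,4,4,1,5,1,5,1,4,1,4,1])], []⟩
def c1304 : Clm := ⟨8, 9, true, [5,1,5,1,4,4,1,4,4,1,4,4,1,5,1,4,2,4,12,6,5], [4,4,1,4,1,4,1,4,1,5,1,5,1,2,4,8,4], 9, [([], 423, [4,1,5,1,5,1,4,1,5,1,4,1,5,1,5,1,5,1,5]), ([357], 319, [1,5,1,5,1,5,1,4,4,1,4,4,1,4,4,1,5,1,4,1,4,4]), ([88,92], 1003, [1,4,1,5,1,4,4,1,4,4,1,5,1,4,4,1,5,1,5,1,4,4])], []⟩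
def c1305 : Clm := ⟨9, 8, true, [4,4,1,4,1,4,1,4,1,5,1,5,1,2,4,8,4], [5,1,5,1,4,4,1,4,4,1,4,4,1,5,1,4,2,4,12,6,5], 5, [([], 1304, [])], []⟩
def c1306 : Clm := ⟨8, 9, true, [5,1,4,4,1,4,1,4,1,5,1,4,1,5,1,4,1,4,1,4,4,2,4,3,11,9], [1,4,4,1,5,1,4,1,4,1,5,1,5,1,5,1,5,1,4,6,1,4,8], 9, [([356], 440, [4,4,1,4,1,5,1,4,1,4,4,1,4,1,4,1,5,1,4,4,1]), ([], 274, [1,5,1,4,1,5,1,4,1,5,1,5,1,5,1,5,1,5,1,5,1,4,1]), ([90,93,88], 1003, [4,4,1,4,1,4,4,1,5,1,5,1,5,1,4])], []⟩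
def c1307 : Clm := ⟨9, 8, true, [1,4,4,1,5,1,4,1,4,1,5,1,5,1,5,1,5,1,4,6,1,4,8], [5,1,4,4,1,4,1,4,1,5,1,4,1,5,1,4,1,4,1,4,4,2,4,3,11,9], 5, [([], 1306, [])], []⟩
def c1308 : Clm := ⟨9, 9, true, [5,1,5,1,5,1,5,1,5,1,5,1,4,1,4,4,1,5,1,5,1,4,4,2,1,5,13,1], [4,1,5,1,5,1,5,1,4,1,4,1,4,4,1,4,1,4,4,1,2,10,14,4], 11, [([], 1004, [1,4,1,4,4,1,4,1,4,1,4,1,4,1]), ([93,158], 104, [4,1,4,1,4,4,1,4,1,5,1,4,1,4,1,5,1,5,1,5]), ([158,93], 1133, [1,4,1,4,1,4,1,4,1,4,4,1,5,1,4,1,4,1,4,4,1,4])], []⟩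
def c1309 : Clm := ⟨9, 9, true, [4,1,5,1,5,1,5,1,4,1,4,1,4,4,1,4,1,4,4,1,2,10,14,4], [5,1,5,1,5,1,5,1,5,1,5,1,4,1,4,4,1,5,1,5,1,4,4,2,1,5,13,1], 5, [([], 1308, [])], []⟩
def c1310 : Clm := ⟨9, 8, true, [1,4,1,4,1,5,1,5,1,5,1,5,1,4,4,1,5,1,4,4,8,11,9], [1,5,1,4,1,4,4,1,5,1,5,1,5,1,5,1,5,1,5,6,5,3,10], 11, [([], 1004, [1,4,4,1,4,4,1,4,1,4,4,1,5,1,5,1]), ([90,92], 608, [1,5,1,4,1,4,1,5,1,5,1,5,1,4,4,1,5,1,5,1,4]), ([], 942, [4,4,1,5,1,5,1,5,1,5,1,4,1,4,4,1,4,4,1,5])], []⟩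
def c1311 : Clm := ⟨8, 9, true, [1,5,1,4,1,4,4,1,5,1,5,1,5,1,5,1,5,1,5,6,5,3,10], [1,4,1,4,1,5,1,5,1,5,1,5,1,4,4,1,5,1,4,4,8,11,9], 5, [([], 1310, [])], []⟩
def c1312 : Clm := ⟨9, 9, true, [1,5,1,5,1,4,4,1,5,1,4,1,4,1,4,4,1,5,1,4,4,3,12,6], [1,4,1,4,4,1,4,1,4,4,1,5,1,4,1,4,1,4,1,4,1,5,1,2,1,14,10,5], 9, [([], 1004, [5,1,5,1,5,1,4,1,5]), ([158,93,88], 713, [1,5,1,5,1,4,1,4,1,5,1,5,1,5,1,5,1]), ([], 1022, [1,5,1,5,1,4,1,5,1,5,1,4,1,4])], []⟩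
def c1313 : Clm := ⟨8, 9, true, [1,4,1,4,1,5,1,4,4,1,5,1,4,1,4,4,1,4,1,5,1,5,1,4,2,11,7], [4,1,4,1,5,1,5,1,4,1,4,4,1,4,1,4,1,5,1,4,4,1,5,6,5,7], 7, [([], 864, [4,1,4,1,4,4,1,5,1,4,1,4,1,5,1,4,4,1,5,1,4]), ([357], 1006, [5,1])], []⟩
def c1314 : Clm := ⟨9, 8, true, [4,1,4,1,5,1,5,1,4,1,4,4,1,4,1,4,1,5,1,4,4,1,5,6,5,7], [1,4,1,4,1,5,1,4,4,1,5,1,4,1,4,4,1,4,1,5,1,5,1,4,2,11,7], 5, [([], 1313, [])], []⟩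
def c1315 : Clm := ⟨9, 9, true, [1,5,1,5,1,4,1,4,1,4,4,1,5,1,4,1,5,1,4,3,14,8,4], [4,1,5,1,4,1,5,1,4,4,1,4,4,8,1,5], 11, [([], 1228, [1,4,1,4,1,5,1,5,1,4,1,5,1,4,1,4,1,4,1]), ([357], 382, [1,4,4,1,4,1,5,1,4,1,5,1,5,1,5,1,5,1,5,1,5,1,5]), ([356], 1006, [5,1,4,1,4,1,5,1,4,4,1,4,4,1])], []⟩
def c1316 : Clm := ⟨9, 9, true, [4,1,5,1,5,1,4,1,4,1,4,4,1,4,1,4,1,4,1,4,4,1,7,10,12,3], [5,1,5,1,5,1,4,4,1,5,1,4,1,5,1,7,2], 9, [([], 1007, [4,1,4,1,5,1,5,1,5,1,4]), ([357], 723, [4,1,4,4,1,5,1,4,1,4,4,1,4,4,1,4,4,1,4,1,5]), ([356], 1079, [5,1,5,1,4,1,4,4,1,4,4,1,4,4,1,4])], []⟩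
def c1317 : Clm := ⟨7, 9, true, [1,5,1,5,1,5,1,4,1,4,1,4,1,4,1,4,1,4,2,1,13,9], [5,1,4,1,4,4,1,4,1,4,4,1,5,1,4,1,5,1,4,1,2,8,4,9], 11, [([], 1008, [1,4,1,4,4,1,4,4,1,4,4,1,4,4,1]), ([2196,2004], 1255, [5,1,4,1,4,1,4,1,4,1,5,1,4,4,1,4,4,1,5]), ([2010], 1309, [5,1,4,1,5,1,4,1,4,4,1,4,4,1,5,1,4,1,4,1])], []⟩
def c1318 : Clm := ⟨9, 7, true, [5,1,4,1,4,4,1,4,1,4,4,1,5,1,4,1,5,1,4,1,2,8,4,9], [1,5,1,5,1,5,1,4,1,4,1,4,1,4,1,4,1,4,2,1,13,9], 5, [([], 1317, [])], []⟩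
def c1319 : Clm := ⟨9, 9, true, [1,4,1,4,1,5,1,4,4,1,5,1,5,1,4,4,1,5,1,5,8,3,4,10], [1,4,1,5,1,5,1,4,1,4,4,1,4,1,4,1,4,1,5,2,8,3,11], 11, [([], 1009, [1,4,1,5,1,4,1,4,1,4,4,1,5,1,4,1,5,1,5,1,5]), ([271,316,264], 155, [1,5,1,4,1,4,1,4,4,1,4,4,1,5,1,4]), ([282,276], 1008, [4,4,1,5,1,5,1,4,4,1,5,1,5,1])], []⟩
def c1320 : Clm := ⟨9, 9, true, [1,4,1,4,4,1,5,1,4,1,5,1,5,1,5,1,5,1,5,1,4,1,6,3,13], [1,4,4,1,4,1,4,4,1,4,1,4,1,4,1,4,4,1,4,1,5,2,12,3,11], 11, [([2114,2010], 1249, [5,1,5,1,4,1,5,1,4,4,1]), ([2004], 1270, [1,4,4,1,5,1,5,1,5,1,4,1,4,1,5,1,5,1]), ([264], 1008, [4,1,4,4,1,5,1,5,1,4,1,4,1,4,1,4])], []⟩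
def c1321 : Clm := ⟨9, 9, true, [5,1,4,1,4,4,1,4,1,4,4,1,4,1,4,1,5,1,4,7,11,11,9], [1,4,1,4,4,1,5,1,5,1,4,4,1,5,1,5,1,5,1,4,4,1,9,4,2,1], 9, [([], 1009, [4,1,4,4,1,5,1,5,1,4,1,4,1]), ([317,282,264], 1271, [4,1,4,1,4,1,4,4,1,4,1,4,1,5]), ([2197], 1202, [1,5,1,4,1,5,1,4,4,1,4,1,4,1,5,1,4,4,1,5,1])], []⟩
def c1322 : Clm := ⟨9, 9, true, [1,4,1,4,4,1,5,1,5,1,4,4,1,5,1,5,1,5,1,4,4,1,9,4,2,1], [5,1,4,1,4,4,1,4,1,4,4,1,4,1,4,1,5,1,4,7,11,11,9], 5, [([], 1321, [])], []⟩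
def c1323 : Clm := ⟨9, 9, true, [1,5,1,5,1,4,4,1,5,1,4,4,1,4,1,4,4,1,4,7,8,13,6], [5,1,4,4,1,4,4,1,4,1,5,1,4,1,4,4,1,5,2,6,9,7], 11, [([], 1186, [5,1,5,1,5,1,5,1,4,4,1,4,1,4,4,1,5,1]), ([357], 484, [1,5,1,5,1,4,1,4,4,1,5,1,4,4,1,4,4,1,4,1]), ([230,229,241], 1011, [5,1,5,1,4,1,4,1])], []⟩
def c1324 : Clm := ⟨9, 9, true, [5,1,4,4,1,4,4,1,4,1,5,1,4,1,4,4,1,5,2,6,9,7], [1,5,1,5,1,4,4,1,5,1,4,4,1,4,1,4,4,1,4,7,8,13,6], 5, [([], 1323, [])], []⟩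
def c1325 : Clm := ⟨9, 9, true, [5,1,4,1,4,4,1,4,4,1,4,4,1,5,1,5,1,4,1,5,1,2,11,9,3], [4,4,1,4,1,4,1,4,1,4,4,1,5,1,4,1,4,4,1,4,4,2,4,8,5], 9, [([], 1094, [1,4,1,4,1,4,1,4,1,5,1,4,1,4,4,1,4,1,5,1]), ([356], 316, [4,1,5,1,5,1,4,4,1,5,1,4,4,1,4,1,5]), ([228,240], 1011, [5,1,5,1,4])], []⟩
def c1326 : Clm := ⟨9, 9, true, [1,4,1,5,1,5,1,4,1,4,1,4,1,4,1,4,1,4,1,4,1,4,7,1,4,11], [1,4,1,4,4,1,5,1,4,4,1,4,1,4,4,1,4,1,4,4,2,10,1,8], 11, [([], 1012, [1,4,1,4,4,1,4,1,4,1,5,1]), ([228,240,228], 193, [1,4,1,4,1,4,1,4,1,4,1,5,1,4,1,4,4,1,4,4,1,5,1,5]), ([], 1266, [1,4,4,1,4,1,4,4,1,4,4,1,5,1,4,1,4,1,4,1,4,4,1])], []⟩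
def c1327 : Clm := ⟨9, 9, true, [1,4,4,1,5,1,4,4,1,5,1,4,1,4,1,5,1,5,1,3,10,13,8], [4,1,4,1,5,1,4,4,1,5,1,5,1,4,4,1,4,6,11], 11, [([], 1018, [1,4,1,5,1,5,1,5,1,5,1,4,1,4,4,1,5,1]), ([], 1324, [1,4,1,4,1,5,1,4,1,5,1,4,1,5]), ([2114], 1018, [5,1,4,1,5,1,4,1,4,1,4,4,1,4,1,5,1,4,1])], []⟩
def c1328 : Clm := ⟨9, 9, true, [4,4,1,5,1,4,1,5,1,5,1,4,1,4,4,1,4,1,3,6,5,10], [1,4,1,4,4,1,5,1,4,1,4,1,4,1,4,1,5,1,4,3,6,5,10], 11, [([], 1018, [4,1,4,1,4,1,4,1,4,1,4,1,4,1,5]), ([], 1322, [4,4,1,5,1,4,1,4,1,4,1,4,1,4,4,1,4,1,4]), ([2114], 1018, [5,1,5,1,5,1,5,1,5,1,5,1,5,1])], []⟩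
def c1329 : Clm := ⟨9, 9, true, [4,4,1,4,1,5,1,5,1,4,1,4,4,1,5,1,4,4,1,5,1,2,10,2,13], [4,1,5,1,4,1,5,1,5,1,5,1,5,1,5,1,5,1,5,1,4,1,4,1,2,12,4,10], 9, [([], 1074, [1,5,1,4,1,4,1,4,1,4,1,4,1,4,1,4,4,1,4]), ([357], 521, [1,4,4,1,4,4,1,5,1,4,1,4,1,5,1,4,4,1,4,1,5]), ([356], 1026, [1,4,4,1,4,1,4,1,4,1,4,4])], []⟩
def c1330 : Clm := ⟨4, 10, true, [2,7,2], [], 1, [], []⟩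
def c1331 : Clm := ⟨10, 4, true, [], [2,7,2], 5, [([], 1330, [])], []⟩
def c1332 : Clm := ⟨10, 10, true, [6], [1,5,1,5,1,5,1,4,4,1,5,1,4,4,1,5,1,4,1,7], 7, [([], 1330, []), ([44,40], 1331, [1,5,1,5,1,5,1,4,4,1,5,1,4,4,1,5,1,4,1])], []⟩
def c1333 : Clm := ⟨10, 10, true, [1,5,1,5,1,5,1,4,4,1,5,1,4,4,1,5,1,4,1,7], [6], 5, [([], 1332, [])], []⟩
def c1334 : Clm := ⟨10, 9, true, [1,6], [1,5,1,4,1,4,1,5,1,4,4,1,4,4,1,4,4,1,4,4,1,4,7], 7, [([], 1330, [1]), ([66,73,66], 1001, [1,5,1,4,1,4,1,5,1,4,4,1,4,4,1,4,4,1,4,4,1,4])], []⟩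
def c1335 : Clm := ⟨9, 10, true, [1,5,1,4,1,4,1,5,1,4,4,1,4,4,1,4,4,1,4,4,1,4,7], [1,6], 5, [([], 1334, [])], []⟩
def c1336 : Clm := ⟨10, 8, true, [4,6], [4,4,1,5,1,4,1,5,1,5,1,5,1,5,1,4,1,4,4,2,4,4,14,5], 7, [([], 1330, [4]), ([47,72,78], 234, [1,4,1,4,1,5,1,4,1,5,1,4,4,1,4,1,4,1,5,1,4])], []⟩
def c1337 : Clm := ⟨8, 10, true, [4,4,1,5,1,4,1,5,1,5,1,5,1,5,1,4,1,4,4,2,4,4,14,5], [4,6], 5, [([], 1336, [])], []⟩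
def c1338 : Clm := ⟨10, 8, true, [5,6], [1,4,1,4,4,1,5,1,5,1,4,1,4,4,1,4,4,1,4,1,5,2,1,11,3,7], 7, [([], 1330, [5]), ([46,73], 360, [1,4,1,4,4,1,5,1,5,1,5,1,5,1,5,1,5,1,4,4])], []⟩
def c1339 : Clm := ⟨8, 10, true, [1,4,1,4,4,1,5,1,5,1,4,1,4,4,1,4,4,1,4,1,5,2,1,11,3,7], [5,6], 5, [([], 1338, [])], []⟩
def c1340 : Clm := ⟨10, 8, true, [4,1,6], [4,1,4,1,4,4,1,5,1,4,1,4,1,4,1,4,4,1,5,1,4,4,13,2,10,9], 7, [([], 1330, [4,1]), ([66,72], 234, [5,1,5,1,5,1,4,4,1,4,1,4,1,5,1,4,1,5,1])], []⟩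
def c1341 : Clm := ⟨8, 10, true, [4,1,4,1,4,4,1,5,1,4,1,4,1,4,1,4,4,1,5,1,4,4,13,2,10,9], [4,1,6], 5, [([], 1340, [])], []⟩
def c1342 : Clm := ⟨10, 4, true, [4,4,6], [1,5,1,5,1,5,1,4,1,5,1,4,1,4,1,5,3,12,6,13], 7, [([], 1330, [4,4]), ([], 41, [1,4,1,4,1,4,1,4,1,4,4,1,4,1,5,1,4,1,4,1])], []⟩
def c1343 : Clm := ⟨4, 10, true, [1,5,1,5,1,5,1,4,1,5,1,4,1,4,1,5,3,12,6,13], [4,4,6], 5, [([], 1342, [])], []⟩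
def c1344 : Clm := ⟨10, 10, false, [4,4,6], [4,1,4,1,4,4,1,5,1,4,1,4,1,5,1,4,1,5,1,6], 3, [([], 1343, []), ([47,72,78,42], 1330, [4,1,4,1,4,4,1,5,1,4,1,4,1,5,1,4,1,5,1,4,4])], []⟩
def c1345 : Clm := ⟨10, 10, true, [5,1,6], [4,1,5,1,4,4,1,5,1,5,1,4,1,5,1,4,1,4,1,5,7], 7, [([], 1330, [5,1]), ([47,44,42], 1331, [4,1,5,1,4,4,1,5,1,5,1,4,1,5,1,4,1,4,1,5])], []⟩
def c1346 : Clm := ⟨10, 6, true, [1,4,1,6], [4,1,4,4,1,5,1,4,1,4,4,1,4,4,1,5,1,5,1,9,9,6,10], 7, [([], 1330, [1,4,1]), ([72,79], 125, [4,1,5,1,4,4,1,5,1,4,1,4,1,4,1,4,1,5])], []⟩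
def c1347 : Clm := ⟨6, 10, true, [4,1,4,4,1,5,1,4,1,4,4,1,4,4,1,5,1,5,1,9,9,6,10], [1,4,1,6], 5, [([], 1346, [])], []⟩
def c1348 : Clm := ⟨10, 7, true, [1,4,4,6], [1,4,4,1,4,1,5,1,4,4,1,5,1,4,1,4,1,4,4,1,5,1,4,1,7], 7, [([], 1330, [1,4,4]), ([40], 131, [1,4,4,1,4,1,5,1,4,4,1,5,1,4,1,4,1,4,4,1,5,1,4,1])], []⟩
def c1349 : Clm := ⟨7, 10, true, [1,4,4,1,4,1,5,1,4,4,1,5,1,4,1,4,1,4,4,1,5,1,4,1,7], [1,4,4,6], 5, [([], 1348, [])], []⟩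
def c1350 : Clm := ⟨10, 7, true, [1,5,1,6], [1,5,1,5,1,5,1,5,1,5,1,4,1,5,1,4,1,4,4,1,5,7], 7, [([], 1330, [1,5,1]), ([78,44], 131, [1,5,1,5,1,5,1,5,1,5,1,4,1,5,1,4,1,4,4,1,5])], []⟩
def c1351 : Clm := ⟨7, 10, true, [1,5,1,5,1,5,1,5,1,5,1,4,1,5,1,4,1,4,4,1,5,7], [1,5,1,6], 5, [([], 1350, [])], []⟩
def c1352 : Clm := ⟨10, 8, true, [4,4,1,6], [1,4,4,1,4,1,4,1,4,1,4,1,5,1,5,1,4,1,2,9,11,13], 7, [([], 1330, [4,4,1]), ([78,73,73], 845, [5,1,4,4,1,4,4,1,4,1,4,1,4,1,4,4,1,4,1,5])], []⟩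
def c1353 : Clm := ⟨8, 10, true, [1,4,4,1,4,1,4,1,4,1,4,1,5,1,5,1,4,1,2,9,11,13], [4,4,1,6], 5, [([], 1352, [])], []⟩
def c1354 : Clm := ⟨10, 10, true, [1,4,4,1,6], [4,4,1,4,1,4,1,4,1,4,4,1,4,1,4,1,4,1,5,1,4,7], 7, [([], 1330, [1,4,4,1]), ([46,46,44,40], 1331, [4,4,1,4,1,4,1,4,1,4,4,1,4,1,4,1,4,1,5,1,4])], []⟩
def c1355 : Clm := ⟨10, 8, true, [4,1,4,1,6], [5,1,5,1,4,4,1,4,1,4,1,5,1,5,1,4,1,5,2,1,4,9,9], 7, [([], 1330, [4,1,4,1]), ([47,78,44,40], 234, [1,4,1,4,4,1,4,4,1,4,4,1,4,4,1])], []⟩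
def c1356 : Clm := ⟨8, 10, true, [5,1,5,1,4,4,1,4,1,4,1,5,1,5,1,4,1,5,2,1,4,9,9], [4,1,4,1,6], 5, [([], 1355, [])], []⟩
def c1357 : Clm := ⟨10, 8, true, [4,1,4,4,6], [4,1,4,1,4,1,4,4,1,5,1,4,1,4,1,4,1,4,4,7], 7, [([], 1330, [4,1,4,4]), ([66,44], 177, [4,1,4,1,4,1,4,4,1,5,1,4,1,4,1,4,1,4,4])], []⟩
def c1358 : Clm := ⟨8, 10, true, [4,1,4,1,4,1,4,4,1,5,1,4,1,4,1,4,1,4,4,7], [4,1,4,4,6], 5, [([], 1357, [])], []⟩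
def c1359 : Clm := ⟨10, 10, true, [4,1,5,1,6], [1,4,1,4,1,4,4,1,5,1,4,4,1,4,1,5,1,4,1,4,1,4,4,7], 7, [([], 1330, [4,1,5,1]), ([72,42,44], 1331, [1,4,1,4,1,4,4,1,5,1,4,4,1,4,1,5,1,4,1,4,1,4,4])], []⟩
def c1360 : Clm := ⟨10, 10, true, [1,4,1,4,1,4,4,1,5,1,4,4,1,4,1,5,1,4,1,4,1,4,4,7], [4,1,5,1,6], 5, [([], 1359, [])], []⟩
def c1361 : Clm := ⟨10, 8, true, [5,1,4,1,6], [5,1,5,1,5,1,5,1,4,1,4,1,5,1,5,1,4,1,4,4,1,4,9,5,8,11], 7, [([], 1330, [5,1,4,1]), ([46,42,44], 360, [5,1,5,1,5,1,4,1,4,1,4,4,1,4,1,5,1,4])], []⟩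
def c1362 : Clm := ⟨8, 10, true, [5,1,5,1,5,1,5,1,4,1,4,1,5,1,5,1,4,1,4,4,1,4,9,5,8,11], [5,1,4,1,6], 5, [([], 1361, [])], []⟩
def c1363 : Clm := ⟨10, 5, true, [5,1,4,4,6], [4,1,4,1,4,1,4,4,1,5,1,4,4,1,4,4,6,1,4,7], 7, [([], 1330, [5,1,4,4]), ([42,79,46], 51, [1,4,4,1,5,1,5,1,5,1,4,1,4,1,5,1,5,1,4,1,4,4])], []⟩
def c1364 : Clm := ⟨5, 10, true, [4,1,4,1,4,1,4,4,1,5,1,4,4,1,4,4,6,1,4,7], [5,1,4,4,6], 5, [([], 1363, [])], []⟩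
def c1365 : Clm := ⟨10, 10, true, [1,4,1,4,4,6], [4,1,5,1,4,4,1,5,1,4,1,4,1,5,1,5,7], 7, [([], 1330, [1,4,1,4,4]), ([79,72,42,44], 1331, [4,1,5,1,4,4,1,5,1,4,1,4,1,5,1,5])], []⟩
def c1366 : Clm := ⟨10, 10, true, [4,1,5,1,4,4,1,5,1,4,1,4,1,5,1,5,7], [1,4,1,4,4,6], 5, [([], 1365, [])], []⟩
def c1367 : Clm := ⟨10, 10, true, [1,4,1,5,1,6], [1,4,1,4,1,5,1,4,4,1,4,1,4,4,1,4,4,7], 7, [([], 1330, [1,4,1,5,1]), ([44,42,44,40], 1331, [1,4,1,4,1,5,1,4,4,1,4,1,4,4,1,4,4])], []⟩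
def c1368 : Clm := ⟨10, 8, true, [1,5,1,4,1,6], [1,5,1,5,1,5,1,5,1,5,1,4,4,1,5,1,4,1,4,1,4,2,8,14,10,3], 7, [([], 1330, [1,5,1,4,1]), ([79,44], 360, [1,4,4,1,4,1,4,4,1,5,1,4,1,5,1,4,1,5,1,4,1,5,1])], []⟩
def c1369 : Clm := ⟨8, 10, true, [1,5,1,5,1,5,1,5,1,5,1,4,4,1,5,1,4,1,4,1,4,2,8,14,10,3], [1,5,1,4,1,6], 5, [([], 1368, [])], []⟩
def c1370 : Clm := ⟨10, 10, true, [1,5,1,4,4,6], [5,1,4,1,5,1,5,1,5,1,4,4,1,5,1,5,1,4,1,4,4,7], 7, [([], 1330, [1,5,1,4,4]), ([40,79,72,42], 1331, [5,1,4,1,5,1,5,1,5,1,4,4,1,5,1,5,1,4,1,4,4])], []⟩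
def c1371 : Clm := ⟨10, 6, true, [4,1,4,4,1,6], [1,4,1,5,1,4,1,4,1,4,1,4,1,4,4,1,4,4,1,4,4,7,8,3,4], 7, [([], 1330, [4,1,4,4,1]), ([73,79,42], 122, [4,1,5,1,5,1,4,1,4,1,4,4,1,4,4,1,4,1,5,1])], []⟩
def c1372 : Clm := ⟨6, 10, true, [1,4,1,5,1,4,1,4,1,4,1,4,1,4,4,1,4,4,1,4,4,7,8,3,4], [4,1,4,4,1,6], 5, [([], 1371, [])], []⟩
def c1373 : Clm := ⟨10, 5, true, [4,4,1,4,1,6], [4,1,5,1,4,4,1,4,4,1,5,1,5,1,5,1,4,4,1,4,4,1,3,5,2,5], 7, [([], 1330, [4,4,1,4,1]), ([78,73], 55, [4,1,4,4,1,4,4,1,5,1,4,4,1,4,4,1,4,1,4,4,1])], []⟩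
def c1374 : Clm := ⟨5, 10, true, [4,1,5,1,4,4,1,4,4,1,5,1,5,1,5,1,4,4,1,4,4,1,3,5,2,5], [4,4,1,4,1,6], 5, [([], 1373, [])], []⟩
def c1375 : Clm := ⟨10, 8, true, [4,4,1,4,4,6], [5,1,4,1,5,1,5,1,4,4,1,4,1,4,1,5,1,4,7], 7, [([], 1330, [4,4,1,4,4]), ([66,46,42], 177, [5,1,4,1,5,1,5,1,4,4,1,4,1,4,1,5,1,4])], []⟩
def c1376 : Clm := ⟨8, 10, true, [5,1,4,1,5,1,5,1,4,4,1,4,1,4,1,5,1,4,7], [4,4,1,4,4,6], 5, [([], 1375, [])], []⟩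
def c1377 : Clm := ⟨10, 5, true, [5,1,4,4,1,6], [5,1,5,1,5,1,5,1,4,1,5,1,8,8,1,4], 7, [([], 1330, [5,1,4,4,1]), ([47,40], 100, [1,5,1,5,1,5,1,5,1,5,1,4,4,1,5,1,5,1,5])], []⟩
def c1378 : Clm := ⟨5, 10, true, [5,1,5,1,5,1,5,1,4,1,5,1,8,8,1,4], [5,1,4,4,1,6], 5, [([], 1377, [])], []⟩
def c1379 : Clm := ⟨10, 5, true, [1,4,1,4,4,1,6], [1,4,4,1,5,1,4,4,1,4,4,1,4,4,1,4,1,4,1,7,10,6,14], 7, [([], 1330, [1,4,1,4,4,1]), ([73,40], 100, [4,1,4,1,4,1,4,4,1,4,1,4,1,4,4,1,4,4,1,4,4,1,4])], []⟩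
def c1380 : Clm := ⟨5, 10, true, [1,4,4,1,5,1,4,4,1,4,4,1,4,4,1,4,1,4,1,7,10,6,14], [1,4,1,4,4,1,6], 5, [([], 1379, [])], []⟩
def c1381 : Clm := ⟨10, 8, true, [1,4,4,1,4,1,6], [1,4,1,5,1,5,1,4,1,5,1,4,1,5,2,9], 7, [([], 1330, [1,4,4,1,4,1]), ([40,79,47,44], 234, [5,1,4,1,4,1,4,1,4,1,4,1,4,4,1])], []⟩
def c1382 : Clm := ⟨8, 10, true, [1,4,1,5,1,5,1,4,1,5,1,4,1,5,2,9], [1,4,4,1,4,1,6], 5, [([], 1381, [])], []⟩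
def c1383 : Clm := ⟨10, 5, true, [1,4,4,1,4,4,6], [5,1,5,1,5,1,5,1,5,1,4,1,4,4,1,5,1,5,1,4,1,7,1,7], 7, [([], 1330, [1,4,4,1,4,4]), ([78,47], 55, [5,1,5,1,5,1,4,1,4,1,5,1,5,1,5,1,4,4])], []⟩
def c1384 : Clm := ⟨5, 10, true, [5,1,5,1,5,1,5,1,5,1,4,1,4,4,1,5,1,5,1,4,1,7,1,7], [1,4,4,1,4,4,6], 5, [([], 1383, [])], []⟩
def c1385 : Clm := ⟨10, 8, true, [4,1,4,1,4,4,6], [1,5,1,4,1,4,1,5,1,4,1,5,1,4,4,1,5,1,5,2,5,2,1], 7, [([], 1330, [4,1,4,1,4,4]), ([79,40,72,40], 234, [1,5,1,4,1,4,4,1,4,1,5,1,5,1,5,1,5,1,4,4])], []⟩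
def c1386 : Clm := ⟨8, 10, true, [1,5,1,4,1,4,1,5,1,4,1,5,1,4,4,1,5,1,5,2,5,2,1], [4,1,4,1,4,4,6], 5, [([], 1385, [])], []⟩
def c1387 : Clm := ⟨10, 8, true, [5,1,4,1,4,4,6], [1,5,1,4,4,1,4,1,5,1,5,1,4,4,1,4,4,1,4,4,1,5,2,8,14,10], 7, [([], 1330, [5,1,4,1,4,4]), ([42,78,40], 234, [1,4,1,4,1,4,4,1,5,1,4,1,4,1,5,1,5,1,4,4])], []⟩
def c1388 : Clm := ⟨8, 10, true, [1,5,1,4,4,1,4,1,5,1,5,1,4,4,1,4,4,1,4,4,1,5,2,8,14,10], [5,1,4,1,4,4,6], 5, [([], 1387, [])], []⟩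
def c1389 : Clm := ⟨10, 7, true, [5,1,5,1,4,1,6], [5,1,4,4,1,5,1,4,1,4,1,4,1,4,1,4,4,1,4,1,4,4,7], 7, [([], 1330, [5,1,5,1,4,1]), ([78,42,47], 131, [5,1,4,4,1,5,1,4,1,4,1,4,1,4,1,4,4,1,4,1,4,4])], []⟩
def c1390 : Clm := ⟨7, 10, true, [5,1,4,4,1,5,1,4,1,4,1,4,1,4,1,4,4,1,4,1,4,4,7], [5,1,5,1,4,1,6], 5, [([], 1389, [])], []⟩
def c1391 : Clm := ⟨10, 8, true, [1,4,1,4,1,5,1,6], [1,5,1,4,1,4,1,4,1,4,4,1,5,1,4,4,1,4,4,1,4,7,8,3], 7, [([], 1330, [1,4,1,4,1,5,1]), ([42,79,46], 234, [1,5,1,4,1,4,1,5,1,4,4,1,5,1,4,1,4,4,1,5,1])], []⟩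
def c1392 : Clm := ⟨8, 10, true, [1,5,1,4,1,4,1,4,1,4,4,1,5,1,4,4,1,4,4,1,4,7,8,3], [1,4,1,4,1,5,1,6], 5, [([], 1391, [])], []⟩
def c1393 : Clm := ⟨10, 6, true, [1,4,1,5,1,4,1,6], [1,5,1,5,1,4,1,4,4,1,4,1,4,4,1,4,1,5,1,5,1,4,2,5,14,6], 7, [([], 1330, [1,4,1,5,1,4,1]), ([66,44,72], 125, [1,5,1,4,1,4,1,4,1,4,1,4,1,4,4,1,5,1,4,1,4,1])], []⟩
def c1394 : Clm := ⟨6, 10, true, [1,5,1,5,1,4,1,4,4,1,4,1,4,4,1,4,1,5,1,5,1,4,2,5,14,6], [1,4,1,5,1,4,1,6], 5, [([], 1393, [])], []⟩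
def c1395 : Clm := ⟨10, 8, true, [1,4,4,1,4,4,1,6], [1,4,4,1,5,1,5,1,4,1,5,1,4,4,1,5,1,2,7,5,7], 7, [([], 1330, [1,4,4,1,4,4,1]), ([73,66], 234, [1,4,4,1,4,4,1,4,4,1,4,1,4,1,5,1,5,1,4,1])], []⟩
def c1396 : Clm := ⟨8, 10, true, [1,4,4,1,5,1,5,1,4,1,5,1,4,4,1,5,1,2,7,5,7], [1,4,4,1,4,4,1,6], 5, [([], 1395, [])], []⟩
def c1397 : Clm := ⟨10, 8, true, [1,5,1,4,1,4,4,6], [4,4,1,4,4,1,5,1,4,1,4,1,4,1,4,1,4,1,5,1,6,14,7,10], 7, [([], 1330, [1,5,1,4,1,4,4]), ([72,47], 360, [1,5,1,4,1,4,1,4,1,4,4,1,4,4,1,5,1,4,4])], []⟩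
def c1398 : Clm := ⟨8, 10, true, [4,4,1,4,4,1,5,1,4,1,4,1,4,1,4,1,4,1,5,1,6,14,7,10], [1,5,1,4,1,4,4,6], 5, [([], 1397, [])], []⟩
def c1399 : Clm := ⟨10, 9, true, [1,5,1,5,1,4,1,6], [1,5,1,5,1,5,1,4,4,1,5,1,4,1,4,1,5,1,4,4,7], 7, [([], 1330, [1,5,1,5,1,4,1]), ([72,46,46], 1001, [1,5,1,5,1,5,1,4,4,1,5,1,4,1,4,1,5,1,4,4])], []⟩
def c1400 : Clm := ⟨9, 10, true, [1,5,1,5,1,5,1,4,4,1,5,1,4,1,4,1,5,1,4,4,7], [1,5,1,5,1,4,1,6], 5, [([], 1399, [])], []⟩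
def c1401 : Clm := ⟨10, 8, true, [1,4,4,1,4,1,4,4,6], [1,4,1,5,1,5,1,5,1,4,4,1,5,1,4,4,1,5,1,4,1,6,14,9,11], 7, [([], 1330, [1,4,4,1,4,1,4,4]), ([47,78,40], 845, [4,1,5,1,4,1,4,4,1,4,1,4,1,4,4,1,5,1])], []⟩
def c1402 : Clm := ⟨8, 10, true, [1,4,1,5,1,5,1,5,1,4,4,1,5,1,4,4,1,5,1,4,1,6,14,9,11], [1,4,4,1,4,1,4,4,6], 5, [([], 1401, [])], []⟩
def c1403 : Clm := ⟨10, 9, true, [4,4,1,4,4,1,4,1,4,1,4,9], [5,1,5,1,4,1,5,1,4,1,4,4,1,5,1,5,7,1,9], 11, [([], 1330, [4,4,1,4,4,1,4,1,4,1,4]), ([46,46,40], 51, [5,1,4,4,1,4,4,1,4,4,1,5,1,4,1,5,1,5,1,4]), ([158,92], 1003, [4,1,4,1,4,4,1,4,1,4,1,4,1,4,1,4,4,1,4,1])], []⟩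
def c1404 : Clm := ⟨9, 10, true, [5,1,5,1,4,1,5,1,4,1,4,4,1,5,1,5,7,1,9], [4,4,1,4,4,1,4,1,4,1,4,9], 5, [([], 1403, [])], []⟩
def c1405 : Clm := ⟨10, 8, true, [1,4,1,4,4,1,4,1,4,1,5,1,9], [1,4,4,1,4,4,1,4,4,1,4,1,4,1,4,1,4,4,1,5,13,6,2], 11, [([], 1330, [1,4,1,4,4,1,4,1,4,1,5,1]), ([44,73,40], 1001, [1,5,1,4,1,4,1,4,4,1,4,1,5,1,4,1,5,1,5,1,4,4]), ([], 1100, [1,4,1,4,1,4,4,1,4,1,5,1,4,1,5,1,4,1,4,1,5])], []⟩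
def c1406 : Clm := ⟨8, 10, true, [1,4,4,1,4,4,1,4,4,1,4,1,4,1,4,1,4,4,1,5,13,6,2], [1,4,1,4,4,1,4,1,4,1,5,1,9], 5, [([], 1405, [])], []⟩
def c1407 : Clm := ⟨10, 10, true, [5,1,4,4,1,4,4,1,4,1,4,4,1,9], [1,4,1,4,1,4,4,1,4,1,5,1,4,1,5,1,5,1,4,4,1,4,1,9,1], 11, [([], 1330, [5,1,4,4,1,4,4,1,4,1,4,4,1]), ([40,79,42], 122, [5,1,5,1,4,1,4,4,1,5,1,5,1,5,1,5,1,5,1,5]), ([241,230,228,226], 1371, [4,1,5,1,5,1,5,1,4,4,1,5,1,4,4,1,5,1,4,1,4])], []⟩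
def c1408 : Clm := ⟨10, 8, true, [4,1,4,1,4,4,1,4,4,1,4,1,9], [4,1,5,1,5,1,5,1,4,4,1,4,1,4,4,1,5,1,4,2,4,10,10], 11, [([], 1330, [4,1,4,1,4,4,1,4,4,1,4,1]), ([78,73,40], 125, [1,5,1,5,1,5,1,5,1,4,1,4,1,5,1,5,1,4,1,4,4,1,4]), ([228,240], 193, [4,1,4,1,4,1,5,1,5,1,4,1,5,1,4,1,5,1,4,1,4])], []⟩
def c1409 : Clm := ⟨8, 10, true, [4,1,5,1,5,1,5,1,4,4,1,4,1,4,4,1,5,1,4,2,4,10,10], [4,1,4,1,4,4,1,4,4,1,4,1,9], 5, [([], 1408, [])], []⟩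
def c1410 : Clm := ⟨10, 8, true, [4,1,4,1,4,1,5,1,5,1,4,9], [1,4,1,4,4,1,5,1,4,1,5,1,5,1,5,1,5,1,5,1,4,4,3,14,9,6], 11, [([], 1330, [4,1,4,1,4,1,5,1,5,1,4]), ([79,73,42], 845, [5,1,4,4,1,5,1,5,1,4,1,4,1,4,4,1,5,1,5]), ([356], 611, [1,5,1,5,1,5,1,4,4,1,4,1,4,4,1,4,1,4,4])], []⟩
def c1411 : Clm := ⟨8, 10, true, [1,4,1,4,4,1,5,1,4,1,5,1,5,1,5,1,5,1,5,1,4,4,3,14,9,6], [4,1,4,1,4,1,5,1,5,1,4,9], 5, [([], 1410, [])], []⟩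
def c1412 : Clm := ⟨10, 8, true, [1,4,1,4,4,1,4,4,1,4,4,1,4,1,4,4,1,9], [1,4,4,1,4,1,5,1,4,4,1,4,4,1,5,1,4,4,1,3,10,5,3], 11, [([], 1330, [1,4,1,4,4,1,4,4,1,4,4,1,4,1,4,4,1]), ([42,73,40], 845, [1,4,1,4,4,1,5,1,5,1,4,4,1,5,1,5,1,5,1,4,1,4,4]), ([], 877, [1,4,1,4,1,5,1,4,4,1,4,1,4,1,4,4,1,5,1,5,1])], []⟩
def c1413 : Clm := ⟨8, 10, true, [1,4,4,1,4,1,5,1,4,4,1,4,4,1,5,1,4,4,1,3,10,5,3], [1,4,1,4,4,1,4,4,1,4,4,1,4,1,4,4,1,9], 5, [([], 1412, [])], []⟩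
def c1414 : Clm := ⟨10, 8, true, [1,4,4,1,5,1,4,4,1,5,1,9], [4,1,4,1,4,1,4,1,4,1,4,4,1,4,4,1,4,1,4,1,4,1,5,2,12,11,7], 11, [([], 1330, [1,4,4,1,5,1,4,4,1,5,1]), ([78,44,42], 1001, [4,4,1,5,1,5,1,4,4,1,5,1,5,1,4,1,5,1,5]), ([2114,2004], 1210, [4,1,4,4,1,5,1,5,1,5,1,4,1])], []⟩
def c1415 : Clm := ⟨8, 10, true, [4,1,4,1,4,1,4,1,4,1,4,4,1,4,4,1,4,1,4,1,4,1,5,2,12,11,7], [1,4,4,1,5,1,4,4,1,5,1,9], 5, [([], 1414, [])], []⟩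
def c1416 : Clm := ⟨10, 8, true, [5,1,4,4,1,4,4,1,4,4,1,4,4,1,4,9], [4,1,4,1,5,1,5,1,4,1,5,1,4,1,5,3,7,14], 11, [([], 1330, [5,1,4,4,1,4,4,1,4,4,1,4,4,1,4]), ([78,66,42], 122, [4,1,4,1,4,4,1,4,4,1,4,4,1,4,4,1,4,4]), ([229,230,228,226], 483, [1,5,1,4,1,5,1,4,1,4,4,1,5,1,4,4,1,5,1,4,1])], []⟩
def c1417 : Clm := ⟨8, 10, true, [4,1,4,1,5,1,5,1,4,1,5,1,4,1,5,3,7,14], [5,1,4,4,1,4,4,1,4,4,1,4,4,1,4,9], 5, [([], 1416, [])], []⟩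
def c1418 : Clm := ⟨10, 7, true, [5,1,4,1,4,4,1,5,1,4,4,1,4,1,9], [5,1,4,1,4,4,1,5,1,4,4,1,5,1,4,4,1,4,1,2,8,11,4], 11, [([], 1330, [5,1,4,1,4,4,1,5,1,4,4,1,4,1]), ([72], 51, [4,1,5,1,4,4,1,5,1,4,1,5,1,4,4,1,5,1,4,4]), ([158,88], 161, [4,4,1,4,4,1,5,1,4,4,1,4,1,4,1])], []⟩
def c1419 : Clm := ⟨7, 10, true, [5,1,4,1,4,4,1,5,1,4,4,1,5,1,4,4,1,4,1,2,8,11,4], [5,1,4,1,4,4,1,5,1,4,4,1,4,1,9], 5, [([], 1418, [])], []⟩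
def c1420 : Clm := ⟨10, 10, false, [5,1,4,1,4,4,1,5,1,4,4,1,4,1,9], [1,4,1,4,1,4,4,1,4,1,4,4,1,4,4,1,5,6,12,2,9], 3, [([], 1419, []), ([264,317,264], 1419, [1,4,1,4,1,5,1,4,4,1,4,1,5,1,5,1])], []⟩
def c1421 : Clm := ⟨10, 9, true, [1,5,1,4,1,4,4,1,4,1,4,4,1,9], [1,4,1,4,1,4,1,5,1,5,1,4,1,5,1,4,4,1,2,11,3,14], 11, [([], 1330, [1,5,1,4,1,4,4,1,4,1,4,4,1]), ([73,66,78], 234, [5,1,4,1,5,1,4,1,5,1,4,1]), ([356], 1158, [1,5,1,5,1,5,1,4,1,5,1,4,4,1,4,1,4,4,1])], []⟩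
def c1422 : Clm := ⟨9, 10, true, [1,4,1,4,1,4,1,5,1,5,1,4,1,5,1,4,4,1,2,11,3,14], [1,5,1,4,1,4,4,1,4,1,4,4,1,9], 5, [([], 1421, [])], []⟩
def c1423 : Clm := ⟨10, 8, true, [1,4,1,4,1,4,1,5,1,5,1,4,4,1,5,1,9], [4,1,4,1,4,4,1,5,1,4,4,1,4,4,1,4,1,4,9,12,11,4], 11, [([], 1330, [1,4,1,4,1,4,1,5,1,5,1,4,4,1,5,1]), ([66,72,79], 234, [1,4,1,5,1,4,1,5,1,5,1,4,4,1,5,1,5,1]), ([], 492, [1,4,4,1,4,1,5,1,4,1,4,4,1,4,4,1,5])], []⟩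
def c1424 : Clm := ⟨8, 10, true, [4,1,4,1,4,4,1,5,1,4,4,1,4,4,1,4,1,4,9,12,11,4], [1,4,1,4,1,4,1,5,1,5,1,4,4,1,5,1,9], 5, [([], 1423, [])], []⟩
def c1425 : Clm := ⟨10, 8, true, [1,5,1,4,4,1,4,1,4,4,1,4,9], [1,4,1,5,1,4,1,4,4,1,4,1,5,1,4,1,5,1,13,6], 11, [([], 1330, [1,5,1,4,4,1,4,1,4,4,1,4]), ([72,46,79], 1001, [1,4,1,5,1,4,1,4,4,1,5,1,4,1,5,1,4,4,1,5]), ([2196,2114], 1285, [1,5,1,5,1,5,1,4,4,1,5,1,5,1,4,4,1,4,4])], []⟩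
def c1426 : Clm := ⟨8, 10, true, [1,4,1,5,1,4,1,4,4,1,4,1,5,1,4,1,5,1,13,6], [1,5,1,4,4,1,4,1,4,4,1,4,9], 5, [([], 1425, [])], []⟩
def c1427 : Clm := ⟨10, 10, true, [5,1,4,4,1,4,4,1,4,1,4,4,1,4,9], [1,5,1,5,1,5,1,5,1,5,1,5,1,5,1,5,9], 11, [([], 1330, [5,1,4,4,1,4,4,1,4,1,4,4,1,4]), ([79,46], 41, [1,4,4,1,5,1,4,1,5,1,4,1,5,1,4,1,4,1,4,4,1,4,1,4]), ([78,47,72], 1331, [1,5,1,4,1,4,4,1,4,4,1,4,1,4,1,4,4,1,4,4,1])], []⟩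
def c1428 : Clm := ⟨10, 5, true, [1,4,4,1,4,4,1,4,1,4,4,1,9], [5,1,4,1,5,1,5,1,10,8,10,13], 11, [([], 1330, [1,4,4,1,4,4,1,4,1,4,4,1]), ([66,47], 51, [5,1,4,1,4,1,4,4,1,4,4,1,4,4,1,5,1]), ([90,92,88], 87, [1,4,4,1,5,1,4,1,4,4,1,4,1,4,1,5,1,4,4,1,4])], []⟩
def c1429 : Clm := ⟨5, 10, true, [5,1,4,1,5,1,5,1,10,8,10,13], [1,4,4,1,4,4,1,4,1,4,4,1,9], 5, [([], 1428, [])], []⟩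
def c1430 : Clm := ⟨10, 8, true, [1,5,1,4,4,1,4,1,4,9], [4,4,1,5,1,4,1,5,1,5,1,5,1,5,1,5,1,4,1,4,1,7,1,10], 11, [([], 1330, [1,5,1,4,4,1,4,1,4]), ([46,78,44], 845, [1,4,1,5,1,5,1,5,1,4,4,1,4,1,4,1,5,1,4,1,5,1]), ([356], 785, [4,1,4,1,5,1,4,4,1,4,1,4,4,1,5,1,4])], []⟩
def c1431 : Clm := ⟨8, 10, true, [4,4,1,5,1,4,1,5,1,5,1,5,1,5,1,5,1,4,1,4,1,7,1,10], [1,5,1,4,4,1,4,1,4,9], 5, [([], 1430, [])], []⟩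
def c1432 : Clm := ⟨10, 5, true, [1,4,1,4,1,5,1,4,9], [1,4,4,1,4,1,4,4,1,5,1,4,4,1,5,1,5,1,4,1,5,1,4,2,10,5,8,12], 11, [([], 1330, [1,4,1,4,1,5,1,4]), ([46,78,42], 55, [1,4,4,1,4,1,4,1,4,1,4,1,4,1,5,1,4,1,4]), ([158,93,90], 48, [1,4,1,4,1,4,1,4,1,4,1,5,1,4,1,5,1,4,1,5])], []⟩
def c1433 : Clm := ⟨5, 10, true, [1,4,4,1,4,1,4,4,1,5,1,4,4,1,5,1,5,1,4,1,5,1,4,2,10,5,8,12], [1,4,1,4,1,5,1,4,9], 5, [([], 1432, [])], []⟩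
def c1434 : Clm := ⟨10, 8, true, [4,1,5,1,5,1,4,1,4,1,4,1,9], [1,5,1,5,1,4,4,1,5,1,5,1,4,1,5,1,4,1,4,1,4,9], 11, [([], 1330, [4,1,5,1,5,1,4,1,4,1,4,1]), ([79,47], 25, [4,1,4,1,4,4,1,4,4,1,5,1,5,1,4,1,4,1]), ([44,66,44], 177, [1,4,4,1,4,1,4,4,1,4,4,1,4,1,5,1,5,1,4,4])], []⟩
def c1435 : Clm := ⟨8, 10, true, [1,5,1,5,1,4,4,1,5,1,5,1,4,1,5,1,4,1,4,1,4,9], [4,1,5,1,5,1,4,1,4,1,4,1,9], 5, [([], 1434, [])], []⟩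
def c1436 : Clm := ⟨10, 9, true, [1,4,4,1,4,1,9], [5,1,4,1,5,1,5,1,4,1,4,4,1,5,1,5,1,4,1,4,1,9,7,11], 11, [([], 1330, [1,4,4,1,4,1]), ([44,72,78], 234, [5,1,5,1,5,1,5,1,4,4,1,5,1,4,1,4,1,5,1]), ([356], 1300, [1,4,1,4,1,4,4,1,5,1,4,1,5,1,5,1,4,1,5,1,4,4])], []⟩
def c1437 : Clm := ⟨9, 10, true, [5,1,4,1,5,1,5,1,4,1,4,4,1,5,1,5,1,4,1,4,1,9,7,11], [1,4,4,1,4,1,9], 5, [([], 1436, [])], []⟩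
def c1438 : Clm := ⟨10, 8, true, [5,1,4,1,4,4,1,4,1,4,4,1,4,1,9], [1,4,4,1,4,1,4,1,5,1,5,1,5,1,5,1,4,12,6,13,7], 11, [([], 1330, [5,1,4,1,4,4,1,4,1,4,4,1,4,1]), ([40,73,46], 100, [1,5,1,4,4,1,5,1,4,1,4,1,5,1,5,1,4,4]), ([90,93,88], 322, [4,1,5,1,4,4,1,5,1,5,1,4,1,5,1,4,1,5])], []⟩
def c1439 : Clm := ⟨8, 10, true, [1,4,4,1,4,1,4,1,5,1,5,1,5,1,5,1,4,12,6,13,7], [5,1,4,1,4,4,1,4,1,4,4,1,4,1,9], 5, [([], 1438, [])], []⟩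
def c1440 : Clm := ⟨10, 9, true, [4,1,4,1,4,4,1,4,4,1,4,1,4,1,4,9], [4,1,5,1,4,1,5,1,5,1,4,1,5,1,4,4,1,5,3,1,5,13], 11, [([], 1330, [4,1,4,1,4,4,1,4,4,1,4,1,4,1,4]), ([72], 100, [5,1,4,1,4,1,5,1,4,1,5,1,4,4,1,4,4,1,4,1,4]), ([92,90], 1032, [1,5,1,4,1,4,1,4,4,1,5,1,4,1,4,1,4,4,1,4,4])], []⟩
def c1441 : Clm := ⟨9, 10, true, [4,1,5,1,4,1,5,1,5,1,4,1,5,1,4,4,1,5,3,1,5,13], [4,1,4,1,4,4,1,4,4,1,4,1,4,1,4,9], 5, [([], 1440, [])], []⟩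
def c1442 : Clm := ⟨10, 8, true, [1,5,1,5,1,4,1,5,1,4,1,4,1,4,4,1,9], [1,4,1,5,1,4,1,5,1,4,4,1,4,4,1,4,1,4,6,12,8,10], 11, [([], 1330, [1,5,1,5,1,4,1,5,1,4,1,4,1,4,4,1]), ([66,72], 131, [4,4,1,5,1,5,1,4,4,1,4,4,1,5,1,5,1,5,1,5]), ([282,282,264], 199, [4,1,4,1,5,1,4,1,4,4,1,4,1,5,1,5,1,4,4,1,4,4])], []⟩
def c1443 : Clm := ⟨8, 10, true, [1,4,1,5,1,4,1,5,1,4,4,1,4,4,1,4,1,4,6,12,8,10], [1,5,1,5,1,4,1,5,1,4,1,4,1,4,4,1,9], 5, [([], 1442, [])], []⟩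
def c1444 : Clm := ⟨10, 8, true, [4,4,1,4,4,1,4,1,4,4,1,9], [4,1,5,1,4,4,1,4,1,4,1,4,1,4,4,1,4,4,1,4,4,8,13,14,10], 11, [([], 1330, [4,4,1,4,4,1,4,1,4,4,1]), ([79,42,44], 234, [4,1,5,1,4,1,4,4,1,5,1,5,1,4,4,1,4,1,5,1,4]), ([], 936, [4,4,1,4,1,4,1,5,1,5,1,5,1,4,4,1,4,4,1])], []⟩
def c1445 : Clm := ⟨8, 10, true, [4,1,5,1,4,4,1,4,1,4,1,4,1,4,4,1,4,4,1,4,4,8,13,14,10], [4,4,1,4,4,1,4,1,4,4,1,9], 5, [([], 1444, [])], []⟩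
def c1446 : Clm := ⟨10, 10, true, [1,4,1,4,1,5,1,5,1,9], [1,4,1,5,1,4,1,5,1,5,1,5,1,5,1,4,1,4,1,4,4,1,3,7,5,13], 11, [([], 1330, [1,4,1,4,1,5,1,5,1]), ([73,46,46], 100, [5,1,5,1,5,1,4,1,4,1,4,1,4,1,4,1,5,1,4,1,5]), ([93,158,90], 1363, [1,4,4])], []⟩
def c1447 : Clm := ⟨10, 10, true, [1,4,1,5,1,4,1,5,1,5,1,5,1,5,1,4,1,4,1,4,4,1,3,7,5,13], [1,4,1,4,1,5,1,5,1,9], 5, [([], 1446, [])], []⟩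
def c1448 : Clm := ⟨10, 10, true, [5,1,5,1,5,1,5,1,5,1,9], [5,1,4,4,1,4,1,4,1,5,1,4,4,1,5,1,13,4], 11, [([], 1330, [5,1,5,1,5,1,5,1,5,1]), ([], 122, [5,1,5,1,4,1,4,4,1,4,1,4,4,1,4,1]), ([240,228,228], 1346, [4,1,4,1,4,4,1,4,1,5,1,5,1,5,1,5,1,4,4])], []⟩
def c1449 : Clm := ⟨10, 10, true, [5,1,4,4,1,4,1,4,1,5,1,4,4,1,5,1,13,4], [5,1,5,1,5,1,5,1,5,1,9], 5, [([], 1448, [])], []⟩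
def c1450 : Clm := ⟨10, 8, true, [1,5,1,4,1,4,1,4,1,4,1,4,4,1,9], [4,1,5,1,4,1,4,4,1,4,1,4,1,4,1,4,4,1,4,1,3,9,7,13], 11, [([], 1330, [1,5,1,4,1,4,1,4,1,4,1,4,4,1]), ([79,47,79], 234, [4,1,5,1,4,1,5,1,5,1,4,1,5,1,4,1]), ([357], 697, [5,1,4,4,1,4,1,4,4,1,5,1,4,1,4,1,5,1,4])], []⟩
def c1451 : Clm := ⟨8, 10, true, [4,1,5,1,4,1,4,4,1,4,1,4,1,4,1,4,4,1,4,1,3,9,7,13], [1,5,1,4,1,4,1,4,1,4,1,4,4,1,9], 5, [([], 1450, [])], []⟩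
def c1452 : Clm := ⟨10, 8, true, [4,4,1,4,4,1,5,1,4,4,1,5,1,5,1,9], [4,4,1,4,1,4,1,4,1,4,4,1,4,4,1,5,1,4,1,4,8,1,2,5], 11, [([], 1330, [4,4,1,4,4,1,5,1,4,4,1,5,1,5,1]), ([66,40,73], 1001, [1,5,1,4,1,4,1,5,1,4,1,4,4,1,5,1,5,1,4,1,4]), ([2197,2004], 1313, [1,5,1,4,1,4,1,5,1,4,4,1,4,4,1,4,1,4])], []⟩
def c1453 : Clm := ⟨8, 10, true, [4,4,1,4,1,4,1,4,1,4,4,1,4,4,1,5,1,4,1,4,8,1,2,5], [4,4,1,4,4,1,5,1,4,4,1,5,1,5,1,9], 5, [([], 1452, [])], []⟩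
def c1454 : Clm := ⟨10, 10, true, [4,1,4,1,4,4,1,4,4,1,4,1,4,1,9], [1,4,4,1,5,1,5,1,4,1,4,1,4,1,4,1,4,1,5,1,4,1,4,3,7,5,13], 11, [([], 1330, [4,1,4,1,4,4,1,4,4,1,4,1,4,1]), ([44], 118, [1,4,1,4,1,5,1,4,4,1,4,4,1,4,1,4,4,1,5,1,4]), ([226,240], 1393, [5,1,5,1,4,1,5,1,4,4,1,5,1])], []⟩
def c1455 : Clm := ⟨10, 10, true, [1,4,4,1,5,1,5,1,4,1,4,1,4,1,4,1,4,1,5,1,4,1,4,3,7,5,13], [4,1,4,1,4,4,1,4,4,1,4,1,4,1,9], 5, [([], 1454, [])], []⟩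
def c1456 : Clm := ⟨10, 9, true, [5,1,4,1,4,1,4,1,5,1,4,9], [1,4,1,5,1,4,1,4,4,1,4,1,4,1,4,4,1,4,4,7,1,4,11], 11, [([], 1330, [5,1,4,1,4,1,4,1,5,1,4]), ([78,40], 125, [1,4,4,1,4,4,1,4,1,4,1,4,4,1,5,1,5,1,5]), ([226,241,226], 1034, [1,4,1,4,4,1,4,4,1,4,1,5,1,5,1,4,4,1,5])], []⟩
def c1457 : Clm := ⟨9, 10, true, [1,4,1,5,1,4,1,4,4,1,4,1,4,1,4,4,1,4,4,7,1,4,11], [5,1,4,1,4,1,4,1,5,1,4,9], 5, [([], 1456, [])], []⟩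
def c1458 : Clm := ⟨10, 8, true, [1,5,1,5,1,5,1,5,1,4,9], [4,4,1,5,1,4,1,5,1,4,1,5,1,5,1,5,1,5,3,12,10,12], 11, [([], 1330, [1,5,1,5,1,5,1,5,1,4]), ([40,78,47], 100, [4,4,1,5,1,5,1,4,4,1,5,1,4,4,1,5,1,5,1]), ([158,93,90], 285, [1,4,1,4,4,1,5,1,5,1,4,1,4,1,5,1,5,1,4,1,5])], []⟩
def c1459 : Clm := ⟨8, 10, true, [4,4,1,5,1,4,1,5,1,4,1,5,1,5,1,5,1,5,3,12,10,12], [1,5,1,5,1,5,1,5,1,4,9], 5, [([], 1458, [])], []⟩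
def c1460 : Clm := ⟨10, 8, true, [1,4,1,4,4,1,4,4,1,4,4,1,5,1,9], [4,1,4,1,5,1,5,1,5,1,4,1,4,1,4,1,4,1,4,4,1,5,12,8,3,4], 11, [([], 1330, [1,4,1,4,4,1,4,4,1,4,4,1,5,1]), ([46,79,40], 177, [1,4,1,5,1,5,1,4,4,1,4,4,1,5,1,5,1,5,1,4]), ([356], 757, [4,1,4,1,5,1,4,4,1,4,4,1,4,1,4,4])], []⟩
def c1461 : Clm := ⟨8, 10, true, [4,1,4,1,5,1,5,1,5,1,4,1,4,1,4,1,4,1,4,4,1,5,12,8,3,4], [1,4,1,4,4,1,4,4,1,4,4,1,5,1,9], 5, [([], 1460, [])], []⟩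
def c1462 : Clm := ⟨10, 9, true, [1,4,4,1,5,1,4,4,1,4,1,4,9], [5,1,4,1,4,1,4,4,1,4,1,4,1,4,4,1,4,6,2,5,6], 11, [([], 1330, [1,4,4,1,5,1,4,4,1,4,1,4]), ([47,73], 360, [1,4,4,1,5,1,4,4,1,4,1,4,1,5,1,4,1,4,4]), ([356], 1277, [5,1,4,4,1,4,4,1,5,1,5])], []⟩
def c1463 : Clm := ⟨9, 10, true, [5,1,4,1,4,1,4,4,1,4,1,4,1,4,4,1,4,6,2,5,6], [1,4,4,1,5,1,4,4,1,4,1,4,9], 5, [([], 1462, [])], []⟩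
def c1464 : Clm := ⟨10, 8, true, [5,1,5,1,4,1,5,1,4,1,4,9], [1,4,1,4,1,5,1,5,1,4,1,4,4,1,4,1,7,1,2,11], 11, [([], 1330, [5,1,5,1,4,1,5,1,4,1,4]), ([72,78,44], 100, [1,5,1,4,4,1,4,4,1,4,1,5,1,4,1,4,1,5,1,4,4]), ([88,93,88], 608, [4,1,4,1,4,1,5,1,5,1,4,1,4,1,4,4,1,5,1])], []⟩
def c1465 : Clm := ⟨8, 10, true, [1,4,1,4,1,5,1,5,1,4,1,4,4,1,4,1,7,1,2,11], [5,1,5,1,4,1,5,1,4,1,4,9], 5, [([], 1464, [])], []⟩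
def c1466 : Clm := ⟨10, 8, true, [5,1,5,1,4,4,1,4,9], [1,4,4,1,5,1,5,1,5,1,5,1,4,1,5,1,4,1,4,1,5,7,8,14,2], 11, [([], 1330, [5,1,5,1,4,4,1,4]), ([44,79,46], 234, [1,5,1,4,1,4,1,5,1,5,1,4,1,4,1,5,1,4,1,4,1,5]), ([], 757, [1,4,1,5,1,4,1,4,1,5,1,4,1,5,1,4,1,5,1,4])], []⟩
def c1467 : Clm := ⟨8, 10, true, [1,4,4,1,5,1,5,1,5,1,5,1,4,1,5,1,4,1,4,1,5,7,8,14,2], [5,1,5,1,4,4,1,4,9], 5, [([], 1466, [])], []⟩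
def c1468 : Clm := ⟨10, 9, true, [5,1,4,1,4,1,4,4,1,4,1,4,4,1,4,9], [4,1,5,1,5,1,4,4,1,4,4,1,4,4,1,5,1,4,1,4,4,9], 11, [([], 1330, [5,1,4,1,4,1,4,4,1,4,1,4,4,1,4]), ([78,73], 27, [4,4,1,4,1,4,1,4,4,1,4,1,5,1,4]), ([72,46,79], 1001, [4,1,4,1,5,1,5,1,4,1,5,1,4,4])], []⟩
def c1469 : Clm := ⟨9, 10, true, [4,1,5,1,5,1,4,4,1,4,4,1,4,4,1,5,1,4,1,4,4,9], [5,1,4,1,4,1,4,4,1,4,1,4,4,1,4,9], 5, [([], 1468, [])], []⟩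
def c1470 : Clm := ⟨10, 9, true, [5,1,5,1,5,1,5,1,5,1,5,1,9], [1,4,4,1,4,1,4,4,1,4,4,1,4,1,4,4,1,5,9,1], 11, [([], 1330, [5,1,5,1,5,1,5,1,5,1,5,1]), ([47,79], 51, [1,4,1,4,4,1,4,4,1,4,1,4,1,5,1,4,4,1,4,1,4]), ([92,92], 1032, [1,4,4,1,5,1,4,1,4,4,1,4,4,1,5])], []⟩
def c1471 : Clm := ⟨9, 10, true, [1,4,4,1,4,1,4,4,1,4,4,1,4,1,4,4,1,5,9,1], [5,1,5,1,5,1,5,1,5,1,5,1,9], 5, [([], 1470, [])], []⟩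
def c1472 : Clm := ⟨10, 8, true, [1,4,1,5,1,5,1,4,1,4,1,4,9], [1,5,1,4,1,4,1,5,1,4,1,5,1,4,1,4,1,5,1,5,1,4,4,2,1,11,12], 11, [([], 1330, [1,4,1,5,1,5,1,4,1,4,1,4]), ([66,78,42], 131, [4,1,5,1,4,4,1,5,1,5,1,4,4,1,5,1,4,4,1,4,4]), ([317,283,264,264], 395, [4,4,1,5,1,5,1,4,4,1,4,1,4,1,5,1,4,4,1,4,4])], []⟩
def c1473 : Clm := ⟨8, 10, true, [1,5,1,4,1,4,1,5,1,4,1,5,1,4,1,4,1,5,1,5,1,4,4,2,1,11,12], [1,4,1,5,1,5,1,4,1,4,1,4,9], 5, [([], 1472, [])], []⟩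
def c1474 : Clm := ⟨10, 8, true, [1,5,1,5,1,5,1,4,4,1,5,1,9], [1,5,1,5,1,5,1,4,1,4,4,1,4,1,4,4,1,4,4,3,14,9,9], 11, [([], 1330, [1,5,1,5,1,5,1,4,4,1,5,1]), ([46,40,79], 1001, [5,1,4,1,4,1,5,1,5,1,4,1,4,4,1,4,1,5]), ([2197,2114,2004], 1047, [1,4,1,5,1,5,1,4,4,1,4,1,5,1,4,4,1,5,1,4])], []⟩
def c1475 : Clm := ⟨8, 10, true, [1,5,1,5,1,5,1,4,1,4,4,1,4,1,4,4,1,4,4,3,14,9,9], [1,5,1,5,1,5,1,4,4,1,5,1,9], 5, [([], 1474, [])], []⟩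
def c1476 : Clm := ⟨10, 8, true, [5,1,4,4,1,5,1,5,1,4,4,1,5,1,9], [4,1,4,1,4,4,1,4,1,5,1,4,4,1,5,1,4,4,1,4,4,1,5,6,1,12], 11, [([], 1330, [5,1,4,4,1,5,1,5,1,4,4,1,5,1]), ([42,44], 360, [5,1,5,1,5,1,5,1,5,1,4,1,4,1,4,1,4,4]), ([356], 487, [5,1,5,1,4,1,5,1,4,4,1,4,1,4,1,5,1,4])], []⟩
def c1477 : Clm := ⟨8, 10, true, [4,1,4,1,4,4,1,4,1,5,1,4,4,1,5,1,4,4,1,4,4,1,5,6,1,12], [5,1,4,4,1,5,1,5,1,4,4,1,5,1,9], 5, [([], 1476, [])], []⟩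
def c1478 : Clm := ⟨10, 8, true, [1,5,1,5,1,5,1,5,1,5,1,9], [1,4,1,5,1,5,1,4,1,5,1,5,1,10,14,12,4], 11, [([], 1330, [1,5,1,5,1,5,1,5,1,5,1]), ([47,44,42,40], 1001, [4,1,5,1,5,1,4,1,4,1,4,4,1,4,1,4,4,1,5,1]), ([2196,2114,2004], 1289, [4,1,5,1,5,1,4,4,1,4,1,4,1,5,1,4,4,1,4,4])], []⟩
def c1479 : Clm := ⟨8, 10, true, [1,4,1,5,1,5,1,4,1,5,1,5,1,10,14,12,4], [1,5,1,5,1,5,1,5,1,5,1,9], 5, [([], 1478, [])], []⟩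
def c1480 : Clm := ⟨10, 10, true, [1,4,4,1,4,4,1,5,1,4,1,4,1,4,9], [4,1,5,1,5,1,4,1,4,4,1,4,1,4,1,5,1,6,9,3,7], 11, [([], 1330, [1,4,4,1,4,4,1,5,1,4,1,4,1,4]), ([78,40], 55, [1,4,4,1,5,1,4,1,5,1,5,1,4,4,1,5,1,5,1]), ([88,92], 1383, [5,1,4,4,1,4,4,1,4,1,4,1,4,1,4,4,1,4,1])], []⟩
def c1481 : Clm := ⟨10, 10, true, [4,1,5,1,5,1,4,1,4,4,1,4,1,4,1,5,1,6,9,3,7], [1,4,4,1,4,4,1,5,1,4,1,4,1,4,9], 5, [([], 1480, [])], []⟩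
def c1482 : Clm := ⟨10, 10, true, [5,1,5,1,4,4,1,4,4,1,4,4,1,9], [4,1,5,1,4,1,5,1,4,4,1,5,1,4,1,4,1,4,4,1,9], 11, [([], 1330, [5,1,5,1,4,4,1,4,4,1,4,4,1]), ([46,44], 25, [5,1,4,1,5,1,4,1,4,4,1,5,1,4,1,5,1,4,1,4,4]), ([47,73,46], 1331, [1,5,1,5,1,5,1,4,4,1,4,1,5,1,4,1,4,1,4])], []⟩
def c1483 : Clm := ⟨10, 8, true, [4,1,5,1,5,1,4,4,1,5,1,4,1,4,1,9], [4,1,4,1,4,4,1,4,1,4,1,5,1,4,4,1,4,1,4,1,4,4,10,14,1], 11, [([], 1330, [4,1,5,1,5,1,4,4,1,5,1,4,1,4,1]), ([73,42,47,40], 845, [5,1,4,1,4,1,5,1,5,1,4,1,4,4,1,4,1,4,1,5]), ([357], 425, [5,1,4,1,4,1,4,4,1,4,1,5,1,4,4,1,4,4])], []⟩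
def c1484 : Clm := ⟨8, 10, true, [4,1,4,1,4,4,1,4,1,4,1,5,1,4,4,1,4,1,4,1,4,4,10,14,1], [4,1,5,1,5,1,4,4,1,5,1,4,1,4,1,9], 5, [([], 1483, [])], []⟩
def c1485 : Clm := ⟨10, 8, true, [5,1,4,4,1,5,1,4,4,1,4,1,4,9], [4,4,1,4,4,1,4,1,4,1,4,4,1,4,1,5,1,13,3], 11, [([], 1330, [5,1,4,4,1,5,1,4,4,1,4,1,4]), ([79,73,40], 177, [5,1,4,1,5,1,5,1,4,1,4,4,1,4,4,1,4]), ([356], 700, [5,1,4,1,4,1,5,1,5,1,4,1,4,1,4,1])], []⟩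
def c1486 : Clm := ⟨8, 10, true, [4,4,1,4,4,1,4,1,4,1,4,4,1,4,1,5,1,13,3], [5,1,4,4,1,5,1,4,4,1,4,1,4,9], 5, [([], 1485, [])], []⟩
def c1487 : Clm := ⟨10, 8, true, [4,1,4,4,1,4,1,4,4,1,4,9], [1,4,1,4,1,4,4,1,5,1,4,1,4,1,5,1,4,1,5,1,4,4,1,5,3,12,10], 11, [([], 1330, [4,1,4,4,1,4,1,4,4,1,4]), ([79,66,47], 51, [1,5,1,4,4,1,4,1,4,4,1,4,1,4,1,4,4,1,4,1,5]), ([158,88], 191, [1,5,1,4,4,1,4,4,1,5,1,5,1,4,1,4,1,5])], []⟩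
def c1488 : Clm := ⟨8, 10, true, [1,4,1,4,1,4,4,1,5,1,4,1,4,1,5,1,4,1,5,1,4,4,1,5,3,12,10], [4,1,4,4,1,4,1,4,4,1,4,9], 5, [([], 1487, [])], []⟩
def c1489 : Clm := ⟨10, 8, true, [1,4,4,1,5,1,5,1,4,1,4,1,9], [5,1,5,1,4,1,5,1,5,1,4,4,1,5,1,4,4,9,7,4,10], 11, [([], 1330, [1,4,4,1,5,1,5,1,4,1,4,1]), ([42,78,40], 55, [1,4,4,1,4,1,5,1,5,1,4,1,5,1,4,4,1]), ([88,92,88], 249, [4,1,4,1,4,1,5,1,5,1,4,1,4,1,5,1,5])], []⟩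
def c1490 : Clm := ⟨8, 10, true, [5,1,5,1,4,1,5,1,5,1,4,4,1,5,1,4,4,9,7,4,10], [1,4,4,1,5,1,5,1,4,1,4,1,9], 5, [([], 1489, [])], []⟩
def c1491 : Clm := ⟨10, 7, true, [1,5,1,5,1,4,4,1,4,1,4,9], [4,4,1,4,1,5,1,4,4,1,4,4,1,5,1,5,1,5,1,5,1,4,1,3,9,11,12], 11, [([], 1330, [1,5,1,5,1,4,4,1,4,1,4]), ([79,44,40], 845, [1,4,4,1,4,4,1,5,1,5,1,4,1,5,1,4,1]), ([356], 204, [1,4,4,1,5,1,4,1,5,1,4,4,1,4,1,4,1,4,4])], []⟩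
def c1492 : Clm := ⟨7, 10, true, [4,4,1,4,1,5,1,4,4,1,4,4,1,5,1,5,1,5,1,5,1,4,1,3,9,11,12], [1,5,1,5,1,4,4,1,4,1,4,9], 5, [([], 1491, [])], []⟩
def c1493 : Clm := ⟨10, 8, true, [1,5,1,5,1,4,1,4,1,4,4,1,4,1,4,4,1,9], [1,4,4,1,4,1,5,1,4,1,4,4,1,4,1,5,1,5,1,4,4,1,5,1,7,1,6,10], 11, [([], 1330, [1,5,1,5,1,4,1,4,1,4,4,1,4,1,4,4,1]), ([73,79,46], 51, [1,4,1,4,1,4,1,5,1,4,1,5,1,4,1,4,1,5,1,4,1,4,1]), ([158,92,90,88], 433, [1,4,1,4,1,5,1,4,4,1,4,4,1,4,4,1,5,1,4])], []⟩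
def c1494 : Clm := ⟨8, 10, true, [1,4,4,1,4,1,5,1,4,1,4,4,1,4,1,5,1,5,1,4,4,1,5,1,7,1,6,10], [1,5,1,5,1,4,1,4,1,4,4,1,4,1,4,4,1,9], 5, [([], 1493, [])], []⟩
def c1495 : Clm := ⟨10, 9, true, [4,1,4,1,4,1,4,1,4,4,1,9], [1,5,1,5,1,4,1,5,1,4,4,1,5,1,4,4,1,5,2,10,5,8,12], 11, [([], 1330, [4,1,4,1,4,1,4,1,4,4,1]), ([47,42], 125, [4,1,5,1,5,1,5,1,4,1,4,4,1,4,4,1,5,1,4]), ([230,226,226], 1011, [1,4,4,1,4,1,4,1,4,4,1,4,1,4,1,4,1,4,4,1,5])], []⟩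
def c1496 : Clm := ⟨9, 10, true, [1,5,1,5,1,4,1,5,1,4,4,1,5,1,4,4,1,5,2,10,5,8,12], [4,1,4,1,4,1,4,1,4,4,1,9], 5, [([], 1495, [])], []⟩
def c1497 : Clm := ⟨10, 8, true, [1,5,1,4,1,4,1,4,1,4,1,4,9], [1,5,1,4,1,5,1,5,1,4,4,1,4,4,1,4,4,1,5,1,3,12,1,11], 11, [([], 1330, [1,5,1,4,1,4,1,4,1,4,1,4]), ([46,73,40], 234, [5,1,4,4,1,4,4,1,5,1,4,1,4,1,5,1,5,1,4]), ([], 855, [1,4,4,1,5,1,5,1,4,4,1,5,1,5,1,5])], []⟩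
def c1498 : Clm := ⟨8, 10, true, [1,5,1,4,1,5,1,5,1,4,4,1,4,4,1,4,4,1,5,1,3,12,1,11], [1,5,1,4,1,4,1,4,1,4,1,4,9], 5, [([], 1497, [])], []⟩
def c1499 : Clm := ⟨10, 8, true, [5,1,4,4,1,4,4,1,5,1,9], [1,5,1,4,4,1,5,1,4,1,5,1,4,4,1,4,1,4,1,4,1,6,8,1,3], 11, [([], 1330, [5,1,4,4,1,4,4,1,5,1]), ([44,66], 177, [4,4,1,5,1,5,1,4,1,4,1,5,1,5,1,4,4,1,5]), ([], 743, [1,4,1,4,1,4,1,4,1,4,1,4,1,4,1,4,1,5,1,4,1,5,1])], []⟩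
def c1500 : Clm := ⟨8, 10, true, [1,5,1,4,4,1,5,1,4,1,5,1,4,4,1,4,1,4,1,4,1,6,8,1,3], [5,1,4,4,1,4,4,1,5,1,9], 5, [([], 1499, [])], []⟩
def c1501 : Clm := ⟨10, 8, true, [5,1,5,1,5,1,4,1,4,1,4,1,4,9], [5,1,4,1,4,1,4,1,4,4,1,4,4,1,4,1,5,1,5,1,8,1,6,11], 11, [([], 1330, [5,1,5,1,5,1,4,1,4,1,4,1,4]), ([42,44], 177, [1,4,1,4,1,5,1,4,4,1,4,1,4,1,4,4,1,4,4,1,4]), ([356], 557, [1,4,1,4,1,5,1,4,1,4,1,5,1,5])], []⟩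
def c1502 : Clm := ⟨8, 10, true, [5,1,4,1,4,1,4,1,4,4,1,4,4,1,4,1,5,1,5,1,8,1,6,11], [5,1,5,1,5,1,4,1,4,1,4,1,4,9], 5, [([], 1501, [])], []⟩
def c1503 : Clm := ⟨10, 10, true, [1,4,1,4,4,1,5,1,5,1,5,1,4,1,4,1,4,9], [4,1,4,1,4,4,1,4,4,1,5,1,4,1,4,1,5,3,9,10,8], 11, [([], 1330, [1,4,1,4,4,1,5,1,5,1,5,1,4,1,4,1,4]), ([72,47,44], 177, [4,1,4,1,4,1,4,4,1,4,1,5,1,5,1,5]), ([356], 1476, [5,1,4,1,4,4,1,5,1,4,4,1,5,1,5,1,4,1,4,4])], []⟩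
def c1504 : Clm := ⟨10, 10, true, [4,1,4,1,4,4,1,4,4,1,5,1,4,1,4,1,5,3,9,10,8], [1,4,1,4,4,1,5,1,5,1,5,1,4,1,4,1,4,9], 5, [([], 1503, [])], []⟩
def c1505 : Clm := ⟨10, 8, true, [1,5,1,5,1,4,4,1,4,9], [1,4,4,1,5,1,5,1,4,1,4,1,5,1,4,1,5,10,12,5,6], 11, [([], 1330, [1,5,1,5,1,4,4,1,4]), ([40,73,46], 122, [5,1,5,1,4,4,1,4,1,4,1,4,1,4,1]), ([228,230,229,226], 819, [1,4,1,4,1,5,1,4,4,1,5,1,4,4,1,4,1,4,4,1])], []⟩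
def c1506 : Clm := ⟨8, 10, true, [1,4,4,1,5,1,5,1,4,1,4,1,5,1,4,1,5,10,12,5,6], [1,5,1,5,1,4,4,1,4,9], 5, [([], 1505, [])], []⟩
def c1507 : Clm := ⟨10, 10, true, [1,4,1,5,1,5,1,4,1,5,1,4,1,4,9], [4,4,1,4,1,4,1,4,1,4,4,1,5,1,4,1,4,1,4,1,4,1,4,3,7,5,13], 11, [([], 1330, [1,4,1,5,1,5,1,4,1,5,1,4,1,4]), ([66,47], 122, [5,1,4,1,4,4,1,4,1,4,1,5,1,4,4,1,4,1]), ([241,230,228,226], 1346, [4,1,5,1,5,1,5,1,4,1,5])], []⟩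
def c1508 : Clm := ⟨10, 9, true, [1,4,1,4,4,1,5,1,4,4,1,4,1,4,9], [4,1,4,4,1,4,4,1,4,1,5,1,4,4,1,5,2,6,11,3], 11, [([], 1330, [1,4,1,4,4,1,5,1,4,4,1,4,1,4]), ([42,40], 234, [4,1,4,4,1,4,1,4,4,1,4,1,4,1,5,1,5,1]), ([356], 1062, [4,1,4,1,4,1,5,1,5,1,5,1,4,4,1,4,1])], []⟩
def c1509 : Clm := ⟨9, 10, true, [4,1,4,4,1,4,4,1,4,1,5,1,4,4,1,5,2,6,11,3], [1,4,1,4,4,1,5,1,4,4,1,4,1,4,9], 5, [([], 1508, [])], []⟩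
def c1510 : Clm := ⟨10, 10, true, [4,1,4,4,1,5,1,5,1,5,1,5,1,4,9], [4,1,4,1,5,1,4,1,4,1,5,1,5,1,5,1,4,1,4,4,1,4,9], 11, [([], 1330, [4,1,4,4,1,5,1,5,1,5,1,5,1,4]), ([], 27, [1,4,4,1,4,1,4,1,4,1,4,4,1,4,4,1,4,1,4,1]), ([47,73,78,44], 1331, [1,4,1,4,4,1,5,1,4,4,1,5,1,5,1,5,1,4,1,4,1,5,1])], []⟩
def c1511 : Clm := ⟨10, 9, true, [4,1,4,4,1,4,1,9], [4,1,4,4,1,4,1,4,4,1,4,4,1,5,1,5,2,4,8,3], 11, [([], 1330, [4,1,4,4,1,4,1]), ([72,79,47], 845, [1,5,1,4,4,1,4,1,5,1,4,1,4,1,5,1,4,4,1,5]), ([357], 1300, [1,5,1,4,1,4,4,1,4,4,1,4,1,4,4,1,5,1,5,1,5])], []⟩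
def c1512 : Clm := ⟨9, 10, true, [4,1,4,4,1,4,1,4,4,1,4,4,1,5,1,5,2,4,8,3], [4,1,4,4,1,4,1,9], 5, [([], 1511, [])], []⟩
def c1513 : Clm := ⟨10, 8, true, [4,1,4,1,5,1,5,1,9], [4,1,5,1,4,1,4,1,4,1,4,1,4,1,4,1,4,4,1,4,4,2,4,10], 11, [([], 1330, [4,1,4,1,5,1,5,1]), ([78,47,42,40], 234, [4,1,4,4,1,4,1,4,4,1,5,1,4,1,4,1,5]), ([357], 869, [5,1,5,1,5,1,4,4,1,5,1,4,1,5,1,5,1,4,4])], []⟩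
def c1514 : Clm := ⟨8, 10, true, [4,1,5,1,4,1,4,1,4,1,4,1,4,1,4,1,4,4,1,4,4,2,4,10], [4,1,4,1,5,1,5,1,9], 5, [([], 1513, [])], []⟩
def c1515 : Clm := ⟨10, 10, true, [1,4,1,4,1,4,1,4,1,5,1,5,1,9], [4,1,4,4,1,4,1,5,1,4,1,5,1,4,1,4,1,4,4,2,10,5,8,12], 11, [([], 1330, [1,4,1,4,1,4,1,4,1,5,1,5,1]), ([78,44,72], 125, [1,4,1,4,1,4,4,1,5,1,4,4,1,4,4,1,4,4,1,4,1,4]), ([229,230,240,227], 1346, [1,4,1,5,1,4,4,1,5,1,4,1,4,1,4,1])], []⟩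
def c1516 : Clm := ⟨10, 8, true, [1,5,1,4,1,4,1,4,1,4,4,1,9], [4,1,4,4,1,4,1,5,1,5,1,4,1,4,4,1,4,4,1,4,1,6,2,8,14], 11, [([], 1330, [1,5,1,4,1,4,1,4,1,4,4,1]), ([40,78], 55, [1,4,1,5,1,4,1,5,1,4,1,5,1,4,1,5,1,4,1,4,1,4]), ([92,158,88], 344, [4,1,4,1,5,1,4,1,4,1,4,4,1,4,1,4,1,5,1,4,4,1])], []⟩
def c1517 : Clm := ⟨8, 10, true, [4,1,4,4,1,4,1,5,1,5,1,4,1,4,4,1,4,4,1,4,1,6,2,8,14], [1,5,1,4,1,4,1,4,1,4,4,1,9], 5, [([], 1516, [])], []⟩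
def c1518 : Clm := ⟨10, 7, true, [1,4,1,4,1,5,1,4,1,5,1,5,1,4,4,1,4,1,4,4,9,5,2,6], [1,4,1,4,4,1,4,4,1,4,4,1,5,1,5,1,8], 9, [([], 1503, [5,1,5,1,5,1,5,1,4,4,1,5,1,5,1,4,1,5,1]), ([2688,2840,2688], 1330, [4,4,1,4,1,4,4,1,5,1,5,1]), ([44,79,42], 131, [1,4,1,4,4,1,4,4,1,4,4,1,5,1,5,1])], []⟩
def c1519 : Clm := ⟨7, 10, true, [1,4,1,4,4,1,4,4,1,4,4,1,5,1,5,1,8], [1,4,1,4,1,5,1,4,1,5,1,5,1,4,4,1,4,1,4,4,9,5,2,6], 5, [([], 1518, [])], []⟩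
def c1520 : Clm := ⟨10, 9, true, [1,4,1,4,1,5,1,4,4,1,4,4,1,5,1,9], [5,1,4,1,5,1,4,4,1,4,1,4,4,1,5,1,4,1,4,2,1,13,9], 11, [([], 1330, [1,4,1,4,1,5,1,4,4,1,4,4,1,5,1]), ([78,46,42], 122, [4,1,4,4,1,4,1,5,1,4,1,5,1,4,1,4,1,4,4]), ([241,229,230,226], 1011, [1,5,1,4,1,5,1,4,1,5,1,5,1,4,1,4])], []⟩
def c1521 : Clm := ⟨9, 10, true, [5,1,4,1,5,1,4,4,1,4,1,4,4,1,5,1,4,1,4,2,1,13,9], [1,4,1,4,1,5,1,4,4,1,4,4,1,5,1,9], 5, [([], 1520, [])], []⟩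
def c1522 : Clm := ⟨10, 8, true, [5,1,4,1,5,1,5,1,9], [1,5,1,5,1,5,1,5,1,5,1,5,1,4,4,1,5,1,4,3,13,8,10], 11, [([], 1330, [5,1,4,1,5,1,5,1]), ([79,72,66], 234, [1,4,1,4,4,1,5,1,5,1,5,1,4,1,4,1,5,1,5,1,4,1]), ([], 789, [1,4,1,4,4,1,4,4,1,4,1,4,4,1,5,1,5,1,4,4])], []⟩
def c1523 : Clm := ⟨8, 10, true, [1,5,1,5,1,5,1,5,1,5,1,5,1,4,4,1,5,1,4,3,13,8,10], [5,1,4,1,5,1,5,1,9], 5, [([], 1522, [])], []⟩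
def c1524 : Clm := ⟨10, 8, true, [1,4,4,1,5,1,5,1,5,1,5,1,9], [1,5,1,5,1,4,4,1,4,4,1,4,1,4,4,1,5,1,2,10,6,12], 11, [([], 1330, [1,4,4,1,5,1,5,1,5,1,5,1]), ([46,72,78], 1001, [1,4,4,1,5,1,4,1,5,1,4,4,1,4,4,1,5,1,5,1,5]), ([2197], 1166, [4,4,1,4,1,4,4,1,4,4,1,4,4,1,4,4])], []⟩
def c1525 : Clm := ⟨8, 10, true, [1,5,1,5,1,4,4,1,4,4,1,4,1,4,4,1,5,1,2,10,6,12], [1,4,4,1,5,1,5,1,5,1,5,1,9], 5, [([], 1524, [])], []⟩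
def c1526 : Clm := ⟨10, 8, true, [4,1,4,4,1,4,4,1,5,1,4,9], [5,1,4,4,1,4,1,5,1,4,1,4,1,5,1,4,4,1,4,4,3,1,14,6], 11, [([], 1330, [4,1,4,4,1,4,4,1,5,1,4]), ([47,42,46], 234, [1,4,1,4,1,4,1,5,1,5,1,4,4,1,4,4,1,4,4,1,4,4]), ([], 518, [5,1,4,4,1,5,1,4,1,4,4,1,4,1,4,1,4])], []⟩
def c1527 : Clm := ⟨8, 10, true, [5,1,4,4,1,4,1,5,1,4,1,4,1,5,1,4,4,1,4,4,3,1,14,6], [4,1,4,4,1,4,4,1,5,1,4,9], 5, [([], 1526, [])], []⟩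
def c1528 : Clm := ⟨10, 8, true, [4,1,4,1,4,1,4,1,4,1,5,1,5,1,9], [5,1,4,4,1,5,1,4,4,1,5,1,5,1,4,1,5,1,4,1,5,9,1,12,14], 11, [([], 1330, [4,1,4,1,4,1,4,1,4,1,5,1,5,1]), ([73,44,79,47], 234, [4,1,5,1,4,4,1,4,4,1,4,4,1,4,1,4,4]), ([], 704, [1,4,1,4,1,5,1,5,1,4,1,4,1,4,1,4,1,4,1,4,1,5])], []⟩
def c1529 : Clm := ⟨8, 10, true, [5,1,4,4,1,5,1,4,4,1,5,1,5,1,4,1,5,1,4,1,5,9,1,12,14], [4,1,4,1,4,1,4,1,4,1,5,1,5,1,9], 5, [([], 1528, [])], []⟩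
def c1530 : Clm := ⟨10, 8, true, [5,1,4,4,1,4,4,1,9], [1,4,1,4,1,4,1,4,1,4,1,5,1,4,4,1,4,4,3,8,2,5], 11, [([], 1330, [5,1,4,4,1,4,4,1]), ([72,44,73], 234, [4,1,4,4,1,4,4,1,4,4,1,5,1,5,1,4,4,1,4]), ([357], 262, [4,1,5,1,5,1,4,4,1,5,1,5,1,4,4,1])], []⟩
def c1531 : Clm := ⟨8, 10, true, [1,4,1,4,1,4,1,4,1,4,1,5,1,4,4,1,4,4,3,8,2,5], [5,1,4,4,1,4,4,1,9], 5, [([], 1530, [])], []⟩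
def c1532 : Clm := ⟨10, 10, true, [5,1,4,1,4,1,4,4,1,4,4,1,9], [5,1,4,1,4,4,1,4,1,4,4,1,4,4,1,5,1,4,4,1,4,4,9,1], 11, [([], 1330, [5,1,4,1,4,1,4,4,1,4,4,1]), ([46,40], 125, [5,1,5,1,4,4,1,4,1,4,1,4,4]), ([241,228], 1393, [4,1,5,1,4,1,4,1,4,1,4,1,5,1,5,1,5])], []⟩
def c1533 : Clm := ⟨10, 10, true, [5,1,4,1,4,4,1,4,1,4,4,1,4,4,1,5,1,4,4,1,4,4,9,1], [5,1,4,1,4,1,4,4,1,4,4,1,9], 5, [([], 1532, [])], []⟩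
def c1534 : Clm := ⟨10, 10, true, [1,5,1,4,4,1,4,4,1,9], [5,1,5,1,4,1,4,1,5,1,5,1,4,1,4,4,3,4,7,10], 11, [([], 1330, [1,5,1,4,4,1,4,4,1]), ([40,73], 234, [4,1,5,1,4,1,5,1,4,1,5,1,4,1,4,4,1,4]), ([356], 1501, [4,4,1,4,4,1,4,1,5,1,5,1,4,1,5,1,5])], []⟩
def c1535 : Clm := ⟨10, 10, true, [5,1,5,1,4,1,4,1,5,1,5,1,4,1,4,4,3,4,7,10], [1,5,1,4,4,1,4,4,1,9], 5, [([], 1534, [])], []⟩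
def c1536 : Clm := ⟨10, 9, true, [4,4,1,4,4,1,4,4,1,9], [4,4,1,4,4,1,4,1,4,1,5,1,5,1,4,4,1,5,6,1,11], 11, [([], 1330, [4,4,1,4,4,1,4,4,1]), ([46,78,47], 125, [5,1,5,1,5,1,5,1,4,4,1,4,1,5,1,4,1]), ([241,227], 1034, [5,1,4,1,4,4,1,4,4,1,4,4,1,4,4,1,4,4])], []⟩
def c1537 : Clm := ⟨9, 10, true, [4,4,1,4,4,1,4,1,4,1,5,1,5,1,4,4,1,5,6,1,11], [4,4,1,4,4,1,4,4,1,9], 5, [([], 1536, [])], []⟩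
def c1538 : Clm := ⟨10, 8, true, [1,5,1,4,4,1,5,1,4,4,1,4,1,4,9], [1,4,1,5,1,4,4,1,5,1,5,1,4,1,5,1,4,4,1,5,8,7,3], 11, [([], 1330, [1,5,1,4,4,1,5,1,4,4,1,4,1,4]), ([73], 845, [1,4,1,5,1,4,1,4,1,5,1,4,1,5,1,4,1,4]), ([357], 967, [4,4,1,4,1,4,1,5,1,4,1,5,1,4,1,4,1,4,4,1,4])], []⟩
def c1539 : Clm := ⟨8, 10, true, [1,4,1,5,1,4,4,1,5,1,5,1,4,1,5,1,4,4,1,5,8,7,3], [1,5,1,4,4,1,5,1,4,4,1,4,1,4,9], 5, [([], 1538, [])], []⟩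
def c1540 : Clm := ⟨10, 8, true, [1,4,1,4,1,4,4,1,4,1,4,4,1,4,9], [4,1,5,1,5,1,5,1,4,1,4,1,5,1,5,13,5,7], 11, [([], 1330, [1,4,1,4,1,4,4,1,4,1,4,4,1,4]), ([42,72,79], 360, [1,4,4,1,5,1,5,1,4,4,1,5,1,5,1,5,1,4,1,4,4]), ([356], 470, [1,4,4,1,4,4,1,4,1,4,1,4,4,1,4,1,4,1,4,4])], []⟩
def c1541 : Clm := ⟨8, 10, true, [4,1,5,1,5,1,5,1,4,1,4,1,5,1,5,13,5,7], [1,4,1,4,1,4,4,1,4,1,4,4,1,4,9], 5, [([], 1540, [])], []⟩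
def c1542 : Clm := ⟨10, 8, true, [4,1,5,1,9], [1,4,4,1,5,1,4,1,5,1,4,1,4,4,1,5,1,4,1,5,7,1,6], 11, [([], 1330, [4,1,5,1]), ([42,40,78], 125, [4,4,1,4,1,4,4,1,4,1,4,1,5,1,4,4,1,4,1,4,1]), ([230,240,229], 823, [1,4,1,4,4,1,4,1,4,4,1,4,1,4,4,1])], []⟩
def c1543 : Clm := ⟨8, 10, true, [1,4,4,1,5,1,4,1,5,1,4,1,4,4,1,5,1,4,1,5,7,1,6], [4,1,5,1,9], 5, [([], 1542, [])], []⟩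
def c1544 : Clm := ⟨10, 10, true, [4,4,1,4,4,1,4,1,4,1,4,1,9], [4,1,4,1,5,1,5,1,5,1,4,1,4,1,4,1,4,1,4,1,4,1,3,4,14,9], 11, [([], 1330, [4,4,1,4,4,1,4,1,4,1,4,1]), ([72,42], 55, [1,4,1,5,1,5,1,4,4,1,4,1,4,4,1,4,4,1,5,1,5,1]), ([158,92,92,88], 1377, [4,1,4,1,5,1,4,4,1,5,1,5,1,5,1,4,1,4,1,5,1,4])], []⟩
def c1545 : Clm := ⟨10, 10, true, [4,1,4,1,5,1,5,1,5,1,4,1,4,1,4,1,4,1,4,1,4,1,3,4,14,9], [4,4,1,4,4,1,4,1,4,1,4,1,9], 5, [([], 1544, [])], []⟩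
def c1546 : Clm := ⟨10, 8, true, [1,4,1,4,1,4,4,1,4,4,1,4,9], [1,4,1,4,4,1,4,4,1,5,1,4,4,1,4,4,1,4,6,13,1], 11, [([], 1330, [1,4,1,4,1,4,4,1,4,4,1,4]), ([72,40,79], 360, [4,1,4,1,4,4,1,4,4,1,4,1,4,4,1,5,1,5,1,4]), ([357], 689, [1,4,1,4,1,4,1,4,4,1,5,1,4,1,4,1,4,4,1,5,1,4,1])], []⟩
def c1547 : Clm := ⟨8, 10, true, [1,4,1,4,4,1,4,4,1,5,1,4,4,1,4,4,1,4,6,13,1], [1,4,1,4,1,4,4,1,4,4,1,4,9], 5, [([], 1546, [])], []⟩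
def c1548 : Clm := ⟨10, 10, true, [4,1,4,4,1,4,1,4,4,1,4,4,1,9], [4,1,5,1,5,1,5,1,5,1,5,1,4,1,4,4,1,4,13,4], 11, [([], 1330, [4,1,4,4,1,4,1,4,4,1,4,4,1]), ([44,40,78], 131, [1,4,1,4,4,1,4,4,1,4,1,5,1,4,1,4]), ([282,264,264], 1348, [4,4,1,4,1,4,1,4,1,4,1,4,1,4,1,4])], []⟩
def c1549 : Clm := ⟨10, 10, true, [4,1,5,1,5,1,5,1,5,1,5,1,4,1,4,4,1,4,13,4], [4,1,4,4,1,4,1,4,4,1,4,4,1,9], 5, [([], 1548, [])], []⟩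
def c1550 : Clm := ⟨10, 8, true, [4,4,1,5,1,5,1,4,4,1,4,1,4,9], [4,1,4,4,1,4,4,1,4,1,5,1,5,1,5,1,5,1,4,1,4,2,1,6], 11, [([], 1330, [4,4,1,5,1,5,1,4,4,1,4,1,4]), ([78,44], 360, [5,1,4,1,4,4,1,4,1,4,1,5,1,4,1,4,4,1,5]), ([], 265, [1,4,4,1,4,4,1,5,1,5,1,4,1,4,4,1,4,4,1,4])], []⟩
def c1551 : Clm := ⟨8, 10, true, [4,1,4,4,1,4,4,1,4,1,5,1,5,1,5,1,5,1,4,1,4,2,1,6], [4,4,1,5,1,5,1,4,4,1,4,1,4,9], 5, [([], 1550, [])], []⟩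
def c1552 : Clm := ⟨10, 8, true, [4,4,1,4,4,1,4,4,1,5,1,9], [1,4,1,4,4,1,4,1,5,1,4,1,5,3,5,9], 11, [([], 1330, [4,4,1,4,4,1,4,4,1,5,1]), ([78,46,44,40], 234, [4,1,4,1,4,1,4,1,4,1,5,1,4,1,5,1,5,1,5,1,4]), ([], 931, [5,1,4,1,4,4,1,4,1,5,1,5,1,4,4,1,4,4,1,4,1,4])], []⟩
def c1553 : Clm := ⟨8, 10, true, [1,4,1,4,4,1,4,1,5,1,4,1,5,3,5,9], [4,4,1,4,4,1,4,4,1,5,1,9], 5, [([], 1552, [])], []⟩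
def c1554 : Clm := ⟨10, 8, true, [4,1,5,1,4,4,1,4,4,1,5,1,9], [5,1,4,4,1,5,1,5,1,5,1,5,1,4,1,4,3,12,14], 11, [([], 1330, [4,1,5,1,4,4,1,4,4,1,5,1]), ([47,66,79,40], 1331, [1,4,1,4,1,4,1,5,1,5,1,5,1,5,1,4,1,5,1,4,1]), ([2688,2840,2688], 1382, [4,1,5,1,5,1,5,1,4,1,4,4,1,5,1,4,4,1])], []⟩
def c1555 : Clm := ⟨8, 10, true, [5,1,4,4,1,5,1,5,1,5,1,5,1,4,1,4,3,12,14], [4,1,5,1,4,4,1,4,4,1,5,1,9], 5, [([], 1554, [])], []⟩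
def c1556 : Clm := ⟨10, 10, true, [1,4,1,5,1,5,1,5,1,5,1,5,1,5,1,9], [5,1,4,1,4,1,5,1,4,1,4,4,1,5,1,4,4,1,9], 11, [([], 1330, [1,4,1,5,1,5,1,5,1,5,1,5,1,5,1]), ([79,66], 41, [4,1,5,1,4,1,4,4,1,4,4,1,4,4,1,4]), ([73,47,79], 1331, [1,5,1,4,4,1,4,1,4,4,1,4,1])], []⟩
def c1557 : Clm := ⟨10, 8, true, [5,1,5,1,4,1,5,1,4,1,4,1,5,1,9], [4,4,1,5,1,4,1,4,1,4,1,4,4,1,5,1,5,1,4,9,11,2,9], 11, [([], 1330, [5,1,5,1,4,1,5,1,4,1,4,1,5,1]), ([44,78,40], 1001, [5,1,4,4,1,5,1,4,1,4,1,4,1,4,1,4,1,5,1]), ([], 1146, [4,1,5,1,4,4,1,4,1,4,1,5,1,4,4,1,4,4,1])], []⟩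
def c1558 : Clm := ⟨8, 10, true, [4,4,1,5,1,4,1,4,1,4,1,4,4,1,5,1,5,1,4,9,11,2,9], [5,1,5,1,4,1,5,1,4,1,4,1,5,1,9], 5, [([], 1557, [])], []⟩
def c1559 : Clm := ⟨10, 8, true, [1,4,4,1,4,4,1,5,1,4,4,1,5,1,5,1,9], [4,1,5,1,4,4,1,4,1,4,1,5,1,5,1,4,1,4,1,4,4,10,7,11,11], 11, [([], 1330, [1,4,4,1,4,4,1,5,1,4,4,1,5,1,5,1]), ([46,44,42], 125, [4,1,4,1,5,1,4,4,1,4,1,5,1,5,1,5,1,5]), ([229,241,229], 315, [4,1,4,1,5,1,5,1,5,1,4,1,4,1,4,4,1,4,1,5])], []⟩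
def c1560 : Clm := ⟨8, 10, true, [4,1,5,1,4,4,1,4,1,4,1,5,1,5,1,4,1,4,1,4,4,10,7,11,11], [1,4,4,1,4,4,1,5,1,4,4,1,5,1,5,1,9], 5, [([], 1559, [])], []⟩
def c1561 : Clm := ⟨10, 8, true, [5,1,4,1,4,1,5,1,5,1,4,1,4,1,9], [1,4,1,4,1,4,1,5,1,4,1,4,4,1,4,1,4,4,1,4,1,5,1,4,7,9,5,14], 11, [([], 1330, [5,1,4,1,4,1,5,1,5,1,4,1,4,1]), ([47,42,40], 360, [1,5,1,5,1,5,1,5,1,4,1,5,1,4,1,5,1,4,4]), ([357], 657, [1,4,4,1,4,1,4,1,4,1,4,4,1,4,1,5,1,4,1])], []⟩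
def c1562 : Clm := ⟨8, 10, true, [1,4,1,4,1,4,1,5,1,4,1,4,4,1,4,1,4,4,1,4,1,5,1,4,7,9,5,14], [5,1,4,1,4,1,5,1,5,1,4,1,4,1,9], 5, [([], 1561, [])], []⟩
def c1563 : Clm := ⟨10, 9, true, [4,1,5,1,4,1,4,1,4,1,4,1,9], [5,1,5,1,5,1,4,1,5,1,4,4,1,5,1,4,1,4,4,1,4,4,9], 11, [([], 1330, [4,1,5,1,4,1,4,1,4,1,4,1]), ([66,79], 41, [1,4,1,4,1,4,1,4,1,4,4,1,4,1,4,4,1,4,1,4,4,1,4]), ([78,73,73], 1001, [4,1,4,1,4,1,4,4,1,4,1,4,4,1,4,1,4,1,4,4,1])], []⟩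
def c1564 : Clm := ⟨9, 10, true, [5,1,5,1,5,1,4,1,5,1,4,4,1,5,1,4,1,4,4,1,4,4,9], [4,1,5,1,4,1,4,1,4,1,4,1,9], 5, [([], 1563, [])], []⟩
def c1565 : Clm := ⟨5, 10, true, [1,4,1,5,1,4,1,4,1,4,4,1,4,4,1,4,1,5,1,4,1,4,2,1,12,3], [1,4,1,5,1,5,1,4,1,4,1,5,1,5,1,5,1,5,1,8], 9, [([], 1363, [1,4,4,1,5,1,4,1,4,4,1,4,1,4,1,4,1]), ([2688,2840], 1330, [4,1,4,4,1,4,1,5,1,4,1]), ([72,46], 1331, [1,4,1,5,1,5,1,4,1,4,1,5,1,5,1,5,1,5,1])], []⟩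
def c1566 : Clm := ⟨10, 5, true, [1,4,1,5,1,5,1,4,1,4,1,5,1,5,1,5,1,5,1,8], [1,4,1,5,1,4,1,4,1,4,4,1,4,4,1,4,1,5,1,4,1,4,2,1,12,3], 5, [([], 1565, [])], []⟩
def c1567 : Clm := ⟨10, 8, true, [1,4,1,4,1,4,1,4,1,4,4,1,4,4,1,9], [4,1,5,1,4,1,4,4,1,5,1,5,1,4,1,4,1,5,6,8,1,14], 11, [([], 1330, [1,4,1,4,1,4,1,4,1,4,4,1,4,4,1]), ([78,72], 845, [5,1,4,4,1,4,1,4,4,1,5,1,4,4,1,5,1,5,1]), ([], 994, [1,5,1,5,1,4,1,4,4,1,4,1,5,1,4,4,1,5,1,4,4])], []⟩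
def c1568 : Clm := ⟨8, 10, true, [4,1,5,1,4,1,4,4,1,5,1,5,1,4,1,4,1,5,6,8,1,14], [1,4,1,4,1,4,1,4,1,4,4,1,4,4,1,9], 5, [([], 1567, [])], []⟩
def c1569 : Clm := ⟨10, 8, true, [4,1,4,1,5,1,4,4,1,4,4,1,4,1,9], [4,1,5,1,4,4,1,4,1,4,4,1,4,4,1,4,1,5,1,8,14,13,11], 11, [([], 1330, [4,1,4,1,5,1,4,4,1,4,4,1,4,1]), ([78,47,42], 177, [1,5,1,5,1,4,1,4,1,4,4,1,4,4,1,4,1,4,4,1,4]), ([356], 481, [1,4,1,4,1,5,1,4,4,1,4,1,4,4,1,4,1,4,4])], []⟩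
def c1570 : Clm := ⟨8, 10, true, [4,1,5,1,4,4,1,4,1,4,4,1,4,4,1,4,1,5,1,8,14,13,11], [4,1,4,1,5,1,4,4,1,4,4,1,4,1,9], 5, [([], 1569, [])], []⟩
def c1571 : Clm := ⟨10, 10, true, [4,1,4,4,1,9], [4,1,4,1,4,1,5,1,4,4,7,1,4,11], 11, [([], 1330, [4,1,4,4,1]), ([40,79,42], 125, [4,1,4,4,1,4,1,4,4,1,5,1,5,1,4,4]), ([230,228,240,226], 1393, [5,1,4,1,4,1,4,1,4,4,1,5,1,5,1,4,4,1])], []⟩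
def c1572 : Clm := ⟨10, 10, true, [4,1,4,1,4,1,5,1,4,4,7,1,4,11], [4,1,4,4,1,9], 5, [([], 1571, [])], []⟩
def c1573 : Clm := ⟨10, 8, true, [4,1,9], [4,1,5,1,5,1,4,1,4,4,1,4,1,4,1,5,1,7,1,13], 11, [([], 1330, [4,1]), ([73,73,40], 360, [4,1,5,1,4,4,1,5,1,5,1,4,1,5,1,4,1,4,1,4,1]), ([357], 352, [4,1,4,1,4,4,1,4,1,5,1,4,4,1,4,4,1,5])], []⟩
def c1574 : Clm := ⟨8, 10, true, [4,1,5,1,5,1,4,1,4,4,1,4,1,4,1,5,1,7,1,13], [4,1,9], 5, [([], 1573, [])], []⟩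
def c1575 : Clm := ⟨10, 8, true, [5,1,4,1,4,1,4,1,4,1,4,1,9], [1,4,4,1,4,1,4,1,5,1,5,1,4,1,4,1,4,4,1,4,4,1,5,12,11,6], 11, [([], 1330, [5,1,4,1,4,1,4,1,4,1,4,1]), ([66,47,42], 51, [1,4,4,1,4,1,4,4,1,4,1,5,1,5,1,4,4,1,4]), ([92,92,90,88], 608, [1,5,1,4,1,5,1,5,1,4,1,5,1,4,4,1,4,4,1,5])], []⟩
def c1576 : Clm := ⟨8, 10, true, [1,4,4,1,4,1,4,1,5,1,5,1,4,1,4,1,4,4,1,4,4,1,5,12,11,6], [5,1,4,1,4,1,4,1,4,1,4,1,9], 5, [([], 1575, [])], []⟩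
def c1577 : Clm := ⟨10, 10, true, [4,1,4,4,1,4,4,1,4,4,1,4,4,1,4,9], [1,4,1,4,4,1,5,1,5,1,5,1,4,4,1,4,1,4,4,1,4,6,4,6,3], 11, [([], 1330, [4,1,4,4,1,4,4,1,4,4,1,4,4,1,4]), ([46,72,40], 177, [4,1,4,1,4,1,4,1,5,1,5,1,4,1,4,1,5,1,4,1,4,1]), ([], 1554, [4,4,1,4,1,4,1,4,4,1,4,4,1,4,4,1,4,1,4,1,4])], []⟩
def c1578 : Clm := ⟨10, 10, true, [1,4,1,4,4,1,5,1,5,1,5,1,4,4,1,4,1,4,4,1,4,6,4,6,3], [4,1,4,4,1,4,4,1,4,4,1,4,4,1,4,9], 5, [([], 1577, [])], []⟩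
def c1579 : Clm := ⟨10, 9, true, [4,4,1,4,4,1,9], [1,4,4,1,4,1,5,1,4,4,1,4,4,1,5,1,5,1,4,10,12,5], 11, [([], 1330, [4,4,1,4,4,1]), ([79,72,42,40], 360, [1,5,1,5,1,4,1,4,4,1,5,1,5,1,5,1,4,1,4,4]), ([357], 1244, [1,4,1,4,4,1,5,1,5,1,4,4,1,4,1,4,1,4,4])], []⟩
def c1580 : Clm := ⟨9, 10, true, [1,4,4,1,4,1,5,1,4,4,1,4,4,1,5,1,5,1,4,10,12,5], [4,4,1,4,4,1,9], 5, [([], 1579, [])], []⟩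
def c1581 : Clm := ⟨10, 8, true, [4,1,4,1,4,1,4,1,4,1,4,1,4,1,9], [1,5,1,4,4,1,5,1,4,1,5,1,5,1,4,4,1,5,1,4,1,4,4,2,7,10], 11, [([], 1330, [4,1,4,1,4,1,4,1,4,1,4,1,4,1]), ([72,78,44,40], 360, [4,1,4,4,1,5,1,4,1,5,1,4,1,5,1,4,1,5,1,4,4,1,5]), ([357], 628, [1,4,1,5,1,4,1,4,1,4,4,1,5,1,4,1,4,4,1,4])], []⟩
def c1582 : Clm := ⟨8, 10, true, [1,5,1,4,4,1,5,1,4,1,5,1,5,1,4,4,1,5,1,4,1,4,4,2,7,10], [4,1,4,1,4,1,4,1,4,1,4,1,4,1,9], 5, [([], 1581, [])], []⟩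
def c1583 : Clm := ⟨8, 10, true, [4,1,4,1,4,1,4,1,4,4,1,5,1,4,1,4,1,5,1,4,13,8,2], [1,5,1,5,1,4,4,1,4,4,1,5,1,4,1,4,4,1,4,4,1,8], 9, [([], 1493, [1,4,4,1,5,1,4,1,5,1,4,4,1,4]), ([2688,2840,2688], 1330, [4,4,1,4,4,1,4,4,1,4,4,1,4]), ([79,47,72,40], 1331, [1,5,1,5,1,4,4,1,4,4,1,5,1,4,1,4,4,1,4,4,1])], []⟩
def c1584 : Clm := ⟨10, 8, true, [1,5,1,5,1,4,4,1,4,4,1,5,1,4,1,4,4,1,4,4,1,8], [4,1,4,1,4,1,4,1,4,4,1,5,1,4,1,4,1,5,1,4,13,8,2], 5, [([], 1583, [])], []⟩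
def c1585 : Clm := ⟨10, 10, true, [4,1,5,1,4,1,4,4,1,5,1,9], [4,1,4,1,4,4,1,4,1,4,1,5,1,4,1,5,1,4,1,4,1,4,1,8,1,5], 11, [([], 1330, [4,1,5,1,4,1,4,4,1,5,1]), ([79,44,78], 125, [5,1,5,1,5,1,4,1,4,1,4,4,1,4,4,1,4,1,5,1]), ([241,226], 1346, [1,5,1,4,1,4,4,1,4,1,5,1,4,1,4,1,5,1,5,1])], []⟩
def c1586 : Clm := ⟨10, 7, true, [1,5,1,4,1,4,1,4,4,1,4,4,1,9], [5,1,5,1,5,1,4,1,4,4,1,4,4,3,4,13,11], 11, [([], 1330, [1,5,1,4,1,4,1,4,4,1,4,4,1]), ([46,40,79], 360, [4,4,1,5,1,4,1,5,1,5,1,5,1,5,1,5,1,4,4,1,5]), ([357], 180, [1,5,1,4,4,1,4,1,5,1,5,1,4,1,5])], []⟩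
def c1587 : Clm := ⟨7, 10, true, [5,1,5,1,5,1,4,1,4,4,1,4,4,3,4,13,11], [1,5,1,4,1,4,1,4,4,1,4,4,1,9], 5, [([], 1586, [])], []⟩
def c1588 : Clm := ⟨10, 9, true, [5,1,4,1,4,4,1,5,1,4,1,4,1,9], [5,1,4,1,5,1,4,4,1,4,4,1,5,1,5,1,5,1,4,1,6,1,11], 11, [([], 1330, [5,1,4,1,4,4,1,5,1,4,1,4,1]), ([46], 118, [4,1,4,1,5,1,4,1,4,4,1,5,1,4,1,5,1]), ([227,240,226], 1011, [1,4,4,1,5,1,4,4,1,4,4,1,5,1,4,4])], []⟩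
def c1589 : Clm := ⟨9, 10, true, [5,1,4,1,5,1,4,4,1,4,4,1,5,1,5,1,5,1,4,1,6,1,11], [5,1,4,1,4,4,1,5,1,4,1,4,1,9], 5, [([], 1588, [])], []⟩
def c1590 : Clm := ⟨10, 8, true, [4,1,4,1,4,1,4,1,4,1,9], [5,1,5,1,5,1,4,4,1,4,4,1,5,1,5,1,5,3,4,8,4], 11, [([], 1330, [4,1,4,1,4,1,4,1,4,1]), ([78,42], 27, [4,4,1,4,4,1,5,1,4,1,4,1,5,1,4,1,5,1,4]), ([66,72,79], 234, [4,4,1,5,1,4,4,1,5,1,5,1,4,4,1,5,1,4,1,4])], []⟩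
def c1591 : Clm := ⟨8, 10, true, [5,1,5,1,5,1,4,4,1,4,4,1,5,1,5,1,5,3,4,8,4], [4,1,4,1,4,1,4,1,4,1,9], 5, [([], 1590, [])], []⟩
def c1592 : Clm := ⟨10, 10, true, [4,4,1,5,1,4,4,1,9], [1,4,4,1,5,1,5,1,4,1,5,1,4,4,1,4,1,4,1,4,4,1,5,9], 11, [([], 1330, [4,4,1,5,1,4,4,1]), ([40], 41, [1,4,1,5,1,4,1,5,1,4,4,1,4,4]), ([44,40], 1331, [1,4,1,4,1,4,4,1,4,1,4,1,5,1,4,1])], []⟩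
def c1593 : Clm := ⟨10, 8, true, [5,1,4,4,1,5,1,4,1,4,1,9], [1,5,1,4,1,5,1,4,1,4,1,5,1,4,1,5,1,4,1,5,1,5,6,12,7,10], 11, [([], 1330, [5,1,4,4,1,5,1,4,1,4,1]), ([79,42,40], 125, [4,1,5,1,5,1,5,1,5,1,5,1,4,1,4,4,1,5,1,5,1,4,4]), ([240,228,241], 809, [1,5,1,4,4,1,4,1,4,4,1,4,1,4,1,4,4])], []⟩
def c1594 : Clm := ⟨8, 10, true, [1,5,1,4,1,5,1,4,1,4,1,5,1,4,1,5,1,4,1,5,1,5,6,12,7,10], [5,1,4,4,1,5,1,4,1,4,1,9], 5, [([], 1593, [])], []⟩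
def c1595 : Clm := ⟨10, 8, true, [5,1,5,1,4,1,4,1,4,4,1,9], [1,4,1,4,1,4,1,4,1,5,1,5,1,4,1,5,1,4,4,1,5,3,8,4,14], 11, [([], 1330, [5,1,5,1,4,1,4,1,4,4,1]), ([40,78,66], 845, [1,4,1,5,1,4,1,4,1,4,1,4,4,1,5,1,4,1,4,1,4,4]), ([], 813, [4,4,1,4,1,4,1,5,1,4,1,4,4,1,4,1,5,1])], []⟩
def c1596 : Clm := ⟨8, 10, true, [1,4,1,4,1,4,1,4,1,5,1,5,1,4,1,5,1,4,4,1,5,3,8,4,14], [5,1,5,1,4,1,4,1,4,4,1,9], 5, [([], 1595, [])], []⟩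
def c1597 : Clm := ⟨10, 8, true, [5,1,4,1,4,1,4,4,1,5,1,9], [1,4,1,5,1,4,4,1,4,4,1,5,1,5,1,5,1,4,3,14,11], 11, [([], 1330, [5,1,4,1,4,1,4,4,1,5,1]), ([46,73,47], 1001, [4,1,4,1,5,1,5,1,4,1,4,4,1]), ([2197], 1146, [1,4,4,1,4,1,4,1,4,4,1,4,4,1,4,1,5,1,4,1])], []⟩
def c1598 : Clm := ⟨8, 10, true, [1,4,1,5,1,4,4,1,4,4,1,5,1,5,1,5,1,4,3,14,11], [5,1,4,1,4,1,4,4,1,5,1,9], 5, [([], 1597, [])], []⟩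
def c1599 : Clm := ⟨10, 8, true, [4,4,1,4,4,1,5,1,4,1,5,1,4,1,9], [5,1,5,1,5,1,5,1,5,1,4,1,4,4,1,6,3,4,1], 11, [([], 1330, [4,4,1,4,4,1,5,1,4,1,5,1,4,1]), ([44,42,79], 1001, [1,5,1,5,1,4,1,4,4,1,4,4,1,5,1,5,1,5,1,4,1,5]), ([2114,2010], 1260, [4,4,1,5,1,4,1,4,4,1,5,1,4,4,1,5,1,4,4])], []⟩
def c1600 : Clm := ⟨8, 10, true, [5,1,5,1,5,1,5,1,5,1,4,1,4,4,1,6,3,4,1], [4,4,1,4,4,1,5,1,4,1,5,1,4,1,9], 5, [([], 1599, [])], []⟩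
def c1601 : Clm := ⟨10, 8, true, [4,4,1,9], [1,5,1,4,1,5,1,4,4,1,4,1,4,4,9,13,4,8], 11, [([], 1330, [4,4,1]), ([73,79,66,42], 234, [1,5,1,4,1,4,4,1,4,4,1,4,4,1,4,1,4,1]), ([356], 477, [1,4,1,5,1,5,1,4,4,1,4,4,1,4,4,1,4,1,4,1,4,1])], []⟩
def c1602 : Clm := ⟨8, 10, true, [1,5,1,4,1,5,1,4,4,1,4,1,4,4,9,13,4,8], [4,4,1,9], 5, [([], 1601, [])], []⟩
def c1603 : Clm := ⟨10, 8, true, [1,5,1,4,4,1,4,4,1,4,1,4,1,4,1,9], [4,1,5,1,4,1,4,4,1,4,4,1,5,1,4,13,5,9], 11, [([], 1330, [1,5,1,4,4,1,4,4,1,4,1,4,1,4,1]), ([72,46,46], 177, [4,1,4,4,1,5,1,4,1,5,1,5,1,4,4,1,4,1,4,1]), ([357], 270, [5,1,5,1,5,1,4,1,4,1,4,4,1,5,1,4,1,4])], []⟩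
def c1604 : Clm := ⟨8, 10, true, [4,1,5,1,4,1,4,4,1,4,4,1,5,1,4,13,5,9], [1,5,1,4,4,1,4,4,1,4,1,4,1,4,1,9], 5, [([], 1603, [])], []⟩
def c1605 : Clm := ⟨10, 10, true, [4,1,4,1,4,4,1,4,4,1,4,4,1,9], [5,1,4,4,1,4,1,4,4,1,4,1,4,1,4,4,1,5,1,5,1,7,10,10,13], 11, [([], 1330, [4,1,4,1,4,4,1,4,4,1,4,4,1]), ([40,78,66,46], 234, [1,4,4,1,4,1,4,1,4,4,1,5,1,4,4,1,5,1]), ([357], 1530, [1,5,1,4,4,1,4,4,1,5,1,5,1,4,1,4,4,1,4,4,1])], []⟩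
def c1606 : Clm := ⟨10, 8, true, [4,1,4,4,1,5,1,4,4,1,5,1,9], [1,5,1,5,1,5,1,4,1,5,1,4,1,5,3,13,2], 11, [([], 1330, [4,1,4,4,1,5,1,4,4,1,5,1]), ([40,79,72], 1331, [1,4,1,5,1,4,1,4,1,4,1,4,1,4,1,4,1,4,1]), ([], 1562, [1,4,1,4,1,4,4,1,4,1,5,1,4,1,5,1,4,1,4,1,4])], []⟩
def c1607 : Clm := ⟨8, 10, true, [1,5,1,5,1,5,1,4,1,5,1,4,1,5,3,13,2], [4,1,4,4,1,5,1,4,4,1,5,1,9], 5, [([], 1606, [])], []⟩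
def c1608 : Clm := ⟨10, 8, true, [4,1,5,1,5,1,5,1,5,1,5,1,5,1,9], [4,1,4,1,4,1,4,1,5,1,4,1,4,4,1,5,1,5,1,5,1,2,1,10,4], 11, [([], 1330, [4,1,5,1,5,1,5,1,5,1,5,1,5,1]), ([72,66,46,40], 360, [1,4,4,1,4,4,1,4,4,1,4,4,1,4,4,1,5,1,4,1,5]), ([], 384, [1,4,1,4,1,5,1,5,1,5,1,5,1,4,1,5,1,4,1,4,4])], []⟩
def c1609 : Clm := ⟨8, 10, true, [4,1,4,1,4,1,4,1,5,1,4,1,4,4,1,5,1,5,1,5,1,2,1,10,4], [4,1,5,1,5,1,5,1,5,1,5,1,5,1,9], 5, [([], 1608, [])], []⟩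
def c1610 : Clm := ⟨10, 8, true, [4,1,4,4,1,4,4,1,4,4,1,4,4,1,9], [4,4,1,4,1,5,1,5,1,4,1,5,1,5,1,4,4,1,7,9,4,7], 11, [([], 1330, [4,1,4,4,1,4,4,1,4,4,1,4,4,1]), ([78], 1001, [1,4,1,4,4,1,4,1,4,4,1,4,1,4,4,1,4,1,4,4,1,4,1]), ([], 1260, [1,5,1,4,4,1,4,1,5,1,5,1,4,4,1,4,4])], []⟩
def c1611 : Clm := ⟨8, 10, true, [4,4,1,4,1,5,1,5,1,4,1,5,1,5,1,4,4,1,7,9,4,7], [4,1,4,4,1,4,4,1,4,4,1,4,4,1,9], 5, [([], 1610, [])], []⟩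
def c1612 : Clm := ⟨10, 10, true, [1,5,1,4,4,1,5,1,5,1,4,4,1,5,1,5,1,4,2,8,3,10], [4,1,4,1,5,1,5,1,5,1,4,4,1,4,1,4,1,4,1,4,4,8], 9, [([], 1366, [5,1,4,1,5,1,5,1,5,1,5,1,4,4,1,5,1,4,1,4]), ([2840], 1330, [4,1,4,4,1,5,1,4,1,5,1,4,1]), ([42,40,78], 1331, [4,1,4,1,5,1,5,1,5,1,4,4,1,4,1,4,1,4,1,4,4])], []⟩
def c1613 : Clm := ⟨10, 10, true, [4,1,4,1,5,1,5,1,5,1,4,4,1,4,1,4,1,4,1,4,4,8], [1,5,1,4,4,1,5,1,5,1,4,4,1,5,1,5,1,4,2,8,3,10], 5, [([], 1612, [])], []⟩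
def c1614 : Clm := ⟨10, 9, true, [1,4,1,4,1,4,4,1,4,1,5,1,5,1,4,9], [1,5,1,4,1,5,1,5,1,5,1,4,8,11,9], 11, [([], 1330, [1,4,1,4,1,4,4,1,4,1,5,1,5,1,4]), ([47,78,73], 100, [5,1,4,1,4,4,1,4,1,5,1,4,1,4,1,4,4,1,4,4,1]), ([158,92,88], 1032, [1,4,4,1,5,1,4,1,4,1,5,1,5,1,4,1])], []⟩
def c1615 : Clm := ⟨9, 10, true, [1,5,1,4,1,5,1,5,1,5,1,4,8,11,9], [1,4,1,4,1,4,4,1,4,1,5,1,5,1,4,9], 5, [([], 1614, [])], []⟩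
def c1616 : Clm := ⟨10, 8, true, [1,4,4,1,5,1,5,1,5,1,4,9], [4,1,5,1,5,1,4,4,1,5,1,4,4,1,5,1,5,1,5,2,7,1,5], 11, [([], 1330, [1,4,4,1,5,1,5,1,5,1,4]), ([78,72,47], 1331, [5,1,5,1,4,1,5,1,4,1,4,4,1,5,1,5,1,5,1,5]), ([2688], 1426, [1,5,1,4,4,1,5,1,5,1,4,4,1,4,4,1,5,1,4,1,4,1,5])], []⟩
def c1617 : Clm := ⟨8, 10, true, [4,1,5,1,5,1,4,4,1,5,1,4,4,1,5,1,5,1,5,2,7,1,5], [1,4,4,1,5,1,5,1,5,1,4,9], 5, [([], 1616, [])], []⟩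
def c1618 : Clm := ⟨10, 8, true, [1,4,1,5,1,4,1,4,1,5,1,4,4,1,5,1,4,1,8], [1,4,1,5,1,5,1,4,1,5,1,4,1,4,1,4,1,4,1,4,3,5,3,7,3], 9, [([], 1359, [4,4,1,5,1,4,1,4,1,4,1,4,4,1,5,1,4,1,4,4,1]), ([2688], 1330, [4,4,1,4,1,4,1,4,1,4,1,4,4,1]), ([79,73], 360, [1,4,4,1,4,1,5,1,4,1,4,4,1,4,1,4,1,4,4,1])], []⟩
def c1619 : Clm := ⟨8, 10, true, [1,4,1,5,1,5,1,4,1,5,1,4,1,4,1,4,1,4,1,4,3,5,3,7,3], [1,4,1,5,1,4,1,4,1,5,1,4,4,1,5,1,4,1,8], 5, [([], 1618, [])], []⟩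
def c1620 : Clm := ⟨10, 10, true, [4,4,1,5,1,4,4,1,4,9], [4,1,5,1,4,1,4,1,5,1,5,1,5,1,4,1,9], 11, [([], 1330, [4,4,1,5,1,4,4,1,4]), ([78], 29, [1,5,1,4,1,5,1,5,1,4,4,1,4]), ([66,73,79], 1331, [1,4,1,4,1,4,1,4,1,5,1,5,1,4,1,4,1,5,1])], []⟩
def c1621 : Clm := ⟨10, 10, true, [4,1,5,1,4,1,4,1,5,1,5,1,5,1,4,1,9], [4,4,1,5,1,4,4,1,4,9], 5, [([], 1620, [])], []⟩
def c1622 : Clm := ⟨10, 9, true, [1,5,1,5,1,4,1,4,1,4,1,9], [5,1,4,1,5,1,4,1,4,1,4,4,1,4,1,4,4,6,2,5,12], 11, [([], 1330, [1,5,1,5,1,4,1,4,1,4,1]), ([73,78,47,40], 1331, [1,4,1,4,4,1,4,4,1,4,1,5,1,4,4,1,5,1,4,4]), ([2688], 1512, [1,4,1,4,4,1,4,1,4,4,1,4,1,4,1,5,1,5,1,4])], []⟩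
def c1623 : Clm := ⟨9, 10, true, [5,1,4,1,5,1,4,1,4,1,4,4,1,4,1,4,4,6,2,5,12], [1,5,1,5,1,4,1,4,1,4,1,9], 5, [([], 1622, [])], []⟩
def c1624 : Clm := ⟨10, 8, true, [5,1,4,4,1,5,1,4,4,1,5,1,5,1,9], [5,1,4,1,5,1,4,1,5,1,4,1,9,9,1,10], 11, [([], 1330, [5,1,4,4,1,5,1,4,4,1,5,1,5,1]), ([78,72,42], 845, [1,4,1,4,1,4,1,4,1,4,1,4,1,5,1,4,4,1,4,4,1,5,1,4]), ([], 263, [4,1,4,1,4,1,4,4,1,5,1,5,1,4,4,1,5,1,5])], []⟩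
def c1625 : Clm := ⟨8, 10, true, [5,1,4,1,5,1,4,1,5,1,4,1,9,9,1,10], [5,1,4,4,1,5,1,4,4,1,5,1,5,1,9], 5, [([], 1624, [])], []⟩
def c1626 : Clm := ⟨10, 8, true, [4,1,4,1,5,1,4,1,4,1,5,1,9], [1,4,1,4,1,5,1,5,1,4,1,4,4,1,4,4,1,4,1,4,1,6,3,4,2], 11, [([], 1330, [4,1,4,1,5,1,4,1,4,1,5,1]), ([42,73,46], 234, [4,1,5,1,4,4,1,4,1,4,1,5,1,5,1]), ([356], 404, [4,1,4,1,4,1,4,1,5,1,4,1,4,4,1,4,1,4,1,5])], []⟩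
def c1627 : Clm := ⟨8, 10, true, [1,4,1,4,1,5,1,5,1,4,1,4,4,1,4,4,1,4,1,4,1,6,3,4,2], [4,1,4,1,5,1,4,1,4,1,5,1,9], 5, [([], 1626, [])], []⟩
def c1628 : Clm := ⟨10, 8, true, [1,4,1,5,1,5,1,5,1,5,1,9], [4,4,1,4,4,1,4,1,5,1,4,1,4,1,5,1,4,4,1,6,13,10,9], 11, [([], 1330, [1,4,1,5,1,5,1,5,1,5,1]), ([42,46], 177, [1,4,1,4,1,5,1,4,4,1,5,1,4,1,4,1,4,1]), ([356], 250, [1,4,1,5,1,4,1,5,1,5,1,4,4,1,5,1,4,1,4,1])], []⟩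
def c1629 : Clm := ⟨8, 10, true, [4,4,1,4,4,1,4,1,5,1,4,1,4,1,5,1,4,4,1,6,13,10,9], [1,4,1,5,1,5,1,5,1,5,1,9], 5, [([], 1628, [])], []⟩
def c1630 : Clm := ⟨10, 8, true, [4,1,4,1,5,1,5,1,4,9], [4,1,4,4,1,4,4,1,5,1,4,4,1,4,1,5,1,5,1,2,8,11,12], 11, [([], 1330, [4,1,4,1,5,1,5,1,4]), ([44,73,66], 360, [1,5,1,4,1,4,4,1,4,4,1,4,1,5,1,5,1,4]), ([357], 867, [1,4,1,5,1,4,4,1,4,1,4,4,1,5,1,4,1,5])], []⟩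
def c1631 : Clm := ⟨8, 10, true, [4,1,4,4,1,4,4,1,5,1,4,4,1,4,1,5,1,5,1,2,8,11,12], [4,1,4,1,5,1,5,1,4,9], 5, [([], 1630, [])], []⟩
def c1632 : Clm := ⟨10, 9, true, [1,4,4,1,4,1,5,1,4,1,9], [4,4,1,4,4,1,4,1,5,1,4,4,1,5,1,4,4,1,5,2,4,1,9], 11, [([], 1330, [1,4,4,1,4,1,5,1,4,1]), ([79,47,72], 1001, [4,1,5,1,4,1,4,4,1,4,1,5,1,5,1,4,4,1,4,4]), ([2196,2004], 1168, [5,1,4,1,4,4,1,5,1,4,1,5,1,4,4,1,4,1,4,1,5,1])], []⟩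
def c1633 : Clm := ⟨9, 10, true, [4,4,1,4,4,1,4,1,5,1,4,4,1,5,1,4,4,1,5,2,4,1,9], [1,4,4,1,4,1,5,1,4,1,9], 5, [([], 1632, [])], []⟩
def c1634 : Clm := ⟨10, 9, true, [1,4,1,4,1,4,9], [4,1,4,4,1,4,4,1,4,1,4,4,1,5,1,5,1,5,1,4,1,3,6,5,10], 11, [([], 1330, [1,4,1,4,1,4]), ([72,42], 1331, [4,1,4,1,5,1,5,1,5,1,4,1,4,4,1,4,1]), ([2688,2840,2688], 1400, [4,1,4,1,4,4,1,4,1,5,1,5,1,4,4,1,4,4,1,4,1])], []⟩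
def c1635 : Clm := ⟨9, 10, true, [4,1,4,4,1,4,4,1,4,1,4,4,1,5,1,5,1,5,1,4,1,3,6,5,10], [1,4,1,4,1,4,9], 5, [([], 1634, [])], []⟩
def c1636 : Clm := ⟨10, 8, true, [4,1,4,4,1,5,1,4,4,1,5,1,5,1,9], [1,4,4,1,5,1,5,1,4,4,1,4,1,5,1,4,4,1,5,2,12,11,4], 11, [([], 1330, [4,1,4,4,1,5,1,4,4,1,5,1,5,1]), ([78,47], 51, [1,5,1,4,4,1,4,4,1,5,1,4,1,4,1,5,1,4,4]), ([92,92,88], 638, [1,5,1,5,1,4,1,5,1,4,1,5,1,5,1,5,1,5,1,5,1])], []⟩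
def c1637 : Clm := ⟨8, 10, true, [1,4,4,1,5,1,5,1,4,4,1,4,1,5,1,4,4,1,5,2,12,11,4], [4,1,4,4,1,5,1,4,4,1,5,1,5,1,9], 5, [([], 1636, [])], []⟩
def c1638 : Clm := ⟨10, 9, true, [9], [1,4,1,5,1,4,1,4,4,1,4,1,4,4,1,4,1,5,1,4,1,4,1,4,2,7,1,5], 11, [([], 1330, []), ([79,47,44], 234, [4,1,4,4,1,4,4,1,5,1,4,1,4,1,4,1,4,1,4,1]), ([], 1067, [1,5,1,4,1,4,1,4,4,1,5,1,4,1,5,1,4,1,5,1,4,1,5])], []⟩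
def c1639 : Clm := ⟨9, 10, true, [1,4,1,5,1,4,1,4,4,1,4,1,4,4,1,4,1,5,1,4,1,4,1,4,2,7,1,5], [9], 5, [([], 1638, [])], []⟩
def c1640 : Clm := ⟨10, 8, true, [4,1,4,1,5,1,4,4,1,4,4,1,4,4,1,9], [4,1,4,4,1,5,1,4,1,5,1,4,1,5,1,4,4,1,8,12,7,5], 11, [([], 1330, [4,1,4,1,5,1,4,4,1,4,4,1,4,4,1]), ([72,79], 360, [1,4,4,1,5,1,4,1,5,1,4,4,1,5,1,5,1]), ([], 737, [1,4,4,1,4,1,4,1,5,1,4,1,5,1,4,4,1,4,4,1])], []⟩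
def c1641 : Clm := ⟨8, 10, true, [4,1,4,4,1,5,1,4,1,5,1,4,1,5,1,4,4,1,8,12,7,5], [4,1,4,1,5,1,4,4,1,4,4,1,4,4,1,9], 5, [([], 1640, [])], []⟩
def c1642 : Clm := ⟨10, 10, true, [1,5,1,5,1,4,4,1,4,4,1,4,1,9], [1,5,1,4,1,4,1,4,1,4,1,5,1,4,4,1,5,1,5,1,9], 11, [([], 1330, [1,5,1,5,1,4,4,1,4,4,1,4,1]), ([66,46], 27, [1,4,1,4,1,4,4,1,4,4,1,4,1,4,4,1,5,1,5]), ([72,46,73], 1331, [5,1,4,1,5,1,4,1,4,1,4,4,1,4,1,4,4,1,5,1,4])], []⟩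
def c1643 : Clm := ⟨10, 9, true, [1,4,1,4,1,4,1,4,1,9], [1,4,1,4,1,4,1,4,4,1,5,1,4,1,4,1,5,1,4,1,4,2,10,10,2], 11, [([], 1330, [1,4,1,4,1,4,1,4,1]), ([42,72,40], 177, [4,1,5,1,4,1,4,1,4,4,1,4,1,4,4,1,5,1,4,4,1]), ([356], 1209, [1,4,4,1,4,1,4,4,1,5,1,5,1,4,4,1,4,4])], []⟩
def c1644 : Clm := ⟨9, 10, true, [1,4,1,4,1,4,1,4,4,1,5,1,4,1,4,1,5,1,4,1,4,2,10,10,2], [1,4,1,4,1,4,1,4,1,9], 5, [([], 1643, [])], []⟩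
def c1645 : Clm := ⟨10, 8, true, [4,1,4,1,4,1,5,1,4,9], [5,1,4,1,5,1,4,1,5,1,4,1,5,1,4,1,5,1,4,4,13,1], 11, [([], 1330, [4,1,4,1,4,1,5,1,4]), ([72,78], 122, [1,4,4,1,4,1,4,1,4,4,1,4,1,4,1,4,1]), ([240,227], 819, [1,5,1,4,4,1,5,1,4,1,4,1,4,4,1,4,4,1,4])], []⟩
def c1646 : Clm := ⟨8, 10, true, [5,1,4,1,5,1,4,1,5,1,4,1,5,1,4,1,5,1,4,4,13,1], [4,1,4,1,4,1,5,1,4,9], 5, [([], 1645, [])], []⟩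
def c1647 : Clm := ⟨10, 8, true, [4,1,5,1,5,1,4,4,1,4,1,4,9], [1,5,1,5,1,4,1,5,1,4,1,4,1,5,1,5,1,5,1,4,1,6,2,7,11], 11, [([], 1330, [4,1,5,1,5,1,4,4,1,4,1,4]), ([44,66,78], 234, [1,4,1,5,1,4,4,1,4,1,4,4,1,5,1,4,4,1,5,1,5,1]), ([356], 568, [4,1,5,1,4,4,1,5,1,5,1,5,1,4,1,4,4,1,4,4])], []⟩
def c1648 : Clm := ⟨8, 10, true, [1,5,1,5,1,4,1,5,1,4,1,4,1,5,1,5,1,5,1,4,1,6,2,7,11], [4,1,5,1,5,1,4,4,1,4,1,4,9], 5, [([], 1647, [])], []⟩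
def c1649 : Clm := ⟨8, 10, true, [5,1,4,1,4,1,5,1,5,1,4,4,1,5,1,4,4,1,8], [1,4,1,4,1,5,1,4,1,5,1,5,1,5,1,5,1,5,1,4,8], 9, [([], 1375, [4,1,4,1,4,4,1,5,1,4,1,4,1,4,4,1,4,4,1,5]), ([2688], 1330, [4,4,1,4,1,4,1,4,1,4,1,5,1,5,1]), ([46,42,40], 1331, [1,4,1,4,1,5,1,4,1,5,1,5,1,5,1,5,1,5,1,4])], []⟩
def c1650 : Clm := ⟨10, 8, true, [1,4,1,4,1,5,1,4,1,5,1,5,1,5,1,5,1,5,1,4,8], [5,1,4,1,4,1,5,1,5,1,4,4,1,5,1,4,4,1,8], 5, [([], 1649, [])], []⟩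
def c1651 : Clm := ⟨10, 8, true, [4,1,5,1,4,1,5,1,4,1,9], [1,5,1,4,1,4,4,1,5,1,4,4,1,5,1,5,1,4,1,4,1,4,10,3,9,13], 11, [([], 1330, [4,1,5,1,4,1,5,1,4,1]), ([72,72,47], 234, [1,5,1,4,4,1,5,1,4,1,4,1,4,1,4,4,1,4,4,1,5]), ([356], 723, [5,1,4,1,4,1,5,1,4,4,1,5,1,4,4,1,4,1,5])], []⟩
def c1652 : Clm := ⟨8, 10, true, [1,5,1,4,1,4,4,1,5,1,4,4,1,5,1,5,1,4,1,4,1,4,10,3,9,13], [4,1,5,1,4,1,5,1,4,1,9], 5, [([], 1651, [])], []⟩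
def c1653 : Clm := ⟨10, 9, true, [1,4,1,4,4,1,4,1,4,1,4,1,4,1,4,9], [1,4,1,4,1,5,1,4,1,5,1,4,4,1,4,1,4,1,2,10,10,13], 11, [([], 1330, [1,4,1,4,4,1,4,1,4,1,4,1,4,1,4]), ([44,66,72], 1331, [5,1,4,1,5,1,4,4,1,4,1,4,1,5,1,4,1,5,1,4]), ([2840,2688], 1469, [1,4,1,4,1,5,1,4,4,1,5,1,4,4,1,4,1,4,1,5,1,5])], []⟩
def c1654 : Clm := ⟨9, 10, true, [1,4,1,4,1,5,1,4,1,5,1,4,4,1,4,1,4,1,2,10,10,13], [1,4,1,4,4,1,4,1,4,1,4,1,4,1,4,9], 5, [([], 1653, [])], []⟩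
def c1655 : Clm := ⟨10, 10, true, [5,1,4,1,4,4,1,4,1,5,1,4,1,4,9], [1,5,1,4,1,4,4,1,5,1,5,1,4,1,4,4,1,9,1,9], 11, [([], 1330, [5,1,4,1,4,4,1,4,1,5,1,4,1,4]), ([47,73,66], 845, [1,5,1,5,1,4,1,4,4,1,4,4,1,5,1,4,1,5,1,5,1]), ([], 1444, [4,4,1,5,1,4,1,5,1,4,1,5,1,4,1,4,1,4,4,1,4,1,5])], []⟩
def c1656 : Clm := ⟨10, 10, true, [1,5,1,4,1,4,4,1,5,1,5,1,4,1,4,4,1,9,1,9], [5,1,4,1,4,4,1,4,1,5,1,4,1,4,9], 5, [([], 1655, [])], []⟩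
def c1657 : Clm := ⟨10, 8, true, [4,1,4,1,4,4,1,4,4,1,4,4,1,5,1,9], [1,4,1,4,4,1,5,1,4,4,1,4,4,1,5,1,4,1,4,1,5,1,5,2,4,3,8,7], 11, [([], 1330, [4,1,4,1,4,4,1,4,4,1,4,4,1,5,1]), ([40,79], 1331, [5,1,5,1,4,4,1,4,1,4,1,4,4,1,4,1,5,1]), ([2688,2840], 1648, [4,1,4,1,5,1,4,1,4,4,1,4,1,5,1,5,1,5])], []⟩
def c1658 : Clm := ⟨8, 10, true, [1,4,1,4,4,1,5,1,4,4,1,4,4,1,5,1,4,1,4,1,5,1,5,2,4,3,8,7], [4,1,4,1,4,4,1,4,4,1,4,4,1,5,1,9], 5, [([], 1657, [])], []⟩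
def c1659 : Clm := ⟨10, 8, true, [4,1,5,1,4,1,9], [1,4,1,5,1,4,1,5,1,4,4,1,5,1,5,1,4,1,5,1,5,9,4,3], 11, [([], 1330, [4,1,5,1,4,1]), ([73,42,40], 234, [1,4,1,5,1,5,1,5,1,4,4,1,5,1,5,1,5,1,4,4,1,4]), ([], 537, [1,4,4,1,4,4,1,5,1,4,1,4,1,4,4,1,5,1])], []⟩
def c1660 : Clm := ⟨8, 10, true, [1,4,1,5,1,4,1,5,1,4,4,1,5,1,5,1,4,1,5,1,5,9,4,3], [4,1,5,1,4,1,9], 5, [([], 1659, [])], []⟩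
def c1661 : Clm := ⟨10, 10, true, [1,4,1,4,4,1,4,1,4,4,1,4,4,1,9], [4,1,5,1,4,1,4,4,1,4,1,4,4,1,5,1,4,1,4,9,3,13], 11, [([], 1330, [1,4,1,4,4,1,4,1,4,4,1,4,4,1]), ([78,72,46], 1001, [4,4,1,4,4,1,4,4,1,4,1,4,1,5,1,4,4,1,5,1,5]), ([2114,2010,2004], 1634, [1,4,1,4,4,1,4,4])], []⟩
def c1662 : Clm := ⟨10, 10, true, [4,1,5,1,4,1,4,4,1,4,1,4,4,1,5,1,4,1,4,9,3,13], [1,4,1,4,4,1,4,1,4,4,1,4,4,1,9], 5, [([], 1661, [])], []⟩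
def c1663 : Clm := ⟨10, 5, true, [4,4,1,5,1,4,1,4,1,4,1,9], [4,4,1,5,1,4,1,5,1,5,1,4,4,1,4,1,5,1,5,2,10,9,3], 11, [([], 1330, [4,4,1,5,1,4,1,4,1,4,1]), ([79,47], 55, [4,1,4,1,5,1,4,4,1,5,1,5,1,4,1,5,1,4,1,5,1]), ([92,90], 102, [1,5,1,4,1,4,1,4,4,1,4,1,4,1,4,4,1,4])], []⟩
def c1664 : Clm := ⟨5, 10, true, [4,4,1,5,1,4,1,5,1,5,1,4,4,1,4,1,5,1,5,2,10,9,3], [4,4,1,5,1,4,1,4,1,4,1,9], 5, [([], 1663, [])], []⟩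
def c1665 : Clm := ⟨10, 8, true, [4,1,4,4,1,4,4,1,4,9], [1,4,1,5,1,4,4,1,4,4,1,4,4,1,5,1,4,1,4,1,5,2,8,1,12], 11, [([], 1330, [4,1,4,4,1,4,4,1,4]), ([46,42,40], 131, [4,4,1,4,4,1,4,1,4,4,1,5,1,4,1,4,1,5]), ([316,282,264], 616, [4,1,4,1,5,1,5,1,5,1,5,1,4,1,5,1])], []⟩
def c1666 : Clm := ⟨8, 10, true, [1,4,1,5,1,4,4,1,4,4,1,4,4,1,5,1,4,1,4,1,5,2,8,1,12], [4,1,4,4,1,4,4,1,4,9], 5, [([], 1665, [])], []⟩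
def c1667 : Clm := ⟨10, 8, true, [4,4,1,4,1,4,1,5,1,5,1,9], [4,1,5,1,4,4,1,5,1,4,1,4,4,1,5,1,5,1,5,1,7,11,3,7], 11, [([], 1330, [4,4,1,4,1,4,1,5,1,5,1]), ([72,79], 1001, [5,1,4,1,4,1,5,1,4,1,4,4,1,4,4,1,4,4,1,5]), ([2197,2004], 1148, [1,4,4,1,4,1,4,4,1,5,1,4,4,1,4,1])], []⟩
def c1668 : Clm := ⟨8, 10, true, [4,1,5,1,4,4,1,5,1,4,1,4,4,1,5,1,5,1,5,1,7,11,3,7], [4,4,1,4,1,4,1,5,1,5,1,9], 5, [([], 1667, [])], []⟩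
def c1669 : Clm := ⟨10, 9, true, [4,1,4,4,1,5,1,5,1,5,1,4,1,4,1,9], [1,4,1,5,1,5,1,4,4,1,4,1,4,4,3,13,14,1], 11, [([], 1330, [4,1,4,4,1,5,1,5,1,5,1,4,1,4,1]), ([79,44,42], 845, [4,1,4,1,5,1,4,4,1,4,1,4,1,5,1,4,1,4,4]), ([357], 1073, [4,4,1,4,1,4,1,5,1,5,1,4,1,5,1,5])], []⟩
def c1670 : Clm := ⟨9, 10, true, [1,4,1,5,1,5,1,4,4,1,4,1,4,4,3,13,14,1], [4,1,4,4,1,5,1,5,1,5,1,4,1,4,1,9], 5, [([], 1669, [])], []⟩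
def c1671 : Clm := ⟨10, 8, true, [1,4,1,5,1,4,1,4,1,4,4,1,4,1,4,4,1,9], [1,4,1,4,1,4,1,5,1,5,1,4,4,1,5,1,5,1,4,1,4,6,2,1,11], 11, [([], 1330, [1,4,1,5,1,4,1,4,1,4,4,1,4,1,4,4,1]), ([73,79,42], 51, [4,4,1,4,4,1,5,1,5,1,5,1,4,1,4,1,5,1,5,1]), ([158,90,88], 304, [1,4,1,4,1,4,4,1,4,1,4,4,1,4,4,1,5,1])], []⟩
def c1672 : Clm := ⟨8, 10, true, [1,4,1,4,1,4,1,5,1,5,1,4,4,1,5,1,5,1,4,1,4,6,2,1,11], [1,4,1,5,1,4,1,4,1,4,4,1,4,1,4,4,1,9], 5, [([], 1671, [])], []⟩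
def c1673 : Clm := ⟨10, 8, true, [4,4,1,4,1,9], [4,1,4,1,4,1,5,1,5,1,4,1,5,1,4,1,5,1,4,1,4,12,11,6,11], 11, [([], 1330, [4,4,1,4,1]), ([42,79,42], 1331, [4,1,4,4,1,5,1,4,4,1,5,1,4,4,1,5,1,5,1,5,1,5]), ([2840,2688], 1637, [1,4,1,4,1,4,1,4,1,4,1,4,1,5,1,5,1,4,1,5,1,5,1])], []⟩
def c1674 : Clm := ⟨8, 10, true, [4,1,4,1,4,1,5,1,5,1,4,1,5,1,4,1,5,1,4,1,4,12,11,6,11], [4,4,1,4,1,9], 5, [([], 1673, [])], []⟩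
def c1675 : Clm := ⟨10, 8, true, [4,1,4,4,1,4,4,1,5,1,9], [4,4,1,4,1,4,1,4,1,4,1,5,1,4,4,1,5,9,7,10,3], 11, [([], 1330, [4,1,4,4,1,4,4,1,5,1]), ([66,47,42], 360, [1,4,4,1,5,1,4,4,1,4,4,1,4,4,1,5,1,5,1,4,1]), ([356], 591, [1,5,1,4,1,4,1,4,4,1,5,1,4,4,1])], []⟩
def c1676 : Clm := ⟨8, 10, true, [4,4,1,4,1,4,1,4,1,4,1,5,1,4,4,1,5,9,7,10,3], [4,1,4,4,1,4,4,1,5,1,9], 5, [([], 1675, [])], []⟩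
def c1677 : Clm := ⟨10, 10, true, [1,4,1,5,1,5,1,4,1,5,1,4,1,9], [1,4,4,1,5,1,4,4,1,4,1,4,1,4,1,4,4,1,4,4,1,3,1,5,13], 11, [([], 1330, [1,4,1,5,1,5,1,4,1,5,1,4,1]), ([42,44,42], 122, [1,4,1,4,1,4,1,5,1,5,1,4,1,4,4,1,5,1,4,4,1,5]), ([240,227,240,226], 1346, [1,4,4,1,4,1,5,1,4,4,1,5,1,4,1,4])], []⟩
def c1678 : Clm := ⟨10, 8, true, [1,5,1,5,1,4,1,5,1,4,1,9], [4,1,4,1,5,1,4,4,1,4,1,5,1,4,10,8,11,7], 11, [([], 1330, [1,5,1,5,1,4,1,5,1,4,1]), ([79,66], 55, [1,4,1,4,1,5,1,4,1,4,4,1,5,1,5,1,5,1,5,1,5]), ([93,158,90,88], 433, [1,4,1,5,1,4,4,1,4,1,4,4,1,5,1,4,1,4,1,4])], []⟩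
def c1679 : Clm := ⟨8, 10, true, [4,1,4,1,5,1,4,4,1,4,1,5,1,4,10,8,11,7], [1,5,1,5,1,4,1,5,1,4,1,9], 5, [([], 1678, [])], []⟩
def c1680 : Clm := ⟨10, 8, true, [1,5,1,5,1,5,1,4,1,4,1,4,1,4,1,9], [5,1,4,1,5,1,5,1,5,1,4,4,1,4,1,4,1,6,3,9], 11, [([], 1330, [1,5,1,5,1,5,1,4,1,4,1,4,1,4,1]), ([46,42,78], 1331, [1,5,1,5,1,5,1,4,1,5,1,4,4,1,4,4,1,4,1]), ([2688], 1674, [1,5,1,4,1,4,1,5,1,5,1,4,4,1,5,1,4,1,5,1,5])], []⟩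
def c1681 : Clm := ⟨8, 10, true, [5,1,4,1,5,1,5,1,5,1,4,4,1,4,1,4,1,6,3,9], [1,5,1,5,1,5,1,4,1,4,1,4,1,4,1,9], 5, [([], 1680, [])], []⟩
def c1682 : Clm := ⟨10, 10, true, [4,4,1,4,1,5,1,4,4,1,5,1,4,9], [1,4,1,4,1,5,1,4,1,5,1,4,4,1,5,1,5,1,4,1,4,2,1,5,13], 11, [([], 1330, [4,4,1,4,1,5,1,4,4,1,5,1,4]), ([73,44], 1001, [1,5,1,5,1,4,1,4,1,5,1,4,4,1,4,1,5]), ([2197,2004], 1511, [1,4,1,4,1,5,1,5,1,5,1,4,1,4,1,4,1,4,1,4,1,5])], []⟩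
def c1683 : Clm := ⟨10, 10, true, [1,4,1,4,1,5,1,4,1,5,1,4,4,1,5,1,5,1,4,1,4,2,1,5,13], [4,4,1,4,1,5,1,4,4,1,5,1,4,9], 5, [([], 1682, [])], []⟩
def c1684 : Clm := ⟨10, 8, true, [1,4,4,1,4,1,5,1,4,1,4,1,4,4,1,9], [5,1,5,1,4,1,5,1,5,1,4,4,1,5,1,5,1,5,8,3,4,1], 11, [([], 1330, [1,4,4,1,4,1,5,1,4,1,4,1,4,4,1]), ([72], 1001, [5,1,4,1,5,1,4,1,4,4,1,5,1,4,4,1,5,1,5,1,5]), ([2010], 1224, [1,5,1,5,1,4,4,1,4,1,5,1,5,1,4,4,1,4])], []⟩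
def c1685 : Clm := ⟨8, 10, true, [5,1,5,1,4,1,5,1,5,1,4,4,1,5,1,5,1,5,8,3,4,1], [1,4,4,1,4,1,5,1,4,1,4,1,4,4,1,9], 5, [([], 1684, [])], []⟩
def c1686 : Clm := ⟨10, 5, true, [1,4,4,1,5,1,5,1,4,1,4,1,4,1,9], [1,4,4,1,4,4,1,4,4,1,4,1,5,1,5,1,4,1,5,1,4,1,2,5,7,11,7], 11, [([], 1330, [1,4,4,1,5,1,5,1,4,1,4,1,4,1]), ([78,66,40], 131, [1,4,1,5,1,4,1,5,1,5,1,4,1,4,4,1,4,4,1,4,4,1]), ([316,282], 143, [5,1,4,1,4,4,1,4,1,5,1,4,4,1,5,1,4,4])], []⟩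
def c1687 : Clm := ⟨5, 10, true, [1,4,4,1,4,4,1,4,4,1,4,1,5,1,5,1,4,1,5,1,4,1,2,5,7,11,7], [1,4,4,1,5,1,5,1,4,1,4,1,4,1,9], 5, [([], 1686, [])], []⟩
def c1688 : Clm := ⟨10, 10, true, [1,4,4,1,5,1,4,4,1,4,4,1,4,1,9], [4,1,5,1,4,1,5,1,5,1,5,1,4,4,1,4,4,2,8,1,2], 11, [([], 1330, [1,4,4,1,5,1,4,4,1,4,4,1,4,1]), ([79,46,66,40], 1331, [1,5,1,4,4,1,5,1,4,4,1,5,1,4,1,4,1,5,1,4,4,1,5]), ([2688,2840,2688], 1504, [4,1,5,1,5,1,4,1,5,1,4,1,5,1,4,1,4,4,1,4])], []⟩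
def c1689 : Clm := ⟨10, 10, true, [4,1,5,1,4,1,5,1,5,1,5,1,4,4,1,4,4,2,8,1,2], [1,4,4,1,5,1,4,4,1,4,4,1,4,1,9], 5, [([], 1688, [])], []⟩
def c1690 : Clm := ⟨10, 8, true, [1,4,1,4,1,4,1,4,1,4,1,4,4,1,9], [1,4,1,4,1,5,1,5,1,5,1,5,1,5,1,4,4,1,5,3,13,8,10], 11, [([], 1330, [1,4,1,4,1,4,1,4,1,4,1,4,4,1]), ([44,79,46,66], 1331, [4,4,1,5,1,5,1,4,4,1,4,1,5,1,5,1,5,1,4]), ([2688], 1498, [4,1,4,1,4,1,5,1,5,1,4,4,1,5,1,4,4,1])], []⟩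
def c1691 : Clm := ⟨8, 10, true, [1,4,1,4,1,5,1,5,1,5,1,5,1,5,1,4,4,1,5,3,13,8,10], [1,4,1,4,1,4,1,4,1,4,1,4,4,1,9], 5, [([], 1690, [])], []⟩
def c1692 : Clm := ⟨8, 10, true, [5,1,4,1,5,1,4,4,1,4,4,1,5,1,5,1,4,4,1,3,1], [1,4,1,4,1,5,1,5,1,5,1,5,1,4,4,1,4,4,8], 9, [([], 1667, [1,4,1,5,1,4,4,1,4,4,1,4,1,4,1,5,1,4,1]), ([2840,2688], 1330, [4,1,5,1,5,1,4,4,1,5,1]), ([44,66,44,40], 1331, [1,4,1,4,1,5,1,5,1,5,1,5,1,4,4,1,4,4])], []⟩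
def c1693 : Clm := ⟨10, 8, true, [1,4,1,4,1,5,1,5,1,5,1,5,1,4,4,1,4,4,8], [5,1,4,1,5,1,4,4,1,4,4,1,5,1,5,1,4,4,1,3,1], 5, [([], 1692, [])], []⟩
def c1694 : Clm := ⟨10, 10, true, [1,4,4,1,4,1,4,1,9], [1,4,1,5,1,5,1,5,1,5,1,4,1,4,4,1,4,4,1,4,4,1,2,4,4,2], 11, [([], 1330, [1,4,4,1,4,1,4,1]), ([79], 125, [1,4,1,4,1,4,1,5,1,4,1,5,1,4,4,1,4]), ([230,241,230,226], 1393, [1,5,1,4,1,5,1,5,1,4,4,1,4,4,1,4,4,1,4,1,4,4])], []⟩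
def c1695 : Clm := ⟨10, 10, true, [1,4,1,5,1,5,1,5,1,5,1,4,1,4,4,1,4,4,1,4,4,1,2,4,4,2], [1,4,4,1,4,1,4,1,9], 5, [([], 1694, [])], []⟩
def c1696 : Clm := ⟨10, 8, true, [1,4,1,5,1,4,4,1,4,4,1,9], [1,4,1,4,1,4,4,1,5,1,4,1,4,1,4,1,4,1,4,2,5,13,9], 11, [([], 1330, [1,4,1,5,1,4,4,1,4,4,1]), ([44,79], 234, [5,1,4,1,4,4,1,5,1,5,1,5,1,5]), ([], 672, [1,5,1,5,1,5,1,4,4,1,4,4,1,4,1,5,1,4,1,5,1])], []⟩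
def c1697 : Clm := ⟨8, 10, true, [1,4,1,4,1,4,4,1,5,1,4,1,4,1,4,1,4,1,4,2,5,13,9], [1,4,1,5,1,4,4,1,4,4,1,9], 5, [([], 1696, [])], []⟩
def c1698 : Clm := ⟨10, 9, true, [5,1,4,1,4,4,1,4,4,1,4,1,9], [4,4,1,4,1,4,1,4,1,5,1,5,1,4,1,5,1,4,4,1,5,1,4,13,4], 11, [([], 1330, [5,1,4,1,4,4,1,4,4,1,4,1]), ([46,73,79,40], 234, [1,4,1,4,4,1,5,1,5,1,5,1,5,1,5,1,5,1,4]), ([356], 1015, [1,5,1,4,4,1,5,1,4,1,4,4,1,4,1,5])], []⟩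
def c1699 : Clm := ⟨9, 10, true, [4,4,1,4,1,4,1,4,1,5,1,5,1,4,1,5,1,4,4,1,5,1,4,13,4], [5,1,4,1,4,4,1,4,4,1,4,1,9], 5, [([], 1698, [])], []⟩
def c1700 : Clm := ⟨10, 8, true, [1,4,1,4,4,1,5,1,4,1,5,1,4,1,9], [4,4,1,5,1,4,4,1,4,1,5,1,4,1,4,4,1,4,1,6,12,11,6], 11, [([], 1330, [1,4,1,4,4,1,5,1,4,1,5,1,4,1]), ([46,40], 360, [1,4,1,5,1,4,1,5,1,5,1,5,1,5,1,5,1,5,1,4]), ([357], 765, [4,4,1,5,1,5,1,4,1,5,1,4,1,5,1,5,1,4,4,1])], []⟩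
def c1701 : Clm := ⟨8, 10, true, [4,4,1,5,1,4,4,1,4,1,5,1,4,1,4,4,1,4,1,6,12,11,6], [1,4,1,4,4,1,5,1,4,1,5,1,4,1,9], 5, [([], 1700, [])], []⟩
def c1702 : Clm := ⟨10, 8, true, [1,4,4,1,4,1,4,4,1,4,1,5,1,5,1,4,9], [4,1,5,1,4,1,5,1,4,1,4,1,5,1,5,1,4,1,4,4,3,1,11,12], 11, [([], 1330, [1,4,4,1,4,1,4,4,1,4,1,5,1,5,1,4]), ([73,40], 55, [4,4,1,5,1,4,1,4,4,1,4,1,4,1,5,1,4,1,5,1,5,1,5]), ([90,93,88], 536, [1,4,1,4,4,1,4,1,4,1,5,1,4,1,4,4,1,4,4,1])], []⟩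
def c1703 : Clm := ⟨8, 10, true, [4,1,5,1,4,1,5,1,4,1,4,1,5,1,5,1,4,1,4,4,3,1,11,12], [1,4,4,1,4,1,4,4,1,4,1,5,1,5,1,4,9], 5, [([], 1702, [])], []⟩
def c1704 : Clm := ⟨10, 8, true, [1,4,4,1,4,1,4,1,5,1,5,1,9], [4,1,4,1,5,1,4,4,1,5,1,4,1,4,1,4,4,1,4,1,6,1,9,13], 11, [([], 1330, [1,4,4,1,4,1,4,1,5,1,5,1]), ([46,73,78,42], 234, [4,4,1,4,4,1,5,1,4,1,4,4,1,4,4,1,4,1,5]), ([356], 895, [4,4,1,4,1,5,1,5,1,4,1,4,1,5,1,5,1,5])], []⟩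
def c1705 : Clm := ⟨8, 10, true, [4,1,4,1,5,1,4,4,1,5,1,4,1,4,1,4,4,1,4,1,6,1,9,13], [1,4,4,1,4,1,4,1,5,1,5,1,9], 5, [([], 1704, [])], []⟩
def c1706 : Clm := ⟨10, 8, true, [1,4,1,4,1,4,1,4,4,1,4,1,4,4,1,9], [1,5,1,5,1,4,4,1,4,1,5,1,4,1,4,4,1,4,1,4,4,3,6,10,2], 11, [([], 1330, [1,4,1,4,1,4,1,4,4,1,4,1,4,4,1]), ([42,73,40], 177, [1,4,1,4,1,4,1,4,1,4,4,1,5]), ([356], 213, [1,5,1,4,4,1,4,1,5,1,5,1,4,4,1])], []⟩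
def c1707 : Clm := ⟨8, 10, true, [1,5,1,5,1,4,4,1,4,1,5,1,4,1,4,4,1,4,1,4,4,3,6,10,2], [1,4,1,4,1,4,1,4,4,1,4,1,4,4,1,9], 5, [([], 1706, [])], []⟩
def c1708 : Clm := ⟨10, 8, true, [4,4,1,5,1,4,1,5,1,4,1,9], [1,5,1,5,1,5,1,5,1,5,1,5,1,5,1,4,4,1,6,11,3,4], 11, [([], 1330, [4,4,1,5,1,4,1,5,1,4,1]), ([46,66,46,40], 1331, [1,5,1,4,1,4,4,1,5,1,4,1,4,1,4,1,4,1]), ([2688,2840], 1600, [1,5,1,4,4,1,5,1,5,1,4,1,5,1,4,1,5,1,5,1,4,1])], []⟩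
def c1709 : Clm := ⟨8, 10, true, [1,5,1,5,1,5,1,5,1,5,1,5,1,5,1,4,4,1,6,11,3,4], [4,4,1,5,1,4,1,5,1,4,1,9], 5, [([], 1708, [])], []⟩
def c1710 : Clm := ⟨10, 8, true, [4,1,4,1,4,4,1,4,1,4,1,9], [1,4,4,1,4,1,5,1,5,1,4,4,1,5,1,5,1,4,1,5,1,5,2,4,3,11,9], 11, [([], 1330, [4,1,4,1,4,4,1,4,1,4,1]), ([73,66,46,40], 234, [1,5,1,4,4,1,4,4,1,4,1,4,4,1,5,1,4,1,4,1,5]), ([356], 500, [1,5,1,4,1,4,1,4,4,1,4,1,4,1,5,1,5,1,4,1])], []⟩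
def c1711 : Clm := ⟨8, 10, true, [1,4,4,1,4,1,5,1,5,1,4,4,1,5,1,5,1,4,1,5,1,5,2,4,3,11,9], [4,1,4,1,4,4,1,4,1,4,1,9], 5, [([], 1710, [])], []⟩
def c1712 : Clm := ⟨10, 10, true, [1,4,1,4,1,4,1,4,1,4,4,1,9], [1,5,1,4,1,5,1,5,1,4,1,5,1,4,1,5,1,5,1,4,1,7,1,11], 11, [([], 1330, [1,4,1,4,1,4,1,4,1,4,4,1]), ([47,66], 122, [1,4,4,1,4,1,4,4,1,4,1,4,4,1,5,1,4,4,1,4]), ([240,240,230,228], 1346, [4,4,1,4,1,5,1,4,4,1,5,1,4,1,4,1,4,4,1,5,1,4])], []⟩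
def c1713 : Clm := ⟨10, 8, true, [4,4,1,5,1,5,1,4,1,5,1,4,1,9], [1,4,1,5,1,5,1,4,4,1,4,1,4,1,5,1,4,4,1,7,9,6,12], 11, [([], 1330, [4,4,1,5,1,5,1,4,1,5,1,4,1]), ([79,46,42], 177, [4,4,1,4,4,1,5,1,4,1,5,1,4,4,1,4,4,1,5,1,5]), ([356], 425, [1,4,1,4,1,4,4,1,5,1,4,1,4,4,1,4,4,1,5])], []⟩
def c1714 : Clm := ⟨8, 10, true, [1,4,1,5,1,5,1,4,4,1,4,1,4,1,5,1,4,4,1,7,9,6,12], [4,4,1,5,1,5,1,4,1,5,1,4,1,9], 5, [([], 1713, [])], []⟩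
def c1715 : Clm := ⟨10, 9, true, [5,1,5,1,5,1,4,1,4,1,4,9], [5,1,4,4,1,4,4,1,4,4,1,4,1,4,1,5,1,4,7,1,9], 11, [([], 1330, [5,1,5,1,5,1,4,1,4,1,4]), ([40], 51, [1,5,1,4,4,1,4,4,1,5,1,4,1,4]), ([88,93], 1013, [1,5,1,4,1,4,1,4,1,4,1,4,1,5,1,4,1,4,4,1,5,1,5])], []⟩
def c1716 : Clm := ⟨9, 10, true, [5,1,4,4,1,4,4,1,4,4,1,4,1,4,1,5,1,4,7,1,9], [5,1,5,1,5,1,4,1,4,1,4,9], 5, [([], 1715, [])], []⟩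
def c1717 : Clm := ⟨10, 8, true, [5,1,5,1,4,1,4,1,4,1,4,1,9], [5,1,5,1,4,1,5,1,4,1,5,1,5,2,6,5,13], 11, [([], 1330, [5,1,5,1,4,1,4,1,4,1,4,1]), ([66,40], 55, [4,4,1,4,4,1,4,4,1,5,1,4,1,4,4,1,5]), ([90,88], 528, [1,4,1,4,1,4,1,4,4,1,4,4,1,4,4,1,4,1])], []⟩
def c1718 : Clm := ⟨8, 10, true, [5,1,5,1,4,1,5,1,4,1,5,1,5,2,6,5,13], [5,1,5,1,4,1,4,1,4,1,4,1,9], 5, [([], 1717, [])], []⟩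
def c1719 : Clm := ⟨10, 8, true, [1,4,4,1,4,1,4,4,1,4,1,9], [5,1,4,4,1,4,1,4,4,1,5,1,4,1,4,1,5,1,5,1,5,9,9,14,9], 11, [([], 1330, [1,4,4,1,4,1,4,4,1,4,1]), ([42,78,73,42], 234, [1,4,1,5,1,5,1,5,1,4,1,4,4,1,4,1,4,4,1,4]), ([], 227, [1,4,1,4,1,4,4,1,5,1,4,4,1,4,4,1,4,1,4,1,4,4,1])], []⟩
def c1720 : Clm := ⟨8, 10, true, [5,1,4,4,1,4,1,4,4,1,5,1,4,1,4,1,5,1,5,1,5,9,9,14,9], [1,4,4,1,4,1,4,4,1,4,1,9], 5, [([], 1719, [])], []⟩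
def c1721 : Clm := ⟨10, 5, true, [1,4,4,1,5,1,5,1,4,4,1,5,1,9], [1,4,4,1,5,1,4,1,5,1,4,4,1,5,1,5,1,5,1,4,1,4,2,6,4,13], 11, [([], 1330, [1,4,4,1,5,1,5,1,4,4,1,5,1]), ([78,73,42,40], 234, [1,4,4,1,5,1,5,1,4,4,1,4,1,4,1,4,1,5,1,5]), ([356], 343, [4,1,4,1,4,4,1,4,1,4,4,1,4,1,4,4,1,5,1,4,1,5])], []⟩
def c1722 : Clm := ⟨5, 10, true, [1,4,4,1,5,1,4,1,5,1,4,4,1,5,1,5,1,5,1,4,1,4,2,6,4,13], [1,4,4,1,5,1,5,1,4,4,1,5,1,9], 5, [([], 1721, [])], []⟩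
def c1723 : Clm := ⟨10, 8, true, [1,4,9], [1,4,1,4,1,4,1,4,1,4,4,1,5,1,4,1,5,1,5,2,9,10], 11, [([], 1330, [1,4]), ([78,73,40], 51, [4,4,1,4,4,1,4,1,4,4,1,4,1,4,1,4,1,4,4]), ([158,93,88], 524, [1,4,4,1,4,1,4,1,5,1,5,1,4,4,1,5])], []⟩
def c1724 : Clm := ⟨8, 10, true, [1,4,1,4,1,4,1,4,1,4,4,1,5,1,4,1,5,1,5,2,9,10], [1,4,9], 5, [([], 1723, [])], []⟩
def c1725 : Clm := ⟨10, 8, true, [1,5,1,4,4,1,5,1,5,1,4,1,4,1,9], [4,4,1,5,1,4,4,1,4,4,1,4,1,4,4,1,4,4,1,5,2,6,9,9], 11, [([], 1330, [1,5,1,4,4,1,5,1,5,1,4,1,4,1]), ([72,40,72], 845, [4,4,1,5,1,4,1,4,4,1,5,1,5,1,5,1,4,4,1]), ([356], 726, [5,1,4,1,4,4,1,4,4,1,4,1,5,1,5,1,5])], []⟩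
def c1726 : Clm := ⟨8, 10, true, [4,4,1,5,1,4,4,1,4,4,1,4,1,4,4,1,4,4,1,5,2,6,9,9], [1,5,1,4,4,1,5,1,5,1,4,1,4,1,9], 5, [([], 1725, [])], []⟩
def c1727 : Clm := ⟨10, 8, true, [1,4,4,1,4,4,1,5,1,9], [4,1,5,1,5,1,5,1,5,1,4,4,1,5,1,5,1,5,1,4,7,8,3,14], 11, [([], 1330, [1,4,4,1,4,4,1,5,1]), ([66,78,44], 125, [1,4,4,1,4,1,4,1,4,4,1,5,1,4,4,1]), ([230,240,228,228], 819, [5,1,5,1,5,1,5,1,4,4,1,4,4,1])], []⟩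
def c1728 : Clm := ⟨8, 10, true, [4,1,5,1,5,1,5,1,5,1,4,4,1,5,1,5,1,5,1,4,7,8,3,14], [1,4,4,1,4,4,1,5,1,9], 5, [([], 1727, [])], []⟩
def c1729 : Clm := ⟨10, 8, true, [4,1,4,4,1,4,4,1,4,1,4,4,1,9], [4,1,4,1,4,4,1,5,1,5,1,4,4,1,4,1,5,1,5,3,6,11], 11, [([], 1330, [4,1,4,4,1,4,4,1,4,1,4,4,1]), ([66,78,72], 1001, [1,4,1,4,4,1,5,1,4,1,5,1,4,4,1,4,1]), ([2114,2004], 1260, [1,4,1,4,4,1,4,4,1,5,1,4,1,5,1,5,1,5,1,5,1,5,1])], []⟩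
def c1730 : Clm := ⟨8, 10, true, [4,1,4,1,4,4,1,5,1,5,1,4,4,1,4,1,5,1,5,3,6,11], [4,1,4,4,1,4,4,1,4,1,4,4,1,9], 5, [([], 1729, [])], []⟩
def c1731 : Clm := ⟨10, 8, true, [1,5,1,5,1,4,1,5,1,4,1,4,4,10], [1,4,1,5,1,5,1,5,1,5,1,4,1,4,1,4,4,1,4,1,4,9,14,4], 9, [([], 1330, [1,5,1,5,1,4,1,5,1,4,1,4,4]), ([66,40], 177, [5,1,4,4,1,4,1,4,1,5,1,4,1,4,4]), ([], 948, [4,4,1,4,1,4,1,4,1,4,1,5,1,4,4,1,5,1,5])], []⟩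
def c1732 : Clm := ⟨8, 10, true, [1,4,1,5,1,5,1,5,1,5,1,4,1,4,1,4,4,1,4,1,4,9,14,4], [1,5,1,5,1,4,1,5,1,4,1,4,4,10], 5, [([], 1731, [])], []⟩
def c1733 : Clm := ⟨8, 10, true, [5,1,4,4,1,4,1,4,1,4,1,4,4,1,4,4,1,5,1,4,1,6,3,10,1], [1,4,1,5,1,4,4,1,4,1,4,4,1,4,1,4,4,1,4,1,4,9], 11, [([], 1616, [4,1,4,4,1,4,4,1,4,1,4,4,1,5,1,4,1,5,1]), ([], 1330, [1,4,1,4,1,4,4,1,4]), ([47,79,44], 1331, [1,5,1,4,1,5,1,4,4,1,4,4,1,4,4,1,5,1,4,4,1,4,1,5])], []⟩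
def c1734 : Clm := ⟨10, 8, true, [1,4,1,5,1,4,4,1,4,1,4,4,1,4,1,4,4,1,4,1,4,9], [5,1,4,4,1,4,1,4,1,4,1,4,4,1,4,4,1,5,1,4,1,6,3,10,1], 5, [([], 1733, [])], []⟩
def c1735 : Clm := ⟨10, 8, true, [5,1,5,1,4,1,4,1,5,1,4,4,1,10], [5,1,4,1,5,1,4,1,5,1,5,1,4,1,5,1,5,7,2,11], 9, [([], 1330, [5,1,5,1,4,1,4,1,5,1,4,4,1]), ([47,79], 55, [4,1,4,1,4,4,1,5,1,5,1,5]), ([92,158,88], 191, [5,1,4,1,5,1,5,1,5,1,4,4,1,4,4,1,4,4])], []⟩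
def c1736 : Clm := ⟨8, 10, true, [5,1,4,1,5,1,4,1,5,1,5,1,4,1,5,1,5,7,2,11], [5,1,5,1,4,1,4,1,5,1,4,4,1,10], 5, [([], 1735, [])], []⟩
def c1737 : Clm := ⟨10, 10, true, [4,1,4,1,5,1,5,1,4,1,4,4,1,5,1,4,4,1,5,1,5,3,8,11,9], [5,1,4,1,4,1,4,1,4,1,5,9], 11, [([], 1572, [4,1,4,1,4,4,1,5,1,4,1]), ([2840,2688], 1330, [1,4,4,1,4,1,4,1]), ([73,78,47,40], 1331, [4,4,1,4,1,4,4,1,5,1,5,1,4,4,1,4,4,1,5,1])], []⟩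
def c1738 : Clm := ⟨10, 10, true, [5,1,4,1,4,1,4,1,4,1,5,9], [4,1,4,1,5,1,5,1,4,1,4,4,1,5,1,4,4,1,5,1,5,3,8,11,9], 5, [([], 1737, [])], []⟩
def c1739 : Clm := ⟨10, 8, true, [1,4,4,1,4,1,4,1,4,1,4,1,4,1,10], [1,5,1,5,1,5,1,5,1,4,1,4,4,1,5,1,4,4,1,4,1,3,4,13,11], 9, [([], 1330, [1,4,4,1,4,1,4,1,4,1,4,1,4,1]), ([79,66,47], 51, [5,1,5,1,4,1,4,1,5,1,5,1,4,1,5,1,4,4,1]), ([92,92,90,88], 407, [1,4,4,1,5,1,4,1,4,1,4,1,4,4,1,5,1,4,1,4,4])], []⟩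
def c1740 : Clm := ⟨8, 10, true, [1,5,1,5,1,5,1,5,1,4,1,4,4,1,5,1,4,4,1,4,1,3,4,13,11], [1,4,4,1,4,1,4,1,4,1,4,1,4,1,10], 5, [([], 1739, [])], []⟩
def c1741 : Clm := ⟨10, 9, true, [5,1,4,1,4,1,5,1,4,4,1,4,10], [1,5,1,4,1,4,1,4,1,4,1,5,1,5,1,4,1,5,1,4,1,8,8,7,14], 9, [([], 1330, [5,1,4,1,4,1,5,1,4,4,1,4]), ([73,73,40], 360, [1,4,1,5,1,4,4,1,4,4,1,4,1,4,4,1,5,1,5,1]), ([356], 1131, [4,1,4,4,1,5,1,4,4,1,4,4,1,4,1,4,4,1,5])], []⟩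
def c1742 : Clm := ⟨9, 10, true, [1,5,1,4,1,4,1,4,1,4,1,5,1,5,1,4,1,5,1,4,1,8,8,7,14], [5,1,4,1,4,1,5,1,4,4,1,4,10], 5, [([], 1741, [])], []⟩
def c1743 : Clm := ⟨10, 8, true, [4,1,4,1,4,4,1,4,4,1,4,4,1,4,10], [4,1,4,1,5,1,5,1,5,1,4,4,1,4,1,5,3,12,6], 9, [([], 1330, [4,1,4,1,4,4,1,4,4,1,4,4,1,4]), ([66,72,79], 234, [1,4,4,1,5,1,5,1,4,1,4,1,4,1,4,1,4,4,1,4,1]), ([], 542, [1,4,1,5,1,4,1,4,4,1,4,1,5,1,5,1,4,4,1,4,4,1])], []⟩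
def c1744 : Clm := ⟨8, 10, true, [4,1,4,1,5,1,5,1,5,1,4,4,1,4,1,5,3,12,6], [4,1,4,1,4,4,1,4,4,1,4,4,1,4,10], 5, [([], 1743, [])], []⟩
def c1745 : Clm := ⟨10, 10, true, [1,4,1,5,1,4,1,4,4,1,4,1,10], [1,4,4,1,4,1,4,4,1,4,1,4,4,1,5,1,4,4,1,5,3,6,3,5], 9, [([], 1330, [1,4,1,5,1,4,1,4,4,1,4,1]), ([78,66,40], 1001, [4,1,4,1,4,4,1,4,1,4,4,1,4,1,4,4,1,4,1,4]), ([2197,2114,2004], 1508, [5,1,5,1,5,1,4,4,1,5,1,4,1,4,1,5,1,4])], []⟩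
def c1746 : Clm := ⟨10, 10, true, [1,4,4,1,4,1,4,4,1,4,1,4,4,1,5,1,4,4,1,5,3,6,3,5], [1,4,1,5,1,4,1,4,4,1,4,1,10], 5, [([], 1745, [])], []⟩
def c1747 : Clm := ⟨10, 10, true, [5,1,4,1,4,1,5,1,4,4,1,10], [1,4,4,1,4,4,1,4,1,4,1,4,4,1,5,1,4,4,1,4,1,12,7,1], 9, [([], 1330, [5,1,4,1,4,1,5,1,4,4,1]), ([47,66], 122, [1,4,1,4,1,5,1,4,4,1,4,1,4,1,4,4,1,4,4]), ([228,228,230,240], 1346, [1,4,4,1,5,1,5,1,5,1,5,1,5,1,5,1,5])], []⟩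
def c1748 : Clm := ⟨10, 10, true, [1,4,4,1,4,4,1,4,1,4,1,4,4,1,5,1,4,4,1,4,1,12,7,1], [5,1,4,1,4,1,5,1,4,4,1,10], 5, [([], 1747, [])], []⟩
def c1749 : Clm := ⟨10, 8, true, [5,1,4,4,1,4,4,1,4,4,1,4,10], [1,4,4,1,4,4,1,4,4,1,4,4,1,5,1,5,1,4,1,4,4,3,9,12,5], 9, [([], 1330, [5,1,4,4,1,4,4,1,4,4,1,4]), ([72], 41, [4,4,1,4,1,4,4,1,4,4,1,4,1,4,4,1,5,1,4]), ([79,47,78], 234, [1,4,1,4,1,5,1,5,1,4,1,4,4,1,4,4,1,4,1,5,1,5])], []⟩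
def c1750 : Clm := ⟨8, 10, true, [1,4,4,1,4,4,1,4,4,1,4,4,1,5,1,5,1,4,1,4,4,3,9,12,5], [5,1,4,4,1,4,4,1,4,4,1,4,10], 5, [([], 1749, [])], []⟩
def c1751 : Clm := ⟨10, 8, true, [1,4,1,4,4,1,4,4,1,5,1,5,1,5,1,4,10], [4,4,1,4,1,4,1,5,1,4,4,1,4,1,4,12,6,1], 9, [([], 1330, [1,4,1,4,4,1,4,4,1,5,1,5,1,5,1,4]), ([78,72,42], 845, [5,1,4,1,4,1,5,1,4,1,4,4,1,4,1,4,4,1]), ([], 438, [1,4,1,4,4,1,4,1,4,4,1,5,1,4,4,1,5,1,4])], []⟩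
def c1752 : Clm := ⟨8, 10, true, [4,4,1,4,1,4,1,5,1,4,4,1,4,1,4,12,6,1], [1,4,1,4,4,1,4,4,1,5,1,5,1,5,1,4,10], 5, [([], 1751, [])], []⟩
def c1753 : Clm := ⟨10, 8, true, [1,5,1,5,1,4,1,10], [1,5,1,5,1,5,1,5,1,4,1,4,4,1,4,1,4,3,8,13,4], 9, [([], 1330, [1,5,1,5,1,4,1]), ([47,73,79,44], 234, [5,1,5,1,4]), ([356], 879, [1,4,1,4,1,4,1,4,1,5,1,4,1,4,4,1,5,1])], []⟩
def c1754 : Clm := ⟨8, 10, true, [1,5,1,5,1,5,1,5,1,4,1,4,4,1,4,1,4,3,8,13,4], [1,5,1,5,1,4,1,10], 5, [([], 1753, [])], []⟩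
def c1755 : Clm := ⟨10, 8, true, [4,4,1,4,1,5,1,4,1,10], [4,1,4,4,1,5,1,5,1,4,1,4,4,13,9,11,12], 9, [([], 1330, [4,4,1,4,1,5,1,4,1]), ([78,73,46,40], 360, [1,4,1,5,1,4,1,5,1,4,1,4,1,5,1,5,1,5,1,4]), ([], 987, [1,4,1,4,4,1,4,1,4,1,5,1,4,4,1,4,4,1,5,1,4,4,1])], []⟩
def c1756 : Clm := ⟨8, 10, true, [4,1,4,4,1,5,1,5,1,4,1,4,4,13,9,11,12], [4,4,1,4,1,5,1,4,1,10], 5, [([], 1755, [])], []⟩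
def c1757 : Clm := ⟨8, 10, true, [5,1,5,1,4,4,1,4,4,1,5,1,4,1,5,1,4,4,1,6,12,2,4], [4,4,1,4,1,4,1,4,4,1,4,4,1,4,1,4,1,4,1,9], 11, [([], 1460, [5,1,5,1,4,1,4,1,4,1,4,1,4,4,1,4,4,1,5,1]), ([], 1330, [1,5,1,5,1,4,1,5]), ([72,79,72], 1331, [4,1,5,1,4,1,4,4,1,5,1,5,1,5,1,4,1,4,1,4])], []⟩
def c1758 : Clm := ⟨10, 8, true, [4,4,1,4,1,4,1,4,4,1,4,4,1,4,1,4,1,4,1,9], [5,1,5,1,4,4,1,4,4,1,5,1,4,1,5,1,4,4,1,6,12,2,4], 5, [([], 1757, [])], []⟩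
def c1759 : Clm := ⟨10, 8, true, [5,1,5,1,4,1,4,1,4,1,10], [1,4,1,4,1,5,1,4,4,1,5,1,4,1,4,1,4,1,4,1,5,9,3,6,14], 9, [([], 1330, [5,1,5,1,4,1,4,1,4,1]), ([47,42,40], 845, [4,4,1,5,1,5,1,5,1,5,1,5,1,5,1,5,1,5]), ([357], 889, [4,1,4,4,1,4,1,4,1,4,1,4,4,1,4,4,1,5,1,5])], []⟩
def c1760 : Clm := ⟨8, 10, true, [1,4,1,4,1,5,1,4,4,1,5,1,4,1,4,1,4,1,4,1,5,9,3,6,14], [5,1,5,1,4,1,4,1,4,1,10], 5, [([], 1759, [])], []⟩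
def c1761 : Clm := ⟨10, 8, true, [4,4,1,4,1,4,1,4,4,1,4,1,5,1,4,4,10], [1,5,1,5,1,4,1,4,1,4,1,4,1,4,1,4,1,4,6,13,7,11], 9, [([], 1330, [4,4,1,4,1,4,1,4,4,1,4,1,5,1,4,4]), ([44,79,42], 1331, [1,4,1,5,1,4,1,5,1,4,1,5,1,4,1,4,4,1,5,1,5,1]), ([2688,2840,2688], 1736, [1,4,4,1,4,1,5,1,5,1,4,4,1,5,1,5,1,4,4,1,4,4,1,4,4])], []⟩
def c1762 : Clm := ⟨8, 10, true, [1,5,1,5,1,4,1,4,1,4,1,4,1,4,1,4,1,4,6,13,7,11], [4,4,1,4,1,4,1,4,4,1,4,1,5,1,4,4,10], 5, [([], 1761, [])], []⟩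
def c1763 : Clm := ⟨10, 8, true, [4,4,1,5,1,4,4,10], [5,1,4,1,5,1,4,1,4,1,4,4,1,4,1,5,1,4,4,9,5,14], 9, [([], 1330, [4,4,1,5,1,4,4]), ([78,66,42], 51, [5,1,5,1,4,4,1,4,1,4,1,5,1,4,4,1,4,1]), ([158,92], 638, [1,4,1,4,1,5,1,5,1,4,4,1,4,1,4,4,1,4,4,1,4])], []⟩
def c1764 : Clm := ⟨8, 10, true, [5,1,4,1,5,1,4,1,4,1,4,4,1,4,1,5,1,4,4,9,5,14], [4,4,1,5,1,4,4,10], 5, [([], 1763, [])], []⟩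
def c1765 : Clm := ⟨10, 8, true, [5,1,5,1,5,1,5,1,4,1,5,10], [1,5,1,4,1,4,4,1,4,1,4,4,1,4,1,4,1,4,4,1,5,1,4,10,10,6,12], 9, [([], 1330, [5,1,5,1,5,1,5,1,4,1,5]), ([73,79,47], 845, [1,5,1,4,4,1,4,1,4,4,1,4,4,1,4,4,1,4,1,5,1,5]), ([356], 458, [4,4,1,4,1,5,1,4,1,4,1,5,1,4,4])], []⟩
def c1766 : Clm := ⟨8, 10, true, [1,5,1,4,1,4,4,1,4,1,4,4,1,4,1,4,1,4,4,1,5,1,4,10,10,6,12], [5,1,5,1,5,1,5,1,4,1,5,10], 5, [([], 1765, [])], []⟩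
def c1767 : Clm := ⟨10, 10, true, [1,4,4,1,5,1,4,4,10], [1,5,1,4,1,4,1,5,1,4,4,1,5,1,4,2,4,6,13], 9, [([], 1330, [1,4,4,1,5,1,4,4]), ([66,79,40], 1331, [1,5,1,4,1,4,4,1,4,4,1,5,1,4,4,1,4,1]), ([2688,2840,2688], 1578, [1,4,1,5,1,4,4,1,4,4,1,5,1,4,1,5,1,5])], []⟩
def c1768 : Clm := ⟨10, 10, true, [1,5,1,4,1,4,1,5,1,4,4,1,5,1,4,2,4,6,13], [1,4,4,1,5,1,4,4,10], 5, [([], 1767, [])], []⟩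
def c1769 : Clm := ⟨8, 10, true, [1,4,1,4,4,1,4,1,4,1,5,1,5,1,4,1,4,4,1,4,3,7,11,2], [4,4,1,4,1,5,1,4,4,1,4,1,5,9], 11, [([], 1434, [4,4,1,4,1,4,4,1,5,1,4,1,4,1,4,4,1,4,4,1]), ([2688,2840], 1330, [1,4,1,5,1,5,1,4,4,1]), ([78], 1331, [4,1,4,4,1,5,1,4,4,1,5,1,5,1,4,1,4,1,4,1,4,4])], []⟩
def c1770 : Clm := ⟨10, 8, true, [4,4,1,4,1,5,1,4,4,1,4,1,5,9], [1,4,1,4,4,1,4,1,4,1,5,1,5,1,4,1,4,4,1,4,3,7,11,2], 5, [([], 1769, [])], []⟩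
def c1771 : Clm := ⟨10, 8, true, [4,1,5,1,4,4,1,4,4,1,4,4,1,4,10], [4,1,4,1,5,1,4,1,4,4,1,5,1,5,1,5,1,5,1,4,1,5,7,8,8], 9, [([], 1330, [4,1,5,1,4,4,1,4,4,1,4,4,1,4]), ([40,78], 55, [4,1,4,1,4,4,1,4,4,1,4,4,1,4,4,1,4,4]), ([90,88], 281, [1,5,1,4,4,1,5,1,4,4,1,5,1,5,1,4,4])], []⟩
def c1772 : Clm := ⟨8, 10, true, [4,1,4,1,5,1,4,1,4,4,1,5,1,5,1,5,1,5,1,4,1,5,7,8,8], [4,1,5,1,4,4,1,4,4,1,4,4,1,4,10], 5, [([], 1771, [])], []⟩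
def c1773 : Clm := ⟨10, 8, true, [5,1,4,1,5,1,10], [5,1,5,1,4,1,4,4,1,4,4,1,4,1,4,1,4,4,1,4,1,9,13,8,4], 9, [([], 1330, [5,1,4,1,5,1]), ([79,46,66], 360, [1,4,1,4,4,1,4,1,4,4,1,4,1,5,1,5,1,4,4,1,4,4,1]), ([], 932, [4,1,4,1,4,1,5,1,5,1,5,1,4,4,1,4,4,1,5])], []⟩
def c1774 : Clm := ⟨8, 10, true, [5,1,5,1,4,1,4,4,1,4,4,1,4,1,4,1,4,4,1,4,1,9,13,8,4], [5,1,4,1,5,1,10], 5, [([], 1773, [])], []⟩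
def c1775 : Clm := ⟨10, 5, true, [4,1,4,1,4,1,5,1,5,1,4,1,4,10], [4,1,5,1,4,1,4,1,4,4,1,4,4,1,4,1,4,1,5,6,8,1,3], 9, [([], 1330, [4,1,4,1,4,1,5,1,5,1,4,1,4]), ([72,66,78], 51, [1,4,4,1,4,1,5,1,5,1,5,1,4,1,4,1,4,1]), ([93,88], 87, [5,1,4,1,5,1,4,1,4,1,5,1,5,1,4,4,1,4,4])], []⟩
def c1776 : Clm := ⟨5, 10, true, [4,1,5,1,4,1,4,1,4,4,1,4,4,1,4,1,4,1,5,6,8,1,3], [4,1,4,1,4,1,5,1,5,1,4,1,4,10], 5, [([], 1775, [])], []⟩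
def c1777 : Clm := ⟨10, 10, true, [5,1,5,1,5,1,5,1,5,1,4,1,10], [1,5,1,4,4,1,4,1,4,4,1,4,4,1,5,1,4,1,4,2,10,4,14], 9, [([], 1330, [5,1,5,1,5,1,5,1,5,1,4,1]), ([42,72], 100, [4,4,1,5,1,4,4,1,4,1,4,1,5,1,4,1,5,1,4,1]), ([158,93,88], 1377, [1,4,1,4,1,5,1,4,1,5,1,4,4,1,5,1,5,1,4,1,4,4])], []⟩
def c1778 : Clm := ⟨10, 8, true, [5,1,5,1,4,1,4,4,1,4,1,5,10], [1,4,1,4,1,5,1,5,1,5,1,4,4,1,5,1,5,1,4,1,4,1,4,6,1,13,14], 9, [([], 1330, [5,1,5,1,4,1,4,4,1,4,1,5]), ([46,78,40], 234, [5,1,5,1,4,4,1,5,1,5,1,5,1,4,1,4,1,5,1,5]), ([356], 774, [4,4,1,5,1,4,4,1,4,1,4,1,5,1,4,4])], []⟩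
def c1779 : Clm := ⟨8, 10, true, [1,4,1,4,1,5,1,5,1,5,1,4,4,1,5,1,5,1,4,1,4,1,4,6,1,13,14], [5,1,5,1,4,1,4,4,1,4,1,5,10], 5, [([], 1778, [])], []⟩
def c1780 : Clm := ⟨10, 10, true, [4,1,5,1,5,1,4,1,5,1,10], [4,4,1,4,4,1,4,4,1,4,1,4,4,1,5,1,4,1,10,8], 9, [([], 1330, [4,1,5,1,5,1,4,1,5,1]), ([40,79], 1331, [1,4,1,5,1,4,1,4,4,1,4,1,4,1,5,1,4]), ([2840,2688], 1662, [1,5,1,5,1,5,1,4,1,4,1,5])], []⟩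
def c1781 : Clm := ⟨10, 10, true, [4,4,1,4,4,1,4,4,1,4,1,4,4,1,5,1,4,1,10,8], [4,1,5,1,5,1,4,1,5,1,10], 5, [([], 1780, [])], []⟩
def c1782 : Clm := ⟨10, 10, true, [1,5,1,5,1,4,4,1,4,1,5,1,4,10], [4,4,1,5,1,4,1,4,1,5,1,5,1,4,1,4,1,4,1,4,1,4,2,10,7,9], 9, [([], 1330, [1,5,1,5,1,4,4,1,4,1,5,1,4]), ([44,78,72], 1001, [4,1,4,4,1,4,4,1,4,4,1,4,4,1,4,4,1,5,1,4,1]), ([2197], 1632, [5,1,4,1,4,4,1,5,1,5,1,5,1,5,1,4,1,5])], []⟩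
def c1783 : Clm := ⟨10, 10, true, [4,4,1,5,1,4,1,4,1,5,1,5,1,4,1,4,1,4,1,4,1,4,2,10,7,9], [1,5,1,5,1,4,4,1,4,1,5,1,4,10], 5, [([], 1782, [])], []⟩
def c1784 : Clm := ⟨10, 5, true, [4,1,5,1,4,1,4,1,4,1,4,1,4,10], [4,1,5,1,5,1,4,1,4,1,4,1,4,1,4,4,1,5,1,4,1,5,3,9,3,13], 9, [([], 1330, [4,1,5,1,4,1,4,1,4,1,4,1,4]), ([73,46,79], 131, [1,4,4,1,4,1,5,1,4,4,1,5,1,4,1,4,4,1,4,1,5]), ([316,283], 143, [4,4,1,4,1,5,1,5,1,4,1,4,4,1,4,1,4,1,4,1,5])], []⟩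
def c1785 : Clm := ⟨5, 10, true, [4,1,5,1,5,1,4,1,4,1,4,1,4,1,4,4,1,5,1,4,1,5,3,9,3,13], [4,1,5,1,4,1,4,1,4,1,4,1,4,10], 5, [([], 1784, [])], []⟩
def c1786 : Clm := ⟨8, 10, true, [5,1,4,1,5,1,5,1,4,1,4,4,1,9,3,8,7], [4,1,4,4,1,4,1,4,1,4,4,1,4,4,1,4,1,9], 11, [([], 1595, [5,1,4,4,1,5,1,4,1,5,1,5,1,5,1]), ([], 1330, [4,1,4,4,1,5,1,5,1,5,1,4,1,5]), ([47,79,66,40], 1331, [4,4,1,4,4,1,4,1,4,4,1,4,4,1,5,1,5,1,4,4])], []⟩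
def c1787 : Clm := ⟨10, 8, true, [4,1,4,4,1,4,1,4,1,4,4,1,4,4,1,4,1,9], [5,1,4,1,5,1,5,1,4,1,4,4,1,9,3,8,7], 5, [([], 1786, [])], []⟩
def c1788 : Clm := ⟨10, 9, true, [4,4,1,4,1,4,1,4,1,4,1,5,1,10], [5,1,4,1,4,1,4,1,4,1,5,1,4,1,5,1,4,1,5,6,2,1], 9, [([], 1330, [4,4,1,4,1,4,1,4,1,4,1,5,1]), ([72,66,78], 234, [4,4,1,5,1,4,4,1,5,1,5,1,5,1,4,1]), ([], 1246, [1,4,1,4,1,4,1,4,4,1,5,1,4,1,4,4,1,4,4])], []⟩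
def c1789 : Clm := ⟨9, 10, true, [5,1,4,1,4,1,4,1,4,1,5,1,4,1,5,1,4,1,5,6,2,1], [4,4,1,4,1,4,1,4,1,4,1,5,1,10], 5, [([], 1788, [])], []⟩
def c1790 : Clm := ⟨10, 5, true, [5,1,4,4,1,5,1,4,1,4,1,4,1,4,4,10], [4,1,4,1,4,1,4,4,1,5,1,4,4,1,10,1,4], 9, [([], 1330, [5,1,4,4,1,5,1,4,1,4,1,4,1,4,4]), ([42,46], 234, [4,4,1,4,1,4,4,1,4,1,4,1,4,4,1,5,1,4,1,4]), ([], 284, [1,4,1,4,1,4,4,1,5,1,5,1,5,1,4,1,4,1,4,1,4,1])], []⟩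
def c1791 : Clm := ⟨5, 10, true, [4,1,4,1,4,1,4,4,1,5,1,4,4,1,10,1,4], [5,1,4,4,1,5,1,4,1,4,1,4,1,4,4,10], 5, [([], 1790, [])], []⟩
def c1792 : Clm := ⟨10, 8, true, [1,5,1,4,4,1,4,1,4,1,5,1,4,1,5,1,4,4,1,4,2,7,11,5], [4,4,1,5,1,4,1,4,1,4,4,1,5,1,4,1,4,2,1,7,5], 11, [([], 1682, [1,4,1,5,1,5,1,4,1,4,4,1,4,1,4,1,5,1,5]), ([2840], 1330, [5,1,5,1,5,1,4,1,4]), ([44,78,40], 845, [4,1,4,4,1,4,1,4,4,1,5,1,4,1,5,1,5,1,5,1,5])], []⟩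
def c1793 : Clm := ⟨8, 10, true, [4,4,1,5,1,4,1,4,1,4,4,1,5,1,4,1,4,2,1,7,5], [1,5,1,4,4,1,4,1,4,1,5,1,4,1,5,1,4,4,1,4,2,7,11,5], 5, [([], 1792, [])], []⟩
def c1794 : Clm := ⟨10, 9, true, [5,1,5,1,4,1,5,1,5,1,4,4,1,4,1,5,1,12,1,4], [1,5,1,4,4,1,5,1,4,1,4,1,4,4,1,4,4,1,4,1,5,1,4,9], 11, [([], 1695, [5,1,5,1,4,4,1,4,1,5,1,4,4,1,5,1,5]), ([], 1330, [1,4,1,4,1,5,1,4,1,4]), ([79,44,42,40], 1001, [5,1,4,1,5,1,5,1,4,1,5,1,5,1,4,4])], []⟩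
def c1795 : Clm := ⟨9, 10, true, [1,5,1,4,4,1,5,1,4,1,4,1,4,4,1,4,4,1,4,1,5,1,4,9], [5,1,5,1,4,1,5,1,5,1,4,4,1,4,1,5,1,12,1,4], 5, [([], 1794, [])], []⟩
def c1796 : Clm := ⟨10, 8, true, [4,4,1,4,4,1,4,4,1,4,4,1,4,1,10], [5,1,5,1,4,4,1,4,4,1,5,1,5,1,4,1,5,8,3,9,3], 9, [([], 1330, [4,4,1,4,4,1,4,4,1,4,4,1,4,1]), ([78,73], 234, [4,1,4,4,1,5,1,5,1,4,4,1,4,4,1,4,4,1,4]), ([], 250, [1,4,1,4,4,1,4,4,1,4,1,4,4,1,4,4,1,5,1])], []⟩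
def c1797 : Clm := ⟨8, 10, true, [5,1,5,1,4,4,1,4,4,1,5,1,5,1,4,1,5,8,3,9,3], [4,4,1,4,4,1,4,4,1,4,4,1,4,1,10], 5, [([], 1796, [])], []⟩
def c1798 : Clm := ⟨10, 8, true, [1,4,1,4,1,5,1,5,1,4,4,10], [1,5,1,4,1,4,4,1,4,4,1,4,1,5,1,5,1,5,1,5,12,5], 9, [([], 1330, [1,4,1,4,1,5,1,5,1,4,4]), ([78,46,46], 125, [1,5,1,5,1,5,1,4,1,5,1,4,1,4,1,5,1,5,1,5,1,4,4]), ([229,226,241,230], 483, [1,4,4,1,4,1,4,1,4,1,4,1,4,1,4,4])], []⟩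
def c1799 : Clm := ⟨8, 10, true, [1,5,1,4,1,4,4,1,4,4,1,4,1,5,1,5,1,5,1,5,12,5], [1,4,1,4,1,5,1,5,1,4,4,10], 5, [([], 1798, [])], []⟩
def c1800 : Clm := ⟨10, 8, true, [4,1,4,1,5,1,4,1,4,4,10], [4,1,4,4,1,5,1,4,4,1,5,1,4,1,4,4,1,5,2,5,6,3], 9, [([], 1330, [4,1,4,1,5,1,4,1,4,4]), ([73,44,79], 1001, [1,4,1,5,1,4,4,1,4,1,4,1,5,1,5,1,4,1,5,1]), ([2114,2004], 1210, [1,4,1,4,4,1,5,1,5,1,4,1,4,1,4,4,1,4,1,5])], []⟩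
def c1801 : Clm := ⟨8, 10, true, [4,1,4,4,1,5,1,4,4,1,5,1,4,1,4,4,1,5,2,5,6,3], [4,1,4,1,5,1,4,1,4,4,10], 5, [([], 1800, [])], []⟩
def c1802 : Clm := ⟨10, 10, true, [5,1,4,4,1,5,1,4,4,1,10], [1,5,1,4,4,1,4,1,4,1,4,1,4,4,1,4,4,1,5,1,4,4,9,14,10], 9, [([], 1330, [5,1,4,4,1,5,1,4,4,1]), ([78,72], 845, [5,1,5,1,4,4,1,5,1,4,1,4,1,5,1,4,4,1,4,1,4,1]), ([357], 1759, [5,1,4,1,5,1,4,4,1,4,4,1,5,1,4,1,4,1,5])], []⟩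
def c1803 : Clm := ⟨10, 10, true, [1,5,1,4,4,1,4,1,4,1,4,1,4,4,1,4,4,1,5,1,4,4,9,14,10], [5,1,4,4,1,5,1,4,4,1,10], 5, [([], 1802, [])], []⟩
def c1804 : Clm := ⟨10, 8, true, [1,4,1,5,1,5,1,4,10], [1,4,1,4,1,4,4,1,4,4,1,4,1,4,1,4,4,1,6,1,6,8], 9, [([], 1330, [1,4,1,5,1,5,1,4]), ([78,46,78,40], 1331, [1,5,1,4,1,4,1,5,1,5,1,4,1,4]), ([2840,2688], 1558, [4,1,4,4,1,4,4,1,5,1,4,4,1,4,1,5,1,5,1,5])], []⟩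
def c1805 : Clm := ⟨8, 10, true, [1,4,1,4,1,4,4,1,4,4,1,4,1,4,1,4,4,1,6,1,6,8], [1,4,1,5,1,5,1,4,10], 5, [([], 1804, [])], []⟩
def c1806 : Clm := ⟨10, 8, true, [4,1,5,1,4,4,1,4,1,4,1,5,1,4,4,10], [4,1,5,1,5,1,4,4,1,4,4,1,5,1,5,1,4,1,5,1,7,8,3,1], 9, [([], 1330, [4,1,5,1,4,4,1,4,1,4,1,5,1,4,4]), ([73,44,78], 1331, [1,4,4,1,5,1,5,1,4,4,1,4,1,4,1,5,1,4,4,1,5,1]), ([2688,2840], 1646, [5,1,4,4,1,5,1,4,1,4,4,1,4,4,1,4,4,1,4,1,5,1])], []⟩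
def c1807 : Clm := ⟨8, 10, true, [4,1,5,1,5,1,4,4,1,4,4,1,5,1,5,1,4,1,5,1,7,8,3,1], [4,1,5,1,4,4,1,4,1,4,1,5,1,4,4,10], 5, [([], 1806, [])], []⟩
def c1808 : Clm := ⟨10, 10, true, [1,5,1,4,4,1,5,1,4,1,4,10], [4,1,4,4,1,4,4,1,4,1,4,1,4,4,1,5,1,4,4,1,2,1,10,5], 9, [([], 1330, [1,5,1,4,4,1,5,1,4,1,4]), ([46,73,40], 234, [5,1,4,4,1,4,1,4,4,1,4,1,4,1,4,4,1,5,1,4,1,5]), ([], 1717, [1,4,4,1,5,1,5,1,4,4,1,5,1,4,4,1,5,1])], []⟩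
def c1809 : Clm := ⟨10, 8, true, [4,1,4,4,1,5,1,5,1,5,1,4,1,10], [1,5,1,4,1,4,1,4,4,1,4,1,5,1,4,1,5,1,4,1,4,1,5,9,12], 9, [([], 1330, [4,1,4,4,1,5,1,5,1,5,1,4,1]), ([79,72,47], 100, [5,1,4,4,1,5,1,4,4,1,4,4,1,4,4,1,4,1,4]), ([158,90,88], 291, [1,5,1,5,1,5,1,4,1,4,4,1,5,1,4,4,1,5,1,4,1])], []⟩
def c1810 : Clm := ⟨8, 10, true, [1,5,1,4,1,4,1,4,4,1,4,1,5,1,4,1,5,1,4,1,4,1,5,9,12], [4,1,4,4,1,5,1,5,1,5,1,4,1,10], 5, [([], 1809, [])], []⟩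
def c1811 : Clm := ⟨10, 10, true, [4,1,4,1,5,1,4,4,1,4,1,4,1,5,10], [4,1,4,1,5,1,4,1,4,1,5,1,4,1,5,1,4,1,4,1,5,1,5,8], 9, [([], 1330, [4,1,4,1,5,1,4,4,1,4,1,4,1,5]), ([79,66], 41, [4,1,4,1,4,4,1,4,1,5,1,4,1,4,4,1,5,1,4,4]), ([78,73,66], 1331, [4,1,4,1,5,1,4,1,4,1,5,1,4,1,5,1,4,1,4,1,5,1,5])], []⟩
def c1812 : Clm := ⟨10, 8, true, [4,4,1,4,4,1,4,1,5,1,4,4,10], [1,4,1,4,4,1,4,4,1,4,4,1,4,1,5,1,5,1,5,2,4,1,3], 9, [([], 1330, [4,4,1,4,4,1,4,1,5,1,4,4]), ([46,78,47], 1331, [5,1,4,1,5,1,5,1,4,1,4,4,1,5,1]), ([2688,2840], 1652, [1,4,1,4,1,4,1,4,4,1,4,1,4,1,4,1,4,1,4,1])], []⟩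
def c1813 : Clm := ⟨8, 10, true, [1,4,1,4,4,1,4,4,1,4,4,1,4,1,5,1,5,1,5,2,4,1,3], [4,4,1,4,4,1,4,1,5,1,4,4,10], 5, [([], 1812, [])], []⟩
def c1814 : Clm := ⟨10, 8, true, [1,5,1,4,4,1,4,1,4,4,1,4,10], [1,4,1,4,4,1,5,1,4,1,5,1,5,1,5,1,5,1,4,1,4,3,9,12,9], 9, [([], 1330, [1,5,1,4,4,1,4,1,4,4,1,4]), ([47,44,42,40], 1001, [4,4,1,5,1,4,4,1,4,4,1,4,1,4,4,1,4,4,1]), ([], 1263, [1,4,1,4,1,5,1,5,1,4,1,5,1,4,1,4,1,4,4,1,4])], []⟩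
def c1815 : Clm := ⟨8, 10, true, [1,4,1,4,4,1,5,1,4,1,5,1,5,1,5,1,5,1,4,1,4,3,9,12,9], [1,5,1,4,4,1,4,1,4,4,1,4,10], 5, [([], 1814, [])], []⟩
def c1816 : Clm := ⟨10, 8, true, [5,1,5,1,4,1,4,4,10], [5,1,5,1,5,1,4,1,4,1,4,1,4,1,4,4,6,2,7], 9, [([], 1330, [5,1,5,1,4,1,4,4]), ([72,46,46], 1331, [5,1,4,1,5,1,4,4,1,5,1,4,4,1,4,4]), ([2840], 1754, [5,1,5,1,5,1,4,1,4,4,1,5,1,5,1,5])], []⟩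
def c1817 : Clm := ⟨8, 10, true, [5,1,5,1,5,1,4,1,4,1,4,1,4,1,4,4,6,2,7], [5,1,5,1,4,1,4,4,10], 5, [([], 1816, [])], []⟩
def c1818 : Clm := ⟨10, 8, true, [5,1,5,1,4,1,5,1,4,10], [1,4,1,4,1,4,1,4,1,4,4,1,4,4,1,4,1,5,1,5,1,6,2,5,8], 9, [([], 1330, [5,1,5,1,4,1,5,1,4]), ([79,66,42], 177, [1,4,4,1,5,1,4,1,5,1,5,1,4,4,1,4,1,5,1,4,4]), ([], 895, [1,5,1,5,1,4,1,4,1,4,4,1,4,4,1,4,4])], []⟩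
def c1819 : Clm := ⟨8, 10, true, [1,4,1,4,1,4,1,4,1,4,4,1,4,4,1,4,1,5,1,5,1,6,2,5,8], [5,1,5,1,4,1,5,1,4,10], 5, [([], 1818, [])], []⟩
def c1820 : Clm := ⟨8, 10, true, [5,1,5,1,4,1,4,4,1,4,4,1,5,1,4,1,5,1,5,1,2,4,12,6,5], [1,4,1,4,1,4,1,4,1,4,4,1,4,4,1,4,1,5,1,5,1,9], 11, [([], 1355, [1,5,1,4,4,1,5,1,5,1,4,1,4,4,1,5,1,4,1]), ([2688], 1330, [5,1,4,4,1,4,1,4,1,5,1,4,4]), ([42,44], 1331, [4,1,4,1,4,1,4,1,4,1,4,1,5,1,4,4,1,4,4,1])], []⟩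
def c1821 : Clm := ⟨10, 8, true, [1,4,1,4,1,4,1,4,1,4,4,1,4,4,1,4,1,5,1,5,1,9], [5,1,5,1,4,1,4,4,1,4,4,1,5,1,4,1,5,1,5,1,2,4,12,6,5], 5, [([], 1820, [])], []⟩
def c1822 : Clm := ⟨10, 8, true, [1,5,1,4,4,1,5,1,5,1,4,1,10], [1,4,1,5,1,4,1,4,4,1,5,1,4,1,4,1,5,1,4,3,14,8,4], 9, [([], 1330, [1,5,1,4,4,1,5,1,5,1,4,1]), ([72,47,79], 1001, [4,1,5,1,4,1,4,1,4,4,1,5,1,5,1,4,1,4,4,1,5]), ([2196,2114,2004], 1110, [1,4,4,1,4,1,5,1,5,1,4,1,4,1,5,1,4])], []⟩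
def c1823 : Clm := ⟨8, 10, true, [1,4,1,5,1,4,1,4,4,1,5,1,4,1,4,1,5,1,4,3,14,8,4], [1,5,1,4,4,1,5,1,5,1,4,1,10], 5, [([], 1822, [])], []⟩
def c1824 : Clm := ⟨10, 9, true, [1,4,1,4,4,1,4,4,1,4,1,4,10], [1,4,1,5,1,4,4,1,4,1,4,1,5,2,1,13,8], 9, [([], 1330, [1,4,1,4,4,1,4,4,1,4,1,4]), ([73,79,44], 125, [1,4,1,5,1,4,1,5,1,5,1,4,1,4,1,4,1,4,1,4,4,1]), ([228,240], 1034, [4,4,1,4,4,1,4,1,4,1,5,1,5,1,4,4,1,5,1,5,1])], []⟩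
def c1825 : Clm := ⟨9, 10, true, [1,4,1,5,1,4,4,1,4,1,4,1,5,2,1,13,8], [1,4,1,4,4,1,4,4,1,4,1,4,10], 5, [([], 1824, [])], []⟩
def c1826 : Clm := ⟨10, 8, true, [4,1,4,1,4,1,4,4,1,5,1,4,1,5,10], [1,4,4,1,4,1,4,4,1,4,1,4,1,5,1,5,1,4,1,5,1,5,10,14,4,11], 9, [([], 1330, [4,1,4,1,4,1,4,4,1,5,1,4,1,5]), ([79,44,72], 1001, [5,1,4,4,1,5,1,5,1,4,1,4,1,4,1,4,1,4,4,1,5]), ([2114,2004], 1039, [4,1,4,1,4,1,4,1,4,1,5])], []⟩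
def c1827 : Clm := ⟨8, 10, true, [1,4,4,1,4,1,4,4,1,4,1,4,1,5,1,5,1,4,1,5,1,5,10,14,4,11], [4,1,4,1,4,1,4,4,1,5,1,4,1,5,10], 5, [([], 1826, [])], []⟩
def c1828 : Clm := ⟨10, 9, true, [4,4,1,5,1,5,1,4,1,5,1,10], [4,4,1,4,1,5,1,5,1,4,1,4,4,1,4,4,1,4,8,12], 9, [([], 1330, [4,4,1,5,1,5,1,4,1,5,1]), ([47,78,73], 131, [4,1,5,1,4,1,4,1,5,1,4,4,1,4,4,1,4,4,1]), ([282,282], 1271, [4,4,1,5,1,4,4,1,4,1,5,1,5,1,5,1,5,1,4])], []⟩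
def c1829 : Clm := ⟨9, 10, true, [4,4,1,4,1,5,1,5,1,4,1,4,4,1,4,4,1,4,8,12], [4,4,1,5,1,5,1,4,1,5,1,10], 5, [([], 1828, [])], []⟩
def c1830 : Clm := ⟨10, 8, true, [1,4,4,1,5,1,5,1,5,1,4,1,5,10], [1,4,1,5,1,4,1,4,1,5,1,4,4,1,5,1,4,1,4,4,1,5,3,7,10,3], 9, [([], 1330, [1,4,4,1,5,1,5,1,5,1,4,1,5]), ([73,46,79], 234, [1,4,1,4,1,4,1,5,1,5,1,5,1,4,4,1,4,4,1,5,1]), ([356], 972, [4,1,5,1,5,1,4,1,4,1,4,1,4,4,1,4,1,5,1])], []⟩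
def c1831 : Clm := ⟨8, 10, true, [1,4,1,5,1,4,1,4,1,5,1,4,4,1,5,1,4,1,4,4,1,5,3,7,10,3], [1,4,4,1,5,1,5,1,5,1,4,1,5,10], 5, [([], 1830, [])], []⟩
def c1832 : Clm := ⟨10, 6, true, [1,5,1,4,4,1,5,1,5,1,4,1,4,1,4,1,4,1,5,1,4,4,10,10,6,5], [4,1,4,4,1,4,1,4,4,1,4,1,4,1,4,4,1,4,4,1,12,11,12,7], 11, [([], 1448, [4,1,4,1,5,1,4,1,4,1,5,1,5,1,4,4,1,4,4,1,5,1]), ([2840], 1330, [4,1,5,1,4]), ([47,79,42], 125, [4,4,1,4,4,1,4,4,1,5,1,4,1,4,1,4,1,4,1,4,4])], []⟩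
def c1833 : Clm := ⟨6, 10, true, [4,1,4,4,1,4,1,4,4,1,4,1,4,1,4,4,1,4,4,1,12,11,12,7], [1,5,1,4,4,1,5,1,5,1,4,1,4,1,4,1,4,1,5,1,4,4,10,10,6,5], 5, [([], 1832, [])], []⟩
def c1834 : Clm := ⟨10, 10, true, [4,1,5,1,4,1,5,10], [1,4,1,4,1,5,1,5,1,4,4,1,4,4,2,1,5,13], 9, [([], 1330, [4,1,5,1,4,1,5]), ([46,66,46,40], 234, [4,4,1,5,1,4,1,4,1,4,4,1,4,1,4,1,5,1,4,4,1]), ([], 1630, [5,1,4,1,5,1,5,1,5,1,5,1,5,1,4,4,1])], []⟩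
def c1835 : Clm := ⟨10, 10, true, [1,4,1,4,1,5,1,5,1,4,4,1,4,4,2,1,5,13], [4,1,5,1,4,1,5,10], 5, [([], 1834, [])], []⟩
def c1836 : Clm := ⟨10, 8, true, [4,4,1,4,4,1,5,1,4,1,4,10], [1,5,1,4,1,5,1,5,1,4,4,1,5,1,5,1,4,1,5,1,4,2,11,12,2], 9, [([], 1330, [4,4,1,4,4,1,5,1,4,1,4]), ([79,40], 845, [4,1,5,1,4,1,4,4,1,5,1,5,1,5,1]), ([], 824, [1,5,1,4,1,4,1,5,1,5,1,5,1,4,4,1,5])], []⟩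
def c1837 : Clm := ⟨8, 10, true, [1,5,1,4,1,5,1,5,1,4,4,1,5,1,5,1,4,1,5,1,4,2,11,12,2], [4,4,1,4,4,1,5,1,4,1,4,10], 5, [([], 1836, [])], []⟩
def c1838 : Clm := ⟨10, 8, true, [10], [5,1,4,1,5,1,4,1,4,4,1,4,1,5,1,5,1,4,4,1,5,3,6,10,2], 9, [([], 1330, []), ([78,46,42,40], 360, [1,4,1,5,1,4,1,5,1,4,4,1,5,1,5,1,4,1,5,1,4,4,1]), ([357], 384, [1,4,1,4,4,1,4,1,5,1,4,1,4,1,5,1,5,1,4,1,5])], []⟩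
def c1839 : Clm := ⟨8, 10, true, [5,1,4,1,5,1,4,1,4,4,1,4,1,5,1,5,1,4,4,1,5,3,6,10,2], [10], 5, [([], 1838, [])], []⟩
def c1840 : Clm := ⟨10, 10, true, [1,5,1,5,1,5,1,5,1,4,4,1,4,1,5,10], [1,5,1,4,1,5,1,4,4,1,4,4,1,4,1,4,9,7,5], 9, [([], 1330, [1,5,1,5,1,5,1,5,1,4,4,1,4,1,5]), ([46,72,47], 1331, [4,4,1,5,1,4,4,1,4,1,4,1,4,4,1,5,1,5,1]), ([2840], 1803, [1,4,4,1,4,1,4,1,4,1,4,4,1,4,4,1,4,1,4,1,5])], []⟩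
def c1841 : Clm := ⟨10, 10, true, [1,5,1,4,1,5,1,4,4,1,4,4,1,4,1,4,9,7,5], [1,5,1,5,1,5,1,5,1,4,4,1,4,1,5,10], 5, [([], 1840, [])], []⟩
def c1842 : Clm := ⟨10, 5, true, [1,4,1,4,4,1,4,1,5,1,4,4,10], [1,4,4,1,4,1,4,1,4,1,4,4,1,5,1,4,1,4,4,1,5,6,9,9,2], 9, [([], 1330, [1,4,1,4,4,1,4,1,5,1,4,4]), ([79,66,73,40], 234, [5,1,4,4,1,5]), ([], 523, [1,4,1,4,4,1,4,4,1,5,1,4,1,4,4,1,4,4,1,5])], []⟩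
def c1843 : Clm := ⟨5, 10, true, [1,4,4,1,4,1,4,1,4,1,4,4,1,5,1,4,1,4,4,1,5,6,9,9,2], [1,4,1,4,4,1,4,1,5,1,4,4,10], 5, [([], 1842, [])], []⟩
def c1844 : Clm := ⟨10, 9, true, [1,4,1,5,1,4,4,1,4,1,5,1,4,10], [5,1,4,1,4,4,1,4,1,4,1,4,1,5,1,4,1,2,11,14,10], 9, [([], 1330, [1,4,1,5,1,4,4,1,4,1,5,1,4]), ([42,78,72,40], 234, [4,1,5,1,4,1,4,1,4,4,1,5,1,5,1,4,1,4,4,1,5]), ([], 1296, [1,5,1,4,1,5,1,5,1,4,4,1,5,1,5,1,4,1,5])], []⟩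
def c1845 : Clm := ⟨9, 10, true, [5,1,4,1,4,4,1,4,1,4,1,4,1,5,1,4,1,2,11,14,10], [1,4,1,5,1,4,4,1,4,1,5,1,4,10], 5, [([], 1844, [])], []⟩
def c1846 : Clm := ⟨8, 10, true, [1,4,1,4,1,4,1,5,1,5,1,4,1,4,1,4,1,4,1,4,4,1,4,10,10,6,2], [1,4,1,4,4,1,5,1,5,1,4,4,1,4,1,4,1,5,1,4,4,9], 11, [([], 1478, [1,4,1,4,1,4,4,1,4,1,5,1,4,1,5,1,4,1,4,1]), ([], 1330, [1,5,1,4,4,1,4,1,4,4,1,4,1]), ([46,73,44], 1331, [4,4,1,5,1,5,1,4,1,4,1,5,1,4,1,4,4,1])], []⟩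
def c1847 : Clm := ⟨10, 8, true, [1,4,1,4,4,1,5,1,5,1,4,4,1,4,1,4,1,5,1,4,4,9], [1,4,1,4,1,4,1,5,1,5,1,4,1,4,1,4,1,4,1,4,4,1,4,10,10,6,2], 5, [([], 1846, [])], []⟩
def c1848 : Clm := ⟨10, 10, true, [4,1,4,4,1,4,4,1,4,4,1,4,4,1,4,1,10], [1,5,1,5,1,4,4,1,4,1,5,1,4,4,1,5,12,11,5], 9, [([], 1330, [4,1,4,4,1,4,4,1,4,4,1,4,4,1,4,1]), ([73,42,47], 177, [1,4,1,5,1,5,1,4,1,5,1,4,1,5,1,4,1,4,1,4,4]), ([], 1540, [5,1,5,1,4,4,1,5,1,4,4,1,4,4,1,4,1,4,1,5,1])], []⟩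
def c1849 : Clm := ⟨10, 10, true, [1,5,1,5,1,4,4,1,4,1,5,1,4,4,1,5,12,11,5], [4,1,4,4,1,4,4,1,4,4,1,4,4,1,4,1,10], 5, [([], 1848, [])], []⟩
def c1850 : Clm := ⟨10, 8, true, [4,1,5,1,5,1,4,1,10], [1,4,1,4,4,1,4,4,1,4,1,4,1,4,4,1,5,1,4,1,6,1,7,2], 9, [([], 1330, [4,1,5,1,5,1,4,1]), ([44,42,44], 234, [5,1,4,1,4,1,5,1,5,1,4,1,4,1,4,1,4]), ([], 380, [1,4,1,4,1,4,1,4,1,4,4,1,5,1,4,1,4,4])], []⟩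
def c1851 : Clm := ⟨8, 10, true, [1,4,1,4,4,1,4,4,1,4,1,4,1,4,4,1,5,1,4,1,6,1,7,2], [4,1,5,1,5,1,4,1,10], 5, [([], 1850, [])], []⟩
def c1852 : Clm := ⟨10, 10, true, [5,1,5,1,5,1,5,1,4,1,4,10], [1,5,1,5,1,4,4,1,4,4,1,5,1,5,1,5,1,5,1,5,2,7,4,11], 9, [([], 1330, [5,1,5,1,5,1,5,1,4,1,4]), ([66,78,44], 125, [1,5,1,5,1,5,1,5,1,5,1,5,1,4,1,4,4,1,4,4]), ([228,228,230,228], 1832, [4,4,1,5,1,4,1,4,4,1,5,1,5,1,4,4,1,4,1,5,1])], []⟩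
def c1853 : Clm := ⟨10, 10, true, [1,5,1,5,1,4,4,1,4,4,1,5,1,5,1,5,1,5,1,5,2,7,4,11], [5,1,5,1,5,1,5,1,4,1,4,10], 5, [([], 1852, [])], []⟩
def c1854 : Clm := ⟨10, 8, true, [5,1,5,1,4,1,5,1,10], [5,1,4,4,1,5,1,4,1,4,1,4,4,1,5,1,4,1,4,1,4,1,5,2,10,3,9], 9, [([], 1330, [5,1,5,1,4,1,5,1]), ([42,73], 1001, [1,4,1,4,1,4,4,1,4,1,5,1,5,1,4,4,1,4,4,1,4]), ([2114,2004], 1100, [4,1,4,1,4,4,1,5,1,5,1,4,4,1,4,1,5,1,5,1,4,4,1])], []⟩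
def c1855 : Clm := ⟨8, 10, true, [5,1,4,4,1,5,1,4,1,4,1,4,4,1,5,1,4,1,4,1,4,1,5,2,10,3,9], [5,1,5,1,4,1,5,1,10], 5, [([], 1854, [])], []⟩
def c1856 : Clm := ⟨10, 10, true, [1,4,4,1,4,1,4,1,5,10], [1,4,1,4,4,1,4,4,1,5,1,4,4,1,5,1,4,1,4,1,5,1,10,10,6,12], 9, [([], 1330, [1,4,4,1,4,1,4,1,5]), ([44,78,40], 1001, [1,4,4,1,4,1,4,1,4,1,5,1]), ([2114,2004], 1741, [1,4,4,1,4,1,4,1,5,1,4,1,5,1,4])], []⟩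
def c1857 : Clm := ⟨10, 10, true, [1,4,1,4,4,1,4,4,1,5,1,4,4,1,5,1,4,1,4,1,5,1,10,10,6,12], [1,4,4,1,4,1,4,1,5,10], 5, [([], 1856, [])], []⟩
def c1858 : Clm := ⟨10, 8, true, [5,1,4,1,4,4,1,4,1,5,10], [4,4,1,4,1,5,1,4,1,5,1,4,1,4,1,5,1,4,1,2,5,9,6], 9, [([], 1330, [5,1,4,1,4,4,1,4,1,5]), ([78,47,42], 177, [1,5,1,5,1,4,1,4,4,1,5,1,5,1,5,1,5,1,4,1,5,1]), ([357], 514, [1,4,1,4,1,5,1,5,1,4,4,1,5,1,4,4,1,5,1])], []⟩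
def c1859 : Clm := ⟨8, 10, true, [4,4,1,4,1,5,1,4,1,5,1,4,1,4,1,5,1,4,1,2,5,9,6], [5,1,4,1,4,4,1,4,1,5,10], 5, [([], 1858, [])], []⟩
def c1860 : Clm := ⟨10, 8, true, [4,4,1,4,4,10], [5,1,5,1,5,1,4,4,1,4,1,4,4,1,4,1,5,2,10,7,13], 9, [([], 1330, [4,4,1,4,4]), ([72,79,40], 1001, [1,5,1,5,1,4,1,5,1,4,4,1,5,1,4,4,1]), ([2197,2004], 1080, [1,4,1,5,1,4,4,1,4,1,4,4,1,4,1,4,4,1,5,1,4])], []⟩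
def c1861 : Clm := ⟨8, 10, true, [5,1,5,1,5,1,4,4,1,4,1,4,4,1,4,1,5,2,10,7,13], [4,4,1,4,4,10], 5, [([], 1860, [])], []⟩
def c1862 : Clm := ⟨10, 8, true, [4,4,1,5,1,5,1,4,4,1,4,1,4,1,4,6,10,13,5], [1,5,1,4,1,4,4,1,4,4,1,4,1,4,1,3,5,11,3], 11, [([], 1783, [5,1,4,1,4,1,5,1,5,1,4,1,4,4,1,4,1,4,4]), ([2840], 1330, [4,4,1,5,1,4,4,1,4]), ([73,66,78,47], 234, [4,4,1,4,4,1,4,4,1,4,4,1,5,1,4,1,4,1,4,1])], []⟩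
def c1863 : Clm := ⟨8, 10, true, [1,5,1,4,1,4,4,1,4,4,1,4,1,4,1,3,5,11,3], [4,4,1,5,1,5,1,4,4,1,4,1,4,1,4,6,10,13,5], 5, [([], 1862, [])], []⟩
def c1864 : Clm := ⟨10, 8, true, [4,1,4,4,1,4,4,1,4,4,1,4,10], [4,1,4,1,4,4,1,4,1,5,1,4,4,1,5,1,4,4,2,4,10,5], 9, [([], 1330, [4,1,4,4,1,4,4,1,4,4,1,4]), ([79,72,66], 1331, [5,1,5,1,5,1,4,4,1,4,4,1,5,1,4,1,4,1,4,4,1]), ([2688], 1797, [4,1,5,1,5,1,5,1,4,4,1,5,1,4,1,4,4])], []⟩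
def c1865 : Clm := ⟨8, 10, true, [4,1,4,1,4,4,1,4,1,5,1,4,4,1,5,1,4,4,2,4,10,5], [4,1,4,4,1,4,4,1,4,4,1,4,10], 5, [([], 1864, [])], []⟩
def c1866 : Clm := ⟨8, 10, true, [4,4,1,4,1,5,1,4,4,1,4,4,1,4,4,1,5,1,4,4,1,6,8,10,12], [4,1,5,1,4,1,4,4,1,5,1,4,4,1,5,1,9], 11, [([], 1645, [1,4,1,5,1,4,4,1,4,4,1,5,1,4,4,1,5,1,5,1]), ([2840], 1330, [4,1,5,1,5,1,5,1,4]), ([44,79,72,46], 1331, [4,4,1,4,4,1,5,1,4,1,4,1,5,1,5,1,4,4,1,5,1])], []⟩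
def c1867 : Clm := ⟨10, 8, true, [4,1,5,1,4,1,4,4,1,5,1,4,4,1,5,1,9], [4,4,1,4,1,5,1,4,4,1,4,4,1,4,4,1,5,1,4,4,1,6,8,10,12], 5, [([], 1866, [])], []⟩
def c1868 : Clm := ⟨10, 8, true, [4,1,5,1,5,1,5,1,4,1,5,10], [1,4,4,1,4,1,5,1,4,1,4,4,1,5,1,5,1,4,1,4,6,2,7,5], 9, [([], 1330, [4,1,5,1,5,1,5,1,4,1,5]), ([78,66], 51, [5,1,5,1,4,1,4,4,1,4,4,1,4,1,5,1,4,4,1,4,1]), ([158,92,88], 330, [4,4,1,4,4,1,4,4,1,5,1,4,1,5,1,5])], []⟩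
def c1869 : Clm := ⟨8, 10, true, [1,4,4,1,4,1,5,1,4,1,4,4,1,5,1,5,1,4,1,4,6,2,7,5], [4,1,5,1,5,1,5,1,4,1,5,10], 5, [([], 1868, [])], []⟩
def c1870 : Clm := ⟨10, 10, true, [1,5,1,5,1,4,1,4,4,1,4,1,10], [4,4,1,4,1,5,1,4,1,5,1,4,1,5,1,4,1,4,4,1,5,1,3,10,13,10], 9, [([], 1330, [1,5,1,5,1,4,1,4,4,1,4,1]), ([47,42], 177, [1,4,1,4,1,5,1,5,1,4,1,5,1,4,1]), ([357], 1546, [5,1,4,1,4,4,1,4,1,4,1,5,1,4,4,1,4])], []⟩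
def c1871 : Clm := ⟨10, 10, true, [4,4,1,4,1,5,1,4,1,5,1,4,1,5,1,4,1,4,4,1,5,1,3,10,13,10], [1,5,1,5,1,4,1,4,4,1,4,1,10], 5, [([], 1870, [])], []⟩
def c1872 : Clm := ⟨10, 10, true, [1,4,4,1,4,1,4,4,1,4,1,4,1,4,10], [1,4,4,1,4,1,4,4,1,5,1,4,1,5,1,4,4,1,4,4,8], 9, [([], 1330, [1,4,4,1,4,1,4,4,1,4,1,4,1,4]), ([66,46], 27, [1,5,1,5,1,5,1,4,4,1,5,1,5,1,4,4,1,4,1,5]), ([78,42,79], 1331, [1,4,4,1,4,1,4,4,1,5,1,4,1,5,1,4,4,1,4,4])], []⟩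
def c1873 : Clm := ⟨10, 10, true, [1,4,4,1,4,1,4,4,1,5,1,4,1,5,1,4,4,1,4,4,8], [1,4,4,1,4,1,4,4,1,4,1,4,1,4,10], 5, [([], 1872, [])], []⟩
def c1874 : Clm := ⟨10, 8, true, [1,4,4,1,4,4,1,4,1,10], [4,1,4,4,1,4,1,4,1,5,1,5,1,4,1,5,1,5,1,4,6,12,10,5], 9, [([], 1330, [1,4,4,1,4,4,1,4,1]), ([78,72,46], 1331, [1,4,4,1,4,4,1,4,4,1,4,1,4,4,1,5,1,5]), ([2840,2688], 1461, [4,4,1,4,1,4,1,4,4,1,4,4,1,5,1,5])], []⟩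
def c1875 : Clm := ⟨8, 10, true, [4,1,4,4,1,4,1,4,1,5,1,5,1,4,1,5,1,5,1,4,6,12,10,5], [1,4,4,1,4,4,1,4,1,10], 5, [([], 1874, [])], []⟩
def c1876 : Clm := ⟨10, 8, true, [4,1,5,1,4,1,5,1,4,1,10], [1,4,1,4,1,4,1,5,1,4,1,5,1,5,1,5,1,5,1,2,4,11,12], 9, [([], 1330, [4,1,5,1,4,1,5,1,4,1]), ([79,47,72], 1001, [1,4,4,1,5,1,4,1,5,1,5,1,4,4,1,4,1,4,4,1,4,1]), ([2197,2114,2004], 1029, [4,1,4,1,4,1,5,1,4,4,1,4,4,1,5,1,4,1])], []⟩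
def c1877 : Clm := ⟨8, 10, true, [1,4,1,4,1,4,1,5,1,4,1,5,1,5,1,5,1,5,1,2,4,11,12], [4,1,5,1,4,1,5,1,4,1,10], 5, [([], 1876, [])], []⟩
def c1878 : Clm := ⟨10, 9, true, [4,4,1,5,1,4,1,4,1,4,1,4,4,10], [1,4,4,1,4,1,4,4,1,4,1,4,1,5,1,5,1,4,4,1,4,10,6,13], 9, [([], 1330, [4,4,1,5,1,4,1,4,1,4,1,4,4]), ([79,72,66,40], 234, [5,1,5,1,4,4,1,4,1,4,4,1,4,4]), ([356], 1199, [4,4,1,4,1,5,1,5,1,5,1,5,1,4,1,4,1,4,4,1,4,1])], []⟩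
def c1879 : Clm := ⟨9, 10, true, [1,4,4,1,4,1,4,4,1,4,1,4,1,5,1,5,1,4,4,1,4,10,6,13], [4,4,1,5,1,4,1,4,1,4,1,4,4,10], 5, [([], 1878, [])], []⟩
def c1880 : Clm := ⟨10, 10, true, [1,5,1,4,1,4,4,1,4,1,4,1,10], [1,4,4,1,4,4,1,4,4,1,5,1,5,1,4,4,1,4,4,1,4,1,6,11,6], 9, [([], 1330, [1,5,1,4,1,4,4,1,4,1,4,1]), ([46,78,73], 1331, [4,1,4,4,1,5,1,5,1,5,1,4,4,1,5,1,5,1,4,1,4,4]), ([2688,2840], 1737, [4,1,4,1,4,1,5,1,4,4,1,4,1,5,1,5,1,5,1,4,1])], []⟩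
def c1881 : Clm := ⟨10, 10, true, [4,4,1,4,4,1,4,10], [4,1,5,1,5,1,5,1,4,4,1,4,4,1,4,4,1,2,10,4,14], 9, [([], 1330, [4,4,1,4,4,1,4]), ([46,78], 131, [1,4,1,4,4,1,5,1,5,1,4,4,1,4,4,1,4,4,1,5,1,5]), ([271,264], 1389, [1,5,1,5,1,4,1,4,1,5,1,5,1,5,1,4])], []⟩
def c1882 : Clm := ⟨10, 10, true, [4,4,1,4,1,4,4,1,5,1,5,1,4,1,10], [5,1,4,1,4,4,1,5,1,4,1,5,1,5,1,5,1,5,3,8,1,9], 9, [([], 1330, [4,4,1,4,1,4,4,1,5,1,5,1,4,1]), ([46,73,44], 234, [1,4,1,4,1,5,1,4,1,5,1,4,4,1,5,1,5,1,5,1,4,1,4,4,1]), ([356], 1822, [1,4,1,4,1,5,1,4,1,4,4,1,4,1,4,1,4,1])], []⟩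
def c1883 : Clm := ⟨10, 10, true, [5,1,4,1,4,4,1,5,1,4,1,5,1,5,1,5,1,5,3,8,1,9], [4,4,1,4,1,4,4,1,5,1,5,1,4,1,10], 5, [([], 1882, [])], []⟩
def c1884 : Clm := ⟨10, 8, true, [5,1,5,1,5,1,4,1,4,1,10], [4,4,1,5,1,5,1,4,4,1,4,1,5,1,4,1,4,4,1,5,1,2,10,5,1], 9, [([], 1330, [5,1,5,1,5,1,4,1,4,1]), ([72,78,44], 1001, [1,4,4,1,4,1,4,1,5,1,4,1,4,4,1,5,1,4,4,1,5]), ([2114], 1182, [1,4,4,1,4,1,4,4,1,5,1,4,1,4,4,1,4])], []⟩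
def c1885 : Clm := ⟨8, 10, true, [4,4,1,5,1,5,1,4,4,1,4,1,5,1,4,1,4,4,1,5,1,2,10,5,1], [5,1,5,1,5,1,4,1,4,1,10], 5, [([], 1884, [])], []⟩
def c1886 : Clm := ⟨10, 8, true, [4,1,5,1,4,1,4,4,1,4,4,1,5,1,4,1,5,1,13,9,11,12], [4,1,5,1,4,4,1,4,1,5,1,5,1,4,4,3,9,13,8], 11, [([], 1738, [1,4,4,1,5,1,4,1,4,4,1,4,4,1,4,1,4,1,4,4,1,4]), ([2840,2688], 1330, [4,1,4,4,1,5,1,4,4,1,4,1,5,1,4,1]), ([46,79,42], 234, [4,1,5,1,4,4,1,4,1,4,1,5,1,4,1,4,4,1,5,1,4,4])], []⟩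
def c1887 : Clm := ⟨8, 10, true, [4,1,5,1,4,4,1,4,1,5,1,5,1,4,4,3,9,13,8], [4,1,5,1,4,1,4,4,1,4,4,1,5,1,4,1,5,1,13,9,11,12], 5, [([], 1886, [])], []⟩
def c1888 : Clm := ⟨10, 8, true, [1,5,1,5,1,5,1,5,1,4,10], [5,1,4,1,4,1,4,4,1,5,1,4,4,1,4,1,3,12,10,10], 9, [([], 1330, [1,5,1,5,1,5,1,5,1,4]), ([66,72], 845, [5,1,5,1,4,1,4,1,4,1,4,1,5,1,4,1,4,4,1,4,4]), ([], 331, [1,4,1,4,4,1,4,4,1,5,1,4,4,1,4,1,5,1,5,1])], []⟩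
def c1889 : Clm := ⟨8, 10, true, [5,1,4,1,4,1,4,4,1,5,1,4,4,1,4,1,3,12,10,10], [1,5,1,5,1,5,1,5,1,4,10], 5, [([], 1888, [])], []⟩
def c1890 : Clm := ⟨10, 8, true, [4,1,5,1,4,1,4,4,1,4,1,10], [1,5,1,4,1,5,1,5,1,4,1,4,1,4,1,4,1,4,1,4,1,5,1,9,5,8,13], 9, [([], 1330, [4,1,5,1,4,1,4,4,1,4,1]), ([79,66], 234, [4,1,4,4,1,4,1,5,1,4,1,4,1,4,4,1,4,1,5,1,4]), ([357], 688, [1,4,1,4,1,4,1,4,1,4,1,4,1,4,4,1,4,4,1,4,1,5])], []⟩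
def c1891 : Clm := ⟨8, 10, true, [1,5,1,4,1,5,1,5,1,4,1,4,1,4,1,4,1,4,1,4,1,5,1,9,5,8,13], [4,1,5,1,4,1,4,4,1,4,1,10], 5, [([], 1890, [])], []⟩
def c1892 : Clm := ⟨10, 8, true, [4,1,5,1,5,1,4,4,1,4,1,10], [4,4,1,4,4,1,4,1,4,1,5,1,4,1,4,4,1,5,1,4,4,1,2,5,3,13,2], 9, [([], 1330, [4,1,5,1,5,1,4,4,1,4,1]), ([44], 845, [1,4,4,1,5,1,5,1,5,1,4,1,4,4,1,4,1,4,4]), ([356], 464, [4,1,5,1,5,1,4,4,1,5,1,5,1,4,4,1,5,1,4,4,1,4])], []⟩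
def c1893 : Clm := ⟨8, 10, true, [4,4,1,4,4,1,4,1,4,1,5,1,4,1,4,4,1,5,1,4,4,1,2,5,3,13,2], [4,1,5,1,5,1,4,4,1,4,1,10], 5, [([], 1892, [])], []⟩
def c1894 : Clm := ⟨10, 8, true, [1,5,1,5,1,4,4,1,4,1,4,4,1,4,1,4,4,1,5,1,4,4,6,5,6,12], [1,4,1,5,1,4,1,4,4,1,4,1,4,4,1,4,1,4,9,11,6,8], 11, [([], 1446, [1,4,1,5,1,4,1,4,1,5,1,5,1,4,1,4,1,5,1,4,1,5]), ([2840,2688], 1330, [5,1,4,1,4,1,4,1,4,1,5,1]), ([42,78,66], 234, [5,1,5,1,4,4,1,4,1,4,4,1,4,1])], []⟩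
def c1895 : Clm := ⟨8, 10, true, [1,4,1,5,1,4,1,4,4,1,4,1,4,4,1,4,1,4,9,11,6,8], [1,5,1,5,1,4,4,1,4,1,4,4,1,4,1,4,4,1,5,1,4,4,6,5,6,12], 5, [([], 1894, [])], []⟩
def c1896 : Clm := ⟨10, 8, true, [1,4,1,5,1,4,1,4,4,1,5,1,4,10], [4,4,1,4,1,4,1,4,4,1,5,1,5,1,5,1,4,10,10,1], 9, [([], 1330, [1,4,1,5,1,4,1,4,4,1,5,1,4]), ([79,47,44], 234, [5,1,4,1,4,1,4,4,1,4,1,4,1,4,1,5,1,4,4,1]), ([357], 610, [1,4,1,5,1,4,4,1,4,4,1,5,1,5,1,5,1,4,4])], []⟩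
def c1897 : Clm := ⟨8, 10, true, [4,4,1,4,1,4,1,4,4,1,5,1,5,1,5,1,4,10,10,1], [1,4,1,5,1,4,1,4,4,1,5,1,4,10], 5, [([], 1896, [])], []⟩
def c1898 : Clm := ⟨10, 9, true, [4,1,4,1,5,1,4,1,4,1,4,10], [4,1,4,4,1,4,4,1,4,1,5,1,4,4,1,5,1,4,1,6,4,8], 9, [([], 1330, [4,1,4,1,5,1,4,1,4,1,4]), ([73,46,46], 100, [5,1,4,4,1,5,1,5,1,5,1,4,1,4,1,5,1]), ([93,158,90,88], 1032, [1,5,1,5,1,4,4,1,4,4,1,4,4,1,4,1,4,1,5])], []⟩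
def c1899 : Clm := ⟨9, 10, true, [4,1,4,4,1,4,4,1,4,1,5,1,4,4,1,5,1,4,1,6,4,8], [4,1,4,1,5,1,4,1,4,1,4,10], 5, [([], 1898, [])], []⟩
def c1900 : Clm := ⟨10, 8, true, [5,1,4,1,4,10], [5,1,4,4,1,4,1,5,1,4,1,4,4,1,4,4,1,4,4,1,2,5,3,9], 9, [([], 1330, [5,1,4,1,4]), ([79,44], 131, [1,4,1,4,1,5,1,5,1,4,1,4,1,5,1,4,1,4,4,1,4,1]), ([282,282,276,264], 389, [4,1,4,1,5,1,4,1,4,1,4,4,1,4,4,1,4,1,5,1,4,4])], []⟩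
def c1901 : Clm := ⟨8, 10, true, [5,1,4,4,1,4,1,5,1,4,1,4,4,1,4,4,1,4,4,1,2,5,3,9], [5,1,4,1,4,10], 5, [([], 1900, [])], []⟩
def c1902 : Clm := ⟨10, 5, true, [4,1,4,1,4,1,10], [4,1,5,1,4,1,5,1,4,1,5,1,5,1,5,1,5,1,5,2,5,7,13], 9, [([], 1330, [4,1,4,1,4,1]), ([79,47], 55, [1,5,1,5,1,4,1,4,1,4,1,4,4,1,5,1,5,1,5,1,4]), ([92,158,90], 102, [1,5,1,4,1,4,1,5,1,4,1,4,4,1,4,1,4,4,1,4,1,5])], []⟩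
def c1903 : Clm := ⟨5, 10, true, [4,1,5,1,4,1,5,1,4,1,5,1,5,1,5,1,5,1,5,2,5,7,13], [4,1,4,1,4,1,10], 5, [([], 1902, [])], []⟩
def c1904 : Clm := ⟨10, 8, true, [5,1,4,1,4,1,4,4,1,5,1,5,1,4,1,4,1,5,1,5,2,7,4,1], [1,4,1,4,4,1,5,1,5,1,5,1,5,1,4,1,4,1,4,4,1,4,2,10,8,14], 11, [([], 1534, [4,4,1,4,4,1,4,4,1,4,1,5,1,5,1]), ([2688,2840,2688], 1330, [1,4,4,1,5,1,5,1,4,4]), ([42,73], 845, [1,5,1,5,1,5,1,4,1,5,1,4,4,1,4,1,4,1,5,1,4,1])], []⟩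
def c1905 : Clm := ⟨8, 10, true, [1,4,1,4,4,1,5,1,5,1,5,1,5,1,4,1,4,1,4,4,1,4,2,10,8,14], [5,1,4,1,4,1,4,4,1,5,1,5,1,4,1,4,1,5,1,5,2,7,4,1], 5, [([], 1904, [])], []⟩
def c1906 : Clm := ⟨10, 10, true, [1,5,1,5,1,5,1,4,1,5,1,10], [1,4,1,5,1,5,1,4,1,5,1,4,4,1,4,1,4,1,5,1,4,4,1,12,9,12], 9, [([], 1330, [1,5,1,5,1,5,1,4,1,5,1]), ([66,42,78], 234, [4,1,4,1,4,1,5,1,5,1,4,1,4,1,5,1,4]), ([], 1452, [1,4,1,4,1,4,4,1,4,1,4,4,1,5,1,4,1,5,1,4,1,5])], []⟩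
def c1907 : Clm := ⟨10, 10, true, [1,4,1,5,1,5,1,4,1,5,1,4,4,1,4,1,4,1,5,1,4,4,1,12,9,12], [1,5,1,5,1,5,1,4,1,5,1,10], 5, [([], 1906, [])], []⟩
def c1908 : Clm := ⟨8, 10, true, [1,4,4,1,5,1,4,4,1,4,1,4,1,5,1,4,1,4,4,7,8,12], [4,1,5,1,4,1,4,4,1,5,1,5,1,4,4,1,4,4,1,5,1,5,9], 11, [([], 1723, [4,4,1,5,1,4,4,1,4,1,4,4,1,4,4,1,5,1,5]), ([2688], 1330, [5,1,5,1,4,1,4,1,4,1,4,4,1,5,1]), ([78,44,79], 1331, [4,4,1,4,1,4,1,4,1])], []⟩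
def c1909 : Clm := ⟨10, 8, true, [4,1,5,1,4,1,4,4,1,5,1,5,1,4,4,1,4,4,1,5,1,5,9], [1,4,4,1,5,1,4,4,1,4,1,4,1,5,1,4,1,4,4,7,8,12], 5, [([], 1908, [])], []⟩
def c1910 : Clm := ⟨10, 10, true, [1,5,1,5,1,4,4,1,4,4,1,4,1,4,1,5,1,6,9,3,7], [4,1,5,1,4,4,1,5,1,4,1,4,4,1,5,1,5,1,4,4,9], 11, [([], 1347, [1,4,1,5,1,4,4,1,5,1,4,1,4,1,4,1]), ([240,240,228], 126, [1,4,4,1,5,1,4,1,4,4,1,4,1,5,1,4,1,4,1,5,1]), ([40,78,73,42], 1331, [1,4,1,4,1,4,1,4,1,5,1,5,1])], []⟩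
def c1911 : Clm := ⟨10, 10, true, [4,1,5,1,4,4,1,5,1,4,1,4,4,1,5,1,5,1,4,4,9], [1,5,1,5,1,4,4,1,4,4,1,4,1,4,1,5,1,6,9,3,7], 5, [([], 1910, [])], []⟩
def c1912 : Clm := ⟨8, 10, true, [5,1,5,1,5,1,4,1,4,4,1,5,1,5,1,4,4,1,5,6,10,2,5], [5,1,4,1,4,1,4,1,4,4,1,5,1,4,1,4,4,1,4,1,5,9], 11, [([], 857, [1,4,1,4,1,4,1,4,1,4,1,4,1,4,1,5,1,4,1,4]), ([241,226], 126, [4,1,5,1,5,1,5,1,4,4,1,5,1,5,1,4,1]), ([66,46,78], 1331, [4,1,4,1,5,1])], []⟩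
def c1913 : Clm := ⟨10, 8, true, [5,1,4,1,4,1,4,1,4,4,1,5,1,4,1,4,4,1,4,1,5,9], [5,1,5,1,5,1,4,1,4,4,1,5,1,5,1,4,4,1,5,6,10,2,5], 5, [([], 1912, [])], []⟩
def c1914 : Clm := ⟨10, 8, true, [1,4,4,1,4,4,1,4,4,1,4,4,1,5,10], [1,4,1,4,1,4,4,1,5,1,4,1,5,7,3,4,12], 9, [([], 1330, [1,4,4,1,4,4,1,4,4,1,4,4,1,5]), ([44,42,79,44], 1331, [4,1,5,1,5,1,4,1,4,1,4]), ([], 1801, [1,4,1,5,1,4,4,1,4,1,4,1,4,1,4,1,5,1,4,4,1,4])], []⟩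
def c1915 : Clm := ⟨8, 10, true, [1,4,1,4,1,4,4,1,5,1,4,1,5,7,3,4,12], [1,4,4,1,4,4,1,4,4,1,4,4,1,5,10], 5, [([], 1914, [])], []⟩
def c1916 : Clm := ⟨10, 10, true, [1,4,1,5,1,5,1,5,1,4,1,4,1,5,1,5,1,4,1,4,4,1,5,1,5,2,7,5,3,10], [5,1,4,1,5,1,4,1,4,1,4,1,4,1,5,1,5,1,9], 11, [([], 1413, [4,1,5,1,5,1,5,1,4,4,1,4,4,1,4,4,1,4,1]), ([356], 235, [1,4,1,4,4,1,5,1,4,4,1,5,1,4,4,1,5,1,5,1,5,1,5]), ([44,72,47], 1331, [4,1,5,1,4,1,4,4,1,5,1,5,1])], []⟩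
def c1917 : Clm := ⟨10, 10, true, [5,1,4,1,5,1,4,1,4,1,4,1,4,1,5,1,5,1,9], [1,4,1,5,1,5,1,5,1,4,1,4,1,5,1,5,1,4,1,4,4,1,5,1,5,2,7,5,3,10], 5, [([], 1916, [])], []⟩
def c1918 : Clm := ⟨10, 8, true, [4,1,5,1,5,1,5,1,4,4,1,4,4,1,4,1,10], [5,1,4,4,1,5,1,5,1,4,1,5,1,4,1,5,1,5,1,4,2,4,8], 9, [([], 1330, [4,1,5,1,5,1,5,1,4,4,1,4,4,1,4,1]), ([44,79,73,40], 1331, [1,5,1,4,1,4,1,4,1,4,1,4,1]), ([2688], 1752, [5,1,5,1,5,1,4,1,4,4,1,4,4,1,4,1,4,1,4,4,1,4,1])], []⟩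
def c1919 : Clm := ⟨8, 10, true, [5,1,4,4,1,5,1,5,1,4,1,5,1,4,1,5,1,5,1,4,2,4,8], [4,1,5,1,5,1,5,1,4,4,1,4,4,1,4,1,10], 5, [([], 1918, [])], []⟩
def c1920 : Clm := ⟨9, 10, true, [1,4,1,4,1,5,1,5,1,4,1,4,4,1,4,1,4,1,4,6,2,7,9], [1,5,1,4,1,4,4,1,5,1,5,1,4,4,1,4,4,1,5,1,9], 11, [([], 1462, [4,1,4,1,4,1,5,1,5,1,4,4,1,4,4]), ([2840], 1330, [1,5,1,4,1,4,1,4,4,1,4,1,4,4,1,4,1,4,4,1,5]), ([40,73,46,40], 1331, [4,1,4,1,4,1,4,1,4])], []⟩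
def c1921 : Clm := ⟨10, 9, true, [1,5,1,4,1,4,4,1,5,1,5,1,4,4,1,4,4,1,5,1,9], [1,4,1,4,1,5,1,5,1,4,1,4,4,1,4,1,4,1,4,6,2,7,9], 5, [([], 1920, [])], []⟩
def c1922 : Clm := ⟨10, 10, true, [4,1,4,4,1,4,4,1,5,1,5,1,4,4,1,4,10], [4,4,1,5,1,4,1,4,1,4,4,1,4,4,1,4,1,5,1,5,1,7,10,10], 9, [([], 1330, [4,1,4,4,1,4,4,1,5,1,5,1,4,4,1,4]), ([78,44,73], 1331, [5,1,5,1,4]), ([], 1746, [1,5,1,5,1,5,1,4,1,5,1,4,1,4,1])], []⟩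
def c1923 : Clm := ⟨9, 10, true, [5,1,4,1,4,1,5,1,4,4,1,5,1,4,4,1,4,1,7,9,1], [4,1,4,4,1,5,1,5,1,4,4,1,4,4,1,5,1,9], 11, [([], 1124, [1,4,4,1,4,1,5,1,5,1,4,4,1,5,1,5,1,4,4,1,5]), ([], 176, [1,4,1,4,1,4,4,1,4,4,1,4,4,1,4,1,4,1,4,4,1]), ([42,44,79], 1331, [1,4,1,4,1,4,1,4,1,4,1,4])], []⟩
def c1924 : Clm := ⟨10, 9, true, [4,1,4,4,1,5,1,5,1,4,4,1,4,4,1,5,1,9], [5,1,4,1,4,1,5,1,4,4,1,5,1,4,4,1,4,1,7,9,1], 5, [([], 1923, [])], []⟩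
def c1925 : Clm := ⟨10, 10, true, [5,1,4,1,4,1,5,1,4,4,1,5,1,5,1,4,1,5,1,4,7,8,2,7], [1,4,4,1,4,1,4,1,5,1,4,4,1,5,1,4,1,5,9], 11, [([], 1664, [4,1,4,1,4,4,1,4,1,4,1,5,1,4,1,4,4,1,4,1]), ([92], 99, [1,5,1,5,1,4,1,4,4,1,5,1,4,4,1,5,1,4,1,5]), ([78,72,66,42], 1331, [1,4,1,5,1,4,4,1,4,4,1])], []⟩
def c1926 : Clm := ⟨10, 10, true, [1,4,4,1,4,1,4,1,5,1,4,4,1,5,1,4,1,5,9], [5,1,4,1,4,1,5,1,4,4,1,5,1,5,1,4,1,5,1,4,7,8,2,7], 5, [([], 1925, [])], []⟩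
def c1927 : Clm := ⟨10, 10, true, [5,1,4,4,1,4,4,1,4,1,4,1,4,1,5,1,4,4,1,10], [1,4,1,5,1,4,1,5,1,4,1,5,1,4,1,5,1,4,1,4,4,1,5,3,13,5,2], 9, [([], 1330, [5,1,4,4,1,4,4,1,4,1,4,1,4,1,5,1,4,4,1]), ([73,73,42], 1331, [4,1,4,4,1,4,4,1,4,4,1]), ([2688,2840], 1911, [4,1,4,4,1,4,1,5,1,4,1,5,1,5,1,5,1])], []⟩
def c1928 : Clm := ⟨10, 10, true, [1,4,1,5,1,4,1,5,1,4,1,5,1,4,1,5,1,4,1,4,4,1,5,3,13,5,2], [5,1,4,4,1,4,4,1,4,1,4,1,4,1,5,1,4,4,1,10], 5, [([], 1927, [])], []⟩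
def c1929 : Clm := ⟨8, 10, true, [4,1,4,4,1,5,1,4,1,5,1,5,1,5,1,5,1,5,7,11,9,10], [1,4,1,4,1,5,1,5,1,5,1,5,1,5,1,5,1,4,1,4,4,1,9], 11, [([], 274, [1,4,1,4,4,1,4,1,4,4,1,5,1,5,1,4]), ([92], 99, [1,5,1,5,1,4,1,4,1,4,1,4,1,5,1,4,4]), ([78,44,40], 1331, [4,1,4,4,1,4,1,5,1,5,1])], []⟩
def c1930 : Clm := ⟨10, 8, true, [1,4,1,4,1,5,1,5,1,5,1,5,1,5,1,5,1,4,1,4,4,1,9], [4,1,4,4,1,5,1,4,1,5,1,5,1,5,1,5,1,5,7,11,9,10], 5, [([], 1929, [])], []⟩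
def c1931 : Clm := ⟨9, 10, true, [5,1,5,1,5,1,4,4,1,5,1,5,1,4,4,1,4,4,1,5,1,6,5,14], [1,4,4,1,4,1,4,1,5,1,4,1,4,4,1,4,1,4,4,1,9], 11, [([], 1146, [4,4,1,4,1,5,1,4,1,5,1,4,1,4,4,1,4]), ([357], 235, [4,1,5,1,5,1,5,1,5,1,5,1,5,1,5,1,4,1,4,1]), ([73,44,42], 1331, [1,5,1,4,4,1,4,1,4,4,1,5,1,5,1])], []⟩
def c1932 : Clm := ⟨10, 9, true, [1,4,4,1,4,1,4,1,5,1,4,1,4,4,1,4,1,4,4,1,9], [5,1,5,1,5,1,4,4,1,5,1,5,1,4,4,1,4,4,1,5,1,6,5,14], 5, [([], 1931, [])], []⟩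
def c1933 : Clm := ⟨8, 10, true, [5,1,4,4,1,5,1,4,1,4,1,5,1,4,1,4,4,1,4,1,9,12,6,5], [4,1,4,1,5,1,4,1,4,4,1,4,1,4,4,1,9], 11, [([], 841, [4,4,1,4,1,4,1,4,1,4,1,4,4,1,4,4,1,4,1,4,1,4]), ([], 235, [1,5,1,5,1,4,4,1,5,1,4,1,5,1,5,1,4,1]), ([73,42,78,40], 1331, [1,4,1,4,4,1,4,1,4,4,1,5,1,5,1])], []⟩
def c1934 : Clm := ⟨10, 8, true, [4,1,4,1,5,1,4,1,4,4,1,4,1,4,4,1,9], [5,1,4,4,1,5,1,4,1,4,1,5,1,4,1,4,4,1,4,1,9,12,6,5], 5, [([], 1933, [])], []⟩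
def c1935 : Clm := ⟨5, 10, true, [1,4,4,1,4,1,4,1,4,4,1,5,1,4,1,4,4,1,5,6,8,4], [4,4,1,5,1,4,4,1,4,4,1,5,1,4,1,4,1,5,1,5,1,4,1,12,7,8], 9, [([], 52, [1,4,1,4,1,4,1,4,4,1,5,1,4,1,5,1,4,1,5,1,4]), ([73,66], 1331, [1,4,1,4,1,4,1,4,4,1,4,1,4,4,1]), ([2688], 1780, [4,4,1,4,4,1,4,1,4,4,1,4,1,4,1,4,1,4,1,4,4])], []⟩
def c1936 : Clm := ⟨10, 5, true, [4,4,1,5,1,4,4,1,4,4,1,5,1,4,1,4,1,5,1,5,1,4,1,12,7,8], [1,4,4,1,4,1,4,1,4,4,1,5,1,4,1,4,4,1,5,6,8,4], 5, [([], 1935, [])], []⟩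
def c1937 : Clm := ⟨9, 10, true, [1,4,1,4,1,4,4,1,5,1,5,1,2,1,4,13,2], [5,1,5,1,5,1,5,1,5,1,5,1,4,1,4,4,9], 11, [([2114,2010,2004], 1214, [4,1,5,1,4,1,4,1,5,1,5,1,4,1,4,4,1,4,1,4,4]), ([2196], 1000, [4,4,1,4,1,5,1,5,1,4,1,4,4,1,4,4,1,4,1,4]), ([46,42], 1331, [4,4,1,4,1,4,4,1,4,4,1])], []⟩
def c1938 : Clm := ⟨10, 9, true, [5,1,5,1,5,1,5,1,5,1,5,1,4,1,4,4,9], [1,4,1,4,1,4,4,1,5,1,5,1,2,1,4,13,2], 5, [([], 1937, [])], []⟩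
def c1939 : Clm := ⟨8, 10, true, [1,5,1,5,1,5,1,4,4,1,4,1,5,1,4,1,5,1,8,14,13,7], [4,1,4,1,4,4,1,5,1,4,1,4,1,5,1,5,1,4,4,1,5,1,5,9], 11, [([], 236, [1,4,4,1,5,1,5,1,5,1,4,1,4,4,1,4,1,5,1,4]), ([], 359, [4,1,5,1,4,1,4,4,1,5,1,4,1,5,1,5,1,5,1,5,1]), ([73,79,40], 1331, [1,4,1,4,4,1,5,1,4,4,1,5,1,4])], []⟩
def c1940 : Clm := ⟨10, 8, true, [4,1,4,1,4,4,1,5,1,4,1,4,1,5,1,5,1,4,4,1,5,1,5,9], [1,5,1,5,1,5,1,4,4,1,4,1,5,1,4,1,5,1,8,14,13,7], 5, [([], 1939, [])], []⟩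
def c1941 : Clm := ⟨10, 10, true, [4,1,5,1,4,1,5,1,4,4,1,4,2,12,4,9], [4,4,1,5,1,5,1,4,4,1,4,4,1,5,1,5,1,5,1,5,1,4,9], 11, [([], 1901, [5,1,4,4,1,4,1,4,1,5,1,5,1,4,1,5,1,5,1,5]), ([356], 235, [4,1,4,1,4,4,1,4,1,4,4,1,4,1,4,4,1,5,1,4]), ([66,78,46,40], 1331, [4,4,1,4,1,4,4,1,5,1,4,1,4,1,4])], []⟩
def c1942 : Clm := ⟨10, 10, true, [4,4,1,5,1,5,1,4,4,1,4,4,1,5,1,5,1,5,1,5,1,4,9], [4,1,5,1,4,1,5,1,4,4,1,4,2,12,4,9], 5, [([], 1941, [])], []⟩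
def c1943 : Clm := ⟨9, 10, true, [1,4,1,4,1,4,1,4,1,4,1,4,1,4,1,4,4,1,4,4,1,4,6,8,11], [1,5,1,4,4,1,4,1,4,1,5,1,5,1,4,1,5,9], 11, [([], 1520, [1,5,1,5,1,4,1,4,4,1,4,4,1,4,1,4,1,4,4,1]), ([2688], 1330, [5,1,5,1,5,1,4,1,4,4,1,4,1,4,1,4,1,4]), ([40,79,72], 1331, [5,1,4,1,4,1,5,1,5,1,4,1,4,1])], []⟩
def c1944 : Clm := ⟨10, 9, true, [1,5,1,4,4,1,4,1,4,1,5,1,5,1,4,1,5,9], [1,4,1,4,1,4,1,4,1,4,1,4,1,4,1,4,4,1,4,4,1,4,6,8,11], 5, [([], 1943, [])], []⟩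
def c1945 : Clm := ⟨10, 10, true, [5,1,5,1,5,1,4,4,1,4,1,4,1,5,1,4,8,8,7,8], [1,4,1,4,1,4,4,1,5,1,4,1,4,4,1,4,1,5,1,4,1,4,9], 11, [([], 1772, [4,4,1,5,1,4,1,5,1,4,1,4,1,5,1,5,1]), ([357], 235, [4,1,4,1,4,1,4,4,1,4,1,5,1,4,4,1,4,4,1,5]), ([42,78,66,40], 1331, [5,1,4,1,4,1,5,1,5,1,4])], []⟩
def c1946 : Clm := ⟨10, 10, true, [1,4,1,4,1,4,4,1,5,1,4,1,4,4,1,4,1,5,1,4,1,4,9], [5,1,5,1,5,1,4,4,1,4,1,4,1,5,1,4,8,8,7,8], 5, [([], 1945, [])], []⟩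
def c1947 : Clm := ⟨10, 10, true, [1,5,1,5,1,5,1,4,1,4,4,1,5,1,4,4,1,5,1,4,4,6,9,3,7], [4,1,4,1,4,4,1,5,1,4,1,4,4,1,4,1,5,1,4,1,4,9], 11, [([], 1394, [1,5,1,4,1,4,4,1,4,1,4,4,1,4,4,1,5,1,4,4,1,5]), ([240,240,228], 126, [4,1,4,1,5,1,4,1,4,4,1,4,1,4,4,1,5]), ([47,73], 1331, [1,5,1,4,1,4,1,5,1,5,1,4])], []⟩
def c1948 : Clm := ⟨10, 10, true, [4,4,1,4,1,4,1,5,1,4,1,4,4,1,5,1,5,1,5,1,9,1,13], [4,4,1,4,1,4,1,4,4,1,4,1,4,4,1,5,1,4,1,5,1,5,9], 11, [([], 1697, [4,1,5,1,5,1,5,1,5,1,5,1,5,1,4,1,4,1,5,1,5]), ([356], 235, [1,5,1,5,1,5,1,5,1,4,1,4,4,1,5,1,5,1]), ([79,72,40], 1331, [1,5,1,5,1,4,1,5,1,4,1,4,1,5,1])], []⟩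
def c1949 : Clm := ⟨9, 10, true, [1,4,1,5,1,4,1,5,1,4,1,4,4,1,5,1,4,1,5,1,4,1,5,9,13,2], [1,4,1,5,1,4,4,1,4,4,1,5,1,5,1,5,1,5,1,4,1,4,1,4,9], 11, [([], 1168, [4,1,4,4,1,5,1,5,1,5,1,5,1,4,1,4]), ([2197,2114], 1000, [1,5,1,4,1,4,4,1,5,1,5,1,5,1,5,1,4,1,4,4,1]), ([66,72,42,40], 1331, [4,1,4,4,1,4,1,4,1,4,1])], []⟩
def c1950 : Clm := ⟨10, 9, true, [1,4,1,5,1,4,4,1,4,4,1,5,1,5,1,5,1,5,1,4,1,4,1,4,9], [1,4,1,5,1,4,1,5,1,4,1,4,4,1,5,1,4,1,5,1,4,1,5,9,13,2], 5, [([], 1949, [])], []⟩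
def c1951 : Clm := ⟨8, 10, true, [1,4,1,4,1,4,4,1,5,1,4,1,4,1,5,1,5,1,4,1,4,2,5,8,12], [1,5,1,4,4,1,4,1,5,1,5,1,4,1,4,4,1,4,1,4,4,1,4,10,12], 9, [([], 235, [1,4,4,1,5,1,4,1,4,1,4,4,1,4,4,1,4,1,5,1,4,1,4]), ([79,47,78], 1331, [4,1,4,1,4,4,1,5,1,5,1]), ([2688], 1768, [4,1,4,1,4,4,1,4,4,1,5,1,4,4,1,5,1,4,4,1])], []⟩
def c1952 : Clm := ⟨10, 8, true, [1,5,1,4,4,1,4,1,5,1,5,1,4,1,4,4,1,4,1,4,4,1,4,10,12], [1,4,1,4,1,4,4,1,5,1,4,1,4,1,5,1,5,1,4,1,4,2,5,8,12], 5, [([], 1951, [])], []⟩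
def c1953 : Clm := ⟨8, 10, true, [4,4,1,5,1,4,1,4,4,1,4,1,5,1,4,4,1,4,10,12], [1,4,1,4,4,1,5,1,5,1,4,1,4,4,1,4,1,4,1,5,1,9], 11, [([], 902, [5,1,5,1,5,1,5,1,5,1,5,1,5,1,5,1,4,4]), ([], 359, [1,4,4,1,5,1,4,1,5,1,4,1,4,1,5,1,5,1,4,1]), ([44,42,78,42], 1331, [1,5,1,4,1,4,4,1,4,1,4,1,5,1])], []⟩
def c1954 : Clm := ⟨10, 8, true, [1,4,1,4,4,1,5,1,5,1,4,1,4,4,1,4,1,4,1,5,1,9], [4,4,1,5,1,4,1,4,4,1,4,1,5,1,4,4,1,4,10,12], 5, [([], 1953, [])], []⟩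
def c1955 : Clm := ⟨8, 10, true, [4,4,1,4,4,1,5,1,5,1,4,4,1,4,4,1,5,1,4,1,4,4,9,11,9], [1,4,1,4,4,1,4,4,1,4,4,1,4,4,1,4,4,1,9], 11, [([], 303, [1,4,1,5,1,4,4,1,4,4,1,4,1,4,1,4,1,4,4,1,5]), ([], 52, [4,1,4,4,1,5,1,4,4,1,5,1,4,1,4,1,4,1,4,4,1,4,4]), ([73,79,66], 1331, [4,4,1,4,4,1,4,4,1,4,4,1,4,4,1])], []⟩
def c1956 : Clm := ⟨10, 8, true, [1,4,1,4,4,1,4,4,1,4,4,1,4,4,1,4,4,1,9], [4,4,1,4,4,1,5,1,5,1,4,4,1,4,4,1,5,1,4,1,4,4,9,11,9], 5, [([], 1955, [])], []⟩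
def c1957 : Clm := ⟨10, 10, true, [1,4,1,4,1,4,1,4,4,1,4,1,5,1,4,1,4,4,1,5,1,6,2,13,4], [1,4,4,1,4,1,4,1,4,4,1,5,1,5,1,5,1,4,1,4,9], 11, [([], 1576, [4,1,4,4,1,4,1,4,4,1,5,1,5,1,5,1,5]), ([], 235, [5,1,4,4,1,4,4,1,4,4,1,5,1,4,1]), ([73,44,79], 1331, [1,5,1,4,1,4,4,1,5,1,4,4,1,4,1])], []⟩
def c1958 : Clm := ⟨10, 10, true, [1,4,4,1,4,1,4,1,4,4,1,5,1,5,1,5,1,4,1,4,9], [1,4,1,4,1,4,1,4,4,1,4,1,5,1,4,1,4,4,1,5,1,6,2,13,4], 5, [([], 1957, [])], []⟩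
def c1959 : Clm := ⟨8, 10, true, [4,1,5,1,5,1,4,1,4,1,4,1,4,1,4,1,4,1,4,4,8,14,13], [4,4,1,4,1,4,1,4,4,1,4,4,1,4,1,5,1,4,4,1,9], 11, [([], 847, [4,1,4,1,5,1,4,1,4,1,5,1]), ([], 844, [5,1,5,1,4,1,4,4,1,4,1,4,1,5,1,4,1]), ([40,72,72], 1331, [1,5,1,4,1,4,4,1,4,4,1,4,1])], []⟩
def c1960 : Clm := ⟨10, 8, true, [4,4,1,4,1,4,1,4,4,1,4,4,1,4,1,5,1,4,4,1,9], [4,1,5,1,5,1,4,1,4,1,4,1,4,1,4,1,4,1,4,4,8,14,13], 5, [([], 1959, [])], []⟩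
def c1961 : Clm := ⟨8, 10, true, [5,1,4,1,4,4,1,4,1,4,4,1,4,1,5,1,4,4,1,8,12,6,5], [1,5,1,5,1,5,1,4,4,1,4,4,1,4,1,4,4,1,5,9], 11, [([], 248, [4,1,5,1,4,4,1,5,1,4,1,5,1,4,4,1,4,1,4,1]), ([92,158], 52, [4,4,1,5,1,4,1,4,1,4,4,1,5,1,4,4,1]), ([46,40,79], 1331, [1,4,1,5,1,4,4,1,4,4,1,4,1,4])], []⟩
def c1962 : Clm := ⟨10, 8, true, [1,5,1,5,1,5,1,4,4,1,4,4,1,4,1,4,4,1,5,9], [5,1,4,1,4,4,1,4,1,4,4,1,4,1,5,1,4,4,1,8,12,6,5], 5, [([], 1961, [])], []⟩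
def c1963 : Clm := ⟨8, 10, true, [1,4,1,5,1,4,1,4,4,1,4,4,1,5,1,5,6,14,8,6], [4,1,4,4,1,4,1,4,4,1,4,1,4,1,5,1,4,4,1,4,1,4,9], 11, [([], 390, [4,1,5,1,4,1,5,1,5,1,4,1,4,4,1,5,1,4,4,1,4]), ([282,282], 130, [5,1,4,1,4,1,4,1,4,1,4,1,4,1,4,1,4,4,1,4]), ([44,78], 1331, [1,5,1,4,1,4,1,4,1])], []⟩
def c1964 : Clm := ⟨10, 8, true, [4,1,4,4,1,4,1,4,4,1,4,1,4,1,5,1,4,4,1,4,1,4,9], [1,4,1,5,1,4,1,4,4,1,4,4,1,5,1,5,6,14,8,6], 5, [([], 1963, [])], []⟩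
def c1965 : Clm := ⟨10, 10, true, [1,4,1,5,1,4,4,1,4,1,4,4,1,4,4,1,5,1,4,1,4,1,6,9,3,7], [4,1,4,1,4,4,1,5,1,4,1,4,4,1,4,1,5,1,4,1,9], 11, [([], 1349, [1,4,4,1,4,4,1,5,1,4,1,4,4,1,4,4,1,4,1]), ([270], 130, [1,4,1,5,1,5,1,4,1,5,1,4,1,5,1,4,1,4,1,4,1]), ([47,42,46], 1331, [1,5,1,4,1,4,1,5,1,5,1])], []⟩
def c1966 : Clm := ⟨10, 10, true, [4,1,4,1,4,4,1,5,1,4,1,4,4,1,4,1,5,1,4,1,9], [1,4,1,5,1,4,4,1,4,1,4,4,1,4,4,1,5,1,4,1,4,1,6,9,3,7], 5, [([], 1965, [])], []⟩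
def c1967 : Clm := ⟨10, 10, true, [1,4,1,4,1,4,4,1,5,1,5,1,4,4,1,4,4,1,4,4,1,9], [5,1,4,1,4,4,1,4,4,1,5,1,4,1,4,1,5,9], 11, [([], 1330, [1,4,1,4,1,4,4,1,5,1,5,1,4,4,1,4,4,1,4,4,1]), ([66,46], 41, [5,1,4,4,1,4,1,5,1,4,4,1,5,1,4,1,5]), ([73,40,78,46], 1331, [4,1,4,4,1,5,1,5,1,5,1,5,1,4])], []⟩
def c1968 : Clm := ⟨9, 10, true, [4,1,5,1,5,1,4,4,1,5,1,4,1,5,1,4,4,1,4,4,1,2,4,11,9], [1,5,1,5,1,5,1,4,1,4,1,4,1,4,1,4,1,4,1,4,1,5,9], 11, [([], 1932, [4,4,1,5,1,4,1,4,4,1,5,1,4,4,1]), ([2688], 1330, [4,4,1,4,4,1,5,1,5,1,4,1,4,1,5,1,4]), ([78,47,72], 1331, [4,1,5,1,4,4,1,4,1,4,4,1,4])], []⟩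
def c1969 : Clm := ⟨10, 9, true, [1,5,1,5,1,5,1,4,1,4,1,4,1,4,1,4,1,4,1,4,1,5,9], [4,1,5,1,5,1,4,4,1,5,1,4,1,5,1,4,4,1,4,4,1,2,4,11,9], 5, [([], 1968, [])], []⟩
def c1970 : Clm := ⟨5, 10, true, [4,1,4,4,1,4,4,1,4,1,5,1,5,1,4,1,4,4,1,3,9], [4,1,4,1,4,4,1,5,1,5,1,5,1,4,4,1,4,1,5,1,9], 11, [([], 161, [1,4,4,1,4,1,4,1,5,1,4,1,4,4]), ([276,270], 130, [4,1,4,1,5,1,5,1,5,1,5,1,5,1,4,1,4,4,1,5,1,5,1]), ([47,66,79,40], 1331, [4,4,1,4,4,1,4,1,4])], []⟩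
def c1971 : Clm := ⟨10, 5, true, [4,1,4,1,4,4,1,5,1,5,1,5,1,4,4,1,4,1,5,1,9], [4,1,4,4,1,4,4,1,4,1,5,1,5,1,4,1,4,4,1,3,9], 5, [([], 1970, [])], []⟩
def c1972 : Clm := ⟨8, 10, true, [1,5,1,4,1,4,1,4,1,4,1,4,1,4,1,4,4,1,5,1,5,3,7,12], [4,1,4,4,1,4,1,4,1,4,1,4,4,1,4,1,5,1,4,9], 11, [([], 321, [1,4,4,1,4,1,4,4,1,4,1,5,1,4,4,1,4,1,4]), ([158], 56, [1,4,4,1,4,1,4,1,4,1,4,1,5,1,4,1,5,1]), ([78,66,42], 1331, [1,5,1,4,1,4,1,4,4,1])], []⟩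
def c1973 : Clm := ⟨10, 8, true, [4,1,4,4,1,4,1,4,1,4,1,4,4,1,4,1,5,1,4,9], [1,5,1,4,1,4,1,4,1,4,1,4,1,4,1,4,4,1,5,1,5,3,7,12], 5, [([], 1972, [])], []⟩
def c1974 : Clm := ⟨8, 10, true, [5,1,5,1,5,1,5,1,6,13,10,3], [4,1,5,1,4,1,4,1,4,1,4,4,1,4,4,1,4,4,1,9], 11, [([356], 980, [4,1,4,1,4,1,4,4,1,4,4,1,5,1,4]), ([357], 235, [5,1,4,4,1,4,4,1,4,1,4,4,1,5,1,5,1,5,1,4]), ([79], 1331, [1,5,1,4,1,5,1,4,1,4])], []⟩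
def c1975 : Clm := ⟨10, 8, true, [4,1,5,1,4,1,4,1,4,1,4,4,1,4,4,1,4,4,1,9], [5,1,5,1,5,1,5,1,6,13,10,3], 5, [([], 1974, [])], []⟩
def c1976 : Clm := ⟨8, 10, true, [5,1,4,1,4,1,5,1,4,4,1,4,1,4,1,4,4,1,5,1,4,8,10,1], [1,4,4,1,5,1,4,1,4,1,4,1,4,1,4,4,1,4,1,4,1,5,9], 11, [([], 332, [1,4,1,4,1,5,1,4,1,4,1,4,4,1,5,1,5]), ([], 844, [4,1,4,4,1,4,1,4,4,1,4,4,1,5,1,5,1,5]), ([66,78,47,44], 1331, [1,4,1,4,1,5,1,5,1,5,1,5,1])], []⟩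
def c1977 : Clm := ⟨10, 8, true, [1,4,4,1,5,1,4,1,4,1,4,1,4,1,4,4,1,4,1,4,1,5,9], [5,1,4,1,4,1,5,1,4,4,1,4,1,4,1,4,4,1,5,1,4,8,10,1], 5, [([], 1976, [])], []⟩
def c1978 : Clm := ⟨8, 10, true, [4,1,4,1,5,1,4,4,1,4,1,4,1,4,1,4,8,13,3,1], [1,5,1,5,1,5,1,5,1,5,1,5,1,4,1,4,4,1,5,1,4,4,9], 11, [([], 451, [1,4,1,4,1,4,1,5,1,4,1,5,1,4,1,4,1,5,1,4,1]), ([], 359, [4,1,4,1,4,4,1,4,1,4,1,4,1,5,1,5,1,5,1]), ([79,47,72,40], 1331, [4,1,4,4,1,4,4,1,4,1,4,1,4])], []⟩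
def c1979 : Clm := ⟨10, 8, true, [1,5,1,5,1,5,1,5,1,5,1,5,1,4,1,4,4,1,5,1,4,4,9], [4,1,4,1,5,1,4,4,1,4,1,4,1,4,1,4,8,13,3,1], 5, [([], 1978, [])], []⟩
def c1980 : Clm := ⟨8, 10, true, [1,5,1,4,4,1,4,4,1,4,4,1,5,1,5,1,4,1,4,9,13,8,1], [4,1,5,1,4,4,1,4,1,5,1,5,1,4,1,4,4,1,4,9], 11, [([], 1526, [1,4,1,4,4,1,5,1,5,1,5,1,5,1,5,1,5,1,4,1,4,1,5]), ([2688], 1330, [4,1,5,1,4,1,4,4,1,4,4,1,5,1]), ([79,66,47,40], 1331, [4,4,1,4,4,1,5,1,4,1,4,1,4,1])], []⟩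
def c1981 : Clm := ⟨10, 8, true, [4,1,5,1,4,4,1,4,1,5,1,5,1,4,1,4,4,1,4,9], [1,5,1,4,4,1,4,4,1,4,4,1,5,1,5,1,4,1,4,9,13,8,1], 5, [([], 1980, [])], []⟩
def c1982 : Clm := ⟨10, 9, true, [4,1,4,4,1,4,1,4,1,5,1,5,1,4,4,1,4,1,5,1,10], [4,1,4,1,4,4,1,5,1,4,1,4,4,8,10], 9, [([], 1330, [4,1,4,4,1,4,1,4,1,5,1,5,1,4,4,1,4,1,5,1]), ([46,78,44], 1331, [1,4,1,4,4,1,5,1,4,4,1,5,1,5,1]), ([], 1879, [4,1,5,1,4,1,4,1,4,4,1,4,1,5,1,4,1,5,1,4])], []⟩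
def c1983 : Clm := ⟨9, 10, true, [4,1,4,1,4,4,1,5,1,4,1,4,4,8,10], [4,1,4,4,1,4,1,4,1,5,1,5,1,4,4,1,4,1,5,1,10], 5, [([], 1982, [])], []⟩
def c1984 : Clm := ⟨6, 10, true, [4,4,1,4,4,1,4,1,4,4,1,5,1,4,1,4,1,5,1,4,4,10], [1,4,4,1,4,4,1,4,1,4,1,5,1,4,1,5,1,4,1,4,4,3,7,11,12], 9, [([], 111, [4,4,1,4,4,1,4,1,4,4,1,5,1,4,1,4,1,5,1,4,4]), ([40], 1331, [5,1,5,1,5,1,4]), ([2688,2840], 1917, [1,4,1,5,1,4,1,5,1,4,4,1,4,1,4,1,4,1,4,1,4])], []⟩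
def c1985 : Clm := ⟨10, 6, true, [1,4,4,1,4,4,1,4,1,4,1,5,1,4,1,5,1,4,1,4,4,3,7,11,12], [4,4,1,4,4,1,4,1,4,4,1,5,1,4,1,4,1,5,1,4,4,10], 5, [([], 1984, [])], []⟩
def c1986 : Clm := ⟨8, 10, true, [4,1,4,1,5,1,4,1,5,1,4,1,5,1,5,1,4,1,5,1,4,6,12,8,3], [1,4,1,5,1,5,1,4,4,1,4,4,1,5,1,5,1,5,1,5,1,9], 11, [([], 880, [1,4,4,1,5,1,4,1,4,1,4,4,1,4,1,4,4,1,5,1]), ([], 359, [5,1,4,1,4,1,4,1,4,1,4,4,1,5]), ([78,46,78,44], 1331, [1,4,1,4,1,4,4,1,5,1,4,1,4,1])], []⟩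
def c1987 : Clm := ⟨10, 8, true, [1,4,1,5,1,5,1,4,4,1,4,4,1,5,1,5,1,5,1,5,1,9], [4,1,4,1,5,1,4,1,5,1,4,1,5,1,5,1,4,1,5,1,4,6,12,8,3], 5, [([], 1986, [])], []⟩
def c1988 : Clm := ⟨9, 10, true, [4,1,4,4,1,4,4,1,4,4,1,4,4,1,5,1,4,9,5,9,2], [4,1,4,1,4,1,4,1,4,1,5,1,4,4,1,5,1,4,1,9], 11, [([], 1304, [1,5,1,4,1,4,4,1,5,1,5,1,5,1,4,1,4,1,4,1,5]), ([], 235, [1,5,1,5,1,4,4,1,4,1,5,1,4,1,4,4,1,5,1,5]), ([66,46,78], 1331, [5,1,4,4,1,4])], []⟩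
def c1989 : Clm := ⟨10, 9, true, [4,1,4,1,4,1,4,1,4,1,5,1,4,4,1,5,1,4,1,9], [4,1,4,4,1,4,4,1,4,4,1,4,4,1,5,1,4,9,5,9,2], 5, [([], 1988, [])], []⟩
def c1990 : Clm := ⟨8, 10, true, [1,5,1,5,1,4,1,5,1,4,1,5,10,10,4], [4,4,1,4,1,4,4,1,5,1,5,1,5,1,4,4,1,5,9], 11, [([], 396, [4,4,1,4,4,1,4,4,1,4,1,4,1,4]), ([282,270,282], 130, [4,1,4,4,1,4,4,1,4,4,1,4,4,1,4,4]), ([46,42,78], 1331, [1,4,4,1,4,1,4,1,4,1,4,4,1,5,1])], []⟩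
def c1991 : Clm := ⟨10, 8, true, [4,4,1,4,1,4,4,1,5,1,5,1,5,1,4,4,1,5,9], [1,5,1,5,1,4,1,5,1,4,1,5,10,10,4], 5, [([], 1990, [])], []⟩
def c1992 : Clm := ⟨10, 8, true, [4,4,1,5,1,5,1,5,1,5,1,5,1,5,1,5,1,4,1,5,10], [4,4,1,5,1,5,1,4,1,4,1,4,4,1,5,1,5,1,4,1,2,8,4,4], 9, [([], 1330, [4,4,1,5,1,5,1,5,1,5,1,5,1,5,1,5,1,4,1,5]), ([66,42,78], 1331, [5,1,5,1,5,1,5,1]), ([2840,2688], 1617, [1,4,4,1,5,1,4,1,5,1,5,1,4,4,1,5,1,5,1,5])], []⟩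
def c1993 : Clm := ⟨8, 10, true, [4,4,1,5,1,5,1,4,1,4,1,4,4,1,5,1,5,1,4,1,2,8,4,4], [4,4,1,5,1,5,1,5,1,5,1,5,1,5,1,5,1,4,1,5,10], 5, [([], 1992, [])], []⟩
def c1994 : Clm := ⟨8, 10, true, [1,4,4,1,4,1,5,1,4,1,4,1,5,1,5,1,5,1,4,1,4,4,3,9,10,8], [4,1,4,1,4,4,1,4,1,4,4,1,5,1,5,1,9], 11, [([], 335, [4,4,1,4,1,4,1,5,1,4,4,1,4,1,5,1,5,1,4]), ([93,158], 52, [1,5,1,4,1,4,4,1,4,4,1,4,4,1,4,4,1,4,4]), ([44,42,78,40], 1331, [5,1,4,1,4,4,1,5,1,5,1,5,1,5,1])], []⟩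
def c1995 : Clm := ⟨10, 8, true, [4,1,4,1,4,4,1,4,1,4,4,1,5,1,5,1,9], [1,4,4,1,4,1,5,1,4,1,4,1,5,1,5,1,5,1,4,1,4,4,3,9,10,8], 5, [([], 1994, [])], []⟩
def c1996 : Clm := ⟨10, 10, true, [4,4,1,5,1,5,1,5,1,4,4,1,5,1,5,1,5,1,4,4,1,13,4,1], [1,4,4,1,4,4,1,4,4,1,4,1,4,1,4,4,1,4,4,1,5,9], 11, [([], 1347, [1,4,1,4,1,5,1,4,4,1,4,4,1,5,1,5,1,5,1]), ([226], 123, [4,1,4,1,4,4,1,4,1,4,1,4,4,1,5,1,4,1,5,1]), ([73,73,40], 1331, [5,1,5,1,5,1,5,1,5,1])], []⟩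
def c1997 : Clm := ⟨10, 10, true, [1,4,4,1,4,4,1,4,4,1,4,1,4,1,4,4,1,4,4,1,5,9], [4,4,1,5,1,5,1,5,1,4,4,1,5,1,5,1,5,1,4,4,1,13,4,1], 5, [([], 1996, [])], []⟩
def c1998 : Clm := ⟨10, 10, true, [1,5,1,4,4,1,5,1,4,4,1,4,4,1,4,1,4,1,4,1,5,1,2,8,8,1], [1,4,1,4,4,1,4,4,1,5,1,4,4,1,5,1,5,1,5,9], 11, [([], 1762, [1,4,1,5,1,4,1,4,1,5,1,5,1,4,4,1,4,4,1,4,1,4,4]), ([], 359, [1,5,1,4,1,5,1,4,1,5,1,4,1,4,1,5,1,4,4,1,5,1]), ([47,78,44], 1331, [4,1,4,4,1,4,4,1,4,4,1,4,1,4,4,1])], []⟩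
def c1999 : Clm := ⟨10, 10, true, [4,1,4,1,4,1,4,4,1,5,1,5,1,4,1,4,2,10,5,8,12], [1,4,1,5,1,5,1,5,1,4,4,1,5,1,4,4,1,5,1,4,1,5,9], 11, [([], 1364, [4,1,5,1,4,4,1,4,4,1,5,1,4,1,4,1,5,1,5,1,4,1,5]), ([158], 52, [1,5,1,4,1,5,1,4,4,1,5,1,4,4,1,4,4,1,4,1]), ([46,78,73], 1331, [4,1,4,1,4,1,4,1,4,4,1])], []⟩
def c2000 : Clm := ⟨10, 10, true, [1,4,1,5,1,5,1,5,1,4,4,1,5,1,4,4,1,5,1,4,1,5,9], [4,1,4,1,4,1,4,4,1,5,1,5,1,4,1,4,2,10,5,8,12], 5, [([], 1999, [])], []⟩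
def c2001 : Clm := ⟨10, 10, true, [1,4,4,1,4,4,1,4,4,1,5,1,5,1,5,1,2,4,1,12], [1,4,1,4,1,5,1,4,1,4,1,4,4,1,4,1,4,1,5,1,9], 11, [([], 1970, [1,4,4,1,5,1,4,1,5,1,5,1,4,1,4,1,4]), ([92,90], 99, [1,5,1,4,1,4,1,5,1,4,1,4,4,1,4,1,4,1,4,1]), ([73,79,44], 1331, [4,1,4,1,4,1,4,1,4,1,4,4,1])], []⟩
def c2002 : Clm := ⟨10, 10, true, [1,4,1,4,1,5,1,4,1,4,1,4,4,1,4,1,4,1,5,1,9], [1,4,4,1,4,4,1,4,4,1,5,1,5,1,5,1,2,4,1,12], 5, [([], 2001, [])], []⟩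
def c2003 : Clm := ⟨8, 10, true, [5,1,4,1,5,1,5,1,4,1,4,1,4,1,4,1,6,2,7,1], [4,4,1,4,4,1,5,1,4,1,4,1,5,1,5,1,4,4,1,9], 11, [([], 1122, [1,5,1,5,1,4,1,4,4,1,4,1,4]), ([2196,2114], 1000, [4,1,4,1,4,1,5,1,4,4,1,4,1,4,4,1,4,4,1,4]), ([66,73,78], 1331, [5,1,5,1,5,1,4,4,1,4,1,4])], []⟩
def c2004 : Clm := ⟨10, 8, true, [4,4,1,4,4,1,5,1,4,1,4,1,5,1,5,1,4,4,1,9], [5,1,4,1,5,1,5,1,4,1,4,1,4,1,4,1,6,2,7,1], 5, [([], 2003, [])], []⟩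
def c2005 : Clm := ⟨8, 10, true, [4,1,5,1,5,1,5,1,4,1,4,1,7,3,5,1], [1,4,1,4,4,1,5,1,4,4,1,5,1,4,1,4,1,4,4,1,4,4,9], 11, [([], 1275, [1,5,1,4,1,5,1,4,1,5,1,5,1,5,1,5,1,5,1,4,1]), ([2114,2010], 1000, [4,4,1,4,1,4,4,1,4,4,1,4,4,1,4,1,4,1,4,1,5,1]), ([44,40,78], 1331, [5,1,4,4,1,4,1,5,1,4,1])], []⟩
def c2006 : Clm := ⟨10, 8, true, [1,4,1,4,4,1,5,1,4,4,1,5,1,4,1,4,1,4,4,1,4,4,9], [4,1,5,1,5,1,5,1,4,1,4,1,7,3,5,1], 5, [([], 2005, [])], []⟩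
def c2007 : Clm := ⟨10, 10, true, [4,4,1,4,4,1,4,4,1,4,1,4,4,1,4,1,5,1,2,8,5,13], [1,4,4,1,4,4,1,5,1,5,1,4,1,4,4,1,4,1,4,4,9], 11, [([], 1851, [4,4,1,4,4,1,4,4,1,5,1,4,4,1,5,1,5,1,4]), ([], 235, [4,1,5,1,4,1,5,1,5,1,4,4,1,5,1,5,1,4,1,4,4]), ([73,78,44], 1331, [4,1,5,1,5,1,5,1,4])], []⟩
def c2008 : Clm := ⟨10, 10, true, [1,4,4,1,4,4,1,5,1,5,1,4,1,4,4,1,4,1,4,4,9], [4,4,1,4,4,1,4,4,1,4,1,4,4,1,4,1,5,1,2,8,5,13], 5, [([], 2007, [])], []⟩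
def c2009 : Clm := ⟨10, 8, true, [1,4,4,1,4,1,5,1,4,1,5,1,5,1,5,1,5,1,5,1,5,1,4,10], [4,1,4,1,5,1,5,1,4,1,4,1,4,1,4,1,4,4,1,5,1,2,1,13,8,1], 9, [([], 1330, [1,4,4,1,4,1,5,1,4,1,5,1,5,1,5,1,5,1,5,1,5,1,4]), ([42,79,73], 1331, [4,1,5,1,5,1,4,1,5,1,4,1,4,1,5,1]), ([2840], 1417, [1,4,4,1,4,4,1,4,1,4,1,4,1,4,4,1,4,1,4,1])], []⟩
def c2010 : Clm := ⟨8, 10, true, [4,1,4,1,5,1,5,1,4,1,4,1,4,1,4,1,4,4,1,5,1,2,1,13,8,1], [1,4,4,1,4,1,5,1,4,1,5,1,5,1,5,1,5,1,5,1,5,1,4,10], 5, [([], 2009, [])], []⟩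
def c2011 : Clm := ⟨8, 10, true, [1,4,1,4,4,1,4,4,1,4,1,4,4,1,4,1,5,1,4,1,10], [1,4,4,1,4,4,1,4,1,4,1,5,1,5,1,5,1,4,4,1,4,4,9,11,14], 9, [([], 176, [1,4,1,4,4,1,4,4,1,4,1,4,4,1,4,1,5,1,4,1]), ([47,40,78], 1331, [4,1,4,1,4,4,1,4,4,1,4,4,1,5,1]), ([], 1781, [1,5,1,4,1,4,1,4,4,1,4,1,5,1,4,1,5,1,4,1])], []⟩
def c2012 : Clm := ⟨10, 8, true, [1,4,4,1,4,4,1,4,1,4,1,5,1,5,1,5,1,4,4,1,4,4,9,11,14], [1,4,1,4,4,1,4,4,1,4,1,4,4,1,4,1,5,1,4,1,10], 5, [([], 2011, [])], []⟩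
def c2013 : Clm := ⟨10, 8, true, [1,4,1,4,1,5,1,5,1,4,4,1,4,4,1,4,1,5,1,4,1,4,4,10], [1,4,1,5,1,4,1,5,1,5,1,5,1,5,1,4,1,4,4,8,7,8], 9, [([], 1330, [1,4,1,4,1,5,1,5,1,4,4,1,4,4,1,4,1,5,1,4,1,4,4]), ([79,46,46,44], 1331, [1,4,1,4,1,4,4,1,4,1,4,1]), ([], 1831, [1,5,1,5,1,5,1,4,1,5,1,4,1,4,1])], []⟩
def c2014 : Clm := ⟨8, 10, true, [1,4,1,5,1,4,1,5,1,5,1,5,1,5,1,4,1,4,4,8,7,8], [1,4,1,4,1,5,1,5,1,4,4,1,4,4,1,4,1,5,1,4,1,4,4,10], 5, [([], 2013, [])], []⟩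
def c2015 : Clm := ⟨10, 10, true, [4,4,1,4,1,4,1,5,1,5,1,10,10,5], [4,4,1,5,1,5,1,4,1,4,1,4,4,1,4,1,4,1,9], 11, [([], 1455, [1,5,1,5,1,5,1,4,4,1,5,1,5,1,5,1]), ([2840,2688], 1330, [4,1,5,1,5,1,4,4,1,4,1,5,1,5,1,4,4,1,5,1,4,1,4]), ([79,66,42], 1331, [1,4,1,4,1,4,1,4,1,4,1,5,1,5,1])], []⟩
def c2016 : Clm := ⟨10, 10, true, [4,4,1,5,1,5,1,4,1,4,1,4,4,1,4,1,4,1,9], [4,4,1,4,1,4,1,5,1,5,1,10,10,5], 5, [([], 2015, [])], []⟩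
def c2017 : Clm := ⟨8, 10, true, [1,4,4,1,5,1,4,1,5,1,5,1,4,1,4,1,5,1,5,1,4,1,5,10], [1,4,1,5,1,5,1,5,1,4,4,1,5,1,4,1,4,1,5,1,4,7,1,3], 9, [([], 176, [1,4,4,1,5,1,4,1,5,1,5,1,4,1,4,1,5,1,5,1,4,1,5]), ([46,73,47], 1331, [1,4,1,5,1,4,1,4,1]), ([2840,2688], 1782, [1,4,1,5,1,4,1,5,1,5,1,4,1,4,1,5,1,5,1,4])], []⟩
def c2018 : Clm := ⟨10, 8, true, [1,4,1,5,1,5,1,5,1,4,4,1,5,1,4,1,4,1,5,1,4,7,1,3], [1,4,4,1,5,1,4,1,5,1,5,1,4,1,4,1,5,1,5,1,4,1,5,10], 5, [([], 2017, [])], []⟩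
def c2019 : Clm := ⟨8, 10, true, [4,1,4,4,1,4,1,5,1,5,1,4,4,1,4,1,4,1,2,8,1,8], [1,4,4,1,4,1,4,1,4,4,1,5,1,4,1,5,1,5,1,5,9], 11, [([], 637, [4,1,5,1,4,1,4,1,5,1,4,4,1,4,1,4,1,4,4,1,5]), ([], 99, [4,4,1,5,1,4,1,4,4,1,4,1,4,1,4,1,4,1]), ([79,72,42,47], 1331, [4,4,1,4,4,1,5,1,5,1,4,4,1,5,1])], []⟩
def c2020 : Clm := ⟨10, 8, true, [1,4,4,1,4,1,4,1,4,4,1,5,1,4,1,5,1,5,1,5,9], [4,1,4,4,1,4,1,5,1,5,1,4,4,1,4,1,4,1,2,8,1,8], 5, [([], 2019, [])], []⟩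
def c2021 : Clm := ⟨8, 10, true, [1,4,1,4,1,4,1,4,1,4,1,5,1,4,4,1,5,1,2,10,1,7], [1,4,1,4,1,5,1,4,1,4,4,1,5,1,5,1,5,1,5,1,9], 11, [([], 1552, [4,1,4,4,1,4,4,1,4,1,4,4,1,5,1,4,1,5,1]), ([], 1330, [1,4,4,1,4,1,4,4,1,4,1,5,1,5,1,4,1]), ([79,46,44], 1331, [5,1,4,4,1,4,4,1,4,1,4,1,4])], []⟩
def c2022 : Clm := ⟨10, 8, true, [1,4,1,4,1,5,1,4,1,4,4,1,5,1,5,1,5,1,5,1,9], [1,4,1,4,1,4,1,4,1,4,1,5,1,4,4,1,5,1,2,10,1,7], 5, [([], 2021, [])], []⟩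
def c2023 : Clm := ⟨10, 10, true, [5,1,5,1,5,1,5,1,5,1,5,1,5,1,4,1,4,1,5,1,4,8,6,8,1], [4,4,1,4,4,1,5,1,5,1,4,1,4,4,1,4,1,4,9], 11, [([], 1691, [1,4,4,1,4,1,4,1,5,1,5,1,4,1,4]), ([], 844, [4,1,5,1,4,4,1,5,1,4,1,4,4,1,4,4,1,4,4,1,4]), ([79,66,73,40], 1331, [1,4,1,5,1,5,1,5,1])], []⟩
def c2024 : Clm := ⟨10, 10, true, [4,4,1,4,4,1,5,1,5,1,4,1,4,4,1,4,1,4,9], [5,1,5,1,5,1,5,1,5,1,5,1,5,1,4,1,4,1,5,1,4,8,6,8,1], 5, [([], 2023, [])], []⟩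
def c2025 : Clm := ⟨10, 8, true, [1,4,1,4,4,1,4,1,5,1,4,1,5,1,4,1,4,1,4,1,4,1,10], [1,5,1,5,1,5,1,5,1,4,1,4,4,1,4,1,5,1,5,2,10,8,7], 9, [([], 1330, [1,4,1,4,4,1,4,1,5,1,4,1,5,1,4,1,4,1,4,1,4,1]), ([79,47,73], 1331, [4,1,4,1,4,1,4,1,5,1,5,1,5,1,5,1]), ([2688], 1961, [1,5,1,5,1,4,4,1,4,4,1,4,1,4,1,5,1,5])], []⟩
def c2026 : Clm := ⟨8, 10, true, [1,5,1,5,1,5,1,5,1,4,1,4,4,1,4,1,5,1,5,2,10,8,7], [1,4,1,4,4,1,4,1,5,1,4,1,5,1,4,1,4,1,4,1,4,1,10], 5, [([], 2025, [])], []⟩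
def c2027 : Clm := ⟨10, 10, true, [1,5,1,4,1,4,1,5,1,5,1,4,1,4,4,1,4,1,4,1,4,1,12,7,5], [4,1,4,1,5,1,5,1,4,4,1,4,1,5,1,5,1,4,4,1,9], 11, [([], 1791, [1,4,4,1,4,1,4,1,4,4,1,5,1,4,1,5,1,4,1,5,1]), ([88,92,88], 99, [1,5,1,5,1,5,1,5,1,4,1,5,1,4,1,4]), ([42,78,40], 1331, [5,1,4,1,4,1,5,1,4,4,1,4,4,1,4])], []⟩
def c2028 : Clm := ⟨10, 10, true, [4,1,4,1,5,1,5,1,4,1,4,4,1,5,1,5,1,5,6,3,11], [1,5,1,4,4,1,5,1,4,1,4,4,1,5,1,5,1,4,4,9], 11, [([], 2015, [1,4,1,4,1,5,1,5,1,4,4,1,5,1,5,1,4,4,1,5,1,5]), ([2840,2688], 1330, [5,1,5,1,5,1,5,1,5,1,5,1,4,1,4]), ([72,46,79], 1331, [5,1,4,1,4,1,4,1,4,1,5,1,5,1])], []⟩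
def c2029 : Clm := ⟨10, 10, true, [1,5,1,4,4,1,5,1,4,1,4,4,1,5,1,5,1,4,4,9], [4,1,4,1,5,1,5,1,4,1,4,4,1,5,1,5,1,5,6,3,11], 5, [([], 2028, [])], []⟩
def c2030 : Clm := ⟨8, 10, true, [4,1,4,4,1,4,4,1,5,1,4,4,1,5,1,4,1,4,1,5,12,10,4], [5,1,5,1,4,1,5,1,4,1,5,1,4,1,5,1,4,1,4,6,8,10,12], 9, [([], 235, [1,5,1,4,4,1,4,1,5,1,5,1,5,1,4,1,4,1]), ([79,72,42,47], 1331, [5,1,5,1,4,1,5,1,4,1,4,1,5,1]), ([], 1857, [1,4,4,1,4,4,1,4,1,5,1,5,1,4,4,1,4,1,5,1])], []⟩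
def c2031 : Clm := ⟨10, 8, true, [5,1,5,1,4,1,5,1,4,1,5,1,4,1,5,1,4,1,4,6,8,10,12], [4,1,4,4,1,4,4,1,5,1,4,4,1,5,1,4,1,4,1,5,12,10,4], 5, [([], 2030, [])], []⟩
def c2032 : Clm := ⟨10, 10, true, [4,1,4,1,5,1,4,4,1,4,1,4,1,4,1,4,1,5,8,6,8,1], [4,1,4,1,4,1,4,1,5,1,4,1,4,4,1,4,4,1,9], 11, [([], 1728, [1,4,4,1,5,1,5,1,4,4,1,4,1,4,4,1,4,1,4]), ([357], 235, [4,1,5,1,4,4,1,4,4,1,4,1,4,1,5,1,4,1]), ([66,72,66], 1331, [1,5,1,4,1])], []⟩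
def c2033 : Clm := ⟨10, 10, true, [4,1,4,1,4,1,4,1,5,1,4,1,4,4,1,4,4,1,9], [4,1,4,1,5,1,4,4,1,4,1,4,1,4,1,4,1,5,8,6,8,1], 5, [([], 2032, [])], []⟩
def c2034 : Clm := ⟨8, 10, true, [1,4,1,4,4,1,4,1,5,1,5,1,5,1,5,1,4,4,1,5,1,4,7,11,12,3], [4,1,4,1,4,1,5,1,4,1,4,4,1,5,1,5,1,5,1,5,1,5,9], 11, [([], 862, [1,4,1,5,1,4,1,4,1,4,1,4,4,1,5,1,4,4,1,5]), ([], 235, [4,1,5,1,5,1,4,1,5,1,5,1,4,1,5,1,4,4]), ([46,66,78], 1331, [1,4,4,1,4,4,1,4,1,4,1])], []⟩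
def c2035 : Clm := ⟨10, 8, true, [4,1,4,1,4,1,5,1,4,1,4,4,1,5,1,5,1,5,1,5,1,5,9], [1,4,1,4,4,1,4,1,5,1,5,1,5,1,5,1,4,4,1,5,1,4,7,11,12,3], 5, [([], 2034, [])], []⟩
def c2036 : Clm := ⟨10, 8, true, [4,1,4,1,4,4,1,5,1,5,1,4,1,4,1,5,1,5,1,4,1,10], [1,5,1,4,1,4,1,5,1,5,1,4,1,4,1,4,4,1,5,1,4,1,4,2,10,14,2], 9, [([], 1330, [4,1,4,1,4,4,1,5,1,5,1,4,1,4,1,5,1,5,1,4,1]), ([73,66,78,47], 1331, [1,4,4,1,4,4,1,5,1,5,1,5,1]), ([], 2010, [1,4,1,5,1,5,1,4,4,1,5,1,4,4,1,4,4,1,5])], []⟩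
def c2037 : Clm := ⟨8, 10, true, [1,5,1,4,1,4,1,5,1,5,1,4,1,4,1,4,4,1,5,1,4,1,4,2,10,14,2], [4,1,4,1,4,4,1,5,1,5,1,4,1,4,1,5,1,5,1,4,1,10], 5, [([], 2036, [])], []⟩
def c2038 : Clm := ⟨8, 10, true, [4,4,1,4,1,4,4,1,5,1,4,1,4,1,5,1,4,4,1,4,2,5,3], [1,4,4,1,5,1,4,1,5,1,5,1,4,1,4,4,1,5,1,5,1,4,4,9], 11, [([], 329, [5,1,5,1,5,1,4,4,1,4,1,5,1,4,1,4,1,4,4]), ([92,92], 52, [1,5,1,4,1,4,1,4,4,1,5,1,4,4,1,4,4,1,5,1,5]), ([73,44,40], 1331, [1,4,1,5,1,5,1,4,4,1,5,1,5,1])], []⟩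
def c2039 : Clm := ⟨10, 8, true, [1,4,4,1,5,1,4,1,5,1,5,1,4,1,4,4,1,5,1,5,1,4,4,9], [4,4,1,4,1,4,4,1,5,1,4,1,4,1,5,1,4,4,1,4,2,5,3], 5, [([], 2038, [])], []⟩
def c2040 : Clm := ⟨10, 8, true, [1,4,1,4,1,4,4,1,4,4,1,5,1,4,1,10], [5,1,4,1,4,1,4,1,4,1,5,1,5,1,4,1,5,1,4,6,1,7,3], 9, [([], 1330, [1,4,1,4,1,4,4,1,4,4,1,5,1,4,1]), ([73,44,79,47], 1331, [4,4,1,4,1,5,1,5,1,4]), ([2840,2688], 1951, [1,5,1,4,1,4,1,5,1,4,4,1,5,1,5,1,4,1])], []⟩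
def c2041 : Clm := ⟨8, 10, true, [5,1,4,1,4,1,4,1,4,1,5,1,5,1,4,1,5,1,4,6,1,7,3], [1,4,1,4,1,4,4,1,4,4,1,5,1,4,1,10], 5, [([], 2040, [])], []⟩
def c2042 : Clm := ⟨10, 10, true, [1,4,4,1,4,4,1,5,1,4,1,4,4,1,4,9,1], [4,4,1,5,1,4,1,4,1,4,1,4,4,1,5,1,4,1,4,4,9], 11, [([], 1372, [4,1,4,1,4,4,1,4,4,1,5,1,5,1,4,1]), ([228,241], 123, [1,4,1,5,1,4,1,4,4,1,5,1,5,1,5,1,4,1,4,1,5]), ([46,78], 1331, [4,1,4,1,4,4,1])], []⟩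
def c2043 : Clm := ⟨8, 10, true, [1,4,1,5,1,5,1,4,4,1,4,4,1,4,4,9], [5,1,4,4,1,4,1,4,4,1,4,1,5,1,4,4,1,4,4,6,9,9,14], 11, [([], 176, [1,4,1,5,1,5,1,4,4,1,4,4,1,4,4]), ([42,79,72], 1331, [5,1,4,4]), ([], 1941, [5,1,4,4,1,4,1,4,1,5,1,4,1,4,4,1,4,1,5])], []⟩
def c2044 : Clm := ⟨10, 8, true, [5,1,4,4,1,4,1,4,4,1,4,1,5,1,4,4,1,4,4,6,9,9,14], [1,4,1,5,1,5,1,4,4,1,4,4,1,4,4,9], 5, [([], 2043, [])], []⟩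
def c2045 : Clm := ⟨8, 10, true, [1,4,1,4,4,1,4,4,1,4,1,4,1,4,4,1,4,4,1,4,1,4,8,3,6,1], [4,1,4,4,1,4,4,1,5,1,5,1,5,1,4,8], 9, [([], 712, [4,1,4,4,1,4,4,1,4,1,4,4,1,4,1,5,1,4,4]), ([], 235, [5,1,5,1,5,1,4,1,4,1,4,4,1,4,1,5,1,4]), ([73,44,42], 1331, [4,1,4,4,1,4,4,1,5,1,5,1,5,1,4])], []⟩
def c2046 : Clm := ⟨10, 8, true, [4,1,4,4,1,4,4,1,5,1,5,1,5,1,4,8], [1,4,1,4,4,1,4,4,1,4,1,4,1,4,4,1,4,4,1,4,1,4,8,3,6,1], 5, [([], 2045, [])], []⟩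
def c2047 : Clm := ⟨8, 10, true, [1,5,1,5,1,4,1,5,1,5,1,4,4,1,5,1,5,1,4,4,9,13,10,4], [1,5,1,4,4,1,4,1,5,1,4,8], 9, [([], 644, [4,1,4,1,4,4,1,5,1,4,1,4,4,1,4,4,1,4,1,5]), ([356], 235, [4,1,4,4,1,4,1,4,1,4,1,4,4,1,4,4,1]), ([46,66,78], 1331, [1,5,1,4,4,1,4,1,5,1,4])], []⟩
def c2048 : Clm := ⟨10, 8, true, [1,5,1,4,4,1,4,1,5,1,4,8], [1,5,1,5,1,4,1,5,1,5,1,4,4,1,5,1,5,1,4,4,9,13,10,4], 5, [([], 2047, [])], []⟩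
def c2049 : Clm := ⟨8, 10, true, [5,1,4,4,1,5,1,5,1,4,4,1,5,1,5,1,5,1,5,3,12,8,14], [1,5,1,5,1,4,4,1,5,1,4,4,8], 9, [([], 527, [4,4,1,4,1,4,1,4,4,1,4,1,4,4,1,4,1,5,1]), ([158], 56, [1,5,1,4,1,5,1,4,4,1,5,1,4,1,5,1,5]), ([42,73,73,40], 1331, [1,5,1,5,1,4,4,1,5,1,4,4])], []⟩
def c2050 : Clm := ⟨10, 8, true, [1,5,1,5,1,4,4,1,5,1,4,4,8], [5,1,4,4,1,5,1,5,1,4,4,1,5,1,5,1,5,1,5,3,12,8,14], 5, [([], 2049, [])], []⟩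
def c2051 : Clm := ⟨10, 10, true, [4,1,4,1,5,1,4,1,4,4,1,4,1,5,1,4,6,10,13], [5,1,4,4,1,4,4,1,4,1,8], 9, [([], 1674, [4,1,5,1,5,1,4,1,5,1,4,4,1,5,1,4,1,4,4,1,4]), ([357], 235, [4,4,1,4,1,4,4,1,4,1,4,4,1,5,1,4,1,5]), ([78,42,44], 1331, [5,1,4,4,1,4,4,1,4,1])], []⟩
def c2052 : Clm := ⟨10, 10, true, [5,1,4,4,1,4,4,1,4,1,8], [4,1,4,1,5,1,4,1,4,4,1,4,1,5,1,4,6,10,13], 5, [([], 2051, [])], []⟩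
def c2053 : Clm := ⟨9, 10, true, [1,4,1,4,1,5,1,4,1,4,4,1,5,1,4,4,1,4,4,1,5,1,9,12,9,3], [4,4,1,4,1,4,1,4,1,4,1,4,8], 9, [([], 1228, [5,1,4,4,1,5,1,4,1,4,4,1,4,1,5]), ([], 176, [4,4,1,4,4,1,5,1,4,4,1,4,4,1,5,1,5,1,4,1,4]), ([46,44,42,40], 1331, [4,4,1,4,1,4,1,4,1,4,1,4])], []⟩
def c2054 : Clm := ⟨10, 9, true, [4,4,1,4,1,4,1,4,1,4,1,4,8], [1,4,1,4,1,5,1,4,1,4,4,1,5,1,4,4,1,4,4,1,5,1,9,12,9,3], 5, [([], 2053, [])], []⟩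
def c2055 : Clm := ⟨8, 10, true, [1,4,1,4,1,5,1,4,1,5,1,4,4,1,5,1,5,1,4,1,5,1,3,5,11], [1,4,1,4,1,5,1,5,1,5,1,5,1,4,4,1,5,1,4,4,2,6,2,4], 11, [([], 235, [1,5,1,4,1,4,1,4,1,4,4,1,4,1,5,1,4,1]), ([78,44], 1331, [4,1,4,1,5,1,5,1,4]), ([], 1925, [1,4,1,4,4,1,4,4,1,4,4,1,4,1,5,1,5,1,4,4,1])], []⟩
def c2056 : Clm := ⟨10, 8, true, [1,4,1,4,1,5,1,5,1,5,1,5,1,4,4,1,5,1,4,4,2,6,2,4], [1,4,1,4,1,5,1,4,1,5,1,4,4,1,5,1,5,1,4,1,5,1,3,5,11], 5, [([], 2055, [])], []⟩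
def c2057 : Clm := ⟨10, 10, true, [5,1,4,1,5,1,4,4,1,5,1,5,1,5,1,4,1,4,1,5,1,12,10,2], [4,4,1,4,8], 9, [([], 1983, [1,4,1,4,1,5,1,4,1,4,4,1,4,4,1,4,1,5]), ([2196], 1000, [1,5,1,4,1,5,1,4,4,1,4,1,4,1,4,4,1,5,1,4,1,5]), ([66,42,79], 1331, [4,4,1,4])], []⟩
def c2058 : Clm := ⟨10, 10, true, [4,4,1,4,8], [5,1,4,1,5,1,4,4,1,5,1,5,1,5,1,4,1,4,1,5,1,12,10,2], 5, [([], 2057, [])], []⟩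
def c2059 : Clm := ⟨8, 10, true, [1,4,4,1,4,1,4,1,5,1,4,4,1,4,1,4,1,5,1,4,9,11,11], [4,1,4,1,4,4,1,4,1,4,1,4,4,1,4,1,4,1,5,2,12,5,7,10], 11, [([], 359, [1,5,1,4,4,1,4,1,5,1,5,1,4,4,1,4,1,4,1,5]), ([72,42,47], 1331, [1,5,1,4,1,4,4,1,4,4,1,4]), ([2688], 1925, [5,1,5,1,4,1,4,4,1,4,4,1,4,1,4,1,4,4,1])], []⟩
def c2060 : Clm := ⟨10, 8, true, [4,1,4,1,4,4,1,4,1,4,1,4,4,1,4,1,4,1,5,2,12,5,7,10], [1,4,4,1,4,1,4,1,5,1,4,4,1,4,1,4,1,5,1,4,9,11,11], 5, [([], 2059, [])], []⟩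
def c2061 : Clm := ⟨8, 10, true, [4,4,1,5,1,4,4,1,5,1,4,4,1,4,1,4,1,8,2,8,8], [1,4,1,4,1,5,1,4,1,4,4,8], 9, [([], 615, [4,1,5,1,4,4,1,5,1,4,1,5,1,4,4,1,4,1,4,1,4,1]), ([317,282,276], 130, [5,1,5,1,4,1,4,4,1,4,4,1,4,4,1,4]), ([72,79,40], 1331, [1,4,1,4,1,5,1,4,1,4,4])], []⟩
def c2062 : Clm := ⟨10, 8, true, [1,4,1,4,1,5,1,4,1,4,4,8], [4,4,1,5,1,4,4,1,5,1,4,4,1,4,1,4,1,8,2,8,8], 5, [([], 2061, [])], []⟩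
def c2063 : Clm := ⟨8, 10, true, [1,4,4,1,5,1,4,4,1,5,1,4,1,5,1,5,1,4,4,1,4,1,6,11,1], [1,4,1,5,1,5,1,4,4,8], 9, [([], 194, [1,5,1,4,1,5,1,4,4,1,5,1,5,1,4,4]), ([229,226], 126, [1,5,1,5,1,4,1,4,1,5,1,5,1,4,1]), ([79,46,73], 1331, [1,4,1,5,1,5,1,4,4])], []⟩
def c2064 : Clm := ⟨10, 8, true, [1,4,1,5,1,5,1,4,4,8], [1,4,4,1,5,1,4,4,1,5,1,4,1,5,1,5,1,4,4,1,4,1,6,11,1], 5, [([], 2063, [])], []⟩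
def c2065 : Clm := ⟨8, 10, true, [4,1,4,4,1,4,4,1,4,1,4,1,4,4,1,4,1,4,1,9], [4,4,1,5,1,4,1,4,4,1,5,1,5,1,5,1,4,4,8,1,5,12], 11, [([], 176, [4,1,4,4,1,4,4,1,4,1,4,1,4,4,1,4,1,4,1]), ([79,46,44], 1331, [1,5,1,4,4,1]), ([2688,2840,2688], 1870, [4,4,1,4,4,1,4,4,1,4,1,4,4,1,5,1,4,1,5,1])], []⟩
def c2066 : Clm := ⟨10, 8, true, [4,4,1,5,1,4,1,4,4,1,5,1,5,1,5,1,4,4,8,1,5,12], [4,1,4,4,1,4,4,1,4,1,4,1,4,4,1,4,1,4,1,9], 5, [([], 2065, [])], []⟩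
def c2067 : Clm := ⟨8, 10, true, [1,4,1,5,1,4,1,5,1,5,1,4,1,4,4,1,2,1,3,10], [1,4,1,4,1,5,1,4,1,4,4,1,5,1,5,1,4,1,4,1,5,3,1,9,7,9], 11, [([], 235, [5,1,5,1,4,1,5,1,5,1,4,1,4,4,1,5,1]), ([66,44,79,42], 1331, [1,4,1,4,1,4,4,1,4,1,4,1]), ([2688], 2029, [1,5,1,4,4,1,5,1,5,1,4,1,4,4,1,4,4,1,4,1,4,1])], []⟩
def c2068 : Clm := ⟨10, 8, true, [1,4,1,4,1,5,1,4,1,4,4,1,5,1,5,1,4,1,4,1,5,3,1,9,7,9], [1,4,1,5,1,4,1,5,1,5,1,4,1,4,4,1,2,1,3,10], 5, [([], 2067, [])], []⟩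
def c2069 : Clm := ⟨9, 10, true, [1,5,1,5,1,4,1,4,1,5,1,5,1,4,1,4,1,4,1,2,10,4,14], [4,1,4,1,4,1,4,1,4,1,8], 9, [([], 1009, [4,1,5,1,5,1,4,4,1,4,4,1,4,1,4,4,1,4,4]), ([276,270], 130, [1,4,1,4,1,5,1,4,1,4,4,1,4,1,4,1,4,4,1,4]), ([47,72,47], 1331, [4,1,4,1,4,1,4,1,4,1])], []⟩
def c2070 : Clm := ⟨10, 9, true, [4,1,4,1,4,1,4,1,4,1,8], [1,5,1,5,1,4,1,4,1,5,1,5,1,4,1,4,1,4,1,2,10,4,14], 5, [([], 2069, [])], []⟩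
def c2071 : Clm := ⟨9, 10, true, [4,4,1,5,1,4,1,4,1,4,1,8,14,7], [1,4,1,4,1,5,1,5,1,4,4,1,4,1,8], 9, [([], 1274, [1,4,1,5,1,5,1,4,1,4,4,1,4,1,5,1,4,4,1,5,1,4,4,1]), ([356], 235, [4,4,1,4,4,1,5,1,4,1,4,4,1,4,4,1,4,1,4,1]), ([79,47,42], 1331, [1,4,1,4,1,5,1,5,1,4,4,1,4,1])], []⟩
def c2072 : Clm := ⟨10, 9, true, [1,4,1,4,1,5,1,5,1,4,4,1,4,1,8], [4,4,1,5,1,4,1,4,1,4,1,8,14,7], 5, [([], 2071, [])], []⟩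
def c2073 : Clm := ⟨10, 10, true, [1,4,1,4,1,4,4,1,5,1,5,1,4,1,4,1,4,4,1,4,3,13,2,7], [4,4,1,4,4,1,4,1,4,1,8], 9, [([], 1602, [1,5,1,4,1,5,1,5,1,5,1,5,1,5,1,5,1,4,1,4,4]), ([], 235, [1,4,1,5,1,5,1,5,1,5,1,4,4,1,5,1,5,1,4,1,4,1]), ([42,40,78], 1331, [4,4,1,4,4,1,4,1,4,1])], []⟩
def c2074 : Clm := ⟨10, 10, true, [4,4,1,4,4,1,4,1,4,1,8], [1,4,1,4,1,4,4,1,5,1,5,1,4,1,4,1,4,4,1,4,3,13,2,7], 5, [([], 2073, [])], []⟩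
def c2075 : Clm := ⟨8, 10, true, [1,4,4,1,5,1,5,1,4,1,4,4,1,4,4,1,4,1,5,1,4,3,9,12,10], [4,1,4,1,4,1,4,1,4,1,4,1,8], 9, [([], 650, [5,1,5,1,5,1,5,1,4,4,1,4,4,1,4,1,5,1,4]), ([88], 99, [5,1,5,1,5,1,4,4,1,4,4,1,5,1,4,1,5,1,4,4,1]), ([46,79,72,40], 1331, [4,1,4,1,4,1,4,1,4,1,4,1])], []⟩
def c2076 : Clm := ⟨10, 8, true, [4,1,4,1,4,1,4,1,4,1,4,1,8], [1,4,4,1,5,1,5,1,4,1,4,4,1,4,4,1,4,1,5,1,4,3,9,12,10], 5, [([], 2075, [])], []⟩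
def c2077 : Clm := ⟨8, 10, true, [1,4,1,4,4,1,4,4,1,4,4,1,5,1,4,4,1,5,1,5,1,9,9,9,1], [1,5,1,4,1,4,4,1,4,1,4,8], 9, [([], 827, [5,1,5,1,5,1,5,1,4,4,1,5,1,4]), ([], 359, [5,1,4,1,4,4,1,4,1,5,1,4,1,4,1,4,4,1,4,4,1]), ([44,66,42], 1331, [1,5,1,4,1,4,4,1,4,1,4])], []⟩
def c2078 : Clm := ⟨10, 8, true, [1,5,1,4,1,4,4,1,4,1,4,8], [1,4,1,4,4,1,4,4,1,4,4,1,5,1,4,4,1,5,1,5,1,9,9,9,1], 5, [([], 2077, [])], []⟩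
def c2079 : Clm := ⟨8, 10, true, [1,4,1,4,4,1,5,1,5,1,4,4,1,5,1,4,4,1,4,2,4,13,11], [1,5,1,5,1,4,4,1,5,1,5,1,5,1,4,4,1,4,4,1,4,1,13,9,7], 11, [([], 235, [1,5,1,4,1,4,1,5,1,4,1,4,1,5,1,5,1,4]), ([44,79,42], 1331, [1,4,1,5,1,4,1,4,1,4,1,4]), ([2688,2840], 1873, [5,1,5,1,5,1,4,1,4,1,4,4,1,4,1,4,4,1,5])], []⟩
def c2080 : Clm := ⟨10, 8, true, [1,5,1,5,1,4,4,1,5,1,5,1,5,1,4,4,1,4,4,1,4,1,13,9,7], [1,4,1,4,4,1,5,1,5,1,4,4,1,5,1,4,4,1,4,2,4,13,11], 5, [([], 2079, [])], []⟩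
def c2081 : Clm := ⟨10, 8, true, [5,1,5,1,4,1,4,1,5,1,5,1,4,4,1,4,4,1,4,1,5,9], [1,5,1,5,1,4,1,5,1,5,1,4,4,1,4,1,5,1,4,1,4,4,2,8,1,12], 11, [([], 1330, [5,1,5,1,4,1,4,1,5,1,5,1,4,4,1,4,4,1,4,1,5]), ([47,78,42], 1331, [1,4,1,4,1,5,1,5,1,5,1,4,4]), ([], 1465, [4,1,4,4,1,4,1,5,1,4,1,4,4,1,5,1,4,1,4,1])], []⟩
def c2082 : Clm := ⟨8, 10, true, [1,5,1,5,1,4,1,5,1,5,1,4,4,1,4,1,5,1,4,1,4,4,2,8,1,12], [5,1,5,1,4,1,4,1,5,1,5,1,4,4,1,4,4,1,4,1,5,9], 5, [([], 2081, [])], []⟩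
def c2083 : Clm := ⟨10, 10, true, [4,1,4,1,4,4,1,5,1,5,1,4,1,4,1,5,1,5,1,4,9,13,10,4], [4,4,1,4,1,4,1,4,1,4,1,4,1,8], 9, [([], 1893, [1,4,4,1,4,4,1,5,1,5,1,4,1,4,4,1,5,1,5,1,4]), ([357], 235, [1,5,1,4,1,4,1,4,1,4,1,4,1,4,1,4,1]), ([42,44,42,40], 1331, [4,4,1,4,1,4,1,4,1,4,1,4,1])], []⟩
def c2084 : Clm := ⟨10, 10, true, [4,4,1,4,1,4,1,4,1,4,1,4,1,8], [4,1,4,1,4,4,1,5,1,5,1,4,1,4,1,5,1,5,1,4,9,13,10,4], 5, [([], 2083, [])], []⟩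
def c2085 : Clm := ⟨8, 10, true, [4,4,1,4,4,1,5,1,5,1,5,1,3,8,11,5], [5,1,4,1,5,1,4,4,1,4,4,1,5,1,5,1,5,1,4,1,4,9,4,14,6], 11, [([], 844, [1,5,1,5,1,4,1,4,1,4,4,1,5,1,4,1,5]), ([72], 1331, [4,1,5,1,4,1,4,4,1,5,1,4,1,4]), ([2688,2840,2688], 2084, [1,4,1,4,1,4,4,1,5,1,4,1,4,1,5,1,5,1,4,1,4,1,4,4])], []⟩
def c2086 : Clm := ⟨10, 8, true, [5,1,4,1,5,1,4,4,1,4,4,1,5,1,5,1,5,1,4,1,4,9,4,14,6], [4,4,1,4,4,1,5,1,5,1,5,1,3,8,11,5], 5, [([], 2085, [])], []⟩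
def c2087 : Clm := ⟨8, 10, true, [1,4,1,5,1,4,4,1,5,1,5,1,4,1,4,4,1,4,4,13,11,14], [1,4,4,1,4,4,1,4,4,1,5,1,4,4,1,4,1,5,1,10,7,8,6], 11, [([], 235, [4,1,5,1,4,4,1,4,4,1,4,1,4,4,1,4,4,1,4,4]), ([47,78,73], 1331, [5,1,4,1,4,1,4,1,4]), ([2688], 1958, [1,4,4,1,4,4,1,5,1,5,1,4,4,1,4,4,1,5,1,4,1])], []⟩
def c2088 : Clm := ⟨10, 8, true, [1,4,4,1,4,4,1,4,4,1,5,1,4,4,1,4,1,5,1,10,7,8,6], [1,4,1,5,1,4,4,1,5,1,5,1,4,1,4,4,1,4,4,13,11,14], 5, [([], 2087, [])], []⟩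
def c2089 : Clm := ⟨8, 10, true, [1,4,1,4,4,1,4,1,4,4,1,4,1,4,1,9], [1,5,1,4,1,5,1,4,4,1,4,4,1,4,4,1,4,4,1,5,1,4,4,9,12], 11, [([], 176, [1,4,1,4,4,1,4,1,4,4,1,4,1,4,1]), ([44,66,72], 1331, [1,5,1,4,1,5,1,4,4,1,4]), ([2840,2688], 1849, [1,5,1,5,1,5,1,5,1,4,1,5,1,4,1,4,1,5,1,5])], []⟩
def c2090 : Clm := ⟨10, 8, true, [1,5,1,4,1,5,1,4,4,1,4,4,1,4,4,1,4,4,1,5,1,4,4,9,12], [1,4,1,4,4,1,4,1,4,4,1,4,1,4,1,9], 5, [([], 2089, [])], []⟩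
def c2091 : Clm := ⟨8, 10, true, [1,4,1,4,1,5,1,5,1,4,4,1,4,1,5,1,4,1,4,4,1,5,1,4,6,13,4,7], [4,1,4,1,5,1,8], 9, [([], 637, [4,1,4,4,1,4,1,4,1,5,1,5,1,4,4,1,5,1,5,1]), ([88,92], 99, [4,4,1,4,4,1,5,1,5,1,4,4,1,5,1,5,1,5,1,4,4]), ([47,42,78,44], 1331, [4,1,4,1,5,1])], []⟩
def c2092 : Clm := ⟨10, 8, true, [4,1,4,1,5,1,8], [1,4,1,4,1,5,1,5,1,4,4,1,4,1,5,1,4,1,4,4,1,5,1,4,6,13,4,7], 5, [([], 2091, [])], []⟩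
def c2093 : Clm := ⟨10, 10, true, [1,4,1,5,1,5,1,4,4,1,4,4,1,4,4,1,4,1,4,1,4,6,10,5,7], [1,5,1,4,4,1,4,4,8], 9, [([], 2091, [5,1,5,1,5,1,5,1,4,1,5,1,4,1,5,1,4,4,1,5,1]), ([], 176, [1,4,1,4,1,4,1,4,1,5,1,5,1,5,1,5,1,4,1,5]), ([47,79,42,40], 1331, [1,5,1,4,4,1,4,4])], []⟩
def c2094 : Clm := ⟨10, 10, true, [1,5,1,4,4,1,4,4,8], [1,4,1,5,1,5,1,4,4,1,4,4,1,4,4,1,4,1,4,1,4,6,10,5,7], 5, [([], 2093, [])], []⟩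
def c2095 : Clm := ⟨8, 10, true, [1,4,1,5,1,4,1,4,1,4,1,4,4,1,4,4,1,5,1,4,1,4,4,1,3,5,11,4], [4,1,5,1,8], 9, [([], 818, [4,4,1,4,1,4,1,4,4,1,4,1,4,1,5,1,4,1,4]), ([226], 119, [5,1,5,1,4,4,1,4,1,4,1,5,1,4,1,4]), ([73,66,47], 1331, [4,1,5,1])], []⟩
def c2096 : Clm := ⟨10, 8, true, [4,1,5,1,8], [1,4,1,5,1,4,1,4,1,4,1,4,4,1,4,4,1,5,1,4,1,4,4,1,3,5,11,4], 5, [([], 2095, [])], []⟩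
def c2097 : Clm := ⟨10, 10, true, [1,4,1,4,1,5,1,4,1,5,1,4,4,1,4,4,1,5,2,10,12], [1,4,1,4,1,4,1,4,4,1,5,1,4,1,8], 9, [([2840,2688], 2002, [5,1,4,4,1,4,1,5,1,4,1,4,1,4,4,1,4]), ([2840,2688], 1330, [5,1,5,1,5,1,4,1,5,1,4,1,4,1,5,1,4,4]), ([42,78,72,40], 1331, [1,4,1,4,1,4,1,4,4,1,5,1,4,1])], []⟩
def c2098 : Clm := ⟨10, 10, true, [1,4,1,4,1,4,1,4,4,1,5,1,4,1,8], [1,4,1,4,1,5,1,4,1,5,1,4,4,1,4,4,1,5,2,10,12], 5, [([], 2097, [])], []⟩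
def c2099 : Clm := ⟨9, 10, true, [5,1,4,4,1,5,1,4,1,5,1,4,1,4,4,9], [5,1,4,4,1,4,1,5,1,5,1,4,4,1,5,1,4,1,4,3,10,8,5], 11, [([], 1000, [5,1,4,4,1,5,1,4,1,5,1,4,1,4,4]), ([72], 1331, [1,5,1,4,1,4,4,1,4,1]), ([2688,2840], 1917, [1,4,1,4,4,1,5,1,4,1,4,1,4,1,4,1,4,4,1,4,1])], []⟩
def c2100 : Clm := ⟨10, 9, true, [5,1,4,4,1,4,1,5,1,5,1,4,4,1,5,1,4,1,4,3,10,8,5], [5,1,4,4,1,5,1,4,1,5,1,4,1,4,4,9], 5, [([], 2099, [])], []⟩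
def c2101 : Clm := ⟨10, 10, true, [1,4,4,1,4,1,4,1,5,1,5,1,4,1,4,1,4,4,1,4,4,1,3,14,12,1], [1,5,1,4,8], 9, [([], 1859, [1,5,1,4,1,5,1,5,1,4,4,1,5,1,4,1,4,4,1,5]), ([356], 235, [4,1,5,1,5,1,5,1,4,1,4,1,4,1,4,1,4,1,4,1]), ([79,42,44], 1331, [1,5,1,4])], []⟩
def c2102 : Clm := ⟨10, 10, true, [4,1,5,1,5,1,4,4,1,5,1,5,1,4,1,5,1,5,1,4,1,7,8,3,1], [1,5,1,4,4,1,4,1,4,1,5,8], 9, [([], 1347, [1,5,1,4,4,1,5,1,5,1,4,1,5,1,4,1,4,1,4,4,1]), ([228], 126, [1,4,1,4,4,1,4,1,4,1,5,1,5,1,4,1,5,1,4,1]), ([44,79,72], 1331, [1,5,1,4,4,1,4,1,4,1,5])], []⟩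
def c2103 : Clm := ⟨9, 10, true, [5,1,5,1,4,1,5,1,4,4,1,5,1,4,1,5,1,4,7,13,4,6], [4,1,4,1,5,1,4,4,1,8], 9, [([], 1622, [1,4,4,1,4,4,1,4,1,4,1,5,1,4,4,1,5,1,4,1,5,1,4]), ([2688,2840,2688], 1330, [5,1,4,1,4,1,4,4,1,4,1,4,1,5,1,5,1]), ([66,47,78,44], 1331, [4,1,4,1,5,1,4,4,1])], []⟩
def c2104 : Clm := ⟨10, 9, true, [4,1,4,1,5,1,4,4,1,8], [5,1,5,1,4,1,5,1,4,4,1,5,1,4,1,5,1,4,7,13,4,6], 5, [([], 2103, [])], []⟩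
def c2105 : Clm := ⟨8, 10, true, [4,1,4,1,4,4,1,5,1,5,1,4,4,1,4,1,5,1,5,1,4,7,2,12], [5,1,4,1,4,1,5,1,5,1,4,1,4,1,8], 9, [([], 467, [1,5,1,4,1,5,1,4,1,4,1,5,1,5,1,5,1,5,1,4,4,1]), ([92], 52, [1,5,1,4,1,5,1,4,4,1,5,1,4,4,1]), ([46,78,44], 1331, [5,1,4,1,4,1,5,1,5,1,4,1,4,1])], []⟩
def c2106 : Clm := ⟨10, 8, true, [5,1,4,1,4,1,5,1,5,1,4,1,4,1,8], [4,1,4,1,4,4,1,5,1,5,1,4,4,1,4,1,5,1,5,1,4,7,2,12], 5, [([], 2105, [])], []⟩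
def c2107 : Clm := ⟨10, 10, true, [1,5,1,4,4,1,4,1,5,1,4,1,4,1,5,1,4,6,12,8,1], [4,1,4,1,4,1,4,4,1,4,4,1,4,1,4,8], 9, [([], 1984, [4,1,4,4,1,5,1,5,1,5,1,4,1,4,1,4,4,1,4]), ([228,241], 123, [4,1,5,1,5,1,5,1,4,4,1,4,1,4,1,4,1,5,1,5]), ([79,66,78], 1331, [4,1,4,1,4,1,4,4,1,4,4,1,4,1,4])], []⟩
def c2108 : Clm := ⟨8, 10, true, [1,4,4,1,5,1,4,1,5,1,4,1,5,1,4,1,3,7,11,8], [1,4,4,1,4,1,4,1,5,1,5,1,5,1,5,1,5,8,10,1,6], 11, [([], 844, [4,4,1,4,4,1,4,1,5,1,4,1,4,4,1,5,1,4,1,4,1]), ([66,79,40], 1331, [4,4,1,5,1,4,1,4,1,5,1,4,4]), ([2688], 1942, [4,1,4,1,4,4,1,4,4,1,4,1,4,1,5,1,4,4,1,5])], []⟩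
def c2109 : Clm := ⟨10, 8, true, [1,4,4,1,4,1,4,1,5,1,5,1,5,1,5,1,5,8,10,1,6], [1,4,4,1,5,1,4,1,5,1,4,1,5,1,4,1,3,7,11,8], 5, [([], 2108, [])], []⟩
def c2110 : Clm := ⟨7, 10, true, [1,4,1,4,4,1,4,1,5,1,4,1,4,4,1,4,1,4,2,10,14], [5,1,5,1,4,1,4,4,1,4,1,4,1,4,8], 9, [([316,283,276], 155, [1,5,1,5,1,4,4,1,4,1,5,1,5,1,4,1,4,4,1,4]), ([316,282,276], 130, [5,1,5,1,4,4,1,5,1,5,1,4,4,1,5,1,4,4,1,4]), ([79,47,79,42], 1331, [5,1,5,1,4,1,4,4,1,4,1,4,1,4])], []⟩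
def c2111 : Clm := ⟨10, 7, true, [5,1,5,1,4,1,4,4,1,4,1,4,1,4,8], [1,4,1,4,4,1,4,1,5,1,4,1,4,4,1,4,1,4,2,10,14], 5, [([], 2110, [])], []⟩
def c2112 : Clm := ⟨9, 10, true, [4,1,4,4,1,5,1,5,1,4,4,1,4,4,1,4,1,5,1,9], [1,4,1,4,1,4,1,4,1,4,1,4,1,4,1,4,1,4,4,1,4,6,1,6,2], 11, [([], 1000, [4,1,4,4,1,5,1,5,1,4,4,1,4,4,1,4,1,5,1]), ([46,40,79], 1331, [1,5,1,5,1,5,1,4]), ([2688,2840,2688], 1455, [1,4,1,5,1,4,1,4,1,4,1,4,4,1,4,4,1,5,1,4,1,4,4,1])], []⟩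
def c2113 : Clm := ⟨10, 9, true, [1,4,1,4,1,4,1,4,1,4,1,4,1,4,1,4,1,4,4,1,4,6,1,6,2], [4,1,4,4,1,5,1,5,1,4,4,1,4,4,1,4,1,5,1,9], 5, [([], 2112, [])], []⟩
def c2114 : Clm := ⟨10, 10, true, [1,5,1,5,1,4,1,4,1,4,9], [1,4,1,4,4,1,5,1,5,1,4,4,1,4,4,1,4,1,5,1,4,1,9,1], 11, [([], 1330, [1,5,1,5,1,4,1,4,1,4]), ([72,42,40], 1331, [4,1,5,1,4,4,1,4]), ([2688], 1359, [4,1,5,1,5,1,4,1,4,4,1,4,1,4,1,4,1,5,1,5])], []⟩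
def c2115 : Clm := ⟨10, 10, true, [1,4,4,1,4,1,4,1,5,1,5,1,4,1,6,8,4], [5,1,4,1,4,4,1,5,1,4,1,4,1,8], 9, [([], 1380, [4,1,4,4,1,4,1,4,1,4,4,1,4,1,4,4,1,4,4]), ([158,92], 52, [5,1,4,1,5,1,4,4,1,5,1,4,1,4,4,1,4]), ([47,66,42,40], 1331, [5,1,4,1,4,4,1,5,1,4,1,4,1])], []⟩
def c2116 : Clm := ⟨10, 10, true, [5,1,4,1,4,4,1,5,1,4,1,4,1,8], [1,4,4,1,4,1,4,1,5,1,5,1,4,1,6,8,4], 5, [([], 2115, [])], []⟩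
def c2117 : Clm := ⟨8, 10, true, [5,1,4,4,1,5,1,4,1,4,1,4,1,4,1,4,4,1,5,9,11,12,4], [5,1,5,1,5,1,5,1,4,4,1,8], 9, [([], 760, [1,4,1,4,4,1,4,1,4,4]), ([357], 235, [4,4,1,4,4,1,4,4,1,4,1,4,4,1,4,4,1,5,1]), ([46,73,47], 1331, [5,1,5,1,5,1,5,1,4,4,1])], []⟩
def c2118 : Clm := ⟨10, 8, true, [5,1,5,1,5,1,5,1,4,4,1,8], [5,1,4,4,1,5,1,4,1,4,1,4,1,4,1,4,4,1,5,9,11,12,4], 5, [([], 2117, [])], []⟩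
def c2119 : Clm := ⟨10, 8, true, [4,4,1,5,1,4,1,5,1,4,1,5,1,4,1,4,4,1,4,9], [1,5,1,5,1,4,4,1,5,1,4,1,4,4,1,4,1,5,1,9,7,10,1], 11, [([], 1330, [4,4,1,5,1,4,1,5,1,4,1,5,1,4,1,4,4,1,4]), ([42,47,40], 1331, [5,1,4,1,4,1,5,1,5,1,4,1,4]), ([2840], 1502, [1,4,1,4,4,1,5,1,4,1,4,4,1,4,4,1,4,1,4,4])], []⟩
def c2120 : Clm := ⟨8, 10, true, [1,5,1,5,1,4,4,1,5,1,4,1,4,4,1,4,1,5,1,9,7,10,1], [4,4,1,5,1,4,1,5,1,4,1,5,1,4,1,4,4,1,4,9], 5, [([], 2119, [])], []⟩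
def c2121 : Clm := ⟨8, 10, true, [5,1,5,1,4,4,1,4,1,4,1,5,1,5,1,4,1,4,1,5,3,14], [1,4,1,4,1,4,1,4,4,1,4,1,4,1,4,4,1,4,1,4,3,14,8,11], 11, [([], 235, [4,1,4,4,1,4,4,1,5,1,4,1,4,1,4,1,4,4,1,5]), ([72,40], 1331, [5,1,4,1,4,1,5,1,5,1,4]), ([2840,2688], 2094, [1,4,4,1,4,4,1,4,4,1,4,4,1,4,4,1,4,1,4,4])], []⟩
def c2122 : Clm := ⟨10, 8, true, [1,4,1,4,1,4,1,4,4,1,4,1,4,1,4,4,1,4,1,4,3,14,8,11], [5,1,5,1,4,4,1,4,1,4,1,5,1,5,1,4,1,4,1,5,3,14], 5, [([], 2121, [])], []⟩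
def c2123 : Clm := ⟨10, 10, true, [1,5,1,4,1,4,4,1,5,1,5,1,4,1,4,1,2,10,6,13], [4,4,1,5,1,4,1,4,4,1,4,4,8], 9, [([], 1984, [4,4,1,4,1,4,1,5,1,4,4,1,4,1,5,1]), ([228], 123, [4,1,4,1,4,1,4,1,5,1,4,1,4,4,1,4,1,5,1,4,1]), ([47,40,79], 1331, [4,4,1,5,1,4,1,4,4,1,4,4])], []⟩
def c2124 : Clm := ⟨10, 10, true, [4,4,1,5,1,4,1,4,4,1,4,4,8], [1,5,1,4,1,4,4,1,5,1,5,1,4,1,4,1,2,10,6,13], 5, [([], 2123, [])], []⟩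
def c2125 : Clm := ⟨10, 10, true, [1,4,1,4,4,1,4,1,5,1,5,1,4,4,1,4,1,5,1,13,3,10,13], [1,5,1,5,1,5,1,4,1,8], 9, [([], 1970, [1,4,4,1,5,1,4,4,1,4,4,1,5,1,4,1,4,1,4,1]), ([88,92], 99, [4,1,5,1,5,1,4,4,1,5,1,5,1,5,1,4,4,1,5]), ([42,73,78], 1331, [1,5,1,5,1,5,1,4,1])], []⟩
def c2126 : Clm := ⟨10, 10, true, [1,5,1,5,1,5,1,4,1,8], [1,4,1,4,4,1,4,1,5,1,5,1,4,4,1,4,1,5,1,13,3,10,13], 5, [([], 2125, [])], []⟩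
def c2127 : Clm := ⟨8, 10, true, [1,4,4,1,4,1,5,1,5,1,4,1,4,4,1,4,1,4,4,1,4,1,4,2,11,11,8], [4,4,1,4,1,4,1,5,1,4,4,8], 9, [([], 837, [1,4,1,5,1,4,4,1,5,1,4,1,4,1,4,4,1,5,1,5,1]), ([228,241], 126, [4,1,4,4,1,4,1,4,1,5,1,4,1,5,1,4,1,4,1,5]), ([47,72,78,42], 1331, [4,4,1,4,1,4,1,5,1,4,4])], []⟩
def c2128 : Clm := ⟨10, 8, true, [4,4,1,4,1,4,1,5,1,4,4,8], [1,4,4,1,4,1,5,1,5,1,4,1,4,4,1,4,1,4,4,1,4,1,4,2,11,11,8], 5, [([], 2127, [])], []⟩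
def c2129 : Clm := ⟨8, 10, true, [1,5,1,5,1,5,1,4,1,4,1,4,1,4,1,5,1,4,1,4,2,12,7,11], [4,1,4,1,4,4,1,5,1,4,4,8], 9, [([], 559, [5,1,4,4,1,4,1,4,4,1,4,4,1,5,1,4,1,4,1]), ([], 844, [1,4,4,1,5,1,4,1,4,1,4,1,4,4,1,5,1,4,1]), ([40,79,47], 1331, [4,1,4,1,4,4,1,5,1,4,4])], []⟩
def c2130 : Clm := ⟨10, 8, true, [4,1,4,1,4,4,1,5,1,4,4,8], [1,5,1,5,1,5,1,4,1,4,1,4,1,4,1,5,1,4,1,4,2,12,7,11], 5, [([], 2129, [])], []⟩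
def c2131 : Clm := ⟨10, 10, true, [4,1,4,1,5,1,4,4,1,4,1,5,1,5,1,5,1,9,6,9], [1,4,1,5,1,5,1,5,1,4,4,1,8], 9, [([], 2019, [4,1,5,1,4,1,4,1,4,1,4,1,4,4,1,5]), ([], 844, [4,1,5,1,4,4,1,4,4,1,4,1,4,4,1,5,1,5,1,5]), ([47,78,44,40], 1331, [1,4,1,5,1,5,1,5,1,4,4,1])], []⟩
def c2132 : Clm := ⟨8, 10, true, [1,4,1,4,1,4,1,4,4,1,4,1,4,1,4,1,4,1,4,1,2,5,2], [4,4,1,4,1,4,1,5,1,8], 9, [([], 792, [1,5,1,5,1,4,4,1,4,1,4,1,5,1,4,1,5,1,5]), ([], 235, [1,4,1,5,1,4,1,5,1,4,4,1,5,1,5,1,4,1,5,1,4,1]), ([79,72,40], 1331, [4,4,1,4,1,4,1,5,1])], []⟩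
def c2133 : Clm := ⟨10, 8, true, [4,4,1,4,1,4,1,5,1,8], [1,4,1,4,1,4,1,4,4,1,4,1,4,1,4,1,4,1,4,1,2,5,2], 5, [([], 2132, [])], []⟩
def c2134 : Clm := ⟨10, 10, true, [1,4,1,5,1,5,1,5,1,5,1,4,4,1,4,1,3,8,1,9], [4,4,1,5,1,4,1,4,4,1,8], 9, [([], 1376, [1,5,1,5,1,4,1,4,4,1,5,1,4,4,1,4,4,1,5]), ([], 359, [1,4,1,4,4,1,4,1,5,1,5,1,4,1,4,4,1,4]), ([78,73,46,46], 1331, [4,4,1,5,1,4,1,4,4,1])], []⟩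
def c2135 : Clm := ⟨10, 10, true, [4,4,1,5,1,4,1,4,4,1,8], [1,4,1,5,1,5,1,5,1,5,1,4,4,1,4,1,3,8,1,9], 5, [([], 2134, [])], []⟩
def c2136 : Clm := ⟨8, 10, true, [4,1,4,4,1,5,1,4,1,4,4,1,5,6,9,7], [1,4,1,4,1,4,4,1,4,1,4,8], 9, [([], 1773, [5,1,4,4,1,4,4,1,4,1,4,4,1,4,1,5,1,4,1]), ([2688], 1330, [4,1,4,1,4,4,1,5,1,5]), ([72,46,79], 1331, [1,4,1,4,1,4,4,1,4,1,4])], []⟩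
def c2137 : Clm := ⟨10, 8, true, [1,4,1,4,1,4,4,1,4,1,4,8], [4,1,4,4,1,5,1,4,1,4,4,1,5,6,9,7], 5, [([], 2136, [])], []⟩
def c2138 : Clm := ⟨8, 10, true, [4,4,1,4,1,4,4,1,4,4,1,5,1,4,4,1,4,1,7,8,2,8], [4,1,5,1,5,1,4,8], 9, [([], 935, [1,5,1,5,1,5,1,5,1,4,4]), ([], 359, [4,4,1,4,1,4,4,1,5,1,4,1,5,1,5,1,4,1,4,1]), ([66,46,42], 1331, [4,1,5,1,5,1,4])], []⟩
def c2139 : Clm := ⟨10, 8, true, [4,1,5,1,5,1,4,8], [4,4,1,4,1,4,4,1,4,4,1,5,1,4,4,1,4,1,7,8,2,8], 5, [([], 2138, [])], []⟩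
def c2140 : Clm := ⟨8, 10, true, [5,1,5,1,5,1,4,4,1,5,1,4,1,5,1,4,4,2,11,14,13], [1,4,4,1,5,1,5,1,4,1,4,1,4,1,4,1,4,1,4,1,4,1,5,1,6,3,9], 11, [([], 844, [1,5,1,4,1,5,1,4,4,1,4,1,4,1,5,1,5]), ([79,44,42,40], 1331, [5,1,4,1,4,4,1,4,1,4,1,4]), ([], 2098, [1,4,4,1,4,1,4,1,5,1,5,1,4,1,5,1,4,1])], []⟩
def c2141 : Clm := ⟨10, 8, true, [1,4,4,1,5,1,5,1,4,1,4,1,4,1,4,1,4,1,4,1,4,1,5,1,6,3,9], [5,1,5,1,5,1,4,4,1,5,1,4,1,5,1,4,4,2,11,14,13], 5, [([], 2140, [])], []⟩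
def c2142 : Clm := ⟨8, 10, true, [1,4,1,4,1,5,1,4,4,1,4,4,1,5,1,5,1,5,6,2,8,10], [1,4,1,4,4,1,5,1,4,4,1,4,4,1,5,1,4,4,1,5,2,9,3,11], 11, [([], 1452, [1,5,1,4,1,4,4,1,5,1,5,1,4,1,4,1,4,1,4,4,1]), ([2840], 1683, [1,4,1,4,4,1,4,4,1,4,1,4,4,1,4,1,4]), ([2840], 1333, [1,4,1,4,1,4,1,4,4,1,5,1,4,1,5,1,4,4,1,5,1,4])], []⟩
def c2143 : Clm := ⟨10, 8, true, [1,4,1,4,4,1,5,1,4,4,1,4,4,1,5,1,4,4,1,5,2,9,3,11], [1,4,1,4,1,5,1,4,4,1,4,4,1,5,1,5,1,5,6,2,8,10], 5, [([], 2142, [])], []⟩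
def c2144 : Clm := ⟨10, 8, true, [1,4,4,1,5,1,5,1,4,4,1,5,1,4,1,5,1,4,1,2,1,13,9], [4,4,1,5,1,4,1,5,1,4,1,5,1,4,1,4,4,1,7,3,12,10], 11, [([], 1333, [1,4,1,4,1,5,1,5,1,5,1,4,1,4,4,1,4,1,5]), ([2688,2840], 2087, [5,1,4,4,1,4,1,4,4,1,4,4,1,4,1,5]), ([356], 543, [1,5,1,4,1,5,1,4,4,1,4])], []⟩
def c2145 : Clm := ⟨8, 10, true, [4,4,1,5,1,4,1,5,1,4,1,5,1,4,1,4,4,1,7,3,12,10], [1,4,4,1,5,1,5,1,4,4,1,5,1,4,1,5,1,4,1,2,1,13,9], 5, [([], 2144, [])], []⟩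
def c2146 : Clm := ⟨10, 8, true, [4,1,5,1,5,1,4,4,1,4,1,4,1,5,1,4,4,1,3,12,8,7], [4,1,4,1,4,1,5,1,4,4,1,4,1,4,4,1,4,4,6,8,13,6], 9, [([], 1767, [4,4,1,4,1,5,1,4,4,1,5,1,4,1,5,1,5]), ([], 1333, [4,1,5,1,5,1,4,1,4,1,5,1,4,4,1]), ([2688], 1676, [1,4,1,4,1,4,1,4,1,4,4,1,5,1,4,4,1,5,1,5,1,4,1])], []⟩
def c2147 : Clm := ⟨8, 10, true, [4,1,4,1,4,1,5,1,4,4,1,4,1,4,4,1,4,4,6,8,13,6], [4,1,5,1,5,1,4,4,1,4,1,4,1,5,1,4,4,1,3,12,8,7], 5, [([], 2146, [])], []⟩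
def c2148 : Clm := ⟨10, 8, true, [4,1,4,1,4,4,1,5,1,4,1,5,1,5,1,4,4,1,4,7,9], [1,4,1,5,1,4,1,5,1,4,4,1,5,1,5,1,4,1,4,1,5,3,4,11,7], 11, [([], 1333, [4,1,5,1,4,4,1,5,1,5,1,5,1]), ([2840], 1400, [5,1,4,1,5,1,5,1,5,1,4,4,1,4,1,4,1,4]), ([2114,2004], 1065, [4,1,5,1,4,1,4,4,1,4,1,4,1,5,1,5,1])], []⟩
def c2149 : Clm := ⟨8, 10, true, [1,4,1,5,1,4,1,5,1,4,4,1,5,1,5,1,4,1,4,1,5,3,4,11,7], [4,1,4,1,4,4,1,5,1,4,1,5,1,5,1,4,4,1,4,7,9], 5, [([], 2148, [])], []⟩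
def c2150 : Clm := ⟨5, 10, true, [4,4,1,4,4,1,4,4,1,5,1,4,1,5,1,4,4,1,5,1,2,10,5], [1,4,1,4,1,5,1,5,1,5,1,4,1,4,4,1,4,4,1,5,1,4,2,1,14,11], 11, [([], 719, [1,5,1,5,1,4,1,5,1,5,1,4,1,5,1,4,4]), ([], 2009, [4,4,1,4,4,1,4,4,1,5,1,4,1,4,1,5,1,4,1,4,4,1]), ([2688,2840], 1333, [4,1,4,1,5,1,4,4,1,4,1,5,1,5,1,4,4,1,4,1,4])], []⟩
def c2151 : Clm := ⟨10, 5, true, [1,4,1,4,1,5,1,5,1,5,1,4,1,4,4,1,4,4,1,5,1,4,2,1,14,11], [4,4,1,4,4,1,4,4,1,5,1,4,1,5,1,4,4,1,5,1,2,10,5], 5, [([], 2150, [])], []⟩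
def c2152 : Clm := ⟨8, 10, true, [4,1,5,1,4,1,4,4,1,4,1,4,1,4,4,1,4,1,4,1,5,6,1,12,4], [4,1,4,1,5,1,5,1,4,1,5,1,5,1,4,1,5,1,3,10,13,8], 11, [([], 522, [5,1,4,1,4,1,4,1,4,1,5,1,5,1,5,1,5,1]), ([356], 1771, [4,4,1,4,4,1,4,4,1,4,1,4,4,1,4,4,1,5,1,5]), ([2688,2840], 1333, [4,1,5,1,5,1,5,1,5,1,5,1,4,1,4,4,1,4])], []⟩
def c2153 : Clm := ⟨10, 8, true, [4,1,4,1,5,1,5,1,4,1,5,1,5,1,4,1,5,1,3,10,13,8], [4,1,5,1,4,1,4,4,1,4,1,4,1,4,4,1,4,1,4,1,5,6,1,12,4], 5, [([], 2152, [])], []⟩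
def c2154 : Clm := ⟨8, 10, true, [1,4,1,4,1,4,1,5,1,4,1,4,4,1,4,1,4,4,1,5,8,7,3,1], [4,1,4,1,4,4,1,4,1,5,1,4,1,5,1,5,1,4,4,1,4,1,5,3,4,14,9], 11, [([], 355, [1,4,1,4,4,1,5,1,4,4,1,5,1,5,1]), ([356], 1464, [4,4,1,4,4,1,4,1,4,4,1,4,4,1,4,1,5,1,4,4,1]), ([], 1333, [1,5,1,4,1,5,1,4,1,4,1,5,1,5,1,5,1,4,1,4,4])], []⟩
def c2155 : Clm := ⟨10, 8, true, [4,1,4,1,4,4,1,4,1,5,1,4,1,5,1,5,1,4,4,1,4,1,5,3,4,14,9], [1,4,1,4,1,4,1,5,1,4,1,4,4,1,4,1,4,4,1,5,8,7,3,1], 5, [([], 2154, [])], []⟩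
def c2156 : Clm := ⟨10, 8, true, [1,4,4,1,5,1,5,1,5,1,4,1,4,1,4,4,1,4,1,8,11,11], [5,1,5,1,4,4,1,4,4,1,4,4,1,5,1,4,1,5,1,3,4,11,5], 11, [([], 1333, [1,4,1,4,4,1,4,4,1,5,1,5,1,5,1,5,1,4,1,5,1]), ([2840,2688], 1644, [5,1,4,1,4,4,1,4,1,4,4,1,5,1,4,4,1,5,1]), ([2114,2010,2004], 1084, [5,1,4,1,5,1,5,1,4,1,5,1,5,1])], []⟩
def c2157 : Clm := ⟨8, 10, true, [5,1,5,1,4,4,1,4,4,1,4,4,1,5,1,4,1,5,1,3,4,11,5], [1,4,4,1,5,1,5,1,5,1,4,1,4,1,4,4,1,4,1,8,11,11], 5, [([], 2156, [])], []⟩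
def c2158 : Clm := ⟨10, 10, true, [1,5,1,4,4,1,4,4,1,5,1,4,4,1,5,1,5,2,1,7,14], [1,5,1,4,4,1,4,1,4,1,5,1,4,4,1,4,4,1,5,1,4,4,8,1,12,10], 9, [([], 1883, [1,4,1,4,1,4,4,1,5,1,4,1,5,1,4,4,1,5,1,4,1,4]), ([2688,2840], 1333, [1,4,1,4,4,1,4,4,1,4,1,4,1,4,4,1,4,1,4,4,1,4]), ([2840,2688], 1882, [1,5,1,5,1,5,1,4,1,4,1,4,1,4,1,4,1,4,1,4,4,1,5])], []⟩
def c2159 : Clm := ⟨8, 10, true, [4,1,4,1,5,1,4,4,1,5,1,5,1,4,1,5,1,4,1,8,8,7,14], [4,1,4,1,5,1,5,1,5,1,4,4,1,4,1,4,1,5,1,4,2,1,13,11], 11, [([], 560, [1,4,1,4,1,4,4,1,4,1,5,1,5,1,4,4,1,5]), ([357], 1886, [1,4,1,5,1,4,4,1,4,4,1,4,4,1,5,1,5,1,4,1,4,4]), ([], 1333, [5,1,5,1,5,1,4,1,4,4,1,4])], []⟩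
def c2160 : Clm := ⟨10, 8, true, [4,1,4,1,5,1,5,1,5,1,4,4,1,4,1,4,1,5,1,4,2,1,13,11], [4,1,4,1,5,1,4,4,1,5,1,5,1,4,1,5,1,4,1,8,8,7,14], 5, [([], 2159, [])], []⟩
def c2161 : Clm := ⟨10, 10, true, [1,4,1,4,4,1,4,1,4,4,1,5,1,4,1,4,1,5,1,5,8,14,13,7], [5,1,5,1,5,1,4,1,4,1,5,1,4,1,4,4,1,4,4,1,2,1,13,9], 11, [([], 1339, [1,5,1,4,1,5,1,5,1,4,4,1,4,1,4,1,4,4,1]), ([357], 1464, [4,1,5,1,4,4,1,5,1,4,4,1,4,4,1,5,1,4,1]), ([2840], 1333, [4,4,1,4,1,5,1,4,1,4,1,4])], []⟩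
def c2162 : Clm := ⟨10, 10, true, [4,1,4,4,1,5,1,4,1,4,1,5,1,4,4,1,5,1,4,2,4,11,11], [1,5,1,4,1,4,1,4,4,1,4,1,5,1,5,1,4,4,2,9,3,11], 11, [([2840,2688], 2124, [4,1,5,1,4,4,1,4,4,1,4,1,4,1,4,1,4,1]), ([2840,2688], 1545, [1,4,4,1,5,1,4,1,4,4,1,4,1,4,4,1,5]), ([2688,2840], 1333, [1,4,1,5,1,5,1,4,1,5,1,4,1,5,1,4])], []⟩
def c2163 : Clm := ⟨10, 10, true, [1,5,1,4,1,4,1,4,4,1,4,1,5,1,5,1,4,4,2,9,3,11], [4,1,4,4,1,5,1,4,1,4,1,5,1,4,4,1,5,1,4,2,4,11,11], 5, [([], 2162, [])], []⟩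
def c2164 : Clm := ⟨8, 10, true, [1,4,1,5,1,4,1,5,1,4,4,1,4,1,4,1,5,1,4,4,2,4,1,9,13], [1,4,1,5,1,4,1,4,1,5,1,4,1,4,1,5,1,5,6,9], 11, [([], 298, [1,4,1,4,4,1,4,1,5,1,4,1,4,4,1,5,1,5,1]), ([], 1702, [4,1,4,1,4,4,1,5,1,4,4,1,4,4,1,4,4,1,5]), ([2840], 1333, [5,1,4,1,5,1,4,4,1,4,1,4,1,4,1,4,1,5])], []⟩
def c2165 : Clm := ⟨10, 8, true, [1,4,1,5,1,4,1,4,1,5,1,4,1,4,1,5,1,5,6,9], [1,4,1,5,1,4,1,5,1,4,4,1,4,1,4,1,5,1,4,4,2,4,1,9,13], 5, [([], 2164, [])], []⟩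
def c2166 : Clm := ⟨10, 10, true, [4,1,5,1,4,1,4,4,1,4,1,5,1,5,1,5,1,4,12,8,4,6], [1,5,1,4,4,1,5,1,4,1,4,1,4,1,4,1,4,7,1,9], 11, [([], 1604, [1,4,1,5,1,4,4,1,5,1,5,1,4,1,4,1,4,4]), ([], 1960, [4,1,4,1,4,1,4,1,4,4,1,5,1,4,4,1,5,1,5,1,4]), ([], 1333, [5,1,4,1,4,1,4,1,4,4,1,5,1,4,1,5,1,4,1])], []⟩
def c2167 : Clm := ⟨10, 10, true, [1,5,1,4,4,1,5,1,4,1,4,1,4,1,4,1,4,7,1,9], [4,1,5,1,4,1,4,4,1,4,1,5,1,5,1,5,1,4,12,8,4,6], 5, [([], 2166, [])], []⟩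
def c2168 : Clm := ⟨8, 10, true, [4,1,5,1,4,1,4,4,1,4,4,1,4,1,4,1,4,4,1,5,1,5,1,6,3,10], [1,4,1,4,4,1,4,1,4,1,5,1,4,4,1,6,11], 11, [([356], 985, [1,4,1,4,1,5,1,4,1,5,1,4,4,1,5,1,4,1,4,1,4,4,1,5]), ([357], 2046, [5,1,4,1,5,1,4,1,4,1,5,1,4,4,1,4,4,1]), ([2840], 1333, [5,1,4,1,5,1,4,4,1,4,1,4,1,4,1,4,1,4,4])], []⟩
def c2169 : Clm := ⟨10, 8, true, [1,4,1,4,4,1,4,1,4,1,5,1,4,4,1,6,11], [4,1,5,1,4,1,4,4,1,4,4,1,4,1,4,1,4,4,1,5,1,5,1,6,3,10], 5, [([], 2168, [])], []⟩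
def c2170 : Clm := ⟨10, 8, true, [1,5,1,5,1,4,1,4,1,5,1,5,1,5,1,4,4,3,4,13,11], [4,1,4,4,1,5,1,4,4,1,5,1,5,1,4,1,5,1,4,1,5,10,12,5,14], 11, [([], 1333, [1,5,1,4,1,4,1,4,1,4,1,4,1,4,1,5,1,4,4,1,5]), ([2688,2840,2688], 1527, [1,4,4,1,5,1,5,1,4,1,4,1,4,1,4,1,5,1,5,1]), ([357], 544, [1,5,1,4,1,4,4,1,4,1,5,1,4,1,4,4,1])], []⟩
def c2171 : Clm := ⟨8, 10, true, [4,1,4,4,1,5,1,4,4,1,5,1,5,1,4,1,5,1,4,1,5,10,12,5,14], [1,5,1,5,1,4,1,4,1,5,1,5,1,5,1,4,4,3,4,13,11], 5, [([], 2170, [])], []⟩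
def c2172 : Clm := ⟨8, 10, true, [4,1,5,1,4,1,4,1,4,4,1,5,1,5,1,13,9,4,13], [5,1,5,1,5,1,4,1,4,1,4,4,1,5,1,2,10,5,8,12], 11, [([], 1597, [4,4,1,5,1,5,1,4,1,5,1,4,1,4,1,5,1]), ([2688], 1907, [4,4,1,4,4,1,4,4,1,4,1,4,4,1,4,1,4,1,5,1,5]), ([], 1333, [1,4,1,5,1,4,1,4,1,5,1,5,1,4,1,5,1,5,1,4,4])], []⟩
def c2173 : Clm := ⟨10, 8, true, [5,1,5,1,5,1,4,1,4,1,4,4,1,5,1,2,10,5,8,12], [4,1,5,1,4,1,4,1,4,4,1,5,1,5,1,13,9,4,13], 5, [([], 2172, [])], []⟩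
def c2174 : Clm := ⟨10, 8, true, [1,4,1,5,1,4,1,4,1,5,1,4,4,1,5,1,4,1,5,2,12,3,11], [4,1,5,1,4,1,4,1,4,1,4,1,4,4,1,5,1,4,9,9,9,3], 11, [([], 1333, [4,4,1,4,1,5,1,4,1,4,1,5,1,4,1,5,1]), ([], 2055, [1,4,1,5,1,5,1,4,1,4,4,1,4,4,1,4,4,1,4,1,4,1]), ([357], 765, [1,4,1,4,4,1,5,1,4,1,4,1,5,1,4,4,1,4,1,5,1])], []⟩
def c2175 : Clm := ⟨8, 10, true, [4,1,5,1,4,1,4,1,4,1,4,1,4,4,1,5,1,4,9,9,9,3], [1,4,1,5,1,4,1,4,1,5,1,4,4,1,5,1,4,1,5,2,12,3,11], 5, [([], 2174, [])], []⟩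
def c2176 : Clm := ⟨10, 10, true, [1,4,1,4,1,4,1,4,1,4,4,1,5,1,5,1,2,1,7,12], [1,4,1,5,1,4,4,1,4,1,5,1,5,1,4,4,1,4,1,4,1,9,5,11,12], 9, [([], 1738, [1,4,4,1,4,4,1,4,4,1,5,1,4,4,1,4,4,1,4,4]), ([2688,2840], 1333, [1,5,1,5,1,5,1,4,1,4,1,4,1,4,1]), ([2688,2840,2688], 1737, [4,1,4,1,4,1,4,4,1,5,1,5,1,5,1,4,4,1,4,1])], []⟩
def c2177 : Clm := ⟨8, 10, true, [1,4,4,1,5,1,4,1,4,1,4,1,4,4,1,4,4,1,4,1,5,3,7,14,7], [4,1,4,1,5,1,4,1,5,1,4,4,1,5,1,5,1,4,1,5,1,4,4,8,3,4,10], 11, [([356], 733, [4,1,4,1,4,4,1,4,1,5,1,4,4,1,4]), ([357], 1800, [1,4,1,5,1,4,1,5,1,4,1,4,1,5,1,5,1,4,4]), ([2688,2840], 1333, [4,4,1,4,1,5,1,4,1,4,1,5,1,4])], []⟩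
def c2178 : Clm := ⟨10, 8, true, [4,1,4,1,5,1,4,1,5,1,4,4,1,5,1,5,1,4,1,5,1,4,4,8,3,4,10], [1,4,4,1,5,1,4,1,4,1,4,1,4,4,1,4,4,1,4,1,5,3,7,14,7], 5, [([], 2177, [])], []⟩
def c2179 : Clm := ⟨10, 10, true, [1,5,1,4,1,5,1,5,1,4,1,4,1,5,1,5,1,5,7,1,9], [4,4,1,4,4,1,5,1,5,1,4,1,4,1,5,1,5,1,5,3,7,12], 11, [([], 1333, [5,1,5,1,4,4,1,4,4,1,4,4,1,4,4,1,4,4]), ([], 1871, [1,4,1,4,1,4,4,1,4,1,4,4,1,4,1,4,1,4,4,1,5,1,5]), ([], 1925, [1,5,1,4,1,4,1,5,1,4,4,1,4,4,1,4,4,1,4,4,1])], []⟩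
def c2180 : Clm := ⟨10, 10, true, [4,4,1,4,4,1,5,1,5,1,4,1,4,1,5,1,5,1,5,3,7,12], [1,5,1,4,1,5,1,5,1,4,1,4,1,5,1,5,1,5,7,1,9], 5, [([], 2179, [])], []⟩
def c2181 : Clm := ⟨10, 10, true, [4,1,4,4,1,5,1,5,1,5,1,5,1,4,1,4,1,2,6,13,11], [5,1,5,1,4,4,1,5,1,5,1,4,4,1,5,1,4,1,5,1,2,1,5,13,1], 11, [([], 1356, [5,1,4,4,1,5,1,5,1,4,1,5,1,5,1,4,1,4,1,4,1,4]), ([], 2060, [1,4,1,5,1,4,4,1,5,1,5,1,4,1,5,1,4,1,5,1,4,4]), ([], 1333, [5,1,5,1,5,1,4,1,4,4])], []⟩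
def c2182 : Clm := ⟨10, 10, true, [5,1,5,1,4,4,1,5,1,5,1,4,4,1,5,1,4,1,5,1,2,1,5,13,1], [4,1,4,4,1,5,1,5,1,5,1,5,1,4,1,4,1,2,6,13,11], 5, [([], 2181, [])], []⟩
def c2183 : Clm := ⟨10, 8, true, [1,4,1,5,1,5,1,4,1,5,1,5,1,4,1,7,1,9], [1,5,1,4,4,1,4,1,5,1,4,1,5,2,10,12], 11, [([], 1333, [4,4,1,4,4,1,5,1,4,1,5,1,5,1,4,4,1,4,1]), ([2688,2840], 2091, [4,1,4,1,5,1,5,1,4,4,1,4,4]), ([], 594, [1,5,1,5,1,4,1,4,4,1,5,1,4,4,1,4,1])], []⟩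
def c2184 : Clm := ⟨8, 10, true, [1,5,1,4,4,1,4,1,5,1,4,1,5,2,10,12], [1,4,1,5,1,5,1,4,1,5,1,5,1,4,1,7,1,9], 5, [([], 2183, [])], []⟩
def c2185 : Clm := ⟨10, 10, true, [4,1,5,1,4,1,4,4,1,5,1,4,1,4,9,7,11,6], [1,5,1,4,1,4,4,1,4,4,1,5,1,4,1,5,1,5,1,4,4,1,5,9,4,6], 9, [([], 1366, [1,4,1,4,1,4,1,4,1,5,1,4,1,5,1,4,1,5,1]), ([2840], 1333, [4,1,5,1,4,1,5,1,5,1,5,1,5,1,4,1,4,1,4,4,1,4]), ([2688], 1783, [4,4,1,4,1,5,1,4,1,5,1,4,1,5,1,5,1])], []⟩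
def c2186 : Clm := ⟨10, 10, true, [1,5,1,4,1,4,4,1,4,4,1,5,1,4,1,5,1,5,1,4,4,1,5,9,4,6], [4,1,5,1,4,1,4,4,1,5,1,4,1,4,9,7,11,6], 5, [([], 2185, [])], []⟩
def c2187 : Clm := ⟨10, 10, true, [4,4,1,4,4,1,5,1,4,1,5,1,4,4,1,5,1,3,1,13,8], [5,1,4,1,4,1,4,1,5,1,4,4,1,4,1,4,4,1,4,4,2,1,14,11], 11, [([], 2000, [4,1,4,1,5,1,5,1,4,4,1,4,4,1,5,1,4]), ([2840,2688], 2115, [5,1,4,4,1,4,4,1,4,1,5,1,4,1,4,4,1,4,4]), ([2840], 1333, [4,4,1,4,1,4,1,5,1,5,1,4,1,4,1,5,1,4,1,5])], []⟩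
def c2188 : Clm := ⟨10, 10, true, [5,1,4,1,4,1,4,1,5,1,4,4,1,4,1,4,4,1,4,4,2,1,14,11], [4,4,1,4,4,1,5,1,4,1,5,1,4,4,1,5,1,3,1,13,8], 5, [([], 2187, [])], []⟩
def c2189 : Clm := ⟨10, 10, true, [4,1,4,4,1,5,1,5,1,5,1,4,4,1,5,1,5,1,5,1,3,9,3,6], [1,4,1,4,1,4,1,5,1,4,1,5,1,4,1,4,1,4,4,1,4,1,8,1,5], 11, [([], 1648, [1,4,1,5,1,4,4,1,4,4,1,4,1,4,1,4,4,1,5,1,4,4]), ([357], 1561, [1,4,1,4,4,1,4,1,5,1,4,1,4,1,4,4,1,4,1]), ([2688,2840], 1333, [4,4,1,5,1,4,4,1,4,4,1,4,4,1,4,4,1,5])], []⟩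
def c2190 : Clm := ⟨10, 10, true, [1,4,1,4,1,4,1,5,1,4,1,5,1,4,1,4,1,4,4,1,4,1,8,1,5], [4,1,4,4,1,5,1,5,1,5,1,4,4,1,5,1,5,1,5,1,3,9,3,6], 5, [([], 2189, [])], []⟩
def c2191 : Clm := ⟨10, 10, true, [1,4,1,4,1,4,1,4,4,1,4,1,5,1,4,4,1,4,4,1,6,11,4,10], [5,1,5,1,5,1,4,4,1,5,1,5,1,4,1,5,1,5,2,1,13,11], 11, [([], 2108, [4,4,1,4,1,5,1,4,1,5,1,5,1,4,4,1,4,1,4,4,1,5]), ([356], 2122, [1,5,1,5,1,4,1,4,4,1,4,4]), ([], 1333, [4,1,4,4,1,4,1,5,1,4,4])], []⟩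
def c2192 : Clm := ⟨10, 10, true, [5,1,5,1,5,1,4,4,1,5,1,5,1,4,1,5,1,5,2,1,13,11], [1,4,1,4,1,4,1,4,4,1,4,1,5,1,4,4,1,4,4,1,6,11,4,10], 5, [([], 2191, [])], []⟩
def c2193 : Clm := ⟨8, 10, true, [4,1,4,4,1,4,1,4,1,4,4,1,5,8,14,13,11], [1,4,1,4,1,5,1,5,1,5,1,5,1,4,4,1,5,1,4,4,8,11,11], 11, [([], 1960, [1,5,1,4,4,1,4,1,4,4,1,5,1,4,4,1,4,1,5]), ([2688,2840,2688], 1535, [5,1,4,4,1,4,4,1,5,1,4,1,4,4,1,4,1]), ([], 1333, [5,1,5,1,4,1,4,1,5,1,4,4,1,5])], []⟩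
def c2194 : Clm := ⟨10, 8, true, [1,4,1,4,1,5,1,5,1,5,1,5,1,4,4,1,5,1,4,4,8,11,11], [4,1,4,4,1,4,1,4,1,4,4,1,5,8,14,13,11], 5, [([], 2193, [])], []⟩
def c2195 : Clm := ⟨10, 10, true, [4,4,1,4,4,1,4,1,5,1,5,1,4,1,4,3,6,4,14], [1,4,4,1,4,4,1,4,1,5,1,5,1,4,1,6,9], 11, [([2840,2688], 2074, [4,4,1,5,1,4]), ([2688], 1481, [1,4,1,4,4,1,4,1,4,4,1,5,1,4,1,4,1,4,1,4,4]), ([2840], 1333, [1,4,1,4,1,5,1,4,4,1,4,1,5,1,5,1,5,1])], []⟩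
def c2196 : Clm := ⟨10, 10, true, [1,4,4,1,4,4,1,4,1,5,1,5,1,4,1,6,9], [4,4,1,4,4,1,4,1,5,1,5,1,4,1,4,3,6,4,14], 5, [([], 2195, [])], []⟩
def c2197 : Clm := ⟨10, 8, true, [1,4,1,4,1,4,4,1,4,1,4,1,5,1,4,1,5,1,4,1,5,1,5,3,6,5,10], [4,1,4,4,1,5,1,4,1,5,1,4,1,4,1,4,1,4,1,4,7,8,3,4], 11, [([], 1333, [1,4,4,1,5,1,5,1,5,1,4,1,4,4,1,4,1,5,1,4,1,4]), ([2688,2840], 1625, [4,1,4,4,1,4,1,4,1,5,1,5,1,4,1,4,4,1,4,4]), ([357], 431, [4,1,5,1,4,4,1,4,1,4,1,4,1,4,4,1,4,4,1,4,4])], []⟩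
def c2198 : Clm := ⟨8, 10, true, [4,1,4,4,1,5,1,4,1,5,1,4,1,4,1,4,1,4,1,4,7,8,3,4], [1,4,1,4,1,4,4,1,4,1,4,1,5,1,4,1,5,1,4,1,5,1,5,3,6,5,10], 5, [([], 2197, [])], []⟩
def c2199 : Clm := ⟨10, 9, true, [4,1,5,1,4,4,1,4,4,1,4,1,4,1,4,4,1,4,1,3,6,8,12], [4,4,1,5,1,4,1,5,1,4,4,1,4,1,4,1,4,1,4,1,4,1,3,10,9,12], 11, [([], 1333, [1,4,1,4,4,1,5,1,5,1,4,4,1,4,4,1,5,1,4,1,4,1]), ([2688,2840,2688], 1958, [1,4,4,1,5,1,5,1,5,1,4,1,4,1,5]), ([2688], 1537, [4,1,4,1,4,4,1,4,1,4,1,4,4,1,4,1,5])], []⟩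
def c2200 : Clm := ⟨9, 10, true, [4,4,1,5,1,4,1,5,1,4,4,1,4,1,4,1,4,1,4,1,4,1,3,10,9,12], [4,1,5,1,4,4,1,4,4,1,4,1,4,1,4,4,1,4,1,3,6,8,12], 5, [([], 2199, [])], []⟩
def c2201 : Clm := ⟨10, 10, true, [1,4,1,5,1,5,1,4,1,4,1,4,4,1,4,4,1,4,1,5,1,5,2,12,3,11], [4,4,1,4,4,1,5,1,4,1,4,1,4,1,4,1,4,4,1,5,8,11,11], 11, [([], 1333, [4,4,1,5,1,4,1,4,1,4,4,1,4,1,5,1,5,1]), ([2840,2688], 2008, [4,4,1,4,4,1,4,1,4,1,4,4,1,5,1,4]), ([2840], 1333, [1,5,1,4,4,1,4,1,4,1,5,1,4,4,1,4,4,1,5,1,4])], []⟩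
def c2202 : Clm := ⟨10, 10, true, [1,5,1,5,1,4,1,5,1,5,1,4,1,4,1,4,4,1,3,12,6], [4,4,1,4,1,4,4,1,4,4,1,4,1,4,4,3,5,7,13], 9, [([], 1333, [5,1,5,1,5,1,5,1,5,1,5,1,5,1,5,1,4,4,1]), ([2840,2688], 2008, [1,5,1,4,1,4,1,4,4,1,4,1,4,4,1,4,1,4,1]), ([2840], 1748, [5,1,4,1,5,1,5,1,5,1,5,1,5,1,5])], []⟩
def c2203 : Clm := ⟨10, 10, true, [4,4,1,4,1,4,4,1,4,4,1,4,1,4,4,3,5,7,13], [1,5,1,5,1,4,1,5,1,5,1,4,1,4,1,4,4,1,3,12,6], 5, [([], 2202, [])], []⟩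
def c2204 : Clm := ⟨5, 10, true, [5,1,4,1,4,4,1,4,4,1,4,4,1,4,1,4,1,5,1,5,1,10,2,8], [4,4,1,4,1,5,1,4,4,1,5,1,5,1,4,4,1,5,1,6,1,4,8], 9, [([], 110, [4,4,1,4,4,1,5,1,5,1,4,4,1,4]), ([158,88], 1566, [1,5,1,4,4,1,5,1,5,1,4,4,1,4,1,5,1,5,1,4,1,5]), ([2688,2840], 1333, [5,1,4,4,1,4,1,5,1,4,1,5,1,4,1,4,1,5,1])], []⟩
def c2205 : Clm := ⟨10, 5, true, [4,4,1,4,1,5,1,4,4,1,5,1,5,1,4,4,1,5,1,6,1,4,8], [5,1,4,1,4,4,1,4,4,1,4,4,1,4,1,4,1,5,1,5,1,10,2,8], 5, [([], 2204, [])], []⟩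
def c2206 : Clm := ⟨10, 8, true, [1,4,4,1,4,1,4,4,1,5,1,5,1,4,1,4,6,8,4], [4,1,5,1,4,1,4,4,1,4,1,4,1,4,1,4,1,5,1,5,2,4,6,13], 9, [([], 1333, [1,4,4,1,4,1,4,1,5,1,5,1,4,4,1,4,4,1,4,1,4]), ([2688,2840], 1400, [1,5,1,4,1,5,1,4,1,5,1,4,1,5,1,4,1,5,1,4,1,4,1]), ([2114,2004], 1178, [1,4,4,1,4,4,1,4,4,1,4,1,4,4,1,5,1,5,1,5,1,5,1])], []⟩
def c2207 : Clm := ⟨8, 10, true, [4,1,5,1,4,1,4,4,1,4,1,4,1,4,1,4,1,5,1,5,2,4,6,13], [1,4,4,1,4,1,4,4,1,5,1,5,1,4,1,4,6,8,4], 5, [([], 2206, [])], []⟩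
def c2208 : Clm := ⟨10, 10, true, [1,5,1,4,4,1,4,4,1,5,1,4,1,4,1,5,1,4,1,4,4,2,1,9,7], [5,1,4,1,4,4,1,4,1,4,4,1,4,1,4,1,4,1,4,4,2,4,1,10], 9, [([], 2186, [4,1,5,1,4,4,1,5,1,5,1,5,1,4,1,4,4,1]), ([2688], 2126, [1,4,1,4,4,1,5,1,5,1,5,1,4,4]), ([2688,2840], 1333, [4,4,1,4,1,5,1,4,1,4,1,5,1,4,4,1,4,1])], []⟩
def c2209 : Clm := ⟨10, 10, true, [5,1,4,1,4,4,1,4,1,4,4,1,4,1,4,1,4,1,4,4,2,4,1,10], [1,5,1,4,4,1,4,4,1,5,1,4,1,4,1,5,1,4,1,4,4,2,1,9,7], 5, [([], 2208, [])], []⟩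
def c2210 : Clm := ⟨10, 9, true, [5,1,4,1,4,4,1,4,4,1,5,1,5,1,4,1,4,1,4,1,4,1,4,3,1,10,12], [1,4,1,5,1,4,1,4,1,4,1,4,4,1,5,1,4,1,13,3,10,13], 11, [([], 2032, [1,4,1,5,1,5,1,4,1,4,1,4,1,4,4,1]), ([], 1333, [1,4,1,4,1,4,1,5,1,4,1,5,1,5,1,5,1,5,1,4,4]), ([2840], 1635, [4,4,1,4,1,4,4,1,5,1,5,1,5,1,4,4,1,4,4])], []⟩
def c2211 : Clm := ⟨9, 10, true, [1,4,1,5,1,4,1,4,1,4,1,4,4,1,5,1,4,1,13,3,10,13], [5,1,4,1,4,4,1,4,4,1,5,1,5,1,4,1,4,1,4,1,4,1,4,3,1,10,12], 5, [([], 2210, [])], []⟩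
def c2212 : Clm := ⟨10, 8, true, [1,4,1,4,4,1,5,1,5,1,4,1,5,1,5,1,4,1,4,1,6,8,5], [1,4,1,5,1,4,4,1,5,1,4,4,1,4,1,4,1,4,1,5,9,6,13,8], 9, [([], 1333, [4,1,4,4,1,4,1,5,1,4,4,1,4,4,1,5,1,5,1,4]), ([2688,2840], 2117, [4,4,1,5,1,4,1,5,1,5,1,4,4,1,5,1,4,1,4,1]), ([], 334, [4,1,4,1,4,4,1,4,1,4,4,1,5,1,4,1,4])], []⟩
def c2213 : Clm := ⟨8, 10, true, [1,4,1,5,1,4,4,1,5,1,4,4,1,4,1,4,1,4,1,5,9,6,13,8], [1,4,1,4,4,1,5,1,5,1,4,1,5,1,5,1,4,1,4,1,6,8,5], 5, [([], 2212, [])], []⟩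
def c2214 : Clm := ⟨10, 10, true, [1,4,1,5,1,4,1,4,1,4,4,1,4,1,4,4,1,5,7,13,5,12], [1,4,1,4,4,1,4,1,4,4,1,4,1,4,1,4,1,4,1,5,1,5,1,5,6,2,5,6], 11, [([], 2015, [4,4,1,5,1,4,1,5,1,5,1,5,1,5,1,5,1,4,4,1,5]), ([2840], 1333, [4,1,4,1,4,4,1,4,1,5,1,4]), ([2688,2840], 2016, [1,4,1,5,1,4,4,1,4,1,4,4,1,4,4,1,4,4,1,4,1,5,1,5])], []⟩
def c2215 : Clm := ⟨10, 10, true, [1,4,1,4,4,1,4,1,4,4,1,4,1,4,1,4,1,4,1,5,1,5,1,5,6,2,5,6], [1,4,1,5,1,4,1,4,1,4,4,1,4,1,4,4,1,5,7,13,5,12], 5, [([], 2214, [])], []⟩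
def c2216 : Clm := ⟨8, 10, true, [4,1,4,1,4,1,4,1,4,1,4,4,1,4,1,6,12,11,6], [1,4,4,1,5,1,5,1,5,1,4,1,4,1,4,4,1,4,1,4,4,9,14,6,1], 9, [([356], 597, [1,4,1,5,1,4,1,5,1,4,1,4,1,5,1,5,1,4,4,1,4,4,1]), ([356], 2066, [4,1,4,4,1,4,1,5,1,5,1,4,1,5,1,4,1,5,1,4]), ([2688,2840], 1333, [4,4,1,4,1,5,1,5,1,4,4,1,5,1,4,1,5,1,4,4,1])], []⟩
def c2217 : Clm := ⟨10, 8, true, [1,4,4,1,5,1,5,1,5,1,4,1,4,1,4,4,1,4,1,4,4,9,14,6,1], [4,1,4,1,4,1,4,1,4,1,4,4,1,4,1,6,12,11,6], 5, [([], 2216, [])], []⟩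
def c2218 : Clm := ⟨8, 10, true, [1,4,4,1,5,1,4,4,1,5,1,4,1,5,1,4,4,1,5,1,5,3,7,3,12], [4,4,1,4,1,4,1,4,4,1,5,1,4,4,1,6,10,5], 9, [([356], 733, [1,4,4,1,5,1,5,1,4,1,4,4,1,5,1,5,1,5,1,4]), ([], 2137, [1,4,1,5,1,5,1,5,1,5,1,4,1,4,4,1,4]), ([2840], 1333, [1,4,4,1,4,4,1,4,1,5,1,5,1,4,4,1,4,1,5,1])], []⟩
def c2219 : Clm := ⟨10, 8, true, [4,4,1,4,1,4,1,4,4,1,5,1,4,4,1,6,10,5], [1,4,4,1,5,1,4,4,1,5,1,4,1,5,1,4,4,1,5,1,5,3,7,3,12], 5, [([], 2218, [])], []⟩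
def c2220 : Clm := ⟨10, 8, true, [1,5,1,4,1,4,4,1,4,1,4,1,4,4,1,5,1,4,2,1,13,10], [5,1,5,1,4,1,4,4,1,4,4,1,5,1,4,4,2,11,9,14], 9, [([], 1333, [1,4,1,4,1,4,1,4,1,5,1,5,1,4,4,1]), ([2840,2688], 1672, [4,1,4,1,5,1,5,1,4,1,4,4,1,4,1,4,1]), ([356], 569, [4,4,1,4,1,4,4,1,4,1,5,1,4,1,4,4,1])], []⟩
def c2221 : Clm := ⟨8, 10, true, [5,1,5,1,4,1,4,4,1,4,4,1,5,1,4,4,2,11,9,14], [1,5,1,4,1,4,4,1,4,1,4,1,4,4,1,5,1,4,2,1,13,10], 5, [([], 2220, [])], []⟩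
def c2222 : Clm := ⟨10, 8, true, [4,1,5,1,4,4,1,4,4,1,4,1,4,4,1,4,4,1,5,1,5,1,2,7,1,2], [1,4,1,5,1,4,1,4,1,4,4,1,4,1,4,4,1,2,1,5,11], 11, [([2688,2840,2688], 2167, [5,1,5,1,4,1,5,1,4,1,4,1,4,1,4]), ([], 1333, [5,1,4,4,1,4,4,1,4,4,1,4,1,4,1,5,1]), ([], 2129, [1,5,1,5,1,5,1,4,1,4,1,4,4,1,5,1,5,1])], []⟩
def c2223 : Clm := ⟨8, 10, true, [1,4,1,5,1,4,1,4,1,4,4,1,4,1,4,4,1,2,1,5,11], [4,1,5,1,4,4,1,4,4,1,4,1,4,4,1,4,4,1,5,1,5,1,2,7,1,2], 5, [([], 2222, [])], []⟩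
def c2224 : Clm := ⟨10, 10, true, [1,4,1,5,1,4,4,1,4,4,1,5,1,5,1,5,1,5,1,4,1,4,1,5,6,1,6,4], [1,4,1,4,1,4,4,1,4,4,1,4,1,4,1,5,1,4,4,1,4,7,13,2,10], 11, [([], 2163, [1,4,1,5,1,4,4,1,4,1,5,1,4,1,5,1,4,1,4,1,4,4]), ([], 1333, [1,4,4,1,4,1,5,1,4,4,1,4,4,1,5,1,4,4,1,4,4]), ([2688,2840,2688], 1544, [4,1,4,1,5,1,5,1,4,4,1,4,1,5,1,4,1,4])], []⟩
def c2225 : Clm := ⟨10, 10, true, [1,4,1,4,1,4,4,1,4,4,1,4,1,4,1,5,1,4,4,1,4,7,13,2,10], [1,4,1,5,1,4,4,1,4,4,1,5,1,5,1,5,1,5,1,4,1,4,1,5,6,1,6,4], 5, [([], 2224, [])], []⟩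
def c2226 : Clm := ⟨9, 10, true, [5,1,4,1,4,1,4,4,1,5,1,4,1,4,4,1,4,4,1,5,1,8,1,11], [1,4,1,5,1,5,1,4,1,4,4,1,5,1,5,1,5,1,5,1,5,8,2,8,5], 11, [([], 1470, [5,1,4,4,1,4,4,1,4,1,4,1,4,4,1,5,1,4,1,5]), ([2688,2840], 1333, [1,5,1,5,1,4,1,4,4,1,4,1,4,4,1,4,1,5]), ([2840], 1926, [1,5,1,5,1,4,4,1,5,1,5,1,4,4,1,5,1,4,1])], []⟩
def c2227 : Clm := ⟨10, 9, true, [1,4,1,5,1,5,1,4,1,4,4,1,5,1,5,1,5,1,5,1,5,8,2,8,5], [5,1,4,1,4,1,4,4,1,5,1,4,1,4,4,1,4,4,1,5,1,8,1,11], 5, [([], 2226, [])], []⟩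
def c2228 : Clm := ⟨8, 10, true, [1,4,1,4,1,4,1,4,1,5,1,4,4,1,5,1,4,1,5,1,4,3,14,10,8], [1,4,1,5,1,4,1,5,1,5,1,5,1,5,1,4,4,1,5,1,4,1,4,4,1,2,4,8,4], 9, [([], 362, [4,1,5,1,4,1,4,4,1,4,1,4,1,4,1,4]), ([], 1964, [4,4,1,5,1,5,1,5,1,4,1,4,1,5,1,5]), ([2840], 1333, [1,4,1,5,1,5,1,4,1,5,1,4,4,1,5,1,4])], []⟩
def c2229 : Clm := ⟨10, 8, true, [1,4,1,5,1,4,1,5,1,5,1,5,1,5,1,4,4,1,5,1,4,1,4,4,1,2,4,8,4], [1,4,1,4,1,4,1,4,1,5,1,4,4,1,5,1,4,1,5,1,4,3,14,10,8], 5, [([], 2228, [])], []⟩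
def c2230 : Clm := ⟨10, 10, true, [1,4,4,1,4,4,1,4,1,5,1,4,1,4,1,5,1,5,1,5,1,5,2,12,4,8], [1,5,1,4,4,1,5,1,4,1,5,1,4,4,1,5,1,5,1,4,1,5,2,1,13,8], 9, [([], 1333, [4,1,4,1,4,1,4,1,4,1,4,1,5,1,4,1,5,1,4,1,5]), ([2840,2688], 2029, [1,4,1,4,1,4,4,1,4,1,4,4,1,4,1,5,1,4,1,5]), ([2840], 1333, [1,4,1,4,1,4,4,1,4,1,4,1,4,1,4,1,5,1,4,1,5])], []⟩
def c2231 : Clm := ⟨10, 10, true, [4,1,5,1,5,1,5,1,4,4,1,5,1,5,1,5,2,12,4,8], [1,5,1,4,1,4,4,1,4,4,1,5,1,4,4,1,5,1,5,12,11,12,7], 9, [([], 1333, [4,4,1,5,1,5,1,4,4,1,5,1,4,1,5,1,5]), ([2840,2688], 2189, [4,1,4,1,5,1,4,4,1,4,1,4,1,4,1,4,4,1,4,4,1]), ([2688,2840], 1873, [4,1,5,1,4,4,1,4,4,1,5,1,5,1,4,1,4,4,1])], []⟩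
def c2232 : Clm := ⟨10, 8, true, [1,5,1,5,1,5,1,4,4,1,5,1,4,4,1,5,1,4,1,7,10], [4,1,4,1,5,1,4,1,4,1,5,1,4,4,1,4,4,1,5,1,4,6,1,4,7], 9, [([], 1333, [1,5,1,5,1,4,1,4,4,1,4,1,4,1,4,4,1,4,1,5]), ([2688,2840], 1570, [1,5,1,4,1,5,1,4,1,4,4,1,4,1,4,1,5,1,5,1,4,4]), ([357], 990, [1,5,1,5,1,5,1,5,1,5,1,4,1,4,4,1,5,1,5,1,4,4])], []⟩
def c2233 : Clm := ⟨8, 10, true, [4,1,4,1,5,1,4,1,4,1,5,1,4,4,1,4,4,1,5,1,4,6,1,4,7], [1,5,1,5,1,5,1,4,4,1,5,1,4,4,1,5,1,4,1,7,10], 5, [([], 2232, [])], []⟩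
def c2234 : Clm := ⟨10, 10, true, [4,1,4,1,4,1,4,1,5,1,5,1,4,1,5,1,4,1,7,10], [1,4,1,4,4,1,4,4,1,4,4,1,4,1,5,1,5,1,4,4,1,4,3,8,2], 9, [([], 1333, [1,4,1,5,1,5,1,4,4,1,4,4,1,4,4,1,4,1,5]), ([2840], 1767, [1,4,1,5,1,5,1,4,4,1,4,4,1,4,4,1,5,1,4]), ([2688], 1612, [1,5,1,5,1,4,1,4,1,5,1,4,1,4,4,1,4,1])], []⟩
def c2235 : Clm := ⟨10, 10, true, [1,4,1,4,4,1,4,4,1,4,4,1,4,1,5,1,5,1,4,4,1,4,3,8,2], [4,1,4,1,4,1,4,1,5,1,5,1,4,1,5,1,4,1,7,10], 5, [([], 2234, [])], []⟩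
def c2236 : Clm := ⟨10, 8, true, [1,4,1,5,1,5,1,4,4,1,4,1,5,1,5,1,5,1,4,6,10], [4,1,4,1,4,1,5,1,4,4,1,5,1,4,4,1,4,4,1,4,1,3,1,5,13], 9, [([], 1333, [4,1,4,4,1,5,1,4,1,5,1,5,1,5,1,5,1,5,1,4,1]), ([2840,2688], 1919, [4,1,5,1,5,1,4,1,5,1,4,1,5,1,4,1]), ([357], 362, [1,4,4,1,4,1,4,1,4,1,4,1,4,1,5,1,4,1,5,1,4])], []⟩
def c2237 : Clm := ⟨8, 10, true, [4,1,4,1,4,1,5,1,4,4,1,5,1,4,4,1,4,4,1,4,1,3,1,5,13], [1,4,1,5,1,5,1,4,4,1,4,1,5,1,5,1,5,1,4,6,10], 5, [([], 2236, [])], []⟩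
def c2238 : Clm := ⟨8, 10, true, [5,1,4,1,4,4,1,5,1,4,1,5,1,4,1,5,7,1,2], [4,1,4,1,4,4,1,5,1,4,4,1,4,1,4,4,1,5,6,4,7], 7, [([], 1079, [5,1,5,1,5,1,4,4,1,4,4,1,4,1,4,4,1,4,1,5,1]), ([2196,2114], 1334, [4,1])], []⟩
def c2239 : Clm := ⟨10, 8, true, [4,1,4,1,4,4,1,5,1,4,4,1,4,1,4,4,1,5,6,4,7], [5,1,4,1,4,4,1,5,1,4,1,5,1,4,1,5,7,1,2], 5, [([], 2238, [])], []⟩
def c2240 : Clm := ⟨8, 10, true, [1,4,4,1,5,1,4,1,4,1,5,1,5,1,4,1,4,1,4,10,10,14,5], [4,1,4,1,4,4,1,5,1,4,4,1,4,1,4,4,1,5,6,5,7], 7, [([], 1158, [4,1,4,4,1,4,4,1,4,4,1,4,1,4,1,4,1,4]), ([2196], 1334, [4,1,4,4])], []⟩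
def c2241 : Clm := ⟨10, 8, true, [4,1,4,1,4,4,1,5,1,4,4,1,4,1,4,4,1,5,6,5,7], [1,4,4,1,5,1,4,1,4,1,5,1,5,1,4,1,4,1,4,10,10,14,5], 5, [([], 2240, [])], []⟩
def c2242 : Clm := ⟨8, 10, true, [4,1,4,1,5,1,4,4,1,5,1,5,1,5,1,4,1,4,1,9,12,11,9], [4,1,5,1,5,1,5,1,4,4,1,4,4,1,4,1,5,2,1,13,2], 7, [([], 1296, [1,4,1,4,1,5,1,5,1,4,1,4,4,1,4,1,4,1,5]), ([2197,2114,2004], 1334, [4,1,4,1,4,4])], []⟩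
def c2243 : Clm := ⟨10, 8, true, [4,1,5,1,5,1,5,1,4,4,1,4,4,1,4,1,5,2,1,13,2], [4,1,4,1,5,1,4,4,1,5,1,5,1,5,1,4,1,4,1,9,12,11,9], 5, [([], 2242, [])], []⟩
def c2244 : Clm := ⟨8, 10, true, [1,4,4,1,5,1,5,1,4,1,4,1,5,1,5,1,4,1,5,2,11,12,1,4], [1,5,1,4,4,1,4,1,4,1,4,1,5,1,5,1,5,1,6,9,3,7], 11, [([], 785, [1,5,1,4,1,4,4,1,5,1,5,1,5,1,4,4,1,5]), ([356], 1163, [1,4,1,4,4,1,5,1,4,4,1,5,1,4,1,4]), ([2196], 1334, [1,4,1,4,1,5,1])], []⟩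
def c2245 : Clm := ⟨10, 8, true, [1,5,1,4,4,1,4,1,4,1,4,1,5,1,5,1,5,1,6,9,3,7], [1,4,4,1,5,1,5,1,4,1,4,1,5,1,5,1,4,1,5,2,11,12,1,4], 5, [([], 2244, [])], []⟩
def c2246 : Clm := ⟨9, 10, true, [1,5,1,4,1,5,1,4,4,1,4,4,1,4,4,1,5,1,4,4,1,2,1,11], [4,4,1,5,1,4,1,5,1,5,1,4,1,4,1,4,1,4,1,3,8,3,14], 11, [([], 1049, [4,1,4,4,1,4,1,4,4,1,5,1,4,1,5,1,4,4,1,4,1]), ([], 1095, [1,4,1,4,4,1,5,1,5,1,4,4,1,4,1,4,1,5,1,4]), ([2114,2004], 1334, [4,1,4,1,5,1,4,4,1,4,4,1,4])], []⟩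
def c2247 : Clm := ⟨10, 9, true, [4,4,1,5,1,4,1,5,1,5,1,4,1,4,1,4,1,4,1,3,8,3,14], [1,5,1,4,1,5,1,4,4,1,4,4,1,4,4,1,5,1,4,4,1,2,1,11], 5, [([], 2246, [])], []⟩
def c2248 : Clm := ⟨10, 10, true, [4,4,1,4,1,4,1,4,1,5,1,5,1,5,1,4,1,4,8,12], [4,1,5,1,4,1,4,1,5,1,4,1,5,1,4,4,1,4,4,2,8,3,11], 9, [([], 1639, [1,4,1,4,4,1,4,1,4,4,1,4,1,4,4,1,5,1,4,1,4,1,4]), ([2010], 1334, [4,1,4,1,4,4,1,5,1,5,1,5,1,4]), ([2688,2840], 2215, [4,1,5,1,5,1,5,1,5,1,5,1,5])], []⟩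
def c2249 : Clm := ⟨10, 10, true, [4,1,5,1,4,1,4,1,5,1,4,1,5,1,4,4,1,4,4,2,8,3,11], [4,4,1,4,1,4,1,4,1,5,1,5,1,5,1,4,1,4,8,12], 5, [([], 2248, [])], []⟩
def c2250 : Clm := ⟨10, 8, true, [1,5,1,4,1,4,4,1,4,4,1,4,1,5,1,5,1,5,12,10,4,1], [4,1,4,4,1,5,1,5,1,5,1,4,1,4,4,1,4,4,1,5,2,5,14,2], 9, [([], 1654, [4,1,4,1,5,1,5,1,4,4,1,4,4,1,4,1,4,4,1,5]), ([2197], 1334, [5,1,5,1,5,1,5,1,4,1,4,1,5,1]), ([2688,2840], 1477, [1,4,1,5,1,5,1,4,1,4,1,4,1,4,4,1,4,1,4,1])], []⟩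
def c2251 : Clm := ⟨8, 10, true, [4,1,4,4,1,5,1,5,1,5,1,4,1,4,4,1,4,4,1,5,2,5,14,2], [1,5,1,4,1,4,4,1,4,4,1,4,1,5,1,5,1,5,12,10,4,1], 5, [([], 2250, [])], []⟩
def c2252 : Clm := ⟨9, 10, true, [4,1,5,1,4,4,1,4,1,4,1,4,1,4,4,1,5,1,4,1,4,9,12,8], [4,4,1,4,4,1,4,1,5,1,4,1,4,4,1,4,1,4,2,12,11,1], 9, [([], 1216, [4,1,4,1,5,1,5,1,4,1,5,1]), ([2196,2004], 1334, [4,1,5,1,4,4,1,4,4,1,5,1]), ([2688,2840], 1612, [4,1,4,4,1,5,1,4,1,4,1,4,1,4,1,4,4,1,4,1,5])], []⟩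
def c2253 : Clm := ⟨10, 9, true, [4,4,1,4,4,1,4,1,5,1,4,1,4,4,1,4,1,4,2,12,11,1], [4,1,5,1,4,4,1,4,1,4,1,4,1,4,4,1,5,1,4,1,4,9,12,8], 5, [([], 2252, [])], []⟩
def c2254 : Clm := ⟨8, 10, true, [1,4,1,4,4,1,4,1,4,1,5,1,5,1,4,1,4,1,5,2,5,1], [4,1,4,4,1,5,1,4,1,4,1,5,1,5,1,4,1,4,1,7,11], 11, [([], 1956, [5,1,4,1,4,1,4,1,4,1,4,4,1,4,4,1,4]), ([2840,2688], 2246, [1,5,1,4,1,4,4,1,4,1,4,4,1,5,1,4,1,4,1,4]), ([2197,2004], 1334, [5,1,4,1,4,4,1,5,1,5,1,5,1])], []⟩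
def c2255 : Clm := ⟨10, 8, true, [4,1,4,4,1,5,1,4,1,4,1,5,1,5,1,4,1,4,1,7,11], [1,4,1,4,4,1,4,1,4,1,5,1,5,1,4,1,4,1,5,2,5,1], 5, [([], 2254, [])], []⟩
def c2256 : Clm := ⟨9, 10, true, [1,4,1,4,4,1,4,1,4,4,1,4,1,4,4,1,5,1,4,1,4,1,10,13,14], [4,1,5,1,5,1,4,1,5,1,5,1,4,4,1,4,1,5,1,4,4,2,7,10,4], 9, [([2197], 1241, [4,4,1,5,1,5,1,4,1,4,4,1,5,1,5,1,5,1,4]), ([2004], 1334, [1,4,4,1,5,1,5,1,4,4,1,5,1]), ([2840], 2167, [5,1,5,1,4,4,1,5,1,4,1,5,1,5,1,5,1,5,1,5])], []⟩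
def c2257 : Clm := ⟨10, 9, true, [4,1,5,1,5,1,4,1,5,1,5,1,4,4,1,4,1,5,1,4,4,2,7,10,4], [1,4,1,4,4,1,4,1,4,4,1,4,1,4,4,1,5,1,4,1,4,1,10,13,14], 5, [([], 2256, [])], []⟩
def c2258 : Clm := ⟨8, 10, true, [4,1,4,4,1,5,1,5,1,5,1,5,1,5,1,4,1,4,4,1,5,1,5,2,1,3,12], [5,1,4,1,5,1,4,1,5,1,4,1,4,1,5,1,4,4,1,5,1,2,6,9,7], 11, [([357], 992, [1,5,1,5,1,5,1,4,4,1,5,1,4,4,1,5,1,4,4,1]), ([], 1122, [5,1,4,4,1,5,1,5,1,5,1,4,1,4,4,1,4]), ([2114,2010,2004], 1334, [1,5,1,4,1,4,4,1,5,1,4,4,1,5,1])], []⟩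
def c2259 : Clm := ⟨10, 8, true, [5,1,4,1,5,1,4,1,5,1,4,1,4,1,5,1,4,4,1,5,1,2,6,9,7], [4,1,4,4,1,5,1,5,1,5,1,5,1,5,1,4,1,4,4,1,5,1,5,2,1,3,12], 5, [([], 2258, [])], []⟩
def c2260 : Clm := ⟨8, 10, true, [5,1,5,1,4,1,4,4,1,4,4,1,5,1,4,1,3,13,7,1], [4,1,5,1,5,1,4,4,1,4,1,5,1,5,1,4,4,1,5,7,10,10,9], 9, [([], 1092, [4,4,1,5,1,5,1,4,4,1,5,1,4,4,1,5,1,5,1]), ([], 1334, [1,4,4,1,4,1,4,4,1,4,1,4,1,5,1]), ([], 2179, [1,5,1,4,4,1,5,1,5,1,5,1,4,4,1,5,1,5,1,4,1])], []⟩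
def c2261 : Clm := ⟨10, 8, true, [4,1,5,1,5,1,4,4,1,4,1,5,1,5,1,4,4,1,5,7,10,10,9], [5,1,5,1,4,1,4,4,1,4,4,1,5,1,4,1,3,13,7,1], 5, [([], 2260, [])], []⟩
def c2262 : Clm := ⟨9, 10, true, [4,1,5,1,4,4,1,5,1,5,1,4,1,4,4,1,4,4,1,4,1,4,2,12,11,12], [1,5,1,5,1,5,1,4,1,5,1,4,1,4,1,4,4,1,4,3,14,12,3], 11, [([], 1334, [1,4,4,1,4,1,4,1,4,1,4]), ([2688], 1577, [4,4,1,5,1,4,1,5,1,4]), ([2688,2840,2688], 1737, [1,4,1,4,1,4,4,1,4,1,4,1,5,1,5,1,4,4,1,4,4,1])], []⟩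
def c2263 : Clm := ⟨10, 9, true, [1,5,1,5,1,5,1,4,1,5,1,4,1,4,1,4,4,1,4,3,14,12,3], [4,1,5,1,4,4,1,5,1,5,1,4,1,4,4,1,4,4,1,4,1,4,2,12,11,12], 5, [([], 2262, [])], []⟩
def c2264 : Clm := ⟨10, 10, true, [5,1,4,1,4,4,1,4,4,1,5,1,4,1,5,1,5,1,4,4,2,11,13,7], [1,4,1,4,4,1,4,4,1,4,1,5,1,4,4,1,5,1,4,2,8,3,11], 11, [([], 1409, [1,4,1,4,1,4,1,4,4,1,4,1,4,1,5,1,5,1,5,1,4]), ([356], 1266, [4,1,4,1,5,1,4,4,1,4,1,4,4,1,4,4,1,5,1,4,1,5]), ([2197,2114], 1334, [1,5,1,4,1,4,1,5,1,5,1,4])], []⟩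
def c2265 : Clm := ⟨10, 9, true, [1,4,1,4,1,4,4,1,5,1,4,1,4,1,3,4,6,10], [4,1,5,1,4,1,4,4,1,4,1,4,1,4,1,4,2,5,3,8], 9, [([], 1496, [1,4,1,5,1,4,1,4]), ([2114,2010], 1334, [1,5,1,4,1,4,4,1,4,1,4,4,1,4,1]), ([2688,2840], 2262, [1,4,1,4,1,4,1,5,1,4,1,4,4,1,4,4,1,5,1,4,1,5])], []⟩
def c2266 : Clm := ⟨9, 10, true, [4,1,5,1,4,1,4,4,1,4,1,4,1,4,1,4,2,5,3,8], [1,4,1,4,1,4,4,1,5,1,4,1,4,1,3,4,6,10], 5, [([], 2265, [])], []⟩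
def c2267 : Clm := ⟨8, 10, true, [4,1,5,1,5,1,4,1,4,1,4,1,4,1,4,4,1,5,1,4,9,5,3,12], [5,1,4,4,1,5,1,5,1,4,1,4,4,1,4,4,1,4,1,5,2,1,13,9], 11, [([], 942, [1,4,4,1,5,1,4,4,1,5,1,4,4,1,4,1]), ([356], 1105, [1,4,1,4,1,4,4,1,4,4,1,4,1,4,1,5,1,4,4,1,4]), ([2196,2114], 1334, [1,4,1,4,4,1,4,4,1,4,1,4,4,1])], []⟩
def c2268 : Clm := ⟨10, 8, true, [5,1,4,4,1,5,1,5,1,4,1,4,4,1,4,4,1,4,1,5,2,1,13,9], [4,1,5,1,5,1,4,1,4,1,4,1,4,1,4,4,1,5,1,4,9,5,3,12], 5, [([], 2267, [])], []⟩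
def c2269 : Clm := ⟨10, 10, true, [1,4,1,5,1,5,1,4,1,4,1,5,1,5,1,5,1,5,1,5,1,8,10,8,1], [5,1,5,1,5,1,4,1,4,4,1,4,1,6,9], 11, [([], 1707, [4,1,4,1,4,1,5,1,5,1,5,1,4,4,1,4,4,1,4,4,1,5]), ([357], 1189, [4,1,5,1,4,1,4,1,5,1,5,1,5,1]), ([2114,2004], 1334, [4,4,1,4,1,4,4,1,5,1,5,1])], []⟩
def c2270 : Clm := ⟨8, 10, true, [4,4,1,4,4,1,5,1,4,4,1,4,1,4,1,4,1,4,2,9,5], [1,4,1,4,1,4,1,4,1,5,1,5,3,6,3,10], 9, [([], 1195, [4,4,1,5,1,4,1,4,1,4,4,1,5,1]), ([2114,2010,2004], 1334, [1,4,4,1,5,1,5,1,5,1,5,1]), ([2688,2840], 2208, [4,1,4,1,4,4,1,4,1,4,4,1,4,1,4,4,1,5,1,4,1,5])], []⟩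
def c2271 : Clm := ⟨10, 8, true, [1,4,1,4,1,4,1,4,1,5,1,5,3,6,3,10], [4,4,1,4,4,1,5,1,4,4,1,4,1,4,1,4,1,4,2,9,5], 5, [([], 2270, [])], []⟩
def c2272 : Clm := ⟨8, 10, true, [4,4,1,4,4,1,5,1,4,1,4,1,5,1,5,1,4,1,4,3,10,13,10], [4,1,4,4,1,5,1,4,1,4,1,4,1,4,1,5,1,4,4,1,5,9,11,12,1], 9, [([], 1204, [5,1,5,1,4,1,4,4,1,4,1,4,4,1,4,1,4,1,4,1]), ([2010], 1334, [1,4,4,1,5,1,4,1,4,1,4,1,4]), ([2688,2840], 2196, [5,1,4,4,1,5,1,4,1,4,1,5,1,4,4,1,4,1,4,1])], []⟩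
def c2273 : Clm := ⟨10, 8, true, [4,1,4,4,1,5,1,4,1,4,1,4,1,4,1,5,1,4,4,1,5,9,11,12,1], [4,4,1,4,4,1,5,1,4,1,4,1,5,1,5,1,4,1,4,3,10,13,10], 5, [([], 2272, [])], []⟩
def c2274 : Clm := ⟨9, 10, true, [1,4,1,4,1,4,4,1,5,1,4,1,4,1,4,4,1,4,1,5,1,4,7,1,9], [5,1,4,1,4,1,4,1,4,1,4,1,5,2,5,1,11], 11, [([], 1334, [1,5,1,4,4,1,4,4,1,4,1,4,1,4]), ([], 1594, [4,1,4,1,4,1,5,1,5,1,4,1,4,1,4,1,4,4,1,4,1,5]), ([357], 1854, [4,1,4,4,1,5,1,5,1,4,4,1,4,1,5,1,4])], []⟩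
def c2275 : Clm := ⟨10, 9, true, [5,1,4,1,4,1,4,1,4,1,4,1,5,2,5,1,11], [1,4,1,4,1,4,4,1,5,1,4,1,4,1,4,4,1,4,1,5,1,4,7,1,9], 5, [([], 2274, [])], []⟩
def c2276 : Clm := ⟨10, 10, true, [1,4,1,4,4,1,5,1,4,4,1,5,1,5,1,4,1,5,1,4,8,1,2,8], [4,4,1,5,1,4,4,1,5,1,4,4,1,4,4,1,3,8,3,14], 11, [([], 1963, [1,4,1,4,1,5,1,4,1,5,1,5,1,4,4,1,4,1,4]), ([], 1262, [4,1,4,4,1,4,1,4,4,1,4,1,5,1,4,1,4,4]), ([2197,2114,2004], 1334, [4,4,1,5,1,5,1,5,1,4,4,1,4])], []⟩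
def c2277 : Clm := ⟨10, 10, true, [4,4,1,5,1,4,4,1,5,1,4,4,1,4,4,1,3,8,3,14], [1,4,1,4,4,1,5,1,4,4,1,5,1,5,1,4,1,5,1,4,8,1,2,8], 5, [([], 2276, [])], []⟩
def c2278 : Clm := ⟨8, 10, true, [1,4,4,1,4,1,4,4,1,4,1,4,1,5,1,5,1,2,5,8,11], [5,1,4,1,5,1,5,1,4,1,4,1,5,1,4,1,4,7,1,11], 11, [([], 365, [1,4,1,4,1,4,1,4,1,4,4,1,4,4,1,4,4,1]), ([], 1135, [1,4,1,5,1,5,1,4,1,4,4,1,4,4,1,5,1,4]), ([2004], 1334, [5,1,4,1,4,1,4,4,1,5,1,5,1,5,1])], []⟩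
def c2279 : Clm := ⟨10, 8, true, [5,1,4,1,5,1,5,1,4,1,4,1,5,1,4,1,4,7,1,11], [1,4,4,1,4,1,4,4,1,4,1,4,1,5,1,5,1,2,5,8,11], 5, [([], 2278, [])], []⟩
def c2280 : Clm := ⟨8, 10, true, [1,5,1,4,1,4,4,1,5,1,5,1,5,1,4,1,2,10,2,9], [1,4,1,4,4,1,4,4,1,5,1,4,4,1,5,1,4,1,9,12,8], 9, [([], 1282, [1,4,4,1,5,1,4,1,5,1,4,4,1,4,4,1,5,1,5,1]), ([2010,2004], 1334, [4,1,4,1,4,4,1,4,1,4,1,5,1]), ([2840], 2115, [5,1,4,4,1,4,1,4,4,1,5,1,5,1,5,1,5])], []⟩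
def c2281 : Clm := ⟨10, 8, true, [1,4,1,4,4,1,4,4,1,5,1,4,4,1,5,1,4,1,9,12,8], [1,5,1,4,1,4,4,1,5,1,5,1,5,1,4,1,2,10,2,9], 5, [([], 2280, [])], []⟩
def c2282 : Clm := ⟨8, 10, true, [1,5,1,4,1,4,1,4,1,5,1,5,1,4,1,4,1,4,4,7,11,14,6], [5,1,4,4,1,5,1,4,1,4,1,5,1,4,1,5,1,4,4,1,5,1,4,6,9], 11, [([], 2137, [1,5,1,5,1,4,4,1,4,4,1,4,4,1,4,1,4,4,1,5]), ([], 2112, [5,1,5,1,4,4,1,5,1,5,1,4,1,4,4,1,5,1,5]), ([2196,2004], 1334, [4,4,1,4,4,1,5,1,4,1,5,1,4,1])], []⟩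
def c2283 : Clm := ⟨10, 8, true, [5,1,4,4,1,5,1,4,1,4,1,5,1,4,1,5,1,4,4,1,5,1,4,6,9], [1,5,1,4,1,4,1,4,1,5,1,5,1,4,1,4,1,4,4,7,11,14,6], 5, [([], 2282, [])], []⟩
def c2284 : Clm := ⟨9, 10, true, [1,4,4,1,4,1,5,1,4,4,1,4,1,4,1,5,1,4,1,5,2,4,10,5], [1,4,1,4,1,4,1,5,1,4,4,1,4,1,5,1,4,1,4,1,8,13,8,2], 9, [([], 1025, [1,5,1,4,1,4,4,1,5,1,5,1,4,1,4,1,4,4,1,4,4,1,5]), ([2196,2114], 1334, [1,5,1,5,1,5,1,5,1,4,4,1]), ([2840], 1661, [1,4,4,1,4,1,5,1,4,1,5,1,4,1,4,4,1,5,1,4,4,1])], []⟩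
def c2285 : Clm := ⟨10, 9, true, [1,4,1,4,1,4,1,5,1,4,4,1,4,1,5,1,4,1,4,1,8,13,8,2], [1,4,4,1,4,1,5,1,4,4,1,4,1,4,1,5,1,4,1,5,2,4,10,5], 5, [([], 2284, [])], []⟩
def c2286 : Clm := ⟨8, 10, true, [1,4,1,4,1,4,1,4,1,4,1,4,1,5,1,4,1,5,1,5,12,9,3], [4,4,1,5,1,5,1,4,4,1,5,1,5,1,5,1,3,4,13,11], 11, [([], 1584, [1,4,4,1,4,1,4,4,1,4,1,4,1,4,1,4,4,1,4]), ([2688], 2103, [1,4,1,5,1,4,4,1,5,1,5,1,4,1,4,4,1,4,4,1,4,1]), ([2196,2114,2004], 1334, [1,4,1,4,4,1,4,1,4,1])], []⟩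
def c2287 : Clm := ⟨10, 8, true, [4,4,1,5,1,5,1,4,4,1,5,1,5,1,5,1,3,4,13,11], [1,4,1,4,1,4,1,4,1,4,1,4,1,5,1,4,1,5,1,5,12,9,3], 5, [([], 2286, [])], []⟩
def c2288 : Clm := ⟨8, 10, true, [5,1,4,1,5,1,5,1,5,1,5,1,10,10,6,5], [1,4,1,4,1,4,1,4,4,1,4,1,4,4,1,4,4,1,4,4,1,4,4,1,7,11], 11, [([], 308, [4,1,4,1,4,1,5,1,4,4,1,5,1,4,4,1,4,1]), ([357], 1207, [1,4,1,4,1,5,1,5,1,4,4,1,4,4,1,4,4,1,5,1,4,4]), ([2196], 1334, [5,1,4,4,1,4])], []⟩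
def c2289 : Clm := ⟨10, 8, true, [1,4,1,4,1,4,1,4,4,1,4,1,4,4,1,4,4,1,4,4,1,4,4,1,7,11], [5,1,4,1,5,1,5,1,5,1,5,1,10,10,6,5], 5, [([], 2288, [])], []⟩
def c2290 : Clm := ⟨10, 10, true, [4,1,4,1,4,4,1,4,4,1,5,1,4,1,5,1,5,1,9,9,9,3], [1,5,1,4,4,1,4,1,5,1,5,1,5,1,4,1,2,6,13,11], 11, [([], 1602, [4,1,4,4,1,4,1,4,1,4,4,1,4,1,4,1,5]), ([], 1223, [4,1,4,1,5,1,5,1,4,4,1,4,4,1,5]), ([2114,2010], 1334, [5,1,5,1,4,4,1])], []⟩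
def c2291 : Clm := ⟨10, 10, true, [1,5,1,4,4,1,4,1,5,1,5,1,5,1,4,1,2,6,13,11], [4,1,4,1,4,4,1,4,4,1,5,1,4,1,5,1,5,1,9,9,9,3], 5, [([], 2290, [])], []⟩
def c2292 : Clm := ⟨8, 10, true, [4,1,4,4,1,5,1,4,1,4,4,1,4,1,5,1,5,1,5,3,6,3,4], [1,4,4,1,4,1,5,1,4,1,5,1,4,1,4,4,1,5,1,13,2,11], 9, [([], 833, [1,4,1,5,1,4,1,5,1,4,1,5,1,4,1,5,1]), ([356], 1288, [1,4,4,1,4,1,4,4,1,4,4,1,5,1,4,4,1]), ([2197], 1334, [4,1,5,1,5,1,4,1,4,1,4,1,4,1,4])], []⟩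
def c2293 : Clm := ⟨10, 8, true, [1,4,4,1,4,1,5,1,4,1,5,1,4,1,4,4,1,5,1,13,2,11], [4,1,4,4,1,5,1,4,1,4,4,1,4,1,5,1,5,1,5,3,6,3,4], 5, [([], 2292, [])], []⟩
def c2294 : Clm := ⟨10, 10, true, [1,4,1,5,1,4,1,4,4,1,5,1,5,1,4,1,4,4,1,5,1,8,2,5,3], [4,1,4,1,5,1,5,1,4,1,5,1,5,1,4,3,7], 11, [([], 1422, [1,4,4,1,4,1,5,1,4,1,4,1,4,4,1,4,1,4,4]), ([], 1334, [5,1,4,1,4,4,1,5,1,4,1,5]), ([2688,2840], 1612, [4,1,4,1,5,1,4,4,1,4,4,1,4,1,4,4,1,5,1,5])], []⟩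
def c2295 : Clm := ⟨10, 10, true, [4,1,4,1,5,1,5,1,4,1,5,1,5,1,4,3,7], [1,4,1,5,1,4,1,4,4,1,5,1,5,1,4,1,4,4,1,5,1,8,2,5,3], 5, [([], 2294, [])], []⟩
def c2296 : Clm := ⟨8, 10, true, [4,1,4,4,1,4,1,4,4,1,5,1,4,4,1,4,1,5,1,4,1,4,6,1,6,1], [1,4,4,1,5,1,4,4,1,5,1,4,4,1,5,1,5,1,4,4,1,2,4,10], 9, [([], 518, [1,4,1,4,1,4,1,4,4,1,5,1,5,1,4,4,1,5,1]), ([357], 1195, [4,1,4,1,5,1,4,4,1,5,1,4,1,4,4,1,4,1,5,1,4]), ([2197,2114], 1334, [4,1,5,1,5,1,4,1,4])], []⟩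
def c2297 : Clm := ⟨10, 8, true, [1,4,4,1,5,1,4,4,1,5,1,4,4,1,5,1,5,1,4,4,1,2,4,10], [4,1,4,4,1,4,1,4,4,1,5,1,4,4,1,4,1,5,1,4,1,4,6,1,6,1], 5, [([], 2296, [])], []⟩
def c2298 : Clm := ⟨8, 10, true, [1,4,1,4,1,5,1,4,4,1,4,1,4,4,3,12,10,3], [5,1,5,1,5,1,4,1,4,4,1,4,1,4,1,4,7,1,8], 9, [([], 216, [4,1,4,1,4,1,4,1,5,1,4,1,5]), ([356], 1314, [1,4,1,5,1,4,1,4,4,1,5,1,5,1,4,1,4,1,4]), ([2114,2010,2004], 1334, [1,5,1,4,1,5,1,4,1,4,4,1,4,4])], []⟩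
def c2299 : Clm := ⟨10, 8, true, [5,1,5,1,5,1,4,1,4,4,1,4,1,4,1,4,7,1,8], [1,4,1,4,1,5,1,4,4,1,4,1,4,4,3,12,10,3], 5, [([], 2298, [])], []⟩
def c2300 : Clm := ⟨10, 10, true, [1,4,1,4,4,1,4,4,1,4,1,4,4,1,5,1,4,4,1,2,4,8,5], [5,1,5,1,5,1,5,1,4,1,4,1,4,4,1,4,1,2,4,8,4], 9, [([], 1454, [4,1,5,1,5,1,4,1,4,1,4,1,4,4,1,5,1,5,1,5]), ([2840,2688], 1639, [4,1,5,1,4,4,1,5,1,5,1,5,1,5,1,4,1,4,1,4]), ([2196,2114,2004], 1334, [1,5,1,5,1,5,1,4,4])], []⟩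
def c2301 : Clm := ⟨9, 10, true, [4,1,4,4,1,4,1,4,4,1,4,1,5,12,7,1], [4,1,4,4,1,5,1,5,1,4,4,1,4,1,4,1,4,3,4,7], 9, [([], 1334, [1,5,1,5,1,5,1,5,1,4,1]), ([], 1983, [1,4,1,4,4,1,5,1,4,1,4,1,5,1,4,4,1,4,4,1,4]), ([2010,2004], 1440, [5,1,4,4,1,4,1,4])], []⟩
def c2302 : Clm := ⟨10, 9, true, [4,1,4,4,1,5,1,5,1,4,4,1,4,1,4,1,4,3,4,7], [4,1,4,4,1,4,1,4,4,1,4,1,5,12,7,1], 5, [([], 2301, [])], []⟩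
def c2303 : Clm := ⟨8, 10, true, [5,1,4,4,1,4,4,1,5,1,5,1,4,1,4,4,1,4,1,4,7,10,1], [4,1,4,4,1,5,1,4,1,4,4,1,4,1,5,1,4,4,1,2,4,11,12], 9, [([], 2143, [1,4,1,4,1,5,1,4,4,1,4,4,1,4,1,4,1,4,1,4,4,1,4,4]), ([2840,2688], 1983, [1,4,1,4,1,4,1,4,1,4,1,4,1,4,1,4,4,1,4,4,1,4,1]), ([2010,2004], 1334, [4,4,1,4,4,1,5,1,4,1,4,1])], []⟩
def c2304 : Clm := ⟨10, 8, true, [4,1,4,4,1,5,1,4,1,4,4,1,4,1,5,1,4,4,1,2,4,11,12], [5,1,4,4,1,4,4,1,5,1,5,1,4,1,4,4,1,4,1,4,7,10,1], 5, [([], 2303, [])], []⟩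
def c2305 : Clm := ⟨10, 10, true, [4,1,5,1,5,1,4,1,4,1,4,4,1,4,1,4,4,13,10], [1,4,4,1,4,1,4,1,4,1,5,1,5,1,4,1,5,3,6,1,11], 9, [([], 1997, [5,1,4,4,1,5,1,4,1,4,4,1,4,1,4,4,1,5,1,4]), ([2840], 1335, [4,1,5,1,4,4,1,4]), ([2197], 1495, [5,1,4,4,1,4,1,4,4,1,4,4,1])], []⟩
def c2306 : Clm := ⟨10, 10, true, [1,4,4,1,4,1,4,1,4,1,5,1,5,1,4,1,5,3,6,1,11], [4,1,5,1,5,1,4,1,4,1,4,4,1,4,1,4,4,13,10], 5, [([], 2305, [])], []⟩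
def c2307 : Clm := ⟨10, 8, true, [4,4,1,4,1,4,4,1,4,1,5,1,4,1,4,1,4,4,3,8,3,14], [4,1,4,1,4,1,5,1,4,1,5,1,5,1,4,1,4,4,1,5,10,1,14,4], 11, [([], 1335, [4,1,5,1,4,1,4,1,4,1,4,1]), ([2197,2114], 2257, [1,5,1,4,1,5,1,5,1,4,1,4,1,4,1,4,1,4,1,4,1,5,1]), ([2688,2840], 1411, [1,4,4,1,5,1,4,1,5,1,4,1,4,1,4,1,4,1,4,4,1,4])], []⟩
def c2308 : Clm := ⟨8, 10, true, [4,1,4,1,4,1,5,1,4,1,5,1,5,1,4,1,4,4,1,5,10,1,14,4], [4,4,1,4,1,4,4,1,4,1,5,1,4,1,4,1,4,4,3,8,3,14], 5, [([], 2307, [])], []⟩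
def c2309 : Clm := ⟨10, 8, true, [4,1,4,4,1,4,1,4,4,1,4,1,5,1,5,1,4,1,5,1,4,8,1,8,8], [1,4,1,4,4,1,5,1,5,1,4,4,1,5,1,5,1,5,1,4,1,4,1,10,13,1], 9, [([], 1577, [4,4,1,5,1,4,1,4,4,1,5,1,4,4,1,5,1]), ([2688], 1335, [5,1,5,1,4,4,1,4,4,1,4,4,1]), ([2196,2114], 1126, [1,5,1,5,1,4,1,5,1,4,1,5,1,5,1,5,1])], []⟩
def c2310 : Clm := ⟨8, 10, true, [1,4,1,4,4,1,5,1,5,1,4,4,1,5,1,5,1,5,1,4,1,4,1,10,13,1], [4,1,4,4,1,4,1,4,4,1,4,1,5,1,5,1,4,1,5,1,4,8,1,8,8], 5, [([], 2309, [])], []⟩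
def c2311 : Clm := ⟨10, 8, true, [1,5,1,4,1,4,4,1,4,1,4,1,4,1,4,1,5,1,7,1,5,8], [4,1,4,4,1,5,1,5,1,4,1,4,4,1,4,1,4,3,13,3], 9, [([2688], 1907, [1,4,1,4,1,4,1,4,1,4,1,4,4,1,4,1]), ([], 1335, [1,4,4,1,5,1,4,4,1,5,1]), ([2197], 1146, [4,1,4,4,1,5,1,4,1,4,1,4,4,1,4,4,1,4,4,1])], []⟩
def c2312 : Clm := ⟨8, 10, true, [4,1,4,4,1,5,1,5,1,4,1,4,4,1,4,1,4,3,13,3], [1,5,1,4,1,4,4,1,4,1,4,1,4,1,4,1,5,1,7,1,5,8], 5, [([], 2311, [])], []⟩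
def c2313 : Clm := ⟨8, 10, true, [1,4,4,1,5,1,4,1,4,1,4,4,1,5,1,4,1,4,1,5,3,12,1], [4,1,5,1,4,4,1,4,1,4,1,4,4,1,5,1,4,1,5,3,9,7,5], 9, [([], 1530, [1,4,4,1,4,1,4,1,4,1,4,1,4,1,4,1,5,1,4,1,5]), ([2688,2840,2688], 1335, [1,4,1,4,4,1,4,1,4,4,1,4,1]), ([2197,2114,2004], 1470, [1,4,4,1,4,4,1,4,4,1,4,1,4,1])], []⟩
def c2314 : Clm := ⟨10, 8, true, [4,1,5,1,4,4,1,4,1,4,1,4,4,1,5,1,4,1,5,3,9,7,5], [1,4,4,1,5,1,4,1,4,1,4,4,1,5,1,4,1,4,1,5,3,12,1], 5, [([], 2313, [])], []⟩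
def c2315 : Clm := ⟨10, 8, true, [4,1,5,1,4,1,4,1,4,4,1,5,1,5,1,4,1,4,1,5,2,12,4,8], [1,4,1,4,1,4,1,5,1,4,1,5,1,4,1,5,1,5,1,4,2,11,4,8], 9, [([], 1335, [4,1,5,1,4,4,1]), ([2114,2010], 1206, [1,5,1,5,1,5,1,5,1,5,1,4,4,1,5,1,4,4,1,5]), ([], 860, [4,1,4,1,4,4,1,5,1,4,1,4,1,4,4,1,4,4,1,4])], []⟩
def c2316 : Clm := ⟨8, 10, true, [1,4,1,4,1,4,1,5,1,4,1,5,1,4,1,5,1,5,1,4,2,11,4,8], [4,1,5,1,4,1,4,1,4,4,1,5,1,5,1,4,1,4,1,5,2,12,4,8], 5, [([], 2315, [])], []⟩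
def c2317 : Clm := ⟨10, 8, true, [5,1,4,4,1,4,4,1,4,1,4,4,1,5,1,5,1,5,1,5,1,7,8,3,1], [1,5,1,5,1,4,4,1,5,1,4,1,4,4,1,5,1,5,1,5,1,4,1,2,1,10,5], 9, [([], 1335, [1,4,1,5,1,4,1,4,1]), ([2010], 1172, [1,4,1,4,1,5,1,5,1,5,1,4,1,4,1,4]), ([2197,2004], 1182, [1,4,1,4,4,1,5,1,4,1,4,4,1,4,1,5,1,5])], []⟩
def c2318 : Clm := ⟨8, 10, true, [1,5,1,5,1,4,4,1,5,1,4,1,4,4,1,5,1,5,1,5,1,4,1,2,1,10,5], [5,1,4,4,1,4,4,1,4,1,4,4,1,5,1,5,1,5,1,5,1,7,8,3,1], 5, [([], 2317, [])], []⟩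
def c2319 : Clm := ⟨10, 10, true, [1,4,1,4,1,4,1,4,4,1,4,1,4,4,1,4,1,5,1,4,4,2,8,3,10], [1,5,1,4,4,1,5,1,4,1,4,4,1,4,1,4,8,11,6,8], 9, [([], 1335, [1,5,1,4,1,4,1,4,1]), ([2197,2114,2004], 2263, [1,5,1,4,1,4,1,5,1,5,1,4,4,1,4,1,5,1,4,1,5]), ([2688], 1455, [1,5,1,4,1,4,4,1,4,1,4,4,1,4,1,5,1,4])], []⟩
def c2320 : Clm := ⟨10, 10, true, [1,5,1,4,4,1,5,1,4,1,4,4,1,4,1,4,8,11,6,8], [1,4,1,4,1,4,1,4,4,1,4,1,4,4,1,4,1,5,1,4,4,2,8,3,10], 5, [([], 2319, [])], []⟩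
def c2321 : Clm := ⟨8, 10, true, [4,4,1,4,1,4,4,1,4,4,1,4,1,6,1,8,12], [1,5,1,5,1,4,4,1,4,1,5,1,5,1,4,1,4,4,1,4,1,7,1,8], 11, [([], 2194, [4,4,1,4,1,4,4,1,4,4,1,4,4,1,4,1,5]), ([], 1335, [1,5,1,4,1,4,1,4,1,4,4,1,4,1,4,1,4]), ([2114], 1470, [4,4,1,4,4,1,5,1,4,1,5,1,5,1,5,1,5,1,5,1,4,1,4])], []⟩
def c2322 : Clm := ⟨10, 8, true, [1,5,1,5,1,4,4,1,4,1,5,1,5,1,4,1,4,4,1,4,1,7,1,8], [4,4,1,4,1,4,4,1,4,4,1,4,1,6,1,8,12], 5, [([], 2321, [])], []⟩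
def c2323 : Clm := ⟨10, 8, true, [4,4,1,5,1,4,1,5,1,5,1,4,4,1,5,1,5,1,5,1,4,8,3,12,11], [5,1,5,1,5,1,4,4,1,4,4,1,5,1,4,1,4,1,4,1,5,3,4,11,13], 9, [([], 1335, [4,1,5,1,4,4,1,4,1,4,1,5]), ([2197,2114], 1155, [4,1,5,1,4,4,1,4,1,4,4,1,5,1,4,1,4,1,4,1,4,4]), ([], 835, [5,1,4,1,4,4,1,5,1,5,1,4,4,1,4,1,5,1])], []⟩
def c2324 : Clm := ⟨8, 10, true, [5,1,5,1,5,1,4,4,1,4,4,1,5,1,4,1,4,1,4,1,5,3,4,11,13], [4,4,1,5,1,4,1,5,1,5,1,4,4,1,5,1,5,1,5,1,4,8,3,12,11], 5, [([], 2323, [])], []⟩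
def c2325 : Clm := ⟨10, 8, true, [4,1,4,4,1,5,1,4,1,4,4,1,4,1,4,4,1,5,1,3,8,1,9], [1,5,1,4,1,4,1,5,1,5,1,5,1,4,4,1,4,1,5,9,13,3], 9, [([], 1335, [4,1,5,1,4,1,4,4]), ([2114,2010], 1020, [5,1,5,1,4,1,4,1,4,4,1,4,1,5,1,4,4]), ([], 521, [4,1,4,1,5,1,4,4,1,4,1,5,1,5,1,5,1,5,1])], []⟩
def c2326 : Clm := ⟨8, 10, true, [1,5,1,4,1,4,1,5,1,5,1,5,1,4,4,1,4,1,5,9,13,3], [4,1,4,4,1,5,1,4,1,4,4,1,4,1,4,4,1,5,1,3,8,1,9], 5, [([], 2325, [])], []⟩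
def c2327 : Clm := ⟨8, 10, true, [4,1,4,1,4,1,4,4,1,5,1,4,4,1,4,1,4,1,3,13,5,2], [4,4,1,4,4,1,4,4,1,5,6,1,11], 11, [([], 2309, [4,1,4,1,4,1,4,4,1,4,1,4,4,1,4,1,4,1,4,4,1]), ([2840], 2172, [5,1,4,4,1,4,1,4,4,1,5,1,4,4,1,4,4,1,4]), ([357], 1336, [5,1,4,4,1,4,4,1,4,1])], []⟩
def c2328 : Clm := ⟨10, 8, true, [4,4,1,4,4,1,4,4,1,5,6,1,11], [4,1,4,1,4,1,4,4,1,5,1,4,4,1,4,1,4,1,3,13,5,2], 5, [([], 2327, [])], []⟩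
def c2329 : Clm := ⟨8, 10, true, [4,4,1,5,1,5,1,4,1,4,4,1,4,4,1,4,4,10,13,3,14], [1,4,4,1,5,1,4,4,1,4,1,5,1,5,1,4,1,2,4,8,4], 9, [([], 319, [1,4,1,5,1,5,1,4,1,4,1,4,1,4,1,4,4,1,4,4,1]), ([158,93,88], 346, [1,5,1,4,4,1,4,1,4,1,4,4,1,4,1,4,4,1]), ([357], 1336, [1,5,1,4,4,1,4,1,4,1,5,1])], []⟩
def c2330 : Clm := ⟨10, 8, true, [1,4,4,1,5,1,4,4,1,4,1,5,1,5,1,4,1,2,4,8,4], [4,4,1,5,1,5,1,4,1,4,4,1,4,4,1,4,4,10,13,3,14], 5, [([], 2329, [])], []⟩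
def c2331 : Clm := ⟨8, 10, true, [4,1,5,1,5,1,4,1,4,1,4,1,4,4,1,4,1,4,4,1,5,2,4,4,12,7], [1,4,1,4,4,1,4,4,1,4,1,4,4,1,4,1,4,2,4,8,5], 9, [([357], 978, [1,5,1,4,1,4,1,4,4,1]), ([356], 206, [4,1,4,1,5,1,5,1,4,1,4,1,4,1,4,4,1,4,1,5,1]), ([356], 1336, [4,1,4,4,1,4,1,4,1,4,1,4,1,5])], []⟩
def c2332 : Clm := ⟨10, 8, true, [1,4,1,4,4,1,4,4,1,4,1,4,4,1,4,1,4,2,4,8,5], [4,1,5,1,5,1,4,1,4,1,4,1,4,4,1,4,1,4,4,1,5,2,4,4,12,7], 5, [([], 2331, [])], []⟩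
def c2333 : Clm := ⟨9, 10, true, [1,5,1,4,1,4,4,1,4,1,4,4,1,4,1,4,1,4,4,1,5,6,1,10,5], [5,1,4,4,1,5,1,4,1,5,1,4,4,1,5,1,3,10,5], 11, [([], 1222, [4,1,4,1,4,4,1,4,1,4,1,4,1,5,1,5,1,4,4,1]), ([356], 1336, [4,4,1,4]), ([2688,2840], 1781, [1,5,1,4,1,4,1,5,1,5,1,5,1,4,4,1,5,1,5,1,4])], []⟩
def c2334 : Clm := ⟨10, 9, true, [5,1,4,4,1,5,1,4,1,5,1,4,4,1,5,1,3,10,5], [1,5,1,4,1,4,4,1,4,1,4,4,1,4,1,4,1,4,4,1,5,6,1,10,5], 5, [([], 2333, [])], []⟩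
def c2335 : Clm := ⟨10, 10, true, [1,5,1,5,1,5,1,5,1,5,1,5,1,4,1,4,1,5,1,2,1,14,11], [1,4,1,5,1,4,1,5,1,5,1,4,4,1,5,1,4,4,1,5,2,1,14,10], 11, [([], 1337, [5,1,4,1,5,1,4,4,1,5,1,4]), ([], 912, [1,5,1,5,1,4,1,4,1,4,4,1,4,1,4,4,1,5,1,4,4]), ([356], 1630, [1,4,1,5,1,5,1,5,1,4,1,4,4,1,4,1,5])], []⟩
def c2336 : Clm := ⟨10, 8, true, [4,1,5,1,4,1,4,1,5,1,5,1,4,1,4,1,5,1,4,1,9,1], [1,4,1,5,1,5,1,4,1,4,4,1,5,1,4,4,1,4,1,5,1,4,3,4,11], 11, [([], 1337, [5,1,5,1,5,1,5,1,5,1,4]), ([357], 257, [1,4,1,4,1,5,1,4,4,1,4,1,4,1,4,4,1,4,1,5]), ([282,282,264], 210, [5,1,4,1,4,1,5,1,5,1,4,1,4,1,4,1])], []⟩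
def c2337 : Clm := ⟨8, 10, true, [1,4,1,5,1,5,1,4,1,4,4,1,5,1,4,4,1,4,1,5,1,4,3,4,11], [4,1,5,1,4,1,4,1,5,1,5,1,4,1,4,1,5,1,4,1,9,1], 5, [([], 2336, [])], []⟩
def c2338 : Clm := ⟨5, 11, true, [2,13,5,3], [], 1, [], []⟩
def c2339 : Clm := ⟨11, 5, true, [], [4,1,4,4,1,4,4,1,5,1,4,1,5,1,5,1,5,1,5,1,5,1,4,2,7,5,3], 5, [([], 2338, [])], []⟩
def c2340 : Clm := ⟨11, 11, false, [], [1,4,4,1,5,1,4,4,1,4,4,1,4,4,1,4,1,4,4,1], 3, [([], 2338, []), ([159], 2338, [1,4,4,1,5,1,4,4,1,4,4,1,4,4,1,4,1,4,4,1])], []⟩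
def c2341 : Clm := ⟨11, 11, false, [], [1,4,1,4,1,5,1,4,4,1,5,1,4,4,1,4,1,4,4,1], 3, [([], 2338, []), ([91,88], 2338, [1,4,1,4,1,5,1,4,4,1,5,1,4,4,1,4,1,4,4,1])], []⟩
def c2342 : Clm := ⟨11, 10, true, [6], [4,1,5,1,5,1,4,1,4,4,1,5,1,5,1,4,4,1,4,1,2,10,6,1], 7, [([], 2338, []), ([158,92,92], 1721, [5,1,4,1,5,1,4,1,4,1,4,1,4,1,4,4,1,5])], []⟩
def c2343 : Clm := ⟨10, 11, true, [4,1,5,1,5,1,4,1,4,4,1,5,1,5,1,4,4,1,4,1,2,10,6,1], [6], 5, [([], 2342, [])], []⟩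
def c2344 : Clm := ⟨11, 11, true, [1,6], [4,1,4,1,5,1,4,4,1,4,1,4,1,5,1,4,1,4,7], 7, [([], 2338, [1]), ([92,92], 2339, [4,1,4,1,5,1,4,4,1,4,1,4,1,5,1,4,1,4])], []⟩
def c2345 : Clm := ⟨11, 8, true, [4,6], [1,4,1,4,1,4,4,1,5,1,4,1,5,1,4,4,1,5,1,4,1,4,4,3,5,9,14], 7, [([], 2338, [4]), ([88], 528, [1,5,1,5,1,4,4,1,5,1,4,4,1,5,1,5,1,5,1,4,4,1])], []⟩
def c2346 : Clm := ⟨8, 11, true, [1,4,1,4,1,4,4,1,5,1,4,1,5,1,4,4,1,5,1,4,1,4,4,3,5,9,14], [4,6], 5, [([], 2345, [])], []⟩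
def c2347 : Clm := ⟨11, 5, true, [4,1,6], [1,5,1,5,1,4,1,4,1,4,1,5,1,5,1,4,1,5,1,4,1,4,3,4,10,2], 7, [([], 2338, [4,1]), ([92,90], 87, [1,5,1,4,1,5,1,4,4,1,4,4,1,5,1,5,1,4,1,5,1])], []⟩
def c2348 : Clm := ⟨5, 11, true, [1,5,1,5,1,4,1,4,1,4,1,5,1,5,1,4,1,5,1,4,1,4,3,4,10,2], [4,1,6], 5, [([], 2347, [])], []⟩
def c2349 : Clm := ⟨11, 11, false, [4,1,6], [4,1,4,1,4,1,4,4,1,5,1,5,1,4,1,7,1,5], 3, [([], 2348, []), ([92,92], 2338, [4,1,4,1,4,1,4,4,1,5,1,5,1,4,1])], []⟩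
def c2350 : Clm := ⟨11, 8, true, [1,5,1,6], [1,4,4,1,5,1,4,4,1,4,4,1,4,4,1,4,1,4,4,1,9,6,14,12], 7, [([], 2338, [1,5,1]), ([90,88], 249, [1,4,4,1,4,4,1,4,1,4,1,4,4,1,4,4,1,4,1])], []⟩
def c2351 : Clm := ⟨8, 11, true, [1,4,4,1,5,1,4,4,1,4,4,1,4,4,1,4,1,4,4,1,9,6,14,12], [1,5,1,6], 5, [([], 2350, [])], []⟩
def c2352 : Clm := ⟨11, 11, false, [1,5,1,6], [1,5,1,4,1,5,1,4,1,4,4,1,5,1,4,1,4,1,4,1,4,4,2,8,3], 3, [([], 2351, []), ([356], 2346, [4,4,1,4,1,4,4,1,5,1,4,1,4,1,5,1,5,1,4,4,1,5])], []⟩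
def c2353 : Clm := ⟨11, 9, true, [4,4,1,6], [4,1,5,1,5,1,5,1,4,4,1,4,4,1,4,1,4,4,1,4,1,9,4,9,4], 7, [([], 2338, [4,4,1]), ([92,92,158], 1280, [1,4,1,4,1,5,1,4,4,1,4,1,4,4,1,4,4,1,4,4])], []⟩
def c2354 : Clm := ⟨9, 11, true, [4,1,5,1,5,1,5,1,4,4,1,4,4,1,4,1,4,4,1,4,1,9,4,9,4], [4,4,1,6], 5, [([], 2353, [])], []⟩
def c2355 : Clm := ⟨11, 7, true, [5,1,4,1,6], [1,4,1,4,1,4,4,1,4,1,4,1,4,4,1,5,1,4,1,5,2,10,7,4], 7, [([], 2338, [5,1,4,1]), ([88], 145, [1,4,1,4,1,4,1,4,1,4,1,5,1,4,1,5])], []⟩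
def c2356 : Clm := ⟨7, 11, true, [1,4,1,4,1,4,4,1,4,1,4,1,4,4,1,5,1,4,1,5,2,10,7,4], [5,1,4,1,6], 5, [([], 2355, [])], []⟩
def c2357 : Clm := ⟨11, 7, true, [5,1,4,4,6], [1,4,1,4,1,4,1,4,1,4,1,5,1,5,1,5,1,4,1,2,1,7,12], 7, [([], 2338, [5,1,4,4]), ([158], 142, [5,1,4,1,5,1,4,4,1,4,1,4,1])], []⟩
def c2358 : Clm := ⟨7, 11, true, [1,4,1,4,1,4,1,4,1,4,1,5,1,5,1,5,1,4,1,2,1,7,12], [5,1,4,4,6], 5, [([], 2357, [])], []⟩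
def c2359 : Clm := ⟨11, 8, true, [1,5,1,4,1,6], [4,4,1,4,1,4,4,1,5,1,4,1,5,1,5,1,4,4,1,5,2,1,6,2], 7, [([], 2338, [1,5,1,4,1]), ([158,88], 291, [4,1,5,1,5,1,5,1,4,4,1,4,1,5])], []⟩
def c2360 : Clm := ⟨8, 11, true, [4,4,1,4,1,4,4,1,5,1,4,1,5,1,5,1,4,4,1,5,2,1,6,2], [1,5,1,4,1,6], 5, [([], 2359, [])], []⟩
def c2361 : Clm := ⟨11, 8, true, [9], [5,1,4,1,5,1,4,4,1,5,1,5,1,4,1,5,1,5,2,11,11], 11, [([], 2338, []), ([93,88], 528, [4,1,5,1,4,4,1,4,4,1,4,1,4,1,5,1]), ([356], 671, [4,1,5,1,4,1,4,1,4,4,1,4,4,1,5,1,4,4,1])], []⟩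
def c2362 : Clm := ⟨8, 11, true, [5,1,4,1,5,1,4,4,1,5,1,5,1,4,1,5,1,5,2,11,11], [9], 5, [([], 2361, [])], []⟩
def c2363 : Clm := ⟨11, 10, true, [1,4,9], [1,5,1,5,1,5,1,5,1,5,1,5,1,4,4,1,5,1,4,1,4,2,10,7,4,11], 11, [([], 2338, [1,4]), ([92,92,88], 102, [4,1,4,1,4,4,1,4,4,1,5,1,5,1,4,1,4,1,5]), ([90,93,88], 1721, [1,4,1,5,1,5,1,5,1,4,1,4,4,1,5,1,5,1,4,1,4,1])], []⟩
def c2364 : Clm := ⟨10, 11, true, [1,5,1,5,1,5,1,5,1,5,1,5,1,4,4,1,5,1,4,1,4,2,10,7,4,11], [1,4,9], 5, [([], 2363, [])], []⟩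
def c2365 : Clm := ⟨11, 9, true, [1,4,1,4,9], [1,4,4,1,5,1,4,1,5,1,4,1,5,1,4,1,5,1,4,4,2,5,8,5], 11, [([], 2338, [1,4,1,4]), ([93,158], 285, [1,4,1,4,1,4,1,4,1,4,1,4,1,4,1,4,4,1]), ([357], 1083, [5,1,4,1,4,1,4,4,1,5,1,5,1,4,4,1,4,1])], []⟩
def c2366 : Clm := ⟨9, 11, true, [1,4,4,1,5,1,4,1,5,1,4,1,5,1,4,1,5,1,4,4,2,5,8,5], [1,4,1,4,9], 5, [([], 2365, [])], []⟩
def c2367 : Clm := ⟨11, 9, true, [1,5,1,4,9], [4,4,1,5,1,4,1,4,1,5,1,5,1,4,4,1,5,1,4,8,10,5,6], 11, [([], 2338, [1,5,1,4]), ([93,88], 81, [4,4,1,4,4,1,4,4,1,4,1,4,1,4,4,1,5,1,4,1,4]), ([92,92,88], 1268, [4,4,1,4,4,1,4,4,1,4,4,1,5])], []⟩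
def c2368 : Clm := ⟨9, 11, true, [4,4,1,5,1,4,1,4,1,5,1,5,1,4,4,1,5,1,4,8,10,5,6], [1,5,1,4,9], 5, [([], 2367, [])], []⟩
def c2369 : Clm := ⟨11, 5, true, [1,5,1,4,1,9], [4,1,4,1,5,1,4,1,5,1,4,1,4,1,4,4,1,4,1,4,2,1,10,5], 11, [([], 2338, [1,5,1,4,1]), ([92,158,88], 104, [1,5,1,5,1,4,4,1,4,4,1,4,1,5]), ([158,93,88], 81, [1,4,1,4,1,4,4,1,4,4,1,4,1,5,1,5,1,4,1,5,1,5])], []⟩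
def c2370 : Clm := ⟨5, 11, true, [4,1,4,1,5,1,4,1,5,1,4,1,4,1,4,4,1,4,1,4,2,1,10,5], [1,5,1,4,1,9], 5, [([], 2369, [])], []⟩
def c2371 : Clm := ⟨11, 11, true, [1,4,4,1,4,1,9], [5,1,4,4,1,4,4,1,5,1,4,1,4,1,5,1,4,4,1,5,9], 11, [([], 2338, [1,4,4,1,4,1]), ([], 66, [4,4,1,5,1,5,1,4,1,4,1,5,1,5,1,4,1,4]), ([90,92], 2339, [1,4,1,4,1,5,1,4,4,1,4,1,4,4,1,4,4,1,5])], []⟩
def c2372 : Clm := ⟨11, 11, true, [1,4,1,4,1,4,1,9], [1,4,1,4,4,1,4,1,4,1,4,4,1,5,1,5,1,5,1,4,1,4,4,9], 11, [([], 2338, [1,4,1,4,1,4,1]), ([93,90], 108, [1,5,1,4,1,5,1,4,4,1,5,1,4,1,4,4,1,4,1,5,1]), ([92,92], 2339, [4,1,4,1,5,1,4,1,5,1,5,1,4,4,1,5])], []⟩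
def c2373 : Clm := ⟨11, 9, true, [1,5,1,4,4,1,4,9], [1,4,1,4,4,1,5,1,4,4,1,5,1,4,1,4,1,3,9,6,12], 11, [([], 2338, [1,5,1,4,4,1,4]), ([88,93], 1040, [1,4,1,4,4,1,4,4,1,5,1,4,1,4,1,4,1,4,4,1,5,1]), ([2196,2114,2004], 1172, [1,4,4,1,5,1,5,1,4,4,1,5,1,4,4,1,5,1,5,1,4])], []⟩
def c2374 : Clm := ⟨9, 11, true, [1,4,1,4,4,1,5,1,4,4,1,5,1,4,1,4,1,3,9,6,12], [1,5,1,4,4,1,4,9], 5, [([], 2373, [])], []⟩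
def c2375 : Clm := ⟨11, 11, true, [1,4,4,1,5,1,5,1,5,1,9], [1,4,4,1,5,1,5,1,5,1,9], 11, [([], 2338, [1,4,4,1,5,1,5,1,5,1]), ([93], 98, [1,4,1,5,1,4,1,4,1,4,4,1,4,4,1,4,1,4,1,4,4]), ([92], 2339, [1,4,1,4,4,1,4,4,1,5,1,5,1,4,1,4,4,1,4,1,5])], []⟩
def c2376 : Clm := ⟨11, 11, true, [1,5,1,5,1,5,1,4,4,1,9], [1,5,1,5,1,5,1,4,4,1,9], 11, [([], 2338, [1,5,1,5,1,5,1,4,4,1]), ([], 74, [1,4,4,1,5,1,4,4,1,5,1,5,1,5,1,5,1,4,1,4,4,1,5]), ([90,92], 2339, [5,1,5,1,4,1,5,1,4,1,4,1,4,1,4,1,4,4,1,5,1])], []⟩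
def c2377 : Clm := ⟨11, 11, true, [1,4,4,1,4,4,1,4,1,4,1,9], [1,5,1,4,4,1,4,1,4,1,4,1,5,1,5,1,4,4,1,5,9], 11, [([], 2338, [1,4,4,1,4,4,1,4,1,4,1]), ([158], 92, [5,1,4,1,4,4,1,5,1,5,1,4,1,4,1,5]), ([92,92], 2339, [5,1,4,1,4,1,4,1,4,1,4,1,4,1,4,1,4,1,5])], []⟩
def c2378 : Clm := ⟨11, 11, true, [4,1,4,1,4,4,1,5,1,5,1,9], [5,1,4,1,5,1,4,1,4,1,4,4,1,4,1,5,1,4,4,9], 11, [([], 2338, [4,1,4,1,4,4,1,5,1,5,1]), ([92,90], 108, [1,4,1,4,1,4,1,4,4,1,4,1,4,1,4,4,1,5,1,5]), ([], 2339, [4,1,5,1,4,1,4,4,1,5,1,5,1,4,4,1,5,1])], []⟩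
def c2379 : Clm := ⟨11, 11, true, [4,4,1,4,4,1,4,1,4,1,4,1,9], [5,1,4,1,4,1,4,4,1,4,1,4,4,1,5,1,9], 11, [([], 2338, [4,4,1,4,4,1,4,1,4,1,4,1]), ([88,93], 98, [4,1,5,1,4,1,4,4,1,4,1,4,4,1,4,1,4,1,4,4,1,5,1]), ([92,88], 2339, [1,4,4,1,4,4,1,4,1,4,1,5,1,5,1,4,4,1,5,1,5])], []⟩
def c2380 : Clm := ⟨11, 11, true, [4,4,1,5,1,4,1,4,1,5,1,4,1,5,1,4,1,6,12,10,4], [4,4,1,5,1,5,1,4,1,4,1,5,1,5,1,4,4,3,8,3,14], 11, [([], 2362, [1,4,1,5,1,4,1,4,1,4,1,4,1,4,4,1,4]), ([357], 1680, [4,4,1,4,1,4,1,4,1,5,1,4,1]), ([2688,2840], 2342, [4,1,4,1,5,1,5,1,5,1,4,1,4,1])], []⟩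
def c2381 : Clm := ⟨11, 11, true, [4,1,5,1,5,1,4,1,5,1,4,1,5,1,2,1,14,10], [4,4,1,4,4,1,5,1,5,1,4,1,4,1,4,4,1,4,4,1,9,14,6,1], 9, [([], 2343, [1,4,1,4,4,1,4,4,1,5,1,5,1,4,1]), ([2688,2840,2688], 1533, [4,1,5,1,5,1,4,4,1,5,1,4,1,4,4,1,5,1,5,1,4]), ([2688,2840,2688], 2342, [1,5,1,4,4,1,5,1,5,1,4,1])], []⟩
def c2382 : Clm := ⟨5, 12, true, [1,3,4,3], [], 1, [], []⟩
def c2383 : Clm := ⟨12, 5, true, [], [1,3,4,3], 5, [([], 2382, [])], []⟩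
def c2384 : Clm := ⟨12, 12, false, [], [4,1,4,1,5,1,4,1,4,4,1,5,1,4,1,5,1,5], 3, [([], 2382, []), ([159,89,93], 2382, [4,1,4,1,5,1,4,1,4,4,1,5,1,4,1,5,1,5])], []⟩
def c2385 : Clm := ⟨12, 9, true, [6], [1,4,4,1,5,1,4,4,1,4,1,5,1,5,1,5,1,5,1,9,14,4,1], 7, [([], 2382, []), ([93,158], 1133, [4,1,5,1,4,1,5,1,4,1,4,1,4,4,1])], []⟩
def c2386 : Clm := ⟨9, 12, true, [1,4,4,1,5,1,4,4,1,4,1,5,1,5,1,5,1,5,1,9,14,4,1], [6], 5, [([], 2385, [])], []⟩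
def c2387 : Clm := ⟨12, 8, true, [1,6], [1,4,1,4,1,5,1,4,1,5,1,4,1,5,1,4,4,3,13,4,3], 7, [([], 2382, [1]), ([88,93,88], 285, [4,1,4,4,1,4,1,4,1,4,4,1,4,4,1,4,1,5,1])], []⟩
def c2388 : Clm := ⟨8, 12, true, [1,4,1,4,1,5,1,4,1,5,1,4,1,5,1,4,4,3,13,4,3], [1,6], 5, [([], 2387, [])], []⟩
def c2389 : Clm := ⟨12, 8, true, [4,6], [4,1,4,4,1,4,4,1,5,1,4,4,1,5,1,4,1,4,1,6,1,3,6], 7, [([], 2382, [4]), ([93,90,88], 346, [1,4,1,4,1,4,4,1,5,1,4,1,5,1,5,1,4,4,1,4,1,4])], []⟩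
def c2390 : Clm := ⟨8, 12, true, [4,1,4,4,1,4,4,1,5,1,4,4,1,5,1,4,1,4,1,6,1,3,6], [4,6], 5, [([], 2389, [])], []⟩
def c2391 : Clm := ⟨12, 8, true, [5,6], [1,5,1,4,1,5,1,5,1,4,1,4,1,4,1,4,4,1,4,1,5,1,2,5,8,13], 7, [([], 2382, [5]), ([88,92], 719, [5,1,4,4,1,5,1,4,1,4,1,4,4,1,5,1,5])], []⟩
def c2392 : Clm := ⟨8, 12, true, [1,5,1,4,1,5,1,5,1,4,1,4,1,4,1,4,4,1,4,1,5,1,2,5,8,13], [5,6], 5, [([], 2391, [])], []⟩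
def c2393 : Clm := ⟨12, 10, true, [5,1,6], [4,4,1,4,1,5,1,4,4,1,5,1,5,1,4,1,2,4,1], 7, [([], 2382, [5,1]), ([93,158,90,88], 2151, [4,4,1,4,4,1,4,4,1,4,1,4,1,5,1,5,1,4,1])], []⟩
def c2394 : Clm := ⟨10, 12, true, [4,4,1,4,1,5,1,4,4,1,5,1,5,1,4,1,2,4,1], [5,1,6], 5, [([], 2393, [])], []⟩
def c2395 : Clm := ⟨12, 10, true, [1,4,1,6], [5,1,5,1,4,4,1,4,1,5,1,4,1,4,1,5,1,4,4,1,4,8,11,7], 7, [([], 2382, [1,4,1]), ([90,92,88], 1373, [5,1,4,1,5,1,4,1,5,1,5,1,5,1])], []⟩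
def c2396 : Clm := ⟨10, 12, true, [5,1,5,1,4,4,1,4,1,5,1,4,1,4,1,5,1,4,4,1,4,8,11,7], [1,4,1,6], 5, [([], 2395, [])], []⟩
def c2397 : Clm := ⟨12, 12, false, [1,4,1,6], [1,5,1,4,1,5,1,5,1,4,4,1,4,1,4,4,2,1,9,12], 3, [([], 2396, []), ([2841], 2396, [5,1,5,1,4,1,4,1,4,4,1,5,1,5,1,4,1,4])], []⟩
def c2398 : Clm := ⟨12, 8, true, [4,4,1,6], [1,5,1,4,1,5,1,4,1,4,4,1,4,4,1,4,1,4,13,9,4,14], 7, [([], 2382, [4,4,1]), ([88,92], 510, [1,4,1,4,1,4,1,5,1,5,1,5,1,4,4,1,4,4,1,4,4])], []⟩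
def c2399 : Clm := ⟨8, 12, true, [1,5,1,4,1,5,1,4,1,4,4,1,4,4,1,4,1,4,13,9,4,14], [4,4,1,6], 5, [([], 2398, [])], []⟩
def c2400 : Clm := ⟨12, 10, true, [1,4,4,1,6], [4,1,4,1,5,1,4,4,1,4,1,4,4,1,5,6,5,7], 7, [([], 2382, [1,4,4,1]), ([93,158], 1363, [5,1,5,1,4,4,1,5,1,4,1,5,1,5,1,4,4,1,4,4])], []⟩
def c2401 : Clm := ⟨10, 12, true, [4,1,4,1,5,1,4,4,1,4,1,4,4,1,5,6,5,7], [1,4,4,1,6], 5, [([], 2400, [])], []⟩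
def c2402 : Clm := ⟨12, 10, true, [4,1,4,4,6], [1,4,4,1,4,1,5,1,4,1,4,1,4,4,1,2,6,3,7], 7, [([], 2382, [4,1,4,4]), ([93,158], 1383, [1,4,1,4,4,1,4,4,1,4,1,5,1,5,1,4,4,1,5,1,4])], []⟩
def c2403 : Clm := ⟨10, 12, true, [1,4,4,1,4,1,5,1,4,1,4,1,4,4,1,2,6,3,7], [4,1,4,4,6], 5, [([], 2402, [])], []⟩
def c2404 : Clm := ⟨12, 8, true, [4,1,5,1,6], [1,4,1,4,1,5,1,4,4,1,5,1,4,1,4,1,4,1,4,4,1,5,2,4,9,7], 7, [([], 2382, [4,1,5,1]), ([], 585, [5,1,4,1,4,4,1,4,1,4,1,4,4,1,5,1,4])], []⟩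
def c2405 : Clm := ⟨8, 12, true, [1,4,1,4,1,5,1,4,4,1,5,1,4,1,4,1,4,1,4,4,1,5,2,4,9,7], [4,1,5,1,6], 5, [([], 2404, [])], []⟩
def c2406 : Clm := ⟨12, 12, false, [4,1,5,1,6], [4,4,1,4,4,1,5,1,4,1,4,1,5,1,4,4,1,5,1,4,4,1,8,11], 3, [([], 2405, []), ([356], 2390, [4,1,4,1,4,1,5,1,4,1,5,1,4,4])], []⟩
def c2407 : Clm := ⟨12, 10, true, [5,1,4,4,6], [5,1,5,1,4,4,1,5,1,4,1,5,1,4,4,1,4,4,2,5,14,6], 7, [([], 2382, [5,1,4,4]), ([88,93], 1842, [1,4,1,4,4,1,5,1,4,1,5,1,4,1,5,1,4,1,4,4,1,5,1])], []⟩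
def c2408 : Clm := ⟨10, 12, true, [5,1,5,1,4,4,1,5,1,4,1,5,1,4,4,1,4,4,2,5,14,6], [5,1,4,4,6], 5, [([], 2407, [])], []⟩
def c2409 : Clm := ⟨12, 8, true, [4,4,1,4,4,6], [5,1,5,1,4,1,4,1,5,1,5,1,4,1,4,1,4,1,4,4,1,5,3,1,7,9], 7, [([], 2382, [4,4,1,4,4]), ([158,92,90], 493, [1,4,1,4,1,4,1,4,1,4,1,4,4,1,4,4,1,4,1,4,4,1,5])], []⟩
def c2410 : Clm := ⟨8, 12, true, [5,1,5,1,4,1,4,1,5,1,5,1,4,1,4,1,4,1,4,4,1,5,3,1,7,9], [4,4,1,4,4,6], 5, [([], 2409, [])], []⟩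
def c2411 : Clm := ⟨12, 12, false, [4,4,1,4,4,6], [4,4,1,4,1,5,1,5,1,4,4,1,5,1,4,1,5,1,4,1,5,3,12,8,6], 3, [([], 2410, []), ([356], 2388, [5,1,4,1,4,4,1,5,1,4,1,4,1,5])], []⟩
def c2412 : Clm := ⟨12, 10, true, [5,1,4,1,4,4,6], [1,4,1,4,4,1,5,1,5,1,4,4,1,4,1,5,1,4,4,1,6,9,7,10], 7, [([], 2382, [5,1,4,1,4,4]), ([88,93], 1775, [1,4,1,4,4,1,4,4,1,4,4,1,5,1,4,4,1,4,4,1,4,4])], []⟩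
def c2413 : Clm := ⟨10, 12, true, [1,4,1,4,4,1,5,1,5,1,4,4,1,4,1,5,1,4,4,1,6,9,7,10], [5,1,4,1,4,4,6], 5, [([], 2412, [])], []⟩
def c2414 : Clm := ⟨12, 8, true, [1,4,1,4,1,5,1,6], [1,4,1,4,4,1,4,4,1,4,4,1,4,1,4,4,1,5,1,5,1,5,1,2,1,4,9], 7, [([], 2382, [1,4,1,4,1,5,1]), ([93,158,90,88], 291, [4,1,4,1,4,1,4,4,1,5,1,5,1,5,1,4,4,1])], []⟩
def c2415 : Clm := ⟨8, 12, true, [1,4,1,4,4,1,4,4,1,4,4,1,4,1,4,4,1,5,1,5,1,5,1,2,1,4,9], [1,4,1,4,1,5,1,6], 5, [([], 2414, [])], []⟩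
def c2416 : Clm := ⟨12, 9, true, [4,4,1,4,1,5,1,6], [4,4,1,4,1,4,4,1,4,1,4,1,4,1,13,9,4,14], 7, [([], 2382, [4,4,1,4,1,5,1]), ([90,92], 1294, [1,4,1,4,1,5,1,4,1,5,1,4,1,5,1,4,4,1,4])], []⟩
def c2417 : Clm := ⟨9, 12, true, [4,4,1,4,1,4,4,1,4,1,4,1,4,1,13,9,4,14], [4,4,1,4,1,5,1,6], 5, [([], 2416, [])], []⟩
def c2418 : Clm := ⟨12, 9, true, [1,4,1,4,4,1,4,4,1,4,1,4,9], [1,5,1,4,1,4,1,5,1,5,1,4,1,4,1,4,4,1,5,1,5,6,9,14,11], 11, [([], 2382, [1,4,1,4,4,1,4,4,1,4,1,4]), ([93,158,90], 344, [4,4,1,4,1,4,1,4,1,4,1,4,1,5,1,4,1,5,1,5]), ([], 1109, [1,4,4,1,4,4,1,5,1,5,1,4,1,4,1,5,1,5,1,5,1,5])], []⟩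
def c2419 : Clm := ⟨9, 12, true, [1,5,1,4,1,4,1,5,1,5,1,4,1,4,1,4,4,1,5,1,5,6,9,14,11], [1,4,1,4,4,1,4,4,1,4,1,4,9], 5, [([], 2418, [])], []⟩
def c2420 : Clm := ⟨12, 8, true, [1,4,1,5,1,5,1,4,9], [1,4,1,5,1,4,1,4,1,5,1,5,1,5,1,2,12,4,10], 11, [([], 2382, [1,4,1,5,1,5,1,4]), ([93,158,88], 1032, [1,5,1,5,1,4,1,5,1,5]), ([2004], 1124, [4,1,5,1,4,4,1,4,4,1,4,1,4,4,1,5,1,4])], []⟩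
def c2421 : Clm := ⟨8, 12, true, [1,4,1,5,1,4,1,4,1,5,1,5,1,5,1,2,12,4,10], [1,4,1,5,1,5,1,4,9], 5, [([], 2420, [])], []⟩
def c2422 : Clm := ⟨12, 10, true, [5,1,5,1,4,4,1,5,1,4,9], [4,1,5,1,5,1,4,1,4,1,5,1,5,1,5,1,6,3,11], 11, [([], 2382, [5,1,5,1,4,4,1,5,1,4]), ([88], 651, [1,4,1,5,1,5,1,4,1,5,1,4,4,1,5,1,4]), ([357], 1773, [4,1,5,1,5,1,4,1,5,1,4,4,1,5,1,4,1,5])], []⟩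
def c2423 : Clm := ⟨10, 12, true, [4,1,5,1,5,1,4,1,4,1,5,1,5,1,5,1,6,3,11], [5,1,5,1,4,4,1,5,1,4,9], 5, [([], 2422, [])], []⟩
def c2424 : Clm := ⟨12, 9, true, [1,4,1,5,1,4,4,1,4,1,4,4,1,9], [1,5,1,5,1,5,1,5,1,5,1,5,1,4,4,1,5,1,4,1,4,1,12,10,4,13], 11, [([], 2382, [1,4,1,5,1,4,4,1,4,1,4,4,1]), ([90], 81, [1,5,1,4,1,4,1,5,1,5,1,4,1,5,1,5,1,4,4]), ([92,158,88], 1268, [1,4,4,1,4,4,1,4,4,1,4,1,4,1,4,1,5,1,5,1])], []⟩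
def c2425 : Clm := ⟨9, 12, true, [1,5,1,5,1,5,1,5,1,5,1,5,1,4,4,1,5,1,4,1,4,1,12,10,4,13], [1,4,1,5,1,4,4,1,4,1,4,4,1,9], 5, [([], 2424, [])], []⟩
def c2426 : Clm := ⟨12, 8, true, [4,4,1,5,1,4,1,4,4,1,5,1,5,1,9], [1,5,1,5,1,4,4,1,4,1,5,1,5,1,4,1,4,4,1,4,1,4,1,7,13,2,10], 11, [([], 2382, [4,4,1,5,1,4,1,4,4,1,5,1,5,1]), ([], 99, [1,4,4,1,4,4,1,4,1,4,1,4,4,1,5,1,4,4,1,4,1,4,4]), ([47,73,79], 234, [1,5,1,4,1,4,1,5,1,4,1,5,1,4,4,1,4,4,1,4])], []⟩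
def c2427 : Clm := ⟨8, 12, true, [1,5,1,5,1,4,4,1,4,1,5,1,5,1,4,1,4,4,1,4,1,4,1,7,13,2,10], [4,4,1,5,1,4,1,4,4,1,5,1,5,1,9], 5, [([], 2426, [])], []⟩
def c2428 : Clm := ⟨12, 9, true, [5,1,5,1,4,4,1,9], [5,1,5,1,4,1,4,1,4,1,5,1,5,1,5,3,12,2,12], 11, [([], 2382, [5,1,5,1,4,4,1]), ([90,92], 433, [1,4,1,5,1,5,1,5,1,5,1,4,1,4,4,1,5]), ([356], 1235, [1,4,1,5,1,4,1,5,1,5,1,4,4,1,5,1,5,1,4,1,4,4])], []⟩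
def c2429 : Clm := ⟨9, 12, true, [5,1,5,1,4,1,4,1,4,1,5,1,5,1,5,3,12,2,12], [5,1,5,1,4,4,1,9], 5, [([], 2428, [])], []⟩
def c2430 : Clm := ⟨12, 8, true, [1,4,1,4,1,4,1,4,1,4,1,9], [4,1,5,1,4,4,1,4,4,1,4,4,1,4,4,2,5,2], 11, [([], 2382, [1,4,1,4,1,4,1,4,1,4,1]), ([92], 1902, [4,1,5,1,4,1,5,1,5,1,5,1,5,1,4,1,4,1,4,4,1,5]), ([], 1801, [1,4,4,1,5,1,4,1,5,1,5,1,4,1,4,1])], []⟩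
def c2431 : Clm := ⟨8, 12, true, [4,1,5,1,4,4,1,4,4,1,4,4,1,4,4,2,5,2], [1,4,1,4,1,4,1,4,1,4,1,9], 5, [([], 2430, [])], []⟩
def c2432 : Clm := ⟨12, 10, true, [4,1,4,1,5,1,4,4,1,5,1,5,1,9], [1,4,1,4,4,1,5,1,4,4,1,4,4,1,5,1,4,1,4,4,3,9,3,6], 11, [([], 2382, [4,1,4,1,5,1,4,4,1,5,1,5,1]), ([92,90], 375, [1,5,1,4,1,4,1,4,1,4,4,1,4,4,1,4,1,5,1,5]), ([357], 1854, [5,1,5,1,4,1,5,1,4,4,1,4,1,4,1,5])], []⟩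
def c2433 : Clm := ⟨10, 12, true, [1,4,1,4,4,1,5,1,4,4,1,4,4,1,5,1,4,1,4,4,3,9,3,6], [4,1,4,1,5,1,4,4,1,5,1,5,1,9], 5, [([], 2432, [])], []⟩
def c2434 : Clm := ⟨12, 8, true, [1,5,1,5,1,5,1,9], [1,5,1,4,1,5,1,4,1,4,4,1,4,1,5,1,8,1,10,13], 11, [([], 2382, [1,5,1,5,1,5,1]), ([92,158], 493, [4,1,4,1,4,4,1,4,4,1,4,1,5,1,4,1,5,1,5,1,4,4]), ([356], 480, [1,4,1,5,1,5,1,5,1,5,1,4,4,1,5,1,5,1,4,1,4,1,5,1])], []⟩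
def c2435 : Clm := ⟨8, 12, true, [1,5,1,4,1,5,1,4,1,4,4,1,4,1,5,1,8,1,10,13], [1,5,1,5,1,5,1,9], 5, [([], 2434, [])], []⟩
def c2436 : Clm := ⟨12, 9, true, [1,4,4,1,5,1,5,1,4,9], [4,1,4,1,5,1,4,1,5,1,4,1,4,1,4,1,4,3,10,10], 11, [([], 2382, [1,4,4,1,5,1,5,1,4]), ([92,92], 2205, [1,4,4,1,4,1,4,1,4,4,1,4,1,4,4,1,4,4,1,4,1,5]), ([], 1521, [1,5,1,4,1,5,1,4,4,1,5,1,4,1,4,1,4,4,1,4,4])], []⟩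
def c2437 : Clm := ⟨9, 12, true, [4,1,4,1,5,1,4,1,5,1,4,1,4,1,4,1,4,3,10,10], [1,4,4,1,5,1,5,1,4,9], 5, [([], 2436, [])], []⟩
def c2438 : Clm := ⟨12, 8, true, [5,1,4,1,4,1,4,1,4,1,4,4,1,9], [5,1,4,4,1,5,1,5,1,4,4,1,5,1,5,1,5,1,4,8,12,7], 11, [([], 2382, [5,1,4,1,4,1,4,1,4,1,4,4,1]), ([92,92], 353, [4,1,4,1,4,1,4,1,4,4,1,5,1,4,4,1]), ([356], 717, [1,4,1,4,1,4,1,4,1,4,4,1,5,1,4,1,4,4,1])], []⟩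
def c2439 : Clm := ⟨8, 12, true, [5,1,4,4,1,5,1,5,1,4,4,1,5,1,5,1,5,1,4,8,12,7], [5,1,4,1,4,1,4,1,4,1,4,4,1,9], 5, [([], 2438, [])], []⟩
def c2440 : Clm := ⟨12, 10, true, [1,4,1,5,1,4,1,4,4,1,5,1,4,1,4,1,9], [1,4,4,1,4,1,4,4,1,5,1,4,4,1,5,1,4,1,5,7,2,13,5], 11, [([], 2382, [1,4,1,5,1,4,1,4,4,1,5,1,4,1,4,1]), ([158,92], 191, [5,1,5,1,4,4,1,5,1,5,1,4,1,5,1,4,4,1,5]), ([356], 2160, [1,5,1,5,1,5,1,5,1,5,1,4,1,4,4,1,4,4,1,4,1])], []⟩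
def c2441 : Clm := ⟨10, 12, true, [1,4,4,1,4,1,4,4,1,5,1,4,4,1,5,1,4,1,5,7,2,13,5], [1,4,1,5,1,4,1,4,4,1,5,1,4,1,4,1,9], 5, [([], 2440, [])], []⟩
def c2442 : Clm := ⟨12, 10, true, [1,4,4,1,5,1,4,1,4,1,9], [4,1,4,1,5,1,4,4,1,4,1,4,1,5,1,4,1,4,2,1,14,8], 11, [([], 2382, [1,4,4,1,5,1,4,1,4,1]), ([92,88], 505, [1,5,1,4,1,4,4,1,5,1,5,1,5,1,5,1,4,1,4,1,5,1]), ([356], 2241, [1,4,1,5,1,4,4,1,4,1,4,4,1,4,4,1,5,1,4,4,1])], []⟩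
def c2443 : Clm := ⟨10, 12, true, [4,1,4,1,5,1,4,4,1,4,1,4,1,5,1,4,1,4,2,1,14,8], [1,4,4,1,5,1,4,1,4,1,9], 5, [([], 2442, [])], []⟩
def c2444 : Clm := ⟨12, 8, true, [1,4,4,1,4,4,1,4,4,1,4,4,1,9], [1,4,1,4,4,1,4,1,4,4,1,4,1,5,1,5,1,4,4,1,4,1,4,6,8], 11, [([], 2382, [1,4,4,1,4,4,1,4,4,1,4,4,1]), ([92,92,90,88], 1363, [1,4,4,1,5,1,5,1,5,1,5,1,4,1,5]), ([2840], 1576, [4,1,4,1,5,1,5,1,5,1,4,4,1,4,4,1,4,4,1,5,1,4,1])], []⟩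
def c2445 : Clm := ⟨8, 12, true, [1,4,1,4,4,1,4,1,4,4,1,4,1,5,1,5,1,4,4,1,4,1,4,6,8], [1,4,4,1,4,4,1,4,4,1,4,4,1,9], 5, [([], 2444, [])], []⟩
def c2446 : Clm := ⟨12, 8, true, [1,4,1,5,1,4,1,4,1,4,1,9], [4,4,1,5,1,5,1,5,1,5,1,4,4,1,5,1,5,1,5,1,4,2,10,8,5], 11, [([], 2382, [1,4,1,5,1,4,1,4,1,4,1]), ([93,88], 110, [1,4,1,5,1,4,4,1,4,1,5,1,4,1,5,1,4,1,4,1,4,4]), ([158,92,90,88], 493, [4,1,5,1,4,1,4,1,4,1,4,1,4,4,1,4,1,4,4])], []⟩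
def c2447 : Clm := ⟨8, 12, true, [4,4,1,5,1,5,1,5,1,5,1,4,4,1,5,1,5,1,5,1,4,2,10,8,5], [1,4,1,5,1,4,1,4,1,4,1,9], 5, [([], 2446, [])], []⟩
def c2448 : Clm := ⟨12, 8, true, [1,4,1,4,1,4,1,4,4,1,9], [4,4,1,4,1,4,4,1,4,1,4,1,4,4,1,5,1,4,1,9,6,14,9], 11, [([], 2382, [1,4,1,4,1,4,1,4,4,1]), ([90,88], 1428, [4,4,1,4,1,4,4,1,4,1,5,1,4,4,1,4]), ([2688], 2079, [1,4,4,1,5,1,4,1,5,1,4,4,1,4,4,1,5,1,5,1,4,4])], []⟩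
def c2449 : Clm := ⟨8, 12, true, [4,4,1,4,1,4,4,1,4,1,4,1,4,4,1,5,1,4,1,9,6,14,9], [1,4,1,4,1,4,1,4,4,1,9], 5, [([], 2448, [])], []⟩
def c2450 : Clm := ⟨12, 9, true, [1,5,1,4,1,4,1,4,4,1,5,1,9], [4,4,1,5,1,4,4,1,4,1,4,1,4,1,4,4,1,4,1,5,2,1,11,11], 11, [([], 2382, [1,5,1,4,1,4,1,4,4,1,5,1]), ([93,158,90], 719, [5,1,5,1,4,4,1,5,1,4,1,5,1,5,1,5,1,5,1,4,4]), ([], 1042, [1,4,1,4,1,5,1,5,1,4,1,4,4,1,5,1,4,4,1,5,1,4])], []⟩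
def c2451 : Clm := ⟨9, 12, true, [4,4,1,5,1,4,4,1,4,1,4,1,4,1,4,4,1,4,1,5,2,1,11,11], [1,5,1,4,1,4,1,4,4,1,5,1,9], 5, [([], 2450, [])], []⟩
def c2452 : Clm := ⟨12, 10, true, [5,1,4,4,1,9], [4,1,4,1,5,1,4,1,5,1,4,4,1,5,1,5,1,4,1,4,2,9,4,13], 11, [([], 2382, [5,1,4,4,1]), ([92,158,88], 1379, [5,1,5,1,4,1,4,1,4,1,4,4,1,4,1,4,1,4,1,4,1]), ([2688,2840], 1737, [1,5,1,4,1,5,1,4,4,1,4,1,4,4,1,5])], []⟩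
def c2453 : Clm := ⟨10, 12, true, [4,1,4,1,5,1,4,1,5,1,4,4,1,5,1,5,1,4,1,4,2,9,4,13], [5,1,4,4,1,9], 5, [([], 2452, [])], []⟩
def c2454 : Clm := ⟨12, 8, true, [1,5,1,5,1,5,1,4,9], [1,4,4,1,5,1,4,1,5,1,4,1,5,1,4,1,5,1,5,6,10,5,3], 11, [([], 2382, [1,5,1,5,1,5,1,4]), ([], 344, [5,1,4,1,4,1,5,1,5,1,4,4,1]), ([357], 708, [1,4,1,5,1,4,1,4,4,1,4,4,1,4,1,4,1,4,4,1,5,1,5])], []⟩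
def c2455 : Clm := ⟨8, 12, true, [1,4,4,1,5,1,4,1,5,1,4,1,5,1,4,1,5,1,5,6,10,5,3], [1,5,1,5,1,5,1,4,9], 5, [([], 2454, [])], []⟩
def c2456 : Clm := ⟨12, 10, true, [1,4,1,4,4,1,4,1,4,4,1,5,1,5,1,9], [1,4,1,4,1,5,1,5,1,4,1,4,1,5,1,4,1,4,4,1,4,13,4,2], 11, [([], 2382, [1,4,1,4,4,1,4,1,4,4,1,5,1,5,1]), ([158,93,90,88], 608, [4,1,4,1,4,4,1,5,1,4,4,1,4,4,1,4,4,1,4,1,4,1,5]), ([], 2130, [4,1,4,4,1,4,1,5,1,4,1,5,1,5,1,4,1,4,1])], []⟩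
def c2457 : Clm := ⟨10, 12, true, [1,4,1,4,1,5,1,5,1,4,1,4,1,5,1,4,1,4,4,1,4,13,4,2], [1,4,1,4,4,1,4,1,4,4,1,5,1,5,1,9], 5, [([], 2456, [])], []⟩
def c2458 : Clm := ⟨12, 10, true, [4,1,5,1,4,1,5,1,4,1,4,4,1,5,1,9], [1,4,1,4,4,1,4,4,1,4,1,4,4,1,4,4,1,5,1,4,4,6,8,1,3], 11, [([], 2382, [4,1,5,1,4,1,5,1,4,1,4,4,1,5,1]), ([92,92], 638, [1,4,4,1,4,4,1,4,4,1,4,1,4,1,5,1,4,1,4]), ([356], 1778, [1,4,4,1,5,1,4,1,4,4,1,4,1,4,1,5,1,4])], []⟩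
def c2459 : Clm := ⟨10, 12, true, [1,4,1,4,4,1,4,4,1,4,1,4,4,1,4,4,1,5,1,4,4,6,8,1,3], [4,1,5,1,4,1,5,1,4,1,4,4,1,5,1,9], 5, [([], 2458, [])], []⟩
def c2460 : Clm := ⟨12, 8, true, [4,1,5,1,5,1,5,1,5,1,4,9], [1,5,1,4,4,1,5,1,5,1,4,1,4,4,1,4,1,5,1,4,1,5,1,6,11,14,8], 11, [([], 2382, [4,1,5,1,5,1,5,1,5,1,4]), ([158,92,92], 346, [4,1,5,1,4,4,1,5,1,5,1,4,1,4,1,4,4,1,4,1,4]), ([356], 414, [4,1,4,1,5,1,5,1,5,1,4,4,1,5,1,5])], []⟩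
def c2461 : Clm := ⟨8, 12, true, [1,5,1,4,4,1,5,1,5,1,4,1,4,4,1,4,1,5,1,4,1,5,1,6,11,14,8], [4,1,5,1,5,1,5,1,5,1,4,9], 5, [([], 2460, [])], []⟩
def c2462 : Clm := ⟨12, 10, true, [1,5,1,4,4,1,5,1,4,9], [4,1,5,1,5,1,4,4,1,4,4,1,4,1,4,4,1,4,1,5,3,10,9,3], 11, [([], 2382, [1,5,1,4,4,1,5,1,4]), ([158,93,88], 1721, [4,1,5,1,4,4,1,4,4,1,4,1,4,4,1,4,1,4,4,1]), ([2688,2840], 2276, [1,4,1,5,1,4,1,5,1,5,1,4,1,5,1,4,1])], []⟩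
def c2463 : Clm := ⟨10, 12, true, [4,1,5,1,5,1,4,4,1,4,4,1,4,1,4,4,1,4,1,5,3,10,9,3], [1,5,1,4,4,1,5,1,4,9], 5, [([], 2462, [])], []⟩
def c2464 : Clm := ⟨12, 10, true, [4,1,4,4,1,4,4,1,4,4,1,4,4,1,4,9], [5,1,4,4,1,5,1,4,4,1,4,4,1,4,1,4,1,5,1,4,8,1,2,8], 11, [([], 2382, [4,1,4,4,1,4,4,1,4,4,1,4,4,1,4]), ([158,93,90], 651, [1,5,1,4,4,1,4,4,1,4,4,1,4,1,4,4,1,5,1,5]), ([356], 1516, [4,1,4,4,1,4,1,4,4,1,5,1,4,1,4,1,4,1])], []⟩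
def c2465 : Clm := ⟨10, 12, true, [5,1,4,4,1,5,1,4,4,1,4,4,1,4,1,4,1,5,1,4,8,1,2,8], [4,1,4,4,1,4,4,1,4,4,1,4,4,1,4,9], 5, [([], 2464, [])], []⟩
def c2466 : Clm := ⟨12, 7, true, [5,1,4,1,4,1,4,4,1,4,1,5,1,5,1,9], [4,4,1,5,1,4,1,4,4,1,4,1,5,1,5,1,4,1,4,4,6,8,2,12], 11, [([], 2382, [5,1,4,1,4,1,4,4,1,4,1,5,1,5,1]), ([158,92,90,88], 493, [1,5,1,4,1,4,1,4,1,4,1,4,4,1,5,1,4,1,5,1,5,1]), ([357], 272, [1,4,1,4,1,4,1,5,1,4,4,1,4,1,5,1,5,1,5,1,4,1])], []⟩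
def c2467 : Clm := ⟨7, 12, true, [4,4,1,5,1,4,1,4,4,1,4,1,5,1,5,1,4,1,4,4,6,8,2,12], [5,1,4,1,4,1,4,4,1,4,1,5,1,5,1,9], 5, [([], 2466, [])], []⟩
def c2468 : Clm := ⟨12, 10, true, [4,1,5,1,4,4,1,4,1,4,1,9], [4,4,1,5,1,5,1,4,1,5,1,4,4,1,6,1,6,2], 11, [([], 2382, [4,1,5,1,4,4,1,4,1,4,1]), ([93,90,88], 275, [1,4,4,1,5,1,5,1,4,1,5,1,5,1,4,1,4,1,4,4]), ([357], 1979, [4,4,1,5,1,5,1,5,1,5])], []⟩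
def c2469 : Clm := ⟨10, 12, true, [4,4,1,5,1,5,1,4,1,5,1,4,4,1,6,1,6,2], [4,1,5,1,4,4,1,4,1,4,1,9], 5, [([], 2468, [])], []⟩
def c2470 : Clm := ⟨12, 8, true, [1,4,1,5,1,5,1,5,1,5,1,5,1,5,1,9], [1,4,1,5,1,5,1,4,4,1,4,4,1,5,1,4,1,4,1,5,1,3,10,8,11], 11, [([], 2382, [1,4,1,5,1,5,1,5,1,5,1,5,1,5,1]), ([158,90,88], 249, [1,5,1,4,1,4,1,5,1,5,1,4,4,1,4,4,1,4]), ([357], 262, [5,1,4,1,4,1,5,1,5,1,4,1,4,1,5,1,4])], []⟩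
def c2471 : Clm := ⟨8, 12, true, [1,4,1,5,1,5,1,4,4,1,4,4,1,5,1,4,1,4,1,5,1,3,10,8,11], [1,4,1,5,1,5,1,5,1,5,1,5,1,5,1,9], 5, [([], 2470, [])], []⟩
def c2472 : Clm := ⟨12, 12, true, [4,4,1,4,1,9], [1,5,1,4,1,4,1,5,1,5,1,4,1,5,1,4,1,4,4,7,1,9], 11, [([], 2382, [4,4,1,4,1]), ([90,88], 638, [1,5,1,4,1,5,1,4,4,1,4,4,1,4,1,4,1,4,4]), ([356], 2391, [1,4,1,5,1,5,1,4,1,4,1,4,4,1,4,1])], []⟩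
def c2473 : Clm := ⟨12, 12, true, [1,4,1,5,1,5,1,5,1,4,4,1,9], [4,1,5,1,4,1,4,1,5,1,4,4,1,4,1,4,1,4,1,9,1,9,6], 11, [([], 2382, [1,4,1,5,1,5,1,5,1,4,4,1]), ([92,90], 626, [1,5,1,4,1,4,1,5,1,4,1,5,1,4,4,1,5,1,5,1,5]), ([357], 2430, [1,5,1,4,4,1,5,1,4,1,4,1,5,1,5,1,4,4,1,5])], []⟩
def c2474 : Clm := ⟨12, 7, true, [4,1,4,1,4,4,1,4,1,4,1,5,1,9], [4,1,5,1,5,1,5,1,5,1,5,1,4,1,2,8,6,11], 11, [([], 2382, [4,1,4,1,4,4,1,4,1,4,1,5,1]), ([93,158,90], 1790, [1,5,1,4,1,4,1,4,1,5,1,5,1,4,1,5,1,5]), ([], 1519, [5,1,5,1,4,1,4,1,4,4,1,5,1,5,1,4,1])], []⟩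
def c2475 : Clm := ⟨7, 12, true, [4,1,5,1,5,1,5,1,5,1,5,1,4,1,2,8,6,11], [4,1,4,1,4,4,1,4,1,4,1,5,1,9], 5, [([], 2474, [])], []⟩
def c2476 : Clm := ⟨12, 12, true, [4,1,4,4,1,4,1,4,1,4,1,9], [4,1,4,1,4,4,1,5,1,4,1,5,1,4,4,2,10,5,8,12], 11, [([], 2382, [4,1,4,4,1,4,1,4,1,4,1]), ([93,158,90], 433, [5,1,4,1,5,1,4,4,1,5,1,4,1,4,1,4,1,4]), ([], 2387, [5,1,5,1,4,1,5,1,4,1,5,1,4,1,5,1,4])], []⟩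
def c2477 : Clm := ⟨12, 12, true, [4,1,5,1,4,1,4,4,1,4,1,10], [1,4,1,5,1,5,1,6,4,2,11], 9, [([], 2382, [4,1,5,1,4,1,4,4,1,4,1]), ([158,92], 1428, [1,4,1,4,1,4,1,4,1,4,1,4,4,1,5,1,4,1,4,1,4,1]), ([2840,2688], 2432, [1,4,1,4,4,1,5,1,4,1,5,1,4,4,1,4,1,4,1,4,4])], []⟩
def c2478 : Clm := ⟨12, 12, true, [4,4,1,4,4,1,4,4,1,10], [1,4,1,4,4,1,4,1,5,1,5,1,4,1,5,1,4,1,5,1,4,4,8], 9, [([], 2382, [4,4,1,4,4,1,4,4,1]), ([88], 62, [5,1,4,1,5,1,4,1,4,1,4,4,1,5]), ([93], 2383, [1,4,1,4,4,1,4,1,5,1,5,1,4,1,5,1,4,1,5,1,4,4])], []⟩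
def c2479 : Clm := ⟨12, 12, true, [5,1,4,10], [4,4,1,4,1,5,1,5,1,4,4,1,4,4,1,4,4,1,4,1,4,4,7,1,8], 9, [([], 2382, [5,1,4]), ([88,93,88], 375, [4,1,5,1,4,4,1,5,1,4,1,5,1,5,1,4,4,1,4,1,4]), ([], 2398, [4,4,1,5,1,4,1,5,1,4,1,4,1,5,1,5,1,5,1,4,1])], []⟩
def c2480 : Clm := ⟨12, 7, true, [5,1,4,4,1,4,1,4,1,4,1,5,1,4,4,10], [1,4,4,1,4,1,5,1,5,1,4,1,4,1,4,1,4,1,4,4,1,8,6,12,14], 9, [([], 2382, [5,1,4,4,1,4,1,4,1,4,1,5,1,4,4]), ([90,92], 1775, [1,5,1,5,1,4,1,4,4,1,5,1,5,1,4,4,1,4,4,1,4]), ([2840,2688], 2110, [5,1,4,4,1,4,1,4,4,1,4,4,1,5,1])], []⟩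
def c2481 : Clm := ⟨7, 12, true, [1,4,4,1,4,1,5,1,5,1,4,1,4,1,4,1,4,1,4,4,1,8,6,12,14], [5,1,4,4,1,4,1,4,1,4,1,5,1,4,4,10], 5, [([], 2480, [])], []⟩
def c2482 : Clm := ⟨12, 12, true, [4,4,1,5,1,5,1,4,1,4,1,4,1,4,6,1,11], [4,1,4,1,4,4,1,5,1,4,1,4,1,4,1,4,4,1,5,1,9], 11, [([], 2386, [1,4,1,4,1,4,4,1,4,1,4,1,5,1,5,1,4,4,1,4,4,1]), ([2114], 1041, [1,5,1,4,4,1,4,1,5,1,5,1,4,1,4,4]), ([93,90,88], 2383, [4,4,1,4,4,1,4,4,1,5,1,4,1,4,1,4,1,4,4,1,4])], []⟩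
def c2483 : Clm := ⟨12, 12, true, [4,1,5,1,4,1,4,1,5,1,5,1,4,1,4,4,1,4,1,10], [4,4,1,4,1,5,1,4,1,4,1,5,1,4,8], 9, [([], 2382, [4,1,5,1,4,1,4,1,5,1,5,1,4,1,4,4,1,4,1]), ([93,90,88], 87, [5,1,4,4,1,5,1,4,4,1,4,1,5]), ([92,158], 2383, [4,4,1,4,1,5,1,4,1,4,1,5,1,4])], []⟩
def c2484 : Clm := ⟨11, 12, true, [4,1,4,1,5,1,5,1,5,1,5,1,4,4,1,4,1,4,4,1,5,2,1,5], [4,4,1,5,1,4,1,4,4,1,4,1,4,1,4,4,1,4,1,5,1,4,6,8], 9, [([], 2362, [1,4,1,5,1,5,1,4,1,4,1,5,1,5,1,5,1,4,1]), ([], 1231, [4,1,5,1,4,1,4,1,4,1,4,4,1,4,4,1,5,1,4,1,4,1]), ([2197,2004], 2385, [1,5,1,4,4,1,4,4,1,4,4,1,4,1])], []⟩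
def c2485 : Clm := ⟨12, 11, true, [4,4,1,5,1,4,1,4,4,1,4,1,4,1,4,4,1,4,1,5,1,4,6,8], [4,1,4,1,5,1,5,1,5,1,5,1,4,4,1,4,1,4,4,1,5,2,1,5], 5, [([], 2484, [])], []⟩
def c2486 : Clm := ⟨12, 12, true, [4,4,1,4,4,1,4,1,4,1,4,1,5,1,4,1,5,1,6,8,2,7], [4,1,5,1,5,1,4,1,4,4,1,5,1,5,1,5,1,5,1,5,1,5,2,9,3,11], 11, [([], 2435, [1,5,1,4,1,4,1,4,4,1,4,1,4,1,4,1,4,4,1,5]), ([], 416, [4,1,5,1,4,4,1,5,1,4,1,4,1,4,4,1,5,1,4,4]), ([357], 2387, [1,5,1,4,4,1,4,4,1,4])], []⟩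
def c2487 : Clm := ⟨12, 12, true, [1,5,1,4,1,4,1,4,4,1,4,1,4,1,4,1,4,1,7,11], [1,5,1,4,1,4,1,4,4,1,4,1,4,1,4,1,4,1,7,11], 11, [([], 2394, [5,1,4,1,4,1,5,1,4,1,4,4,1,4,1,4,4,1]), ([], 1621, [5,1,4,4,1,5,1,4,4,1,4,1,4,1,5,1,4,4,1]), ([], 2393, [1,4,4,1,4,1,4,4,1,5,1,5,1])], []⟩
def c2488 : Clm := ⟨12, 12, true, [1,5,1,4,1,4,1,4,4,1,4,1,4,1,4,1,4,1,7,11], [1,5,1,4,1,4,1,4,4,1,4,1,4,1,4,1,4,1,7,11], 5, [([], 2487, [])], []⟩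
def c2489 : Clm := ⟨5, 13, true, [3,6,3,7], [], 1, [], []⟩
def c2490 : Clm := ⟨13, 5, true, [], [1,4,1,4,1,4,1,4,1,5,1,4,1,4,4,1,4,4,1,4,2,8,8,8], 5, [([], 2489, [])], []⟩
def c2491 : Clm := ⟨13, 13, false, [], [1,4,1,5,1,4,1,4,1,5,1,4,4,1,5,1,4,4,1,4,1,5], 3, [([], 2489, []), ([92,159,88], 2489, [1,4,1,5,1,4,1,4,1,5,1,4,4,1,5,1,4,4,1,4,1,5])], []⟩
def c2492 : Clm := ⟨13, 8, true, [6], [4,4,1,4,1,5,1,4,1,4,1,5,1,5,1,4,1,4,1,4,1,2,10,6,8], 7, [([], 2489, []), ([93,88], 336, [1,4,1,4,4,1,4,1,4,4,1,4,1,5,1,4,4,1,5,1,4,1])], []⟩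
def c2493 : Clm := ⟨8, 13, true, [4,4,1,4,1,5,1,4,1,4,1,5,1,5,1,4,1,4,1,4,1,2,10,6,8], [6], 5, [([], 2492, [])], []⟩
def c2494 : Clm := ⟨13, 5, true, [1,6], [1,4,4,1,4,4,1,4,1,4,1,5,1,4,1,4,4,1,4,4,1,5,7,10,3,1], 7, [([], 2489, [1]), ([], 105, [5,1,5,1,4,1,4,1,4,4,1,4,1,4,1,5,1,5])], []⟩
def c2495 : Clm := ⟨5, 13, true, [1,4,4,1,4,4,1,4,1,4,1,5,1,4,1,4,4,1,4,4,1,5,7,10,3,1], [1,6], 5, [([], 2494, [])], []⟩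
def c2496 : Clm := ⟨13, 10, true, [4,6], [1,4,1,4,1,5,1,4,1,4,1,5,1,5,1,5,1,4,2,5,2,8], 7, [([], 2489, [4]), ([93,158,90,88], 1663, [1,4,1,5,1,4,4,1,4,1,4,4,1,4,4,1,4,4,1,5,1,5])], []⟩
def c2497 : Clm := ⟨10, 13, true, [1,4,1,4,1,5,1,4,1,4,1,5,1,5,1,5,1,4,2,5,2,8], [4,6], 5, [([], 2496, [])], []⟩
def c2498 : Clm := ⟨13, 9, true, [5,6], [4,1,4,1,4,1,5,1,4,4,1,5,1,4,1,5,1,5,1,5,1,12,11,7], 7, [([], 2489, [5]), ([88], 1268, [4,1,4,1,4,1,4,1,5,1,5,1,5,1,5,1,4,4])], []⟩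
def c2499 : Clm := ⟨9, 13, true, [4,1,4,1,4,1,5,1,4,4,1,5,1,4,1,5,1,5,1,5,1,12,11,7], [5,6], 5, [([], 2498, [])], []⟩
def c2500 : Clm := ⟨13, 9, true, [4,1,6], [5,1,5,1,4,4,1,4,1,4,1,4,4,1,4,1,5,1,2,1,14,9], 7, [([], 2489, [4,1]), ([], 1040, [5,1,5,1,4,1,5,1,5,1,4,4,1,4,1,4,4,1])], []⟩
def c2501 : Clm := ⟨9, 13, true, [5,1,5,1,4,4,1,4,1,4,1,4,4,1,4,1,5,1,2,1,14,9], [4,1,6], 5, [([], 2500, [])], []⟩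
def c2502 : Clm := ⟨13, 8, true, [4,4,6], [4,1,4,1,4,4,1,5,1,4,1,5,1,4,1,4,4,1,5,8,10,2,1], 7, [([], 2489, [4,4]), ([92,90,88], 608, [5,1,5,1,4,4,1,5,1,5,1,4])], []⟩
def c2503 : Clm := ⟨8, 13, true, [4,1,4,1,4,4,1,5,1,4,1,5,1,4,1,4,4,1,5,8,10,2,1], [4,4,6], 5, [([], 2502, [])], []⟩
def c2504 : Clm := ⟨13, 8, true, [5,1,6], [1,4,1,4,1,5,1,4,1,5,1,5,1,4,1,7,11,9], 7, [([], 2489, [5,1]), ([93,158,90], 510, [4,1,4,4,1,4,1,4,4,1,5,1,4,4,1,4,4,1,4])], []⟩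
def c2505 : Clm := ⟨8, 13, true, [1,4,1,4,1,5,1,4,1,5,1,5,1,4,1,7,11,9], [5,1,6], 5, [([], 2504, [])], []⟩
def c2506 : Clm := ⟨13, 13, true, [1,4,4,6], [4,4,1,5,1,4,1,4,1,4,1,4,4,1,4,1,5,1,4,1,2,10,3,12], 7, [([], 2489, [1,4,4]), ([93,88], 2494, [1,5,1,4,1,4,1,4,1,4,4,1,4,1,4,4,1,4,1,5,1])], []⟩
def c2507 : Clm := ⟨13, 13, true, [4,4,1,5,1,4,1,4,1,4,1,4,4,1,4,1,5,1,4,1,2,10,3,12], [1,4,4,6], 5, [([], 2506, [])], []⟩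
def c2508 : Clm := ⟨13, 10, true, [1,5,1,6], [4,1,5,1,5,1,4,1,4,4,1,4,1,5,1,4,4,1,3,4,11,11], 7, [([], 2489, [1,5,1]), ([158,92], 1428, [4,1,4,4,1,4,1,4,4,1,4,4,1,5,1,5,1,5])], []⟩
def c2509 : Clm := ⟨10, 13, true, [4,1,5,1,5,1,4,1,4,4,1,4,1,5,1,4,4,1,3,4,11,11], [1,5,1,6], 5, [([], 2508, [])], []⟩
def c2510 : Clm := ⟨13, 8, true, [4,4,1,6], [4,1,4,4,1,4,4,1,4,1,4,1,5,1,4,4,8,10,9], 7, [([], 2489, [4,4,1]), ([93,158,90,88], 468, [4,4,1,5,1,4,1,4,4,1,5,1,4,4,1,5,1,4,1,4,4,1])], []⟩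
def c2511 : Clm := ⟨8, 13, true, [4,1,4,4,1,4,4,1,4,1,4,1,5,1,4,4,8,10,9], [4,4,1,6], 5, [([], 2510, [])], []⟩
def c2512 : Clm := ⟨13, 8, true, [4,1,4,1,6], [1,5,1,5,1,4,4,1,5,1,4,4,1,4,4,1,4,1,5,1,13,1,9], 7, [([], 2489, [4,1,4,1]), ([158,92,90,88], 281, [4,4,1,5,1,4,1,4,4,1,4,1,5,1,4,1])], []⟩
def c2513 : Clm := ⟨8, 13, true, [1,5,1,5,1,4,4,1,5,1,4,4,1,4,4,1,4,1,5,1,13,1,9], [4,1,4,1,6], 5, [([], 2512, [])], []⟩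
def c2514 : Clm := ⟨13, 10, true, [4,1,4,4,6], [1,4,1,4,1,4,1,4,1,5,1,4,1,4,4,1,5,1,5,1,5,1,4,2,7,8,5], 7, [([], 2489, [4,1,4,4]), ([92,92], 1721, [5,1,4,4,1,4,1,5,1,4,1,4,4,1,5,1,4,1,4,1])], []⟩
def c2515 : Clm := ⟨10, 13, true, [1,4,1,4,1,4,1,4,1,5,1,4,1,4,4,1,5,1,5,1,5,1,4,2,7,8,5], [4,1,4,4,6], 5, [([], 2514, [])], []⟩
def c2516 : Clm := ⟨13, 8, true, [4,1,5,1,6], [1,4,4,1,4,1,5,1,5,1,5,1,5,1,4,4,1,4,1,4,2,12,2], 7, [([], 2489, [4,1,5,1]), ([92,88], 512, [1,5,1,4,1,4,1,4,4,1,4,4,1,4,4,1,4,1,4,1,4,4])], []⟩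
def c2517 : Clm := ⟨8, 13, true, [1,4,4,1,4,1,5,1,5,1,5,1,5,1,4,4,1,4,1,4,2,12,2], [4,1,5,1,6], 5, [([], 2516, [])], []⟩
def c2518 : Clm := ⟨13, 13, true, [5,1,4,1,6], [1,4,4,1,5,1,5,1,4,1,4,1,4,1,5,6], 7, [([], 2489, [5,1,4,1]), ([158], 2494, [4,1,5,1,5,1,5,1,4,1,4,1,4,4,1,4,1,4,4,1,5,1])], []⟩
def c2519 : Clm := ⟨13, 13, true, [1,4,4,1,5,1,5,1,4,1,4,1,4,1,5,6], [5,1,4,1,6], 5, [([], 2518, [])], []⟩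
def c2520 : Clm := ⟨13, 13, false, [5,1,4,1,6], [1,4,1,4,1,4,1,4,4,1,5,1,4,1,5,1,4,4,1,13,4,4], 3, [([], 2519, []), ([], 2506, [1,5,1,5,1,4,1,5,1,5,1,4,4,1,4,1,4,4,1,4,1,5])], []⟩
def c2521 : Clm := ⟨13, 8, true, [5,1,4,4,6], [1,4,1,5,1,4,4,1,4,4,1,5,1,4,1,4,1,4,4,1,4,4,2,11,3], 7, [([], 2489, [5,1,4,4]), ([92,92,158], 191, [5,1,5,1,4,1,4,1,4,4,1,4,1,4,4,1,4,4])], []⟩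
def c2522 : Clm := ⟨8, 13, true, [1,4,1,5,1,4,4,1,4,4,1,5,1,4,1,4,1,4,4,1,4,4,2,11,3], [5,1,4,4,6], 5, [([], 2521, [])], []⟩
def c2523 : Clm := ⟨13, 8, true, [1,5,1,4,1,6], [4,1,4,1,5,1,5,1,5,1,4,4,1,5,1,4,2,5,10,13], 7, [([], 2489, [1,5,1,4,1]), ([90,93], 353, [1,4,1,4,1,5,1,4,4,1,5,1,5,1,4,4,1,4,4])], []⟩
def c2524 : Clm := ⟨8, 13, true, [4,1,4,1,5,1,5,1,5,1,4,4,1,5,1,4,2,5,10,13], [1,5,1,4,1,6], 5, [([], 2523, [])], []⟩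
def c2525 : Clm := ⟨13, 8, true, [4,4,1,4,1,6], [1,4,1,4,1,4,1,5,1,5,1,4,1,5,1,4,4,1,5,1,4,1,5,6,1,9], 7, [([], 2489, [4,4,1,4,1]), ([90,88], 626, [1,5,1,4,4,1,5,1,5,1,4,1,5,1,4,1,5])], []⟩
def c2526 : Clm := ⟨8, 13, true, [1,4,1,4,1,4,1,5,1,5,1,4,1,5,1,4,4,1,5,1,4,1,5,6,1,9], [4,4,1,4,1,6], 5, [([], 2525, [])], []⟩
def c2527 : Clm := ⟨13, 8, true, [5,1,4,4,1,6], [1,4,4,1,5,1,4,1,4,1,4,1,4,4,1,4,1,4,4,1,4,4,9,12,6,12], 7, [([], 2489, [5,1,4,4,1]), ([92,158], 320, [4,1,5,1,4,1,4,1,4,1,4,1,4,4,1,4,4])], []⟩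
def c2528 : Clm := ⟨8, 13, true, [1,4,4,1,5,1,4,1,4,1,4,1,4,4,1,4,1,4,4,1,4,4,9,12,6,12], [5,1,4,4,1,6], 5, [([], 2527, [])], []⟩
def c2529 : Clm := ⟨13, 8, true, [1,4,4,1,4,1,6], [1,5,1,4,1,4,1,5,1,5,1,5,1,5,1,5,1,4,1,4,8,2,13,3], 7, [([], 2489, [1,4,4,1,4,1]), ([93], 322, [1,5,1,4,1,5,1,4,1,4,4,1,4,4])], []⟩
def c2530 : Clm := ⟨8, 13, true, [1,5,1,4,1,4,1,5,1,5,1,5,1,5,1,5,1,4,1,4,8,2,13,3], [1,4,4,1,4,1,6], 5, [([], 2529, [])], []⟩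
def c2531 : Clm := ⟨13, 10, true, [1,4,4,1,4,4,6], [4,1,5,1,5,1,4,1,4,1,5,1,4,4,1,4,1,5,3,11,11,7], 7, [([], 2489, [1,4,4,1,4,4]), ([88,92,88], 1784, [4,4,1,5,1,5,1,4,4,1,5,1,5,1,5,1,4,1,4,4])], []⟩
def c2532 : Clm := ⟨10, 13, true, [4,1,5,1,5,1,4,1,4,1,5,1,4,4,1,4,1,5,3,11,11,7], [1,4,4,1,4,4,6], 5, [([], 2531, [])], []⟩
def c2533 : Clm := ⟨13, 13, true, [4,1,4,1,5,1,6], [1,5,1,5,1,4,1,5,1,5,1,4,1,4,1,4,1,4,1,4,13,4,4,1], 7, [([], 2489, [4,1,4,1,5,1]), ([92,92,90], 2494, [1,4,1,5,1,4,1,4,1,5,1,4,4,1,5,1,4,4,1,4])], []⟩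
def c2534 : Clm := ⟨13, 13, true, [1,5,1,5,1,4,1,5,1,5,1,4,1,4,1,4,1,4,1,4,13,4,4,1], [4,1,4,1,5,1,6], 5, [([], 2533, [])], []⟩
def c2535 : Clm := ⟨13, 8, true, [4,1,5,1,4,1,6], [4,4,1,4,1,4,1,4,4,1,4,4,1,4,1,4,6,8,4,13], 7, [([], 2489, [4,1,5,1,4,1]), ([88,93,88], 375, [1,4,1,4,1,4,1,5,1,4,1,5,1,4,1])], []⟩
def c2536 : Clm := ⟨8, 13, true, [4,4,1,4,1,4,1,4,4,1,4,4,1,4,1,4,6,8,4,13], [4,1,5,1,4,1,6], 5, [([], 2535, [])], []⟩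
def c2537 : Clm := ⟨13, 5, true, [4,4,1,4,4,1,6], [4,1,5,1,4,4,1,4,1,4,1,5,1,5,1,4,4,1,6,11,2,9], 7, [([], 2489, [4,4,1,4,4,1]), ([158,93], 96, [1,4,1,4,1,4,4,1,4,1,5,1,4,1,5,1,4,1])], []⟩
def c2538 : Clm := ⟨5, 13, true, [4,1,5,1,4,4,1,4,1,4,1,5,1,5,1,4,4,1,6,11,2,9], [4,4,1,4,4,1,6], 5, [([], 2537, [])], []⟩
def c2539 : Clm := ⟨13, 13, false, [4,4,1,4,4,1,6], [1,5,1,5,1,5,1,5,1,4,1,4,1,5,1,5,1,4,1,5,1,2,4,4,7], 3, [([], 2538, []), ([88,93,88], 2495, [5,1,4,4,1,4,1,5,1,5,1,4,4,1,4,1,5])], []⟩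
def c2540 : Clm := ⟨13, 8, true, [1,5,1,5,1,5,1,5,1,9], [1,4,1,4,1,4,1,4,4,1,5,1,4,1,5,1,4,1,4,4,2,6,11,7], 11, [([], 2489, [1,5,1,5,1,5,1,5,1]), ([93,90,88], 1686, [1,4,1,4,1,5,1,4,1,4,4,1,5,1,4,4,1,4,4,1,4,4]), ([], 1764, [1,5,1,4,4,1,4,4,1,4,4,1,4,1,5,1,5,1,4,1])], []⟩
def c2541 : Clm := ⟨8, 13, true, [1,4,1,4,1,4,1,4,4,1,5,1,4,1,5,1,4,1,4,4,2,6,11,7], [1,5,1,5,1,5,1,5,1,9], 5, [([], 2540, [])], []⟩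
def c2542 : Clm := ⟨13, 8, true, [1,4,1,4,1,4,1,4,4,1,5,1,4,1,4,1,9], [1,5,1,4,1,4,4,1,4,4,1,5,1,9,4,14,13], 11, [([], 2489, [1,4,1,4,1,4,1,4,4,1,5,1,4,1,4,1]), ([90,93,88], 505, [5,1,4,4,1,4,4,1,4,1,5,1,5,1,4,4,1,4,4]), ([], 387, [1,5,1,4,4,1,5,1,4,1,5,1,5,1,4,1,4,4,1,4])], []⟩
def c2543 : Clm := ⟨8, 13, true, [1,5,1,4,1,4,4,1,4,4,1,5,1,9,4,14,13], [1,4,1,4,1,4,1,4,4,1,5,1,4,1,4,1,9], 5, [([], 2542, [])], []⟩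
def c2544 : Clm := ⟨13, 8, true, [5,1,5,1,5,1,5,1,9], [4,4,1,4,4,1,5,1,4,4,1,5,1,4,4,1,4,1,4,2,4,1,6,2], 11, [([], 2489, [5,1,5,1,5,1,5,1]), ([], 102, [1,4,4,1,4,1,5,1,5,1,4,4,1,5,1,4,1,5,1,4,4]), ([92,158], 468, [4,1,4,4,1,4,4,1,5,1,5,1,4,1,4,1,4,1,4,1,4])], []⟩
def c2545 : Clm := ⟨8, 13, true, [4,4,1,4,4,1,5,1,4,4,1,5,1,4,4,1,4,1,4,2,4,1,6,2], [5,1,5,1,5,1,5,1,9], 5, [([], 2544, [])], []⟩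
def c2546 : Clm := ⟨13, 8, true, [1,4,1,5,1,4,1,4,1,5,1,9], [5,1,4,4,1,4,4,1,5,1,5,1,5,1,5,1,4,1,5,2,12,9], 11, [([], 2489, [1,4,1,5,1,4,1,4,1,5,1]), ([92,90], 1784, [5,1,4,4,1,5,1,4,1,5,1,4,4,1,5,1,5,1,4,1,5,1]), ([2688,2840,2688], 1596, [4,1,4,1,5,1,4,1,5,1,4,4,1,5,1,5,1,4,1,5,1])], []⟩
def c2547 : Clm := ⟨8, 13, true, [5,1,4,4,1,4,4,1,5,1,5,1,5,1,5,1,4,1,5,2,12,9], [1,4,1,5,1,4,1,4,1,5,1,9], 5, [([], 2546, [])], []⟩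
def c2548 : Clm := ⟨13, 8, true, [1,4,1,5,1,5,1,4,1,4,1,4,1,9], [1,4,1,5,1,4,1,4,4,1,4,1,5,1,4,4,1,4,4,1,5,1,5,2,4,4,7], 11, [([], 2489, [1,4,1,5,1,5,1,4,1,4,1,4,1]), ([158], 322, [1,5,1,4,1,5,1,5,1,4,4,1,5,1,4,4,1,4]), ([], 313, [1,5,1,5,1,5,1,5,1,4,1,4,1,5,1,5,1,4,4])], []⟩
def c2549 : Clm := ⟨8, 13, true, [1,4,1,5,1,4,1,4,4,1,4,1,5,1,4,4,1,4,4,1,5,1,5,2,4,4,7], [1,4,1,5,1,5,1,4,1,4,1,4,1,9], 5, [([], 2548, [])], []⟩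
def c2550 : Clm := ⟨13, 8, true, [1,5,1,5,1,4,4,1,4,1,4,9], [4,4,1,4,1,5,1,5,1,4,4,1,4,4,1,4,4,6,2,11,1], 11, [([], 2489, [1,5,1,5,1,4,4,1,4,1,4]), ([92,92,90,88], 505, [1,4,4,1,4,1,4,4,1,4,1,4,1,4,4,1,5,1,5,1,5,1]), ([357], 313, [4,1,4,1,5,1,4,1,4,1,4,4,1,5,1,4,1,4,1,4,4,1])], []⟩
def c2551 : Clm := ⟨8, 13, true, [4,4,1,4,1,5,1,5,1,4,4,1,4,4,1,4,4,6,2,11,1], [1,5,1,5,1,4,4,1,4,1,4,9], 5, [([], 2550, [])], []⟩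
def c2552 : Clm := ⟨13, 8, true, [1,5,1,4,4,1,5,1,5,1,9], [1,4,1,4,1,4,1,4,4,1,4,1,4,1,5,1,5,1,4,2,7,2,9], 11, [([], 2489, [1,5,1,4,4,1,5,1,5,1]), ([158,92,92,88], 1363, [1,5,1,4,1,4,4,1,4,1,5,1,4,1,5]), ([2840,2688], 1866, [1,4,4,1,5,1,4,4,1,4,1,4,4,1,5,1,4,4,1,4])], []⟩
def c2553 : Clm := ⟨8, 13, true, [1,4,1,4,1,4,1,4,4,1,4,1,4,1,5,1,5,1,4,2,7,2,9], [1,5,1,4,4,1,5,1,5,1,9], 5, [([], 2552, [])], []⟩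
def c2554 : Clm := ⟨13, 13, true, [1,5,1,4,4,1,5,1,4,1,4,1,4,9], [1,5,1,5,1,5,1,4,4,1,4,1,4,4,1,4,1,4,4,1,6,1,11], 11, [([], 2489, [1,5,1,4,4,1,5,1,4,1,4,1,4]), ([93,158,90], 1432, [1,5,1,5,1,4,1,4,1,5,1,5,1,4,4,1,4,4]), ([2688,2840], 2531, [1,5,1,4,4,1,4,1,4,1,5,1,5,1,4,1,4,1,4])], []⟩
def c2555 : Clm := ⟨13, 13, true, [1,5,1,5,1,5,1,4,4,1,4,1,4,4,1,4,1,4,4,1,6,1,11], [1,5,1,4,4,1,5,1,4,1,4,1,4,9], 5, [([], 2554, [])], []⟩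
def c2556 : Clm := ⟨13, 8, true, [1,5,1,4,1,4,4,1,4,4,1,4,9], [4,1,4,4,1,4,4,1,5,1,5,1,5,1,5,1,4,1,4,4,2,6,10,3], 11, [([], 2489, [1,5,1,4,1,4,4,1,4,4,1,4]), ([92,90], 1070, [1,5,1,4,1,5,1,5,1,4,4,1,4,1,4,1,5,1,5,1]), ([2114], 1091, [4,4,1,4,1,5,1,5,1,5,1,5,1,5,1,4,4,1,4,4])], []⟩
def c2557 : Clm := ⟨8, 13, true, [4,1,4,4,1,4,4,1,5,1,5,1,5,1,5,1,4,1,4,4,2,6,10,3], [1,5,1,4,1,4,4,1,4,4,1,4,9], 5, [([], 2556, [])], []⟩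
def c2558 : Clm := ⟨13, 8, true, [4,4,1,4,1,9], [1,4,1,4,1,5,1,4,4,1,5,1,4,1,4,1,4,1,4,1,6,10,8,10], 11, [([], 2489, [4,4,1,4,1]), ([92,158,88], 638, [1,4,1,4,4,1,4,1,4,1,4,4,1,4,4,1,4,4,1,5,1]), ([357], 305, [4,1,4,1,4,1,5,1,5,1,4,1,4,4,1,4,1,4,4,1,4,4])], []⟩
def c2559 : Clm := ⟨8, 13, true, [1,4,1,4,1,5,1,4,4,1,5,1,4,1,4,1,4,1,4,1,6,10,8,10], [4,4,1,4,1,9], 5, [([], 2558, [])], []⟩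
def c2560 : Clm := ⟨13, 13, false, [4,4,1,4,1,9], [4,1,4,1,4,1,4,1,5,1,4,1,5,1,4,4,8,7,1,9], 3, [([], 2559, []), ([356], 2547, [1,5,1,4,1,5,1,5,1])], []⟩
def c2561 : Clm := ⟨13, 8, true, [4,1,5,1,4,1,4,1,4,1,4,4,1,5,1,9], [5,1,4,4,1,4,1,4,1,5,1,4,1,4,4,1,4,1,5,13,5,9], 11, [([], 2489, [4,1,5,1,4,1,4,1,4,1,4,4,1,5,1]), ([90,88], 1842, [4,1,5,1,4,1,4,1,4,1,4,4,1,5,1,4,4,1,5,1,5]), ([2840], 1646, [4,1,4,4,1,4,4,1,4,4,1,4])], []⟩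
def c2562 : Clm := ⟨8, 13, true, [5,1,4,4,1,4,1,4,1,5,1,4,1,4,4,1,4,1,5,13,5,9], [4,1,5,1,4,1,4,1,4,1,4,4,1,5,1,9], 5, [([], 2561, [])], []⟩
def c2563 : Clm := ⟨13, 8, true, [1,5,1,4,1,5,1,4,4,1,5,1,9], [1,4,4,1,5,1,4,4,1,5,1,4,1,4,1,4,4,1,4,4,1,4,1,6,9,3,14], 11, [([], 2489, [1,5,1,4,1,5,1,4,4,1,5,1]), ([92,158,90,88], 505, [5,1,4,1,4,1,4,1,4,4,1,5,1,5,1,4,4,1,5,1,4,4]), ([357], 675, [4,4,1,4,1,4,1,4,4,1,5,1,5,1,5,1,4,1,4,1,4,4])], []⟩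
def c2564 : Clm := ⟨8, 13, true, [1,4,4,1,5,1,4,4,1,5,1,4,1,4,1,4,4,1,4,4,1,4,1,6,9,3,14], [1,5,1,4,1,5,1,4,4,1,5,1,9], 5, [([], 2563, [])], []⟩
def c2565 : Clm := ⟨13, 8, true, [5,1,5,1,5,1,5,1,4,4,1,9], [1,4,4,1,4,1,4,1,5,1,4,4,1,4,1,5,1,5,1,10,13,14], 11, [([], 2489, [5,1,5,1,5,1,5,1,4,4,1]), ([88,93,88], 104, [4,1,4,1,4,4,1,4,1,4,4,1,5,1,4,4,1,4,1,5,1]), ([93], 291, [5,1,4,4,1,4,1,4,1,5,1,4,1,4,4,1,5,1])], []⟩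
def c2566 : Clm := ⟨8, 13, true, [1,4,4,1,4,1,4,1,5,1,4,4,1,4,1,5,1,5,1,10,13,14], [5,1,5,1,5,1,5,1,4,4,1,9], 5, [([], 2565, [])], []⟩
def c2567 : Clm := ⟨13, 8, true, [1,4,1,5,1,4,1,4,4,1,4,1,4,4,1,9], [1,4,1,4,4,1,5,1,5,1,5,1,4,4,1,4,4,1,6,10,2,1], 11, [([], 2489, [1,4,1,5,1,4,1,4,4,1,4,1,4,4,1]), ([158,90], 1013, [5,1,5,1,5,1,4,1,5,1,4,1,5,1,5,1,5]), ([2197,2114,2004], 1218, [5,1,4,4,1,4,1,4,4,1,5,1,5,1,5,1,4])], []⟩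
def c2568 : Clm := ⟨8, 13, true, [1,4,1,4,4,1,5,1,5,1,5,1,4,4,1,4,4,1,6,10,2,1], [1,4,1,5,1,4,1,4,4,1,4,1,4,4,1,9], 5, [([], 2567, [])], []⟩
def c2569 : Clm := ⟨13, 13, false, [1,4,1,5,1,4,1,4,4,1,4,1,4,4,1,9], [4,4,1,4,1,4,1,5,1,4,4,1,5,1,5,1,4,4,1,4,7,3,9,13], 3, [([], 2568, []), ([], 2530, [1,4,4,1,4,4,1,4,1,5,1,5,1,4,1,5,1,5,1,4])], []⟩
def c2570 : Clm := ⟨13, 8, true, [1,4,1,4,4,1,5,1,4,4,1,4,1,4,9], [4,1,5,1,4,4,1,4,1,4,1,5,1,5,1,4,4,1,10,10,1], 11, [([], 2489, [1,4,1,4,4,1,5,1,4,4,1,4,1,4]), ([88,93,88], 433, [4,1,5,1,4,1,4,4,1,4,4,1,4,1,5,1,5,1,4,4]), ([357], 503, [5,1,4,1,5,1,5,1,5,1,4,4,1,4,4,1,5,1,4,1])], []⟩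
def c2571 : Clm := ⟨8, 13, true, [4,1,5,1,4,4,1,4,1,4,1,5,1,5,1,4,4,1,10,10,1], [1,4,1,4,4,1,5,1,4,4,1,4,1,4,9], 5, [([], 2570, [])], []⟩
def c2572 : Clm := ⟨13, 8, true, [5,1,4,1,4,1,5,1,5,1,9], [4,1,4,1,4,4,1,5,1,4,1,5,1,4,1,5,1,4,1,2,1,13,8,1], 11, [([], 2489, [5,1,4,1,4,1,5,1,5,1]), ([90,92,88], 1936, [4,4,1,4,1,4,4,1,4,1,5,1,5,1,4,1,5,1,4,1,4]), ([2840], 2089, [5,1,5,1,5,1,5,1,4,1,4,4,1,4,1,5,1])], []⟩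
def c2573 : Clm := ⟨8, 13, true, [4,1,4,1,4,4,1,5,1,4,1,5,1,4,1,5,1,4,1,2,1,13,8,1], [5,1,4,1,4,1,5,1,5,1,9], 5, [([], 2572, [])], []⟩
def c2574 : Clm := ⟨13, 9, true, [1,5,1,4,4,1,4,4,1,4,1,4,1,4,1,9], [1,5,1,4,4,1,4,4,1,5,1,4,1,4,4,1,4,4,1,9,3,5,6], 11, [([], 2489, [1,5,1,4,4,1,4,4,1,4,1,4,1,4,1]), ([92,158,88], 1432, [4,1,4,1,5,1,5,1,5,1,4,1,4,1,5]), ([2688], 1496, [1,4,4,1,5,1,5,1,4,1,4,1,4,1,4,1,4,4])], []⟩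
def c2575 : Clm := ⟨9, 13, true, [1,5,1,4,4,1,4,4,1,5,1,4,1,4,4,1,4,4,1,9,3,5,6], [1,5,1,4,4,1,4,4,1,4,1,4,1,4,1,9], 5, [([], 2574, [])], []⟩
def c2576 : Clm := ⟨13, 10, true, [1,4,4,1,5,1,5,1,4,1,4,1,4,1,9], [1,4,4,1,4,1,5,1,4,1,4,4,1,4,1,4,1,5,8,3,4,10], 11, [([], 2489, [1,4,4,1,5,1,5,1,4,1,4,1,4,1]), ([158,92,92,88], 104, [4,1,5,1,4,1,4,1,5,1,4,4,1,5,1,5,1,4,1,5,1]), ([158,93,90], 1379, [1,4,1,5,1,4,4,1,4,1,4,1,5,1,4,4,1,4])], []⟩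
def c2577 : Clm := ⟨10, 13, true, [1,4,4,1,4,1,5,1,4,1,4,4,1,4,1,4,1,5,8,3,4,10], [1,4,4,1,5,1,5,1,4,1,4,1,4,1,9], 5, [([], 2576, [])], []⟩
def c2578 : Clm := ⟨13, 8, true, [4,1,4,1,4,1,4,4,1,9], [4,1,4,1,5,1,5,1,5,1,4,4,1,4,2,8,1,6], 11, [([], 2489, [4,1,4,1,4,1,4,4,1]), ([93,90,88], 275, [4,1,5,1,4,4,1,4,1,4,4,1,4,4,1,5,1,4,4,1,5,1,4,4]), ([], 802, [1,4,4,1,4,4,1,5,1,4,1,4,1,4,4,1,4,1,5,1])], []⟩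
def c2579 : Clm := ⟨8, 13, true, [4,1,4,1,5,1,5,1,5,1,4,4,1,4,2,8,1,6], [4,1,4,1,4,1,4,4,1,9], 5, [([], 2578, [])], []⟩
def c2580 : Clm := ⟨13, 8, true, [1,4,1,4,1,4,1,5,1,5,1,4,4,1,5,1,9], [1,4,1,4,1,5,1,4,1,4,4,1,5,1,4,1,4,1,5,1,5,1,2,5,1,11,3], 11, [([], 2489, [1,4,1,4,1,4,1,5,1,5,1,4,4,1,5,1]), ([158,92,92,88], 1268, [1,4,1,4,1,5,1,4,1,5,1,4,4,1,4,1,4,1,5,1,4,4]), ([2010], 1157, [4,1,5,1,4,1,4,4,1,5,1,4,1,4,1,4,4,1,4,1])], []⟩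
def c2581 : Clm := ⟨8, 13, true, [1,4,1,4,1,5,1,4,1,4,4,1,5,1,4,1,4,1,5,1,5,1,2,5,1,11,3], [1,4,1,4,1,4,1,5,1,5,1,4,4,1,5,1,9], 5, [([], 2580, [])], []⟩
def c2582 : Clm := ⟨13, 8, true, [5,1,5,1,9], [4,1,4,1,4,4,1,4,4,1,5,1,5,1,5,1,4,4,1,5,6,10,8,1], 11, [([], 2489, [5,1,5,1]), ([158,92,92], 275, [5,1,4,1,4,1,5,1,5,1,5,1,4,4,1,4,1,4,1,4]), ([], 826, [4,4,1,5,1,4,4,1,4,4,1,4,1,4,1,4,1,4])], []⟩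
def c2583 : Clm := ⟨8, 13, true, [4,1,4,1,4,4,1,4,4,1,5,1,5,1,5,1,4,4,1,5,6,10,8,1], [5,1,5,1,9], 5, [([], 2582, [])], []⟩
def c2584 : Clm := ⟨13, 10, true, [4,1,5,1,4,1,5,1,4,1,4,4,1,5,1,9], [1,5,1,4,1,4,1,4,1,4,1,5,1,4,1,5,1,4,3,4,7,11], 11, [([], 2489, [4,1,5,1,4,1,5,1,4,1,4,4,1,5,1]), ([92,90,88], 291, [1,4,4,1,4,1,4,1,4,4,1,5]), ([356], 1956, [4,1,5,1,4,1,5,1,5,1,5,1,5,1,4,4,1,5,1,5])], []⟩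
def c2585 : Clm := ⟨10, 13, true, [1,5,1,4,1,4,1,4,1,4,1,5,1,4,1,5,1,4,3,4,7,11], [4,1,5,1,4,1,5,1,4,1,4,4,1,5,1,9], 5, [([], 2584, [])], []⟩
def c2586 : Clm := ⟨13, 8, true, [5,1,5,1,4,4,1,4,9], [4,1,4,4,1,5,1,4,1,4,1,4,1,4,4,1,4,1,4,1,2,5,6], 11, [([], 2489, [5,1,5,1,4,4,1,4]), ([158], 64, [4,4,1,5,1,5,1,4,4,1,4,1,5,1,4,1,4,4,1]), ([88,92,88], 433, [4,1,4,1,5,1,4,1,4,1,5,1,5,1,5,1])], []⟩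
def c2587 : Clm := ⟨8, 13, true, [4,1,4,4,1,5,1,4,1,4,1,4,1,4,4,1,4,1,4,1,2,5,6], [5,1,5,1,4,4,1,4,9], 5, [([], 2586, [])], []⟩
def c2588 : Clm := ⟨13, 8, true, [4,1,5,1,5,1,5,1,5,1,4,4,1,9], [1,4,4,1,4,1,5,1,4,1,4,4,1,4,1,4,1,2,5,8,5], 11, [([], 2489, [4,1,5,1,5,1,5,1,5,1,4,4,1]), ([88], 289, [4,4,1,5,1,5,1,5,1,4,4,1,4,4,1,4,4]), ([357], 482, [1,5,1,5,1,5,1,4,4,1,4,4,1,4,4,1,4,1,4,1,5,1])], []⟩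
def c2589 : Clm := ⟨8, 13, true, [1,4,4,1,4,1,5,1,4,1,4,4,1,4,1,4,1,2,5,8,5], [4,1,5,1,5,1,5,1,5,1,4,4,1,9], 5, [([], 2588, [])], []⟩
def c2590 : Clm := ⟨13, 8, true, [5,1,4,1,9], [1,4,4,1,4,1,4,1,5,1,4,1,5,1,4,4,1,5,8,11,9,14], 11, [([], 2489, [5,1,4,1]), ([93,88], 626, [4,4,1,4,4,1,5,1,4,1,4,1,4,4,1,5,1,4,1]), ([357], 552, [1,4,1,5,1,5,1,4,1,5,1,4,4,1,4,1,4,4,1,5,1,4])], []⟩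
def c2591 : Clm := ⟨8, 13, true, [1,4,4,1,4,1,4,1,5,1,4,1,5,1,4,4,1,5,8,11,9,14], [5,1,4,1,9], 5, [([], 2590, [])], []⟩
def c2592 : Clm := ⟨13, 8, true, [4,4,1,5,1,5,1,5,1,4,9], [4,1,4,1,4,4,1,4,4,1,5,1,4,4,1,4,4,1,4,4,7,8,13,5], 11, [([], 2489, [4,4,1,5,1,5,1,5,1,4]), ([92,90], 407, [1,4,1,5,1,4,1,5,1,4,4,1,5,1,5,1,4,4,1,4,4]), ([357], 975, [1,4,1,4,1,4,4,1,4,4,1,4,1,4,1,4,4,1,4])], []⟩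
def c2593 : Clm := ⟨8, 13, true, [4,1,4,1,4,4,1,4,4,1,5,1,4,4,1,4,4,1,4,4,7,8,13,5], [4,4,1,5,1,5,1,5,1,4,9], 5, [([], 2592, [])], []⟩
def c2594 : Clm := ⟨13, 12, true, [1,4,4,1,5,1,5,1,5,1,4,1,4,1,9], [4,1,4,1,5,1,5,1,4,4,1,4,1,4,4,1,4,1,4,4,1,3,8,6,3], 11, [([], 2489, [1,4,4,1,5,1,5,1,5,1,4,1,4,1]), ([92,92,158,88], 353, [4,4,1,4,1,4,1,4,1,5,1,5,1,5]), ([356], 2426, [4,4,1,4,4,1,5,1,4,4,1,5,1,5,1,5,1,4,1,4,4])], []⟩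
def c2595 : Clm := ⟨12, 13, true, [4,1,4,1,5,1,5,1,4,4,1,4,1,4,4,1,4,1,4,4,1,3,8,6,3], [1,4,4,1,5,1,5,1,5,1,4,1,4,1,9], 5, [([], 2594, [])], []⟩
def c2596 : Clm := ⟨13, 10, true, [4,4,1,4,1,4,1,4,1,4,1,4,4,1,9], [4,1,4,1,4,4,1,4,4,1,4,4,1,4,1,8,14,4,11], 11, [([], 2489, [4,4,1,4,1,4,1,4,1,4,1,4,4,1]), ([93,90,88], 1971, [1,5,1,5,1,4,4,1,4,4]), ([2840], 2215, [1,4,1,4,1,4,1,4,4,1,4,1])], []⟩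
def c2597 : Clm := ⟨10, 13, true, [4,1,4,1,4,4,1,4,4,1,4,4,1,4,1,8,14,4,11], [4,4,1,4,1,4,1,4,1,4,1,4,4,1,9], 5, [([], 2596, [])], []⟩
def c2598 : Clm := ⟨13, 10, true, [4,1,4,4,1,5,1,4,1,4,1,9], [4,1,4,1,4,1,4,1,4,4,1,5,1,4,4,1,7,11,13,9], 11, [([], 2489, [4,1,4,4,1,5,1,4,1,4,1]), ([158,93], 181, [5,1,4,1,5,1,5,1,4,4,1,5,1,5,1,5,1,5,1,5]), ([356], 1755, [1,4,1,5,1,5,1,5,1,4,1,4,1,4,1,4,1,4,1,5,1])], []⟩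
def c2599 : Clm := ⟨10, 13, true, [4,1,4,1,4,1,4,1,4,4,1,5,1,4,4,1,7,11,13,9], [4,1,4,4,1,5,1,4,1,4,1,9], 5, [([], 2598, [])], []⟩
def c2600 : Clm := ⟨13, 8, true, [1,5,1,5,1,4,1,4,4,1,4,1,4,1,4,9], [4,1,4,1,4,1,5,1,4,4,1,4,1,4,1,4,2,4,1,6,4], 11, [([], 2489, [1,5,1,5,1,4,1,4,4,1,4,1,4,1,4]), ([92,92,158,88], 2205, [4,1,4,4,1,4,4,1,4,1,4,1,5,1,5,1,4,1,5,1,4,1,5]), ([2688,2840,2688], 1431, [4,4,1,4,4,1,4,4,1,5,1,5,1,4,1,5])], []⟩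
def c2601 : Clm := ⟨8, 13, true, [4,1,4,1,4,1,5,1,4,4,1,4,1,4,1,4,2,4,1,6,4], [1,5,1,5,1,4,1,4,4,1,4,1,4,1,4,9], 5, [([], 2600, [])], []⟩
def c2602 : Clm := ⟨13, 5, true, [1,4,1,5,1,4,1,4,4,1,5,1,4,1,5,1,5,1,5,1,5,1,5,9,9,14,11], [1,5,1,5,1,4,1,4,4,1,4,1,5,1,4,1,4,4,1,5,1,5,6,3,4,3], 9, [([5078], 2534, [1,4,1,4,1,4,1,4,1,4,1,4,1,5,1,4,1,4,4,1,5,1]), ([5139], 2489, [1,4,4,1,4,1,4]), ([88,92,88], 85, [4,1,4,1,5,1,4,1,4,4,1,5,1,5,1,5,1,5,1,4,1])], []⟩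
def c2603 : Clm := ⟨5, 13, true, [1,5,1,5,1,4,1,4,4,1,4,1,5,1,4,1,4,4,1,5,1,5,6,3,4,3], [1,4,1,5,1,4,1,4,4,1,5,1,4,1,5,1,5,1,5,1,5,1,5,9,9,14,11], 5, [([], 2602, [])], []⟩
def c2604 : Clm := ⟨13, 10, true, [4,4,1,5,1,5,1,4,1,5,1,4,1,9], [1,4,1,4,1,4,4,1,4,1,4,4,1,4,1,4,1,4,1,4,1,4,4,12,8,14], 11, [([], 2489, [4,4,1,5,1,5,1,4,1,5,1,4,1]), ([88,92], 1842, [1,4,1,4,1,4,4,1,5,1,4,4,1,4,4,1,4,1,4,1,4,4,1]), ([2688], 1966, [1,5,1,5,1,5,1,5,1,5,1,4,1,4,4,1,5,1,4,1])], []⟩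
def c2605 : Clm := ⟨10, 13, true, [1,4,1,4,1,4,4,1,4,1,4,4,1,4,1,4,1,4,1,4,1,4,4,12,8,14], [4,4,1,5,1,5,1,4,1,5,1,4,1,9], 5, [([], 2604, [])], []⟩
def c2606 : Clm := ⟨13, 10, true, [4,1,4,1,4,4,1,4,4,1,4,1,4,1,4,9], [1,4,4,1,4,1,4,4,1,5,1,5,1,5,2,9,10,14], 11, [([], 2489, [4,1,4,1,4,4,1,4,4,1,4,1,4,1,4]), ([90,92], 48, [5,1,4,1,5,1,4,4,1,4,4,1,4,1,4,1,4,1]), ([92,90,88], 1721, [4,1,5,1,5,1,4,1,5,1,5,1,4,1,4,1,4])], []⟩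
def c2607 : Clm := ⟨10, 13, true, [1,4,4,1,4,1,4,4,1,5,1,5,1,5,2,9,10,14], [4,1,4,1,4,4,1,4,4,1,4,1,4,1,4,9], 5, [([], 2606, [])], []⟩
def c2608 : Clm := ⟨13, 9, true, [4,4,1,5,1,5,1,5,1,4,1,4,1,4,9], [4,1,5,1,5,1,5,1,4,4,1,5,1,4,1,4,1,3,8,11,3], 11, [([], 2489, [4,4,1,5,1,5,1,5,1,4,1,4,1,4]), ([92,92,158,88], 275, [1,5,1,4,4,1,5,1,5,1,5,1,5,1,4,1,4,1,4,4,1]), ([356], 1152, [1,4,1,4,1,5,1,4,1,4,4,1,4,1,4,1,4,1,4,4,1,5,1])], []⟩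
def c2609 : Clm := ⟨9, 13, true, [4,1,5,1,5,1,5,1,4,4,1,5,1,4,1,4,1,3,8,11,3], [4,4,1,5,1,5,1,5,1,4,1,4,1,4,9], 5, [([], 2608, [])], []⟩
def c2610 : Clm := ⟨13, 8, true, [5,1,5,1,4,1,5,1,4,1,4,9], [5,1,4,1,4,4,1,4,1,4,4,1,5,1,5,1,5,1,5,6,14,6], 11, [([], 2489, [5,1,5,1,4,1,5,1,4,1,4]), ([93,158,90], 1363, [5,1,4,1,5,1,4,4,1,4,4,1,4,4,1,4,4]), ([2840], 2316, [1,4,4,1,4,1,4,4,1,4,1,5,1,5,1,4,4,1,4,4,1])], []⟩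
def c2611 : Clm := ⟨8, 13, true, [5,1,4,1,4,4,1,4,1,4,4,1,5,1,5,1,5,1,5,6,14,6], [5,1,5,1,4,1,5,1,4,1,4,9], 5, [([], 2610, [])], []⟩
def c2612 : Clm := ⟨13, 8, true, [5,1,4,4,1,5,1,4,9], [5,1,5,1,4,4,1,5,1,5,1,4,1,4,1,4,1,4,4,2,11,11,7], 11, [([], 2489, [5,1,4,4,1,5,1,4]), ([93], 375, [1,5,1,4,1,4,4,1,4,1,4,1,5,1,4,4]), ([356], 576, [5,1,5,1,4,1,4,4,1,4,1,4,4,1,5,1,5,1])], []⟩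
def c2613 : Clm := ⟨8, 13, true, [5,1,5,1,4,4,1,5,1,5,1,4,1,4,1,4,1,4,4,2,11,11,7], [5,1,4,4,1,5,1,4,9], 5, [([], 2612, [])], []⟩
def c2614 : Clm := ⟨13, 8, true, [1,4,1,5,1,5,1,9], [1,4,1,4,1,5,1,4,1,4,1,5,1,5,1,4,1,4,1,4,4,1,5,2,1,10,3], 11, [([], 2489, [1,4,1,5,1,5,1]), ([158,92,90], 102, [1,5,1,4,4,1,4,4,1,5,1,5,1,5,1,4,4,1,5]), ([93,158,88], 626, [1,4,4,1,5,1,4,1,4,4,1,5,1,5,1,4,4,1,4,1,5,1])], []⟩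
def c2615 : Clm := ⟨8, 13, true, [1,4,1,4,1,5,1,4,1,4,1,5,1,5,1,4,1,4,1,4,4,1,5,2,1,10,3], [1,4,1,5,1,5,1,9], 5, [([], 2614, [])], []⟩
def c2616 : Clm := ⟨13, 8, true, [5,1,5,1,4,4,1,5,1,5,1,9], [1,4,1,4,1,4,1,4,4,1,4,4,1,5,1,5,1,4,4,1,4,2,8,10,3,8], 11, [([], 2489, [5,1,5,1,4,4,1,5,1,5,1]), ([90,92], 1058, [5,1,5,1,4,1,5,1,4,4,1,4,4,1,5,1,5,1,4]), ([2114,2004], 1047, [4,1,4,1,4,1,4,1,4,1,4,4,1,4,4,1,4,1,4,1,5])], []⟩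
def c2617 : Clm := ⟨8, 13, true, [1,4,1,4,1,4,1,4,4,1,4,4,1,5,1,5,1,4,4,1,4,2,8,10,3,8], [5,1,5,1,4,4,1,5,1,5,1,9], 5, [([], 2616, [])], []⟩
def c2618 : Clm := ⟨13, 10, true, [5,1,4,1,4,4,1,4,1,4,1,4,9], [1,4,1,4,1,5,1,4,1,4,1,5,1,4,4,1,4,1,4,1,4,4,6,1,13,9], 11, [([], 2489, [5,1,4,1,4,4,1,4,1,4,1,4]), ([88,92,88], 1790, [1,4,4,1,4,1,5,1,4,4,1,4,4,1,4,4,1,4,1]), ([2840,2688], 2029, [1,4,1,4,4,1,5,1,5,1,4,1,4,1,5,1,5,1,5,1,4,4])], []⟩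
def c2619 : Clm := ⟨10, 13, true, [1,4,1,4,1,5,1,4,1,4,1,5,1,4,4,1,4,1,4,1,4,4,6,1,13,9], [5,1,4,1,4,4,1,4,1,4,1,4,9], 5, [([], 2618, [])], []⟩
def c2620 : Clm := ⟨13, 10, true, [4,1,4,1,4,1,4,1,5,1,4,9], [1,5,1,4,1,5,1,4,4,1,4,1,4,1,5,1,5,1,4,6,2,5,6], 11, [([], 2489, [4,1,4,1,4,1,4,1,5,1,4]), ([92], 493, [1,5,1,5,1,4,4,1,5,1,5,1,4,4,1,4,1,5]), ([], 1710, [1,4,1,5,1,4,1,4,1,4,4,1,5,1,4,1,4,1])], []⟩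
def c2621 : Clm := ⟨10, 13, true, [1,5,1,4,1,5,1,4,4,1,4,1,4,1,5,1,5,1,4,6,2,5,6], [4,1,4,1,4,1,4,1,5,1,4,9], 5, [([], 2620, [])], []⟩
def c2622 : Clm := ⟨13, 9, true, [4,1,4,4,1,5,1,4,4,1,5,1,9], [4,1,5,1,5,1,4,1,4,1,4,4,1,5,1,4,1,4,1,7,8,2,1], 11, [([], 2489, [4,1,4,4,1,5,1,4,4,1,5,1]), ([158,92,92], 1936, [4,4,1,5,1,4,4,1,4,1,4,1,5,1,4,4,1,5,1,4]), ([2688], 1899, [5,1,4,4,1,4,1,5,1,5,1,5,1,5,1,4,4,1,4])], []⟩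
def c2623 : Clm := ⟨9, 13, true, [4,1,5,1,5,1,4,1,4,1,4,4,1,5,1,4,1,4,1,7,8,2,1], [4,1,4,4,1,5,1,4,4,1,5,1,9], 5, [([], 2622, [])], []⟩
def c2624 : Clm := ⟨13, 10, true, [1,4,4,1,5,1,5,1,5,1,5,1,9], [1,4,4,1,4,1,4,1,4,1,5,1,5,1,4,1,4,1,4,4,1,5,2,5,7,13], 11, [([], 2489, [1,4,4,1,5,1,5,1,5,1,5,1]), ([90,92,88], 1032, [1,4,1,5,1,4,4,1,4,1,4,1,5,1,4,4,1,5,1,4]), ([2196,2004], 1944, [1,4,1,5,1,5,1,5,1,4,1,4,1,4,4,1,4,4,1,5,1,4,1])], []⟩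
def c2625 : Clm := ⟨10, 13, true, [1,4,4,1,4,1,4,1,4,1,5,1,5,1,4,1,4,1,4,4,1,5,2,5,7,13], [1,4,4,1,5,1,5,1,5,1,5,1,9], 5, [([], 2624, [])], []⟩
def c2626 : Clm := ⟨13, 9, true, [1,4,1,4,1,5,1,4,4,1,4,1,9], [1,4,4,1,5,1,4,1,4,1,4,1,4,1,5,1,4,4,1,5,1,5,6,3,14,12], 11, [([], 2489, [1,4,1,4,1,5,1,4,4,1,4,1]), ([], 1775, [4,1,5,1,4,1,4,1,4,4,1,4,1,4,4,1]), ([2688,2840], 1968, [4,4,1,5,1,4,1,4,1,4,1,4,1,5,1,4,1,5])], []⟩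
def c2627 : Clm := ⟨9, 13, true, [1,4,4,1,5,1,4,1,4,1,4,1,4,1,5,1,4,4,1,5,1,5,6,3,14,12], [1,4,1,4,1,5,1,4,4,1,4,1,9], 5, [([], 2626, [])], []⟩
def c2628 : Clm := ⟨13, 9, true, [1,4,1,5,1,4,1,4,4,1,4,1,4,1,9], [1,4,1,4,1,4,4,1,4,4,1,5,1,4,4,1,4,1,4,3,8,3,14], 11, [([], 2489, [1,4,1,5,1,4,1,4,4,1,4,1,4,1]), ([88], 330, [1,4,1,4,1,4,1,4,1,4,1,4,1,4,1,4,1,4,4,1]), ([356], 1028, [1,4,4,1,4,1,4,1,4,1,4,1,4,1,5,1,4])], []⟩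
def c2629 : Clm := ⟨9, 13, true, [1,4,1,4,1,4,4,1,4,4,1,5,1,4,4,1,4,1,4,3,8,3,14], [1,4,1,5,1,4,1,4,4,1,4,1,4,1,9], 5, [([], 2628, [])], []⟩
def c2630 : Clm := ⟨13, 8, true, [1,5,1,4,1,4,4,1,5,1,4,4,1,4,1,9], [4,1,4,4,1,4,4,1,5,1,5,1,5,1,4,4,3,8,2,12], 11, [([], 2489, [1,5,1,4,1,4,4,1,5,1,4,4,1,4,1]), ([92], 1383, [4,1,4,1,5,1,4,4,1,4,1,5,1,5,1]), ([2840,2688], 2324, [1,4,4,1,4,1,4,1,5,1,5,1,4,1,4,1,4,4,1,5,1,4,1])], []⟩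
def c2631 : Clm := ⟨8, 13, true, [4,1,4,4,1,4,4,1,5,1,5,1,5,1,4,4,3,8,2,12], [1,5,1,4,1,4,4,1,5,1,4,4,1,4,1,9], 5, [([], 2630, [])], []⟩
def c2632 : Clm := ⟨13, 12, true, [1,5,1,5,1,5,1,5,1,4,1,4,1,9], [4,1,4,1,4,4,1,4,1,5,1,4,1,4,1,2,11,7,9], 11, [([], 2489, [1,5,1,5,1,5,1,5,1,4,1,4,1]), ([158,92], 1373, [5,1,5,1,5,1,5,1,4,4,1,4,1,4,1]), ([2840], 2442, [1,5,1,4,1,5,1,5,1,4,4,1,5,1,5,1,4,1,5,1,4])], []⟩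
def c2633 : Clm := ⟨12, 13, true, [4,1,4,1,4,4,1,4,1,5,1,4,1,4,1,2,11,7,9], [1,5,1,5,1,5,1,5,1,4,1,4,1,9], 5, [([], 2632, [])], []⟩
def c2634 : Clm := ⟨13, 10, true, [1,4,1,4,1,5,1,5,1,5,1,5,1,4,9], [1,4,4,1,4,1,4,1,4,1,4,1,8,14,2,4], 11, [([], 2489, [1,4,1,4,1,5,1,5,1,5,1,5,1,4]), ([92,158,90], 1070, [4,4,1,5,1,4,1,4,4,1,5,1,4,4,1,5]), ([2114,2004], 1643, [1,4,1,4,1,4,1,4,1,4,1,4,1,4,1,4,4,1,5,1,5])], []⟩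
def c2635 : Clm := ⟨10, 13, true, [1,4,4,1,4,1,4,1,4,1,4,1,8,14,2,4], [1,4,1,4,1,5,1,5,1,5,1,5,1,4,9], 5, [([], 2634, [])], []⟩
def c2636 : Clm := ⟨13, 13, true, [4,1,4,4,1,4,1,4,1,4,1,4,1,9], [5,1,4,1,5,1,4,1,4,1,4,1,4,1,5,1,5,1,5,1,7,11], 11, [([], 2489, [4,1,4,4,1,4,1,4,1,4,1,4,1]), ([92,92], 87, [1,4,4,1,5,1,5,1,5,1,5,1,4,1,4,1,5,1,4,1,5]), ([158,92], 2494, [5,1,5,1,4,1,4,4,1,4,1,4,4,1,4,1,5,1,5,1,4,1])], []⟩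
def c2637 : Clm := ⟨13, 8, true, [1,5,1,4,1,4,4,1,4,4,1,4,1,9], [1,5,1,4,1,4,1,4,4,1,5,1,4,4,1,3,8,7,12], 11, [([], 2489, [1,5,1,4,1,4,4,1,4,4,1,4,1]), ([92,92,158], 713, [1,4,1,4,1,5,1,4,4,1,4,4,1,4,4,1,4,4,1,4,1]), ([357], 262, [1,4,1,4,1,4,1,4,1,4,1,4,4,1,4,4,1,4,1,4,4,1])], []⟩
def c2638 : Clm := ⟨8, 13, true, [1,5,1,4,1,4,1,4,4,1,5,1,4,4,1,3,8,7,12], [1,5,1,4,1,4,4,1,4,4,1,4,1,9], 5, [([], 2637, [])], []⟩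
def c2639 : Clm := ⟨13, 13, true, [1,4,1,5,1,4,1,4,4,1,5,1,9], [4,1,5,1,5,1,4,4,1,4,4,1,5,1,5,1,4,1,4,4,1,4,4,6,3,12,6], 11, [([], 2489, [1,4,1,5,1,4,1,4,4,1,5,1]), ([92,158,90,88], 713, [4,1,5,1,4,1,4,1,4,4,1,4,4,1,4,1,4,4,1,5]), ([], 2550, [4,1,4,4,1,4,1,4,1,4,4,1,4,4,1,4,1,5,1,4])], []⟩
def c2640 : Clm := ⟨13, 13, true, [1,4,1,5,1,5,1,4,1,4,1,9], [5,1,4,1,4,1,5,1,4,1,4,4,1,4,4,1,2,8,13,6], 11, [([], 2489, [1,4,1,5,1,5,1,4,1,4,1]), ([90,92,88], 291, [1,5,1,5,1,4,1,4,1,4,1,4,4,1,5,1,5,1,5]), ([357], 2610, [4,1,5,1,4,1,4,1,4,4,1,4,1,4,1,5,1,4,4,1,4])], []⟩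
def c2641 : Clm := ⟨13, 13, true, [5,1,4,1,4,1,5,1,4,1,4,4,1,4,4,1,2,8,13,6], [1,4,1,5,1,5,1,4,1,4,1,9], 5, [([], 2640, [])], []⟩
def c2642 : Clm := ⟨13, 8, true, [5,1,4,1,4,4,1,4,1,4,4,1,9], [5,1,4,1,5,1,5,1,4,1,4,1,4,1,4,4,1,4,1,4,4,1,9,5,8,11], 11, [([], 2489, [5,1,4,1,4,4,1,4,1,4,4,1]), ([158,88], 285, [5,1,4,4,1,5,1,4,1,5,1,4,1,5,1,4,1,5]), ([357], 966, [5,1,4,1,5,1,4,1,5,1,4,1,5,1,5,1,4,4,1,5,1])], []⟩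
def c2643 : Clm := ⟨8, 13, true, [5,1,4,1,5,1,5,1,4,1,4,1,4,1,4,4,1,4,1,4,4,1,9,5,8,11], [5,1,4,1,4,4,1,4,1,4,4,1,9], 5, [([], 2642, [])], []⟩
def c2644 : Clm := ⟨13, 5, true, [4,4,1,4,1,4,1,5,1,4,4,1,4,1,4,4,1,5,3,4,8,4], [1,4,4,1,4,1,4,1,4,1,5,1,4,1,5,1,4,1,4,8,2,8,8], 11, [([], 2545, [1,4,4,1,4,4,1,4,1,4,1,4,4,1,4,1,4,1]), ([356], 2527, [1,5,1,4,1,5,1,4,4,1,4,4,1,5,1,5,1,5]), ([5120], 2489, [5,1,5,1,5,1,4,1,4,1,4,1,4,1])], []⟩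
def c2645 : Clm := ⟨5, 13, true, [1,4,4,1,4,1,4,1,4,1,5,1,4,1,5,1,4,1,4,8,2,8,8], [4,4,1,4,1,4,1,5,1,4,4,1,4,1,4,4,1,5,3,4,8,4], 5, [([], 2644, [])], []⟩
def c2646 : Clm := ⟨13, 13, true, [4,1,4,1,4,4,1,4,1,4,4,1,9], [1,5,1,5,1,4,1,4,1,4,4,1,4,1,4,1,4,1,4,4,6,3,9,6], 11, [([], 2489, [4,1,4,1,4,4,1,4,1,4,4,1]), ([88,92], 104, [4,1,4,1,4,4,1,4,1,4,1,5,1,5,1,4,1,4,4,1,4]), ([158,93], 2644, [1,4,1,5,1,5,1,4,4,1,5,1,5,1,4,1,5,1,5])], []⟩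
def c2647 : Clm := ⟨13, 13, true, [1,5,1,5,1,4,1,4,1,4,4,1,4,1,4,1,4,1,4,4,6,3,9,6], [4,1,4,1,4,4,1,4,1,4,4,1,9], 5, [([], 2646, [])], []⟩
def c2648 : Clm := ⟨13, 8, true, [4,1,5,1,4,4,1,4,4,1,4,1,4,9], [1,5,1,5,1,4,1,4,1,4,4,1,4,4,1,4,1,5,1,5,1,5,2,5,13,11], 11, [([], 2489, [4,1,5,1,4,4,1,4,4,1,4,1,4]), ([90], 346, [1,5,1,5,1,5,1,4,1,5,1,4,4,1,5,1,4,4,1,5,1,4]), ([], 897, [1,4,1,4,1,4,1,5,1,4,4,1,4,1,5,1,4,1,5])], []⟩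
def c2649 : Clm := ⟨8, 13, true, [1,5,1,5,1,4,1,4,1,4,4,1,4,4,1,4,1,5,1,5,1,5,2,5,13,11], [4,1,5,1,4,4,1,4,4,1,4,1,4,9], 5, [([], 2648, [])], []⟩
def c2650 : Clm := ⟨13, 13, true, [4,4,1,5,1,4,4,1,5,1,5,1,9], [4,4,1,4,1,4,1,5,1,4,1,4,4,1,5,1,4,1,5,1,4,3,4,13,11], 11, [([], 2489, [4,4,1,5,1,4,4,1,5,1,5,1]), ([88,92], 249, [1,5,1,5,1,4,1,5,1,4,1,5,1,5,1,5,1,4,4]), ([357], 2521, [5,1,4,4,1,5,1,4,1,4,1,5,1,5,1,4,4,1,4,1,5])], []⟩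
def c2651 : Clm := ⟨13, 13, true, [4,4,1,4,1,4,1,5,1,4,1,4,4,1,5,1,4,1,5,1,4,3,4,13,11], [4,4,1,5,1,4,4,1,5,1,5,1,9], 5, [([], 2650, [])], []⟩
def c2652 : Clm := ⟨13, 8, true, [4,1,5,1,9], [1,5,1,5,1,4,1,4,1,4,4,1,4,1,4,4,1,4,4,1,4,2,5,9,2], 11, [([], 2489, [4,1,5,1]), ([92], 2494, [4,1,4,4,1,4,4,1,4,1,5,1,4,4,1,5]), ([5040,5138], 2615, [1,4,1,4,1,4,1,4,1,4,4,1,4,4,1,4,1,4,1,4,4])], []⟩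
def c2653 : Clm := ⟨8, 13, true, [1,5,1,5,1,4,1,4,1,4,4,1,4,1,4,4,1,4,4,1,4,2,5,9,2], [4,1,5,1,9], 5, [([], 2652, [])], []⟩
def c2654 : Clm := ⟨13, 10, true, [4,4,1,4,4,1,4,1,5,1,5,1,9], [4,1,4,1,5,1,5,1,5,1,4,4,1,5,1,4,1,4,1,5,3], 11, [([], 2489, [4,4,1,4,4,1,4,1,5,1,5,1]), ([92,90,88], 651, [1,5,1,4,1,4,4,1,5,1,4,1,5]), ([], 1765, [5,1,5,1,5,1,5,1,5,1,5,1,5,1,4,1,4,1])], []⟩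
def c2655 : Clm := ⟨10, 13, true, [4,1,4,1,5,1,5,1,5,1,4,4,1,5,1,4,1,4,1,5,3], [4,4,1,4,4,1,4,1,5,1,5,1,9], 5, [([], 2654, [])], []⟩
def c2656 : Clm := ⟨13, 5, true, [4,1,5,1,5,1,4,1,4,1,4,1,4,1,9], [1,4,4,1,5,1,4,1,5,1,5,1,5,1,5,1,5,1,5,1,4,4,2,4,4,9,4], 11, [([], 2489, [4,1,5,1,5,1,4,1,4,1,4,1,4,1]), ([90,92,88], 87, [4,1,4,4,1,4,4,1,5,1,5,1,4,1,4,1]), ([92,92], 106, [1,4,1,4,1,4,1,4,1,4,1,4,1,5,1,4,1,5,1,5,1,4])], []⟩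
def c2657 : Clm := ⟨5, 13, true, [1,4,4,1,5,1,4,1,5,1,5,1,5,1,5,1,5,1,5,1,4,4,2,4,4,9,4], [4,1,5,1,5,1,4,1,4,1,4,1,4,1,9], 5, [([], 2656, [])], []⟩
def c2658 : Clm := ⟨13, 8, true, [1,4,1,5,1,5,1,5,1,5,1,5,1,5,1,9], [1,5,1,5,1,4,4,1,4,4,1,4,4,1,5,1,4,4,1,5,1,5,1,9,5,9,11], 11, [([], 2489, [1,4,1,5,1,5,1,5,1,5,1,5,1,5,1]), ([88,93], 1141, [4,1,4,4,1,4,1,5,1,5,1,5,1,5,1,5,1,5,1,4]), ([2010,2004], 1155, [1,4,1,5,1,5,1,5,1,5,1,4,1,4,1,4])], []⟩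
def c2659 : Clm := ⟨8, 13, true, [1,5,1,5,1,4,4,1,4,4,1,4,4,1,5,1,4,4,1,5,1,5,1,9,5,9,11], [1,4,1,5,1,5,1,5,1,5,1,5,1,5,1,9], 5, [([], 2658, [])], []⟩
def c2660 : Clm := ⟨13, 8, true, [5,1,5,1,4,1,4,4,1,4,1,4,1,9], [1,5,1,5,1,4,1,4,1,4,1,4,1,5,1,5,7,1,10], 11, [([], 2489, [5,1,5,1,4,1,4,4,1,4,1,4,1]), ([158], 1280, [4,4,1,5,1,5,1,4,4,1,4,4,1,5,1,5,1,4]), ([], 1124, [1,4,4,1,4,4,1,5,1,4,4,1,4,4,1,5,1,4,4,1])], []⟩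
def c2661 : Clm := ⟨8, 13, true, [1,5,1,5,1,4,1,4,1,4,1,4,1,5,1,5,7,1,10], [5,1,5,1,4,1,4,4,1,4,1,4,1,9], 5, [([], 2660, [])], []⟩
def c2662 : Clm := ⟨13, 8, true, [1,4,1,4,1,4,1,4,1,4,1,5,1,5,1,9], [4,1,5,1,4,4,1,4,4,1,4,4,1,4,4,1,4,1,5,1,5,1,4,7,13,1,11], 11, [([], 2489, [1,4,1,4,1,4,1,4,1,4,1,5,1,5,1]), ([92,158], 1280, [4,1,5,1,4,1,5,1,4,4,1,5,1,4,1,4,1,4]), ([2010,2004], 1161, [4,4,1,5,1,5,1,4,4,1])], []⟩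
def c2663 : Clm := ⟨8, 13, true, [4,1,5,1,4,4,1,4,4,1,4,4,1,4,4,1,4,1,5,1,5,1,4,7,13,1,11], [1,4,1,4,1,4,1,4,1,4,1,5,1,5,1,9], 5, [([], 2662, [])], []⟩
def c2664 : Clm := ⟨13, 12, true, [1,4,1,4,1,4,1,5,1,5,1,9], [4,4,1,5,1,5,1,4,1,4,4,1,4,4,1,4,1,3,4,1,9], 11, [([], 2489, [1,4,1,4,1,4,1,5,1,5,1]), ([158,93], 528, [4,1,5,1,4,4,1,5,1,5,1,4,1,5,1,4,1,5,1,5]), ([], 2460, [1,4,4,1,4,1,4,4,1,5,1,4,1,5,1,4,1,5,1,5])], []⟩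
def c2665 : Clm := ⟨12, 13, true, [4,4,1,5,1,5,1,4,1,4,4,1,4,4,1,4,1,3,4,1,9], [1,4,1,4,1,4,1,5,1,5,1,9], 5, [([], 2664, [])], []⟩
def c2666 : Clm := ⟨13, 10, true, [4,1,5,1,4,4,1,9], [5,1,4,1,4,4,1,5,1,5,1,4,4,1,4,1,4,4,7,1,12,7], 11, [([], 2489, [4,1,5,1,4,4,1]), ([158,93,90], 320, [1,4,1,5,1,4,1,4,1,4,4,1,5,1,4,1,5,1,4,1,4,1]), ([], 2056, [1,4,4,1,5,1,4,1,4,4,1,4,4,1,4,1,4,4])], []⟩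
def c2667 : Clm := ⟨10, 13, true, [5,1,4,1,4,4,1,5,1,5,1,4,4,1,4,1,4,4,7,1,12,7], [4,1,5,1,4,4,1,9], 5, [([], 2666, [])], []⟩
def c2668 : Clm := ⟨13, 13, true, [1,5,1,5,1,5,1,9], [5,1,4,4,1,4,1,4,1,5,1,5,1,4,4,1,4,4,13,11,14], 11, [([], 2489, [1,5,1,5,1,5,1]), ([158,93,90], 289, [5,1,4,1,4,1,5,1,5,1,4,4,1,5,1,4,4,1,5]), ([357], 2572, [5,1,4,1,4,4,1,4,1,4,1,5,1,4,1,4,4,1,5])], []⟩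
def c2669 : Clm := ⟨13, 12, true, [4,1,5,1,4,1,4,4,1,5,1,9], [1,5,1,4,1,5,1,5,1,4,4,1,5,1,4,1,4,1,3,8,10,10], 11, [([], 2489, [4,1,5,1,4,1,4,4,1,5,1]), ([93,158,88], 536, [5,1,4,1,5,1,4,1,4,1,5,1,5,1,4,1,5]), ([], 2426, [1,5,1,4,1,5,1,4,1,5,1,5,1,4,1,4,4,1,5])], []⟩
def c2670 : Clm := ⟨12, 13, true, [1,5,1,4,1,5,1,5,1,4,4,1,5,1,4,1,4,1,3,8,10,10], [4,1,5,1,4,1,4,4,1,5,1,9], 5, [([], 2669, [])], []⟩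
def c2671 : Clm := ⟨13, 10, true, [1,4,4,1,4,4,1,4,9], [1,5,1,5,1,4,4,1,5,1,4,1,5,1,5,1,4,4,1,5,1,4,8,11,9], 11, [([], 2489, [1,4,4,1,4,4,1,4]), ([92,92,90,88], 528, [1,4,4,1,4,1,4,4,1,4,4,1,4,1]), ([], 1338, [1,4,1,5,1,5,1,5,1,4,1,4,1,4,4,1,4,4,1,5,1])], []⟩
def c2672 : Clm := ⟨10, 13, true, [1,5,1,5,1,4,4,1,5,1,4,1,5,1,5,1,4,4,1,5,1,4,8,11,9], [1,4,4,1,4,4,1,4,9], 5, [([], 2671, [])], []⟩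
def c2673 : Clm := ⟨13, 8, true, [1,4,1,5,1,4,1,4,1,4,4,1,4,1,4,4,1,9], [5,1,5,1,4,4,1,5,1,5,1,4,1,4,4,1,5,1,7,11,3,12], 11, [([], 2489, [1,4,1,5,1,4,1,4,1,4,4,1,4,1,4,4,1]), ([88,92], 2490, [1,4,1,4,1,4,1,4,1,4,1,5,1,4,1,4,4,1,4,1,4,1]), ([4982], 2613, [4,1,5,1,4,4,1,4,1,5,1,4,1,5,1,4,1,4,1,4,4])], []⟩
def c2674 : Clm := ⟨8, 13, true, [5,1,5,1,4,4,1,5,1,5,1,4,1,4,4,1,5,1,7,11,3,12], [1,4,1,5,1,4,1,4,1,4,4,1,4,1,4,4,1,9], 5, [([], 2673, [])], []⟩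
def c2675 : Clm := ⟨13, 13, true, [4,4,1,5,1,5,1,4,1,4,1,4,9], [1,4,4,1,5,1,5,1,4,1,4,1,4,1,4,1,5,1,5,6,1,7,11], 11, [([], 2489, [4,4,1,5,1,5,1,4,1,4,1,4]), ([90,93], 1379, [1,4,1,5,1,4,1,5,1,4,1,4,1,4,4,1,4,1]), ([2688,2840], 2671, [4,1,5,1,5,1,4,1,4,1,4,1,4,1,4,1,4,4])], []⟩
def c2676 : Clm := ⟨13, 13, true, [1,4,4,1,5,1,5,1,4,1,4,1,4,1,4,1,5,1,5,6,1,7,11], [4,4,1,5,1,5,1,4,1,4,1,4,9], 5, [([], 2675, [])], []⟩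
def c2677 : Clm := ⟨13, 8, true, [4,1,4,1,4,4,1,4,4,1,4,4,1,5,1,9], [1,4,1,4,1,4,1,5,1,4,1,5,1,4,6,8,3], 11, [([], 2489, [4,1,4,1,4,4,1,4,4,1,4,4,1,5,1]), ([88], 1432, [4,1,4,1,4,4,1,4,1,5,1,4,1,5,1,5,1,4,4,1]), ([2688,2840], 1933, [1,5,1,4,1,4,4,1,5,1,4,4,1,4,1,4,1,4,1,4])], []⟩
def c2678 : Clm := ⟨8, 13, true, [1,4,1,4,1,4,1,5,1,4,1,5,1,4,6,8,3], [4,1,4,1,4,4,1,4,4,1,4,4,1,5,1,9], 5, [([], 2677, [])], []⟩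
def c2679 : Clm := ⟨13, 9, true, [1,4,1,4,1,4,1,5,1,9], [1,4,4,1,4,1,4,1,4,1,4,1,4,1,4,1,4,1,4,4,1,6,1,9,11], 11, [([], 2489, [1,4,1,4,1,4,1,5,1]), ([90,93], 1383, [4,1,4,4,1,5,1,5,1,5,1,5,1,5,1,4,1,4,4,1,4]), ([2688,2840], 2246, [1,4,1,5,1,4,1,5,1,5,1,4,1,4,4])], []⟩
def c2680 : Clm := ⟨9, 13, true, [1,4,4,1,4,1,4,1,4,1,4,1,4,1,4,1,4,1,4,4,1,6,1,9,11], [1,4,1,4,1,4,1,5,1,9], 5, [([], 2679, [])], []⟩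
def c2681 : Clm := ⟨13, 8, true, [5,1,4,1,4,4,1,4,4,1,9], [1,5,1,5,1,5,1,5,1,4,1,4,4,1,4,1,5,1,4,4,3,12,2,12], 11, [([], 2489, [5,1,4,1,4,4,1,4,4,1]), ([92,92,90,88], 2656, [4,1,4,1,4,1,4,1,5,1,5,1,5,1,4,4,1,4,4,1]), ([4982], 2551, [5,1,4,1,4,1,4,1,4,1,4,1,4,4,1,5,1,4,1,4,1,5])], []⟩
def c2682 : Clm := ⟨8, 13, true, [1,5,1,5,1,5,1,5,1,4,1,4,4,1,4,1,5,1,4,4,3,12,2,12], [5,1,4,1,4,4,1,4,4,1,9], 5, [([], 2681, [])], []⟩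
def c2683 : Clm := ⟨13, 8, true, [1,4,4,1,4,1,5,1,5,1,4,9], [1,5,1,4,4,1,4,1,4,1,4,4,1,5,1,4,1,4,4,1,4,7,8,8], 11, [([], 2489, [1,4,4,1,4,1,5,1,5,1,4]), ([158,88], 1721, [1,5,1,5,1,5,1,5,1,5,1,5,1,4,1,4,4,1,4,1]), ([2840,2688], 1766, [1,5,1,4,4,1,4,1,4,1,5,1,4,1,5,1,4,4,1,5])], []⟩
def c2684 : Clm := ⟨8, 13, true, [1,5,1,4,4,1,4,1,4,1,4,4,1,5,1,4,1,4,4,1,4,7,8,8], [1,4,4,1,4,1,5,1,5,1,4,9], 5, [([], 2683, [])], []⟩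
def c2685 : Clm := ⟨13, 13, true, [1,4,1,5,1,4,4,1,4,1,4,9], [1,5,1,4,4,1,4,3,14,10,9], 11, [([], 2489, [1,4,1,5,1,4,4,1,4,1,4]), ([92,92,90], 1432, [1,5,1,4,1,4,1,5,1,4]), ([2688], 2620, [4,1,4,1,4,4,1,5,1,5,1,4,1,4,1,4,1,4])], []⟩
def c2686 : Clm := ⟨13, 13, true, [1,5,1,4,4,1,4,3,14,10,9], [1,4,1,5,1,4,4,1,4,1,4,9], 5, [([], 2685, [])], []⟩
def c2687 : Clm := ⟨13, 8, true, [4,1,4,4,1,5,1,4,4,1,5,1,4,9], [1,4,1,5,1,4,4,1,4,1,5,1,4,1,4,4,1,4,4,8,2,8,2], 11, [([], 2489, [4,1,4,4,1,5,1,4,4,1,5,1,4]), ([90,92], 289, [4,4,1,5,1,4,1,4,1,5,1,5,1,4,1,4,1,4,1,4,4,1]), ([356], 331, [1,4,1,4,1,4,4,1,5,1,4,1,4,1,5,1,4,1,5,1])], []⟩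
def c2688 : Clm := ⟨8, 13, true, [1,4,1,5,1,4,4,1,4,1,5,1,4,1,4,4,1,4,4,8,2,8,2], [4,1,4,4,1,5,1,4,4,1,5,1,4,9], 5, [([], 2687, [])], []⟩
def c2689 : Clm := ⟨13, 8, true, [1,4,4,1,5,1,4,9], [4,1,5,1,5,1,4,1,4,4,1,5,1,5,1,5,1,5,1,5,2,10,13,1], 11, [([], 2489, [1,4,4,1,5,1,4]), ([93,158,88], 289, [1,4,4,1,4,1,4,1,4,1,5,1,4,4,1]), ([357], 590, [4,4,1,5,1,5,1,4,4,1,4,4,1,5,1,4,1,5,1,4,4])], []⟩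
def c2690 : Clm := ⟨8, 13, true, [4,1,5,1,5,1,4,1,4,4,1,5,1,5,1,5,1,5,1,5,2,10,13,1], [1,4,4,1,5,1,4,9], 5, [([], 2689, [])], []⟩
def c2691 : Clm := ⟨13, 8, true, [5,1,4,4,1,4,1,4,4,1,9], [4,1,5,1,5,1,4,4,1,4,1,5,1,5,1,5,1,5,2,11,4,14], 11, [([], 2489, [5,1,4,4,1,4,1,4,4,1]), ([158,92,92,88], 2656, [4,1,4,4,1,5,1,5,1,5,1,4,1,4,1,5,1,5,1,4,4]), ([4982], 2524, [5,1,4,1,4,1,4,4,1,4,4,1,4,1,5,1,4,1,4,4,1,4,4])], []⟩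
def c2692 : Clm := ⟨8, 13, true, [4,1,5,1,5,1,4,4,1,4,1,5,1,5,1,5,1,5,2,11,4,14], [5,1,4,4,1,4,1,4,4,1,9], 5, [([], 2691, [])], []⟩
def c2693 : Clm := ⟨13, 10, true, [5,1,4,4,1,5,1,9], [1,5,1,5,1,4,1,4,1,4,1,4,4,1,4,1,4,1,5,1,4,2,4,3,6], 11, [([], 2489, [5,1,4,4,1,5,1]), ([90,92], 2490, [4,4,1,4,1,4,4,1,5,1,4,4,1,4,1,5,1,4,1,4,1,4]), ([5139,5040,4982], 2635, [4,1,5,1,4,1,4,1,4,1,4,1,5,1,5,1,5,1,4,4])], []⟩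
def c2694 : Clm := ⟨10, 13, true, [1,5,1,5,1,4,1,4,1,4,1,4,4,1,4,1,4,1,5,1,4,2,4,3,6], [5,1,4,4,1,5,1,9], 5, [([], 2693, [])], []⟩
def c2695 : Clm := ⟨13, 13, true, [1,4,4,1,4,4,1,4,4,1,4,4,1,4,9], [1,5,1,4,4,1,4,4,1,4,1,4,1,5,1,5,1,4,4,1,4,2,1,5,13,1], 11, [([], 2489, [1,4,4,1,4,4,1,4,4,1,4,4,1,4]), ([92,158,88], 468, [4,1,4,4,1,4,4,1,5,1,4,1,5,1,4]), ([356], 2492, [5,1,5,1,5,1,4,1,4,4,1,4,4,1,4,4,1,4,4])], []⟩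
def c2696 : Clm := ⟨13, 13, true, [1,5,1,4,4,1,4,4,1,4,1,4,1,5,1,5,1,4,4,1,4,2,1,5,13,1], [1,4,4,1,4,4,1,4,4,1,4,4,1,4,9], 5, [([], 2695, [])], []⟩
def c2697 : Clm := ⟨13, 13, true, [1,4,1,5,1,4,1,5,1,4,1,9], [5,1,4,4,1,4,4,1,4,1,4,1,4,4,1,5,1,4,1,4,4,1,2,6,3,9], 11, [([], 2489, [1,4,1,5,1,4,1,5,1,4,1]), ([92,90], 304, [5,1,4,1,4,1,4,4,1,5,1,4,1,4,4,1,4,4,1,5]), ([356], 2535, [5,1,5,1,4,4,1,5,1,4,1,4,1,5,1,5])], []⟩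
def c2698 : Clm := ⟨13, 8, true, [4,4,1,9], [1,4,1,5,1,4,4,1,5,1,5,1,5,1,4,1,4,1,5,2,8,13,5], 11, [([], 2489, [4,4,1]), ([92,158,88], 1379, [1,4,4,1,4,4,1,5,1,5,1,4,1,4,1,5,1,5,1,5,1]), ([2688], 2260, [4,1,5,1,4,1,4,1,4,1,4,1,5,1,5])], []⟩
def c2699 : Clm := ⟨8, 13, true, [1,4,1,5,1,4,4,1,5,1,5,1,5,1,4,1,4,1,5,2,8,13,5], [4,4,1,9], 5, [([], 2698, [])], []⟩
def c2700 : Clm := ⟨13, 10, true, [1,5,1,5,1,4,1,4,1,9], [5,1,4,4,1,4,4,1,5,1,5,1,4,4,1,5,1,5,1,4,3,7,11,7,11], 11, [([], 2489, [1,5,1,5,1,4,1,4,1]), ([158,88], 128, [1,4,1,4,1,4,4,1,5,1,4,1,4,1,4,1,4,4,1,4,4]), ([230,226], 1832, [5,1,4,4,1,5,1,4,4,1,4,1,4,1,4,1,4,4,1,5,1])], []⟩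
def c2701 : Clm := ⟨10, 13, true, [5,1,4,4,1,4,4,1,5,1,5,1,4,4,1,5,1,5,1,4,3,7,11,7,11], [1,5,1,5,1,4,1,4,1,9], 5, [([], 2700, [])], []⟩
def c2702 : Clm := ⟨13, 8, true, [1,5,1,5,1,4,1,4,1,4,4,1,9], [5,1,4,1,5,1,5,1,5,1,5,1,5,1,4,1,4,1,9,1,9,6], 11, [([], 2489, [1,5,1,5,1,4,1,4,1,4,4,1]), ([158], 2644, [4,1,4,1,4,4,1,5,1,4,4,1,5,1,4,4,1]), ([5139,5078], 2551, [1,5,1,4,1,5,1,4,4])], []⟩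
def c2703 : Clm := ⟨8, 13, true, [5,1,4,1,5,1,5,1,5,1,5,1,5,1,4,1,4,1,9,1,9,6], [1,5,1,5,1,4,1,4,1,4,4,1,9], 5, [([], 2702, [])], []⟩
def c2704 : Clm := ⟨13, 13, true, [4,4,1,4,4,1,4,1,5,1,4,1,9], [1,4,1,4,1,4,4,1,4,4,1,5,1,4,1,4,1,5,9,1], 11, [([], 2489, [4,4,1,4,4,1,4,1,5,1,4,1]), ([88,92], 82, [1,5,1,5,1,4,4,1,5,1,5,1,4,1,4,1,4]), ([158,88], 2494, [4,1,4,1,5,1,4,4,1,4,1,5,1,5,1,4,4,1,4,1,4,1])], []⟩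
def c2705 : Clm := ⟨13, 10, true, [4,1,4,1,4,4,1,4,4,1,4,1,4,4,1,9], [4,4,1,4,1,5,1,4,4,1,4,4,1,5,1,5,1,5,1,4,3,4,6,9], 11, [([], 2489, [4,1,4,1,4,4,1,4,4,1,4,1,4,4,1]), ([158,92,90], 493, [1,5,1,4,4,1,5,1,4,1,4,4,1,4,1,5,1,4,1,5]), ([356], 1778, [4,1,4,1,5,1,4,1,5,1,4,4,1,4,4,1,5,1,5,1,5])], []⟩
def c2706 : Clm := ⟨10, 13, true, [4,4,1,4,1,5,1,4,4,1,4,4,1,5,1,5,1,5,1,4,3,4,6,9], [4,1,4,1,4,4,1,4,4,1,4,1,4,4,1,9], 5, [([], 2705, [])], []⟩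
def c2707 : Clm := ⟨13, 8, true, [1,4,4,1,4,1,4,1,4,1,4,4,1,4,4,1,9], [4,4,1,4,4,1,4,4,1,4,1,4,4,1,5,1,4,4,8,3,9,1], 11, [([], 2489, [1,4,4,1,4,1,4,1,4,1,4,4,1,4,4,1]), ([88,92], 1936, [1,4,4,1,4,4,1,4,1,5,1,4,4,1,5]), ([2840,2688], 2159, [1,5,1,4,1,4,4,1,5,1,4,1,5,1,5,1,5,1,5,1,4,1])], []⟩
def c2708 : Clm := ⟨8, 13, true, [4,4,1,4,4,1,4,4,1,4,1,4,4,1,5,1,4,4,8,3,9,1], [1,4,4,1,4,1,4,1,4,1,4,4,1,4,4,1,9], 5, [([], 2707, [])], []⟩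
def c2709 : Clm := ⟨13, 10, true, [4,4,1,5,1,4,1,4,1,4,9], [4,4,1,4,1,4,4,1,4,1,5,1,5,1,4,1,7,1,3], 11, [([], 2489, [4,4,1,5,1,4,1,4,1,4]), ([], 713, [4,4,1,5,1,4,1,4,1,5,1,5,1,4,1,4,4,1]), ([356], 1414, [4,1,5,1,5,1,4,1,4,4,1,4,1,4,1,5])], []⟩
def c2710 : Clm := ⟨10, 13, true, [4,4,1,4,1,4,4,1,4,1,5,1,5,1,4,1,7,1,3], [4,4,1,5,1,4,1,4,1,4,9], 5, [([], 2709, [])], []⟩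
def c2711 : Clm := ⟨13, 8, true, [4,4,1,4,4,1,10], [4,1,4,1,5,1,4,4,1,4,4,1,4,1,4,4,1,5,1,5,1,5,1,6,3,7,10], 9, [([], 2489, [4,4,1,4,4,1]), ([92,92,90], 285, [1,4,4,1,4,1,4,1,4,1,4,1,5,1,4,1,5,1,4,1,5]), ([357], 612, [1,4,1,4,4,1,4,1,5,1,4,1,5,1,5,1,5])], []⟩
def c2712 : Clm := ⟨8, 13, true, [4,1,4,1,5,1,4,4,1,4,4,1,4,1,4,4,1,5,1,5,1,5,1,6,3,7,10], [4,4,1,4,4,1,10], 5, [([], 2711, [])], []⟩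
def c2713 : Clm := ⟨13, 8, true, [5,1,5,1,4,4,1,5,1,5,1,4,10], [4,1,4,1,5,1,4,1,4,1,4,4,1,4,1,4,1,4,1,5,7,1,3,9], 9, [([], 2489, [5,1,5,1,4,4,1,5,1,5,1,4]), ([88], 291, [1,4,1,5,1,4,4,1,5,1,5,1,4,4,1,4,1,5,1]), ([357], 827, [4,4,1,5,1,4,1,4,1,5,1,5,1,4,4,1,5,1,5,1,5])], []⟩
def c2714 : Clm := ⟨8, 13, true, [4,1,4,1,5,1,4,1,4,1,4,4,1,4,1,4,1,4,1,5,7,1,3,9], [5,1,5,1,4,4,1,5,1,5,1,4,10], 5, [([], 2713, [])], []⟩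
def c2715 : Clm := ⟨8, 13, true, [5,1,4,1,4,4,1,5,1,4,4,1,5,1,4,1,4,1,4,6,10,9,11], [4,1,5,1,4,1,5,1,4,1,5,1,4,1,4,4,1,5,1,4,4,1,13,8,12,3], 11, [([], 2713, [1,4,1,5,1,4,4,1,5,1,5,1,4,1,4,4,1,4,4,1,4,1]), ([5138], 2489, [4,1,4,1,4,1,4,4,1,5,1,4,1,4]), ([90,93,88], 2602, [4,1,5,1,4,1,4,4,1,4,1,4,4,1,5,1,4,1,4,1,4,1])], []⟩
def c2716 : Clm := ⟨13, 8, true, [4,1,5,1,4,1,5,1,4,1,5,1,4,1,4,4,1,5,1,4,4,1,13,8,12,3], [5,1,4,1,4,4,1,5,1,4,4,1,5,1,4,1,4,1,4,6,10,9,11], 5, [([], 2715, [])], []⟩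
def c2717 : Clm := ⟨13, 13, true, [1,4,1,4,4,1,5,1,4,1,4,4,1,4,4,1,5,1,5,2,9,4], [1,5,1,4,1,5,1,4,4,1,4,1,4,4,1,4,4,3,8,13,11], 11, [([5138,4982], 2651, [4,4,1,4,1,4,4,1,5,1,4,1,4,4]), ([5138], 2489, [4,1,4,1,4,1,4,4,1,4,4]), ([], 2644, [5,1,5,1,4,1,5,1,4,1,4,1,4,1])], []⟩
def c2718 : Clm := ⟨13, 10, true, [5,1,4,1,4,4,1,4,1,4,1,4,1,10], [4,1,5,1,4,1,5,1,5,1,4,1,4,1,5,1,6,10,5], 9, [([], 2489, [5,1,4,1,4,4,1,4,1,4,1,4,1]), ([158,92,88], 505, [4,4,1,4,1,4,4,1,4,1,5,1,4,4,1,4,4,1,5,1,4,4]), ([356], 1336, [1,4,1,5,1,4,1,5,1,4,1,5,1])], []⟩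
def c2719 : Clm := ⟨10, 13, true, [4,1,5,1,4,1,5,1,5,1,4,1,4,1,5,1,6,10,5], [5,1,4,1,4,4,1,4,1,4,1,4,1,10], 5, [([], 2718, [])], []⟩
def c2720 : Clm := ⟨9, 13, true, [1,5,1,4,4,1,5,1,4,1,5,1,5,1,4,4,1,5,1,5,1,5,10,14,6,4], [1,5,1,5,1,5,1,4,4,1,4,1,4,1,4,1,5,1,4,1,9], 11, [([], 1138, [4,4,1,5,1,4,1,5,1,4,1,4,4]), ([357], 714, [5,1,4,1,5,1,5,1,5,1,5,1,4,1,4,1,4,4,1,4]), ([93,88], 2490, [4,4,1,4,1,5,1,4,4,1,5,1,5,1,4,1,4,1,4])], []⟩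
def c2721 : Clm := ⟨13, 9, true, [1,5,1,5,1,5,1,4,4,1,4,1,4,1,4,1,5,1,4,1,9], [1,5,1,4,4,1,5,1,4,1,5,1,5,1,4,4,1,5,1,5,1,5,10,14,6,4], 5, [([], 2720, [])], []⟩
def c2722 : Clm := ⟨10, 13, true, [1,4,1,4,1,4,4,1,5,1,5,1,4,4,1,4,4,1,4,1,5,3,9,5,10], [1,4,4,1,4,1,4,1,4,1,4,1,5,1,4,1,4,4,1,4,4,1,4,9], 11, [([], 2272, [1,4,1,4,4,1,4,1,4,4,1,4,1,5,1,5,1,4,4,1,4,4]), ([], 494, [4,1,5,1,4,1,5,1,4,1,4,4,1,4,1,4,1]), ([158], 2490, [1,4,1,4,1,4])], []⟩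
def c2723 : Clm := ⟨13, 10, true, [1,4,4,1,4,1,4,1,4,1,4,1,5,1,4,1,4,4,1,4,4,1,4,9], [1,4,1,4,1,4,4,1,5,1,5,1,4,4,1,4,4,1,4,1,5,3,9,5,10], 5, [([], 2722, [])], []⟩
def c2724 : Clm := ⟨11, 13, true, [4,4,1,4,4,1,5,1,5,1,4,1,4,1,4,1,4,1,4,4,1,8,3,4,10], [4,4,1,4,4,1,4,1,4,1,4,4,1,4,1,4,1,5,1,4,4,9], 11, [([], 2360, [1,4,1,4,4,1,4,4,1,4,1,4,4,1,4,1,5,1,5]), ([], 535, [4,4,1,5,1,4,1,5,1,5,1,5,1,5,1,4,4,1,5,1]), ([93,90,88], 2490, [5,1,5,1,5,1,5,1,4,1,4,1,4,1])], []⟩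
def c2725 : Clm := ⟨13, 11, true, [4,4,1,4,4,1,4,1,4,1,4,4,1,4,1,4,1,5,1,4,4,9], [4,4,1,4,4,1,5,1,5,1,4,1,4,1,4,1,4,1,4,4,1,8,3,4,10], 5, [([], 2724, [])], []⟩
def c2726 : Clm := ⟨11, 13, true, [1,4,1,5,1,4,4,1,5,1,4,1,4,1,5,6,3,14,9], [1,5,1,4,4,1,4,4,1,4,1,8], 9, [([], 2374, [4,4,1,4,1,5,1,4,4,1,4,4,1,4,4,1,4]), ([], 1293, [5,1,5,1,4,4,1,4,4,1,5,1,4,1,4,1,5,1,5,1,4]), ([93,90], 2490, [1,5,1,4,4,1,4,4,1,4,1])], []⟩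
def c2727 : Clm := ⟨13, 11, true, [1,5,1,4,4,1,4,4,1,4,1,8], [1,4,1,5,1,4,4,1,5,1,4,1,4,1,5,6,3,14,9], 5, [([], 2726, [])], []⟩
def c2728 : Clm := ⟨13, 13, true, [1,4,1,4,1,4,1,5,1,5,1,4,1,4,1,4,4,8,11,9], [1,4,1,5,1,5,1,4,1,4,4,1,5,1,5,1,5,1,5,1,5,1,5,2,9,3,11], 11, [([], 2530, [4,4,1,5,1,5,1,5,1,4,1,4,4,1,5,1,4]), ([356], 672, [1,4,1,4,1,4,4,1,5,1,4,1,4,1,4,1,4,4,1,5,1,4,4]), ([], 2492, [1,5,1,4,4,1,4,4,1,4])], []⟩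
def c2729 : Clm := ⟨10, 13, true, [5,1,5,1,5,1,4,1,4,1,5,1,5,1,4,4,1,4,1,5,3,6,1,7], [4,4,1,4,4,1,4,1,4,1,5,1,5,1,4,4,1,5,1,3,6,5,10], 11, [([], 1664, [5,1,4,1,4,4,1,5,1,4,1,4,1,5,1,5]), ([158,90], 626, [1,4,1,4,4,1,4,4,1,4,4,1,5,1,5,1,4,4,1]), ([357], 2492, [1,5,1,4,1])], []⟩
def c2730 : Clm := ⟨13, 10, true, [4,4,1,4,4,1,4,1,4,1,5,1,5,1,4,4,1,5,1,3,6,5,10], [5,1,5,1,5,1,4,1,4,1,5,1,5,1,4,4,1,4,1,5,3,6,1,7], 5, [([], 2729, [])], []⟩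
def c2731 : Clm := ⟨13, 13, true, [4,1,4,1,4,1,4,4,1,4,1,4,1,4,4,1,4,1,5,3,8,3,9], [4,4,1,5,1,5,1,5,3,4,14,9], 11, [([], 2667, [4,1,4,1,4,1,5,1,5,1,4,1,4,4,1,4,1,5]), ([2840,2688], 1424, [1,4,4,1,4,1,4,4,1,5,1,4,1,4,1,5,1,4,4,1,5,1,4]), ([356], 2492, [1,5,1,5,1,4,1,4,4,1,4,1,4,1])], []⟩
def c2732 : Clm := ⟨13, 13, true, [4,1,4,1,5,1,4,4,1,5,1,4,4,1,4,4,1,4,1,2,4,2,7,8], [4,4,1,5,1,4,1,4,1,5,1,5,1,4,1,3,7,5,10], 9, [([], 2703, [1,4,1,5,1,5,1,5,1,4,4,1,4,4,1,5,1,4]), ([357], 2492, [1,4,4,1,5,1,4,4,1,5,1]), ([5138], 2696, [1,4,1,5,1,5,1,4,4,1,4,1,5,1,4,1,4,4,1,5,1])], []⟩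
def c2733 : Clm := ⟨10, 13, true, [1,4,1,5,1,5,1,4,1,5,1,4,1,5,1,4,1,4,1,4,1,2,9,11,6], [4,1,4,1,4,4,1,4,1,4,4,1,4,4,1,4,4,1,2,1,14,9], 11, [([], 2061, [4,1,4,4,1,5,1,4,1,4,1,4,1,4,4,1]), ([], 946, [1,4,1,4,4,1,4,1,4,1,4,4,1,4,4,1,5,1]), ([356], 2492, [1,5,1,4,1,4,1,4,4,1,5,1])], []⟩
def c2734 : Clm := ⟨13, 10, true, [4,1,4,1,4,4,1,4,1,4,4,1,4,4,1,4,4,1,2,1,14,9], [1,4,1,5,1,5,1,4,1,5,1,4,1,5,1,4,1,4,1,4,1,2,9,11,6], 5, [([], 2733, [])], []⟩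
def c2735 : Clm := ⟨13, 13, true, [1,5,1,4,4,1,5,1,5,1,4,4,1,5,1,4,4,1,3,9,9,13], [1,5,1,4,4,1,4,1,4,1,5,1,5,1,4,1,4,1,4,1,4,8,3,4,10], 11, [([], 2545, [1,5,1,4,4,1,5,1,5,1,4,4,1,4,1,5,1]), ([], 793, [4,1,4,4,1,4,1,5,1,5,1,4,4,1,5,1,4,1,4]), ([], 2492, [4,1,4,1,5,1,5,1,4])], []⟩
def c2736 : Clm := ⟨9, 13, true, [1,5,1,5,1,5,1,5,1,4,1,4,4,1,5,1,5,1,4,1,4,4,1,2,4,12,9], [1,4,1,4,1,5,1,5,1,4,1,4,4,1,4,1,4,1,4,1,5,6,11], 11, [([], 1110, [1,4,1,5,1,4,4,1,5,1,4,1,5]), ([357], 775, [4,4,1,4,4,1,4,1,4,1,5,1,4,1,4,4,1,5]), ([356], 2492, [4,1,4,4,1,4])], []⟩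
def c2737 : Clm := ⟨13, 9, true, [1,4,1,4,1,5,1,5,1,4,1,4,4,1,4,1,4,1,4,1,5,6,11], [1,5,1,5,1,5,1,5,1,4,1,4,4,1,5,1,5,1,4,1,4,4,1,2,4,12,9], 5, [([], 2736, [])], []⟩
def c2738 : Clm := ⟨13, 13, true, [4,1,4,1,4,1,5,1,5,1,4,1,5,1,4,1,2,8,14], [4,4,1,5,1,5,1,4,4,1,4,4,1,5,1,4,1,6,10,5], 9, [([5138], 2676, [4,1,4,4,1,4,4,1,5,1,5,1,4,1,4,1,4,1,4]), ([5040,5138,4982], 2522, [1,4,1,5,1,5,1,4,4,1,5,1,5,1,4,1,5,1]), ([], 2492, [1,4,1,4,4,1,4,1,4,1,4,1])], []⟩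
def c2739 : Clm := ⟨12, 13, true, [4,4,1,5,1,5,1,4,1,4,1,4,4,1,4,4,1,2,11,6,2], [4,1,4,4,1,4,4,1,4,1,4,1,5,1,4,2,7,8,11], 9, [([], 2433, [4,1,5,1,4,1,5,1,4,4,1,5,1,5,1,4,4,1,4,4]), ([2688,2840], 2251, [1,5,1,4,4,1,4,1,4,4,1,4,1]), ([356], 2492, [4,4,1,4,1,4,1,4,1,5,1,4,4])], []⟩
def c2740 : Clm := ⟨13, 12, true, [4,1,4,4,1,4,4,1,4,1,4,1,5,1,4,2,7,8,11], [4,4,1,5,1,5,1,4,1,4,1,4,4,1,4,4,1,2,11,6,2], 5, [([], 2739, [])], []⟩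
def c2741 : Clm := ⟨13, 13, true, [1,4,4,1,4,4,1,4,4,1,5,1,4,4,1,4,1,9,5,2], [1,4,1,5,1,5,1,5,1,5,1,4,1,4,1,5,1,5,6,1,12,10], 9, [([5120,5138,4982], 2696, [1,5,1,5,1,4,1,4,1,4,1,4,1,4,1,4,1,4,1,4,1]), ([5120,5078,4982], 2493, [1,4,4,1,5,1,4,4,1,5,1]), ([356], 2681, [5,1,4,1,4,1,4,1,4,1,4,1,4,1,5,1,4])], []⟩
def c2742 : Clm := ⟨13, 10, true, [4,4,1,5,1,5,1,5,1,5,1,2,6,13,11], [5,1,5,1,5,1,5,1,4,1,4,1,5,1,4,1,4,1,3,10,10], 11, [([], 2493, [5,1,5,1,4,1,4,1,4,4,1]), ([357], 2616, [1,4,1,4,1,4,1,4,1,4,1,5,1,4,1,5,1]), ([5120,5138], 2497, [5,1,5,1,4,4,1,5,1,4,1,4,4,1,5,1,5,1,4,1])], []⟩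
def c2743 : Clm := ⟨10, 13, true, [5,1,5,1,5,1,5,1,4,1,4,1,5,1,4,1,4,1,3,10,10], [4,4,1,5,1,5,1,5,1,5,1,2,6,13,11], 5, [([], 2742, [])], []⟩
def c2744 : Clm := ⟨13, 13, true, [1,5,1,4,4,1,4,4,1,4,4,1,5,1,4,4,1,4,2,6,2,11], [1,4,4,1,5,1,4,4,1,4,1,4,1,5,1,4,1,4,4,2,6,2,11], 9, [([], 2493, [1,4,4,1,5,1,4,1,4,1,4,1,4,4]), ([357], 930, [1,5,1,4,1,4,1,5,1,5,1,4,1,5,1,5,1,4,4,1,5]), ([357], 2492, [1,4,4,1,4,4,1,4,1,4,1,5,1,5,1,4,1,5,1,5,1,4])], []⟩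
def c2745 : Clm := ⟨13, 13, true, [5,1,4,1,4,4,1,4,1,4,4,1,4,1,4,1,4,4,1,4,2,1,3], [1,4,4,1,4,1,4,4,1,4,4,1,5,1,4,1,4,4,1,5,2,1,3], 9, [([], 2493, [5,1,4,1,5,1,4,1]), ([356], 581, [1,5,1,5,1,5,1,4,1,4,1,4,1,4,1,4,1,4,1,4,4,1,5,1]), ([], 2492, [1,5,1,5,1,5,1,4,1,4,1,4,1,4,4,1,4,1,5,1,4,1,4])], []⟩
def c2746 : Clm := ⟨13, 13, true, [4,1,5,1,4,4,1,4,4,1,5,1,4,1,4,1,5,1,5,1,9], [1,5,1,4,4,1,5,1,5,1,4,1,4,1,5,1,5,1,2,6,3,11], 11, [([], 2489, [4,1,5,1,4,4,1,4,4,1,5,1,4,1,4,1,5,1,5,1]), ([90], 83, [1,4,1,4,1,4,1,5,1,4,4,1,4,1,4,1,4,4,1,4,1]), ([88,93], 2494, [4,1,5,1,4,4,1,4,1,4,4,1])], []⟩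
def c2747 : Clm := ⟨13, 13, true, [1,4,1,4,1,5,1,4,1,5,1,5,1,5,1,5,1,5,1,9], [1,4,1,4,4,1,5,1,5,1,5,1,4,4,1,5,1,5,1,5,1,2,6,3,11], 11, [([], 2489, [1,4,1,4,1,5,1,4,1,5,1,5,1,5,1,5,1,5,1]), ([], 78, [4,1,4,1,4,1,4,1,4,4,1,5,1,4,4,1,5,1,4,4]), ([93,90], 2494, [1,4,4,1,5,1,5,1,4,1,5,1,5,1,4,1,4,1,4,4,1])], []⟩
def c2748 : Clm := ⟨7, 13, true, [1,4,1,5,1,4,1,4,4,1,4,4,1,4,1,4,1,4,4,1,5,1,5,1,5,7,11,11,9], [5,1,4,4,1,4,4,1,5,1,4,4,1,4,1,5,1,4,1,8,1,6,11], 9, [([], 143, [1,4,1,4,1,4,1,4,1,5,1,4,1,5,1,4,1,4,1,5]), ([92,158], 2494, [5,1,4,4,1,4,4,1,5,1,4]), ([5138,5078,4982], 2647, [5,1,5,1,4,1,4,4,1,4,1,4,1,4,4,1,4])], []⟩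
def c2749 : Clm := ⟨13, 7, true, [5,1,4,4,1,4,4,1,5,1,4,4,1,4,1,5,1,4,1,8,1,6,11], [1,4,1,5,1,4,1,4,4,1,4,4,1,4,1,4,1,4,4,1,5,1,5,1,5,7,11,11,9], 5, [([], 2748, [])], []⟩
def c2750 : Clm := ⟨13, 13, true, [1,5,1,4,4,1,4,1,5,1,4,1,4,4,1,4,4,1,5,1,5,9,1], [4,1,4,4,1,4,1,5,1,5,1,4,4,1,4,1,4,4,1,4,1,9], 11, [([], 2495, [1,4,1,4,1,4,1,4,1,4,4,1]), ([90,88], 83, [4,4,1,4,1,4,4,1,4,1,5,1,5,1,4,1]), ([92,158], 2490, [4,4,1,4,1,4,4,1,4,1,4,1,5,1,5,1,4,4,1,4,4,1])], []⟩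
def c2751 : Clm := ⟨13, 7, true, [5,1,4,4,1,4,4,1,5,1,4,1,4,1,4,4,1,4,4,2,4,10,5], [1,5,1,4,1,5,1,5,1,5,1,5,1,4,1,4,4,1,7,2,6,11], 9, [([], 2503, [1,4,4,1,4,1,4,4,1,4,1]), ([356], 1765, [5,1,5,1,5,1,5,1,4,1,5,1,4,1,4]), ([2688,2840,2688], 1492, [4,1,4,4,1,4,1,4,4,1,4,4,1,4,4,1])], []⟩
def c2752 : Clm := ⟨7, 13, true, [1,5,1,4,1,5,1,5,1,5,1,5,1,4,1,4,4,1,7,2,6,11], [5,1,4,4,1,4,4,1,5,1,4,1,4,1,4,4,1,4,4,2,4,10,5], 5, [([], 2751, [])], []⟩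
def c2753 : Clm := ⟨13, 13, true, [4,1,4,4,1,5,1,5,1,4,4,1,5,1,5,1,5,1,4,1,4,2,4,10,5], [1,5,1,5,1,4,1,5,1,4,1,4,1,5,1,5,1,4,4,10,6,10], 9, [([], 2503, [1,4,4,1,5,1,4,1]), ([], 1647, [5,1,4,1,5,1,5,1,4,4,1,4,1,4,4,1,4,4]), ([2688,2840,2688], 2654, [4,1,4,1,5,1,5,1,4,1,4,1,5,1,5,1,4,1,4,1,4,1])], []⟩
def c2754 : Clm := ⟨13, 13, true, [5,1,4,4,1,5,1,4,4,1,5,1,5,1,5,1,4,1,4,4,1,3,8,3,14], [5,1,4,4,1,5,1,4,4,1,5,1,5,1,5,1,4,1,4,4,1,3,8,3,14], 11, [([], 2505, [1,5,1,4,4,1,5,1,5,1,4,4,1,4,4,1,5,1,4,1,4,1,4]), ([356], 994, [1,4,1,4,1,4,4,1,4,4,1,4,1,4,1,4,1]), ([], 2504, [4,1,4,1,5,1,4,4,1,5,1,4])], []⟩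
def c2755 : Clm := ⟨13, 13, true, [5,1,4,4,1,5,1,4,4,1,5,1,5,1,5,1,4,1,4,4,1,3,8,3,14], [5,1,4,4,1,5,1,4,4,1,5,1,5,1,5,1,4,1,4,4,1,3,8,3,14], 5, [([], 2754, [])], []⟩
def c2756 : Clm := ⟨13, 13, true, [4,4,1,4,1,5,1,4,1,4,1,5,1,5,1,5,1,4,4,8,3,4,10], [4,4,1,4,1,5,1,4,1,4,1,5,1,5,1,5,1,4,4,8,3,4,10], 11, [([], 2505, [5,1,4,1,4,1,5,1,5,1,4,1,5,1,4,1,5,1,5]), ([356], 604, [5,1,4,4,1,4,1,4,1,5,1]), ([357], 2504, [4,4,1,5,1,5,1,5,1,4,1,4,1,4])], []⟩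
def c2757 : Clm := ⟨13, 13, true, [4,4,1,4,1,5,1,4,1,4,1,5,1,5,1,5,1,4,4,8,3,4,10], [4,4,1,4,1,5,1,4,1,4,1,5,1,5,1,5,1,4,4,8,3,4,10], 5, [([], 2756, [])], []⟩
def c2758 : Clm := ⟨13, 13, true, [1,4,1,4,1,5,1,5,1,5,1,4,1,4,1,4,1,4,1,4,1,5,2,6,13,11], [1,4,4,1,4,1,4,4,1,5,1,4,1,4,4,1,2,8,3,11], 11, [([], 2505, [4,1,5,1,5,1,4,1,4,1,4,1,5,1]), ([356], 500, [4,1,4,1,4,4,1,4,1,4,4,1,5,1,4,4,1]), ([], 2504, [1,4,4,1,5,1,4,4,1,5,1,5,1,4,1,5,1,4,4,1,4,1,5])], []⟩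
def c2759 : Clm := ⟨13, 13, true, [1,4,4,1,4,1,4,1,4,4,1,5,1,4,4,1,6,8,10,12], [1,5,1,4,4,1,5,1,4,1,4,4,1,4,4,2,11,4,10], 11, [([], 2506, []), ([], 2757, [4,1,5,1,5,1,4,1,4,4,1,5,1]), ([], 2507, [1,5,1,4,1,4,1,4,1,4,1,4,1,5,1,4,1,4,4,1,4,4,1])], []⟩
def c2760 : Clm := ⟨5, 14, true, [12,11,7], [], 1, [], []⟩
def c2761 : Clm := ⟨14, 5, true, [], [12,11,7], 5, [([], 2760, [])], []⟩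
def c2762 : Clm := ⟨14, 14, false, [], [1,4,1,4,1,5,1,4,4,1,4,1,5,1,5,1,5,1,4,1,4,1], 3, [([], 2760, []), ([159,93,88], 2760, [1,4,1,4,1,5,1,4,4,1,4,1,5,1,5,1,5,1,4,1,4,1])], []⟩
def c2763 : Clm := ⟨14, 5, true, [6], [4,1,5,1,4,1,4,4,1,4,4,1,4,1,5,1,5,1,5,1,5,1,6,10,4,1], 7, [([], 2760, []), ([93,158], 102, [1,5,1,4,4,1,5,1,4,4,1,4,4,1,4,1,4,4,1])], []⟩
def c2764 : Clm := ⟨5, 14, true, [4,1,5,1,4,1,4,4,1,4,4,1,4,1,5,1,5,1,5,1,5,1,6,10,4,1], [6], 5, [([], 2763, [])], []⟩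
def c2765 : Clm := ⟨14, 8, true, [1,6], [1,4,1,4,4,1,4,4,1,5,1,4,4,1,2,10,6,1], 7, [([], 2760, [1]), ([158,88], 336, [1,4,1,4,1,5,1,4,4,1,4,1,4,1,5,1,5,1,5])], []⟩
def c2766 : Clm := ⟨8, 14, true, [1,4,1,4,4,1,4,4,1,5,1,4,4,1,2,10,6,1], [1,6], 5, [([], 2765, [])], []⟩
def c2767 : Clm := ⟨14, 12, true, [4,6], [1,4,1,5,1,4,4,1,5,1,4,1,5,1,4,4,1,4,1,7], 7, [([], 2760, [4]), ([158,92], 2383, [1,4,1,5,1,4,4,1,5,1,4,1,5,1,4,4,1,4,1])], []⟩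
def c2768 : Clm := ⟨12, 14, true, [1,4,1,5,1,4,4,1,5,1,4,1,5,1,4,4,1,4,1,7], [4,6], 5, [([], 2767, [])], []⟩
def c2769 : Clm := ⟨14, 10, true, [5,6], [4,1,5,1,4,1,4,1,4,1,4,1,4,4,1,5,1,4,1,4,4,2,6,3,7], 7, [([], 2760, [5]), ([], 1383, [1,4,1,5,1,5,1,4,1,4,4,1,5,1,5,1,4,4,1])], []⟩
def c2770 : Clm := ⟨10, 14, true, [4,1,5,1,4,1,4,1,4,1,4,1,4,4,1,5,1,4,1,4,4,2,6,3,7], [5,6], 5, [([], 2769, [])], []⟩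
def c2771 : Clm := ⟨14, 13, true, [4,1,6], [1,4,1,4,1,4,1,5,1,4,4,1,4,4,1,5,1,4,4,1,2,10,7,4], 7, [([], 2760, [4,1]), ([90,88], 2494, [1,4,1,4,1,4,4,1,4,1,4,1,4,1,5,1,5,1,4,1])], []⟩
def c2772 : Clm := ⟨13, 14, true, [1,4,1,4,1,4,1,5,1,4,4,1,4,4,1,5,1,4,4,1,2,10,7,4], [4,1,6], 5, [([], 2771, [])], []⟩
def c2773 : Clm := ⟨14, 14, true, [4,4,6], [4,4,1,4,4,1,4,1,4,4,1,4,4,1,4,4,1,5,1,4,4,1,6], 7, [([], 2760, [4,4]), ([158,92,90,88], 2763, [5,1,4,1,5,1,4,1,4,4,1,5,1,4,1,4,1,5])], []⟩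
def c2774 : Clm := ⟨14, 8, true, [5,1,6], [4,4,1,5,1,5,1,5,1,4,1,4,4,1,5,1,4,4,1,5,2,5,14,12], 7, [([], 2760, [5,1]), ([92], 626, [1,4,1,5,1,4,4,1,5,1,4,4,1,4,1,4,1,4,1,5])], []⟩
def c2775 : Clm := ⟨8, 14, true, [4,4,1,5,1,5,1,5,1,4,1,4,4,1,5,1,4,4,1,5,2,5,14,12], [5,1,6], 5, [([], 2774, [])], []⟩
def c2776 : Clm := ⟨14, 9, true, [1,4,1,6], [4,1,4,1,5,1,5,1,4,4,1,4,4,1,5,1,4,1,4,1,5,3,13,7,1], 7, [([], 2760, [1,4,1]), ([158,90], 1127, [1,4,4,1,5,1,4,1,4,1,4,1,4,1,5,1,4,1,4,4,1,5])], []⟩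
def c2777 : Clm := ⟨9, 14, true, [4,1,4,1,5,1,5,1,4,4,1,4,4,1,5,1,4,1,4,1,5,3,13,7,1], [1,4,1,6], 5, [([], 2776, [])], []⟩
def c2778 : Clm := ⟨14, 10, true, [4,4,1,6], [5,1,5,1,4,1,4,1,4,1,4,1,5,1,4,1,2,5,14,6], 7, [([], 2760, [4,4,1]), ([92,90], 1784, [1,4,1,5,1,5,1,5,1,4,1,4,1,5,1,5,1,4,1,4,4,1,5])], []⟩
def c2779 : Clm := ⟨10, 14, true, [5,1,5,1,4,1,4,1,4,1,4,1,5,1,4,1,2,5,14,6], [4,4,1,6], 5, [([], 2778, [])], []⟩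
def c2780 : Clm := ⟨14, 10, true, [1,4,4,1,6], [1,5,1,5,1,5,1,5,1,5,1,4,1,4,1,5,6,4,7], 7, [([], 2760, [1,4,4,1]), ([158,92,88], 1363, [1,4,4,1,5,1,4,4,1,5,1,5,1,5,1,5,1,4,1,4])], []⟩
def c2781 : Clm := ⟨10, 14, true, [1,5,1,5,1,5,1,5,1,5,1,4,1,4,1,5,6,4,7], [1,4,4,1,6], 5, [([], 2780, [])], []⟩
def c2782 : Clm := ⟨14, 10, true, [4,1,4,1,6], [1,4,4,1,5,1,5,1,5,1,4,1,4,1,4,4,8,8,7,8], 7, [([], 2760, [4,1,4,1]), ([90,88], 2151, [1,4,1,4,4,1,5,1,4,1,4,1,4,1,4,4,1,4,4,1,5])], []⟩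
def c2783 : Clm := ⟨10, 14, true, [1,4,4,1,5,1,5,1,5,1,4,1,4,1,4,4,8,8,7,8], [4,1,4,1,6], 5, [([], 2782, [])], []⟩
def c2784 : Clm := ⟨14, 10, true, [4,1,4,4,6], [4,4,1,4,4,1,5,1,4,1,5,1,5,9,7,2], 7, [([], 2760, [4,1,4,4]), ([93,90], 1428, [1,4,4,1,4,4,1,5,1,4,1,5,1,5,1,5,1,5,1,4,4,1])], []⟩
def c2785 : Clm := ⟨10, 14, true, [4,4,1,4,4,1,5,1,4,1,5,1,5,9,7,2], [4,1,4,4,6], 5, [([], 2784, [])], []⟩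
def c2786 : Clm := ⟨14, 8, true, [4,1,5,1,6], [5,1,4,1,5,1,4,4,1,5,1,5,1,5,1,3,14,11], 7, [([], 2760, [4,1,5,1]), ([158,93,90], 291, [1,5,1,4,4,1,5,1,5,1,4,1,4,4,1,4,4])], []⟩
def c2787 : Clm := ⟨8, 14, true, [5,1,4,1,5,1,4,4,1,5,1,5,1,5,1,3,14,11], [4,1,5,1,6], 5, [([], 2786, [])], []⟩
def c2788 : Clm := ⟨14, 8, true, [5,1,4,1,6], [5,1,5,1,4,1,4,4,1,5,1,5,1,4,4,2,9,2,13], 7, [([], 2760, [5,1,4,1]), ([93], 493, [1,4,4,1,4,4,1,5,1,5,1,5,1,4,1,4,1,4,4])], []⟩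
def c2789 : Clm := ⟨8, 14, true, [5,1,5,1,4,1,4,4,1,5,1,5,1,4,4,2,9,2,13], [5,1,4,1,6], 5, [([], 2788, [])], []⟩
def c2790 : Clm := ⟨14, 8, true, [1,5,1,4,1,6], [1,4,4,1,4,4,1,4,1,5,1,5,1,5,1,5,1,4,1,6,10,5,3], 7, [([], 2760, [1,5,1,4,1]), ([93,158,90], 285, [1,4,1,5,1,4,1,5,1,4,4,1,4,1,4,1,5,1,5])], []⟩
def c2791 : Clm := ⟨8, 14, true, [1,4,4,1,4,4,1,4,1,5,1,5,1,5,1,5,1,4,1,6,10,5,3], [1,5,1,4,1,6], 5, [([], 2790, [])], []⟩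
def c2792 : Clm := ⟨14, 8, true, [4,1,4,4,1,6], [4,1,4,1,4,1,5,1,5,1,5,1,5,1,5,1,2,11,7,10], 7, [([], 2760, [4,1,4,4,1]), ([92,158], 510, [5,1,4,4,1,4,1,4,4,1,4,1,4,1,5])], []⟩
def c2793 : Clm := ⟨8, 14, true, [4,1,4,1,4,1,5,1,5,1,5,1,5,1,5,1,2,11,7,10], [4,1,4,4,1,6], 5, [([], 2792, [])], []⟩
def c2794 : Clm := ⟨14, 9, true, [4,4,1,4,1,6], [5,1,5,1,5,1,4,4,1,5,1,4,4,1,5,1,5,1,8,14,6], 7, [([], 2760, [4,4,1,4,1]), ([158,92,88], 1133, [1,5,1,4,4,1,5,1,4,4,1,5,1,4,4,1,5,1,4,4,1])], []⟩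
def c2795 : Clm := ⟨9, 14, true, [5,1,5,1,5,1,4,4,1,5,1,4,4,1,5,1,5,1,8,14,6], [4,4,1,4,1,6], 5, [([], 2794, [])], []⟩
def c2796 : Clm := ⟨14, 13, true, [4,4,1,4,4,6], [1,4,1,4,4,1,4,1,4,1,4,1,4,4,1,4,1,4,1,4,4,1,7], 7, [([], 2760, [4,4,1,4,4]), ([158,92], 2490, [1,4,1,4,4,1,4,1,4,1,4,1,4,4,1,4,1,4,1,4,4,1])], []⟩
def c2797 : Clm := ⟨13, 14, true, [1,4,1,4,4,1,4,1,4,1,4,1,4,4,1,4,1,4,1,4,4,1,7], [4,4,1,4,4,6], 5, [([], 2796, [])], []⟩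
def c2798 : Clm := ⟨14, 10, true, [5,1,4,4,1,6], [4,1,5,1,5,1,4,4,1,4,1,5,1,5,1,4,4,1,4,6,8,11,14], 7, [([], 2760, [5,1,4,4,1]), ([93,90,88], 1842, [4,1,5,1,4,4,1,4,4,1,5,1,5,1,4,1,4,4])], []⟩
def c2799 : Clm := ⟨10, 14, true, [4,1,5,1,5,1,4,4,1,4,1,5,1,5,1,4,4,1,4,6,8,11,14], [5,1,4,4,1,6], 5, [([], 2798, [])], []⟩
def c2800 : Clm := ⟨14, 8, true, [1,4,4,1,4,1,6], [4,4,1,4,1,4,4,1,4,1,5,1,4,4,1,4,4,1,3,5,3,6], 7, [([], 2760, [1,4,4,1,4,1]), ([93,90], 375, [4,1,4,4,1,5,1,4,1,5,1,4,4,1,5])], []⟩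
def c2801 : Clm := ⟨8, 14, true, [4,4,1,4,1,4,4,1,4,1,5,1,4,4,1,4,4,1,3,5,3,6], [1,4,4,1,4,1,6], 5, [([], 2800, [])], []⟩
def c2802 : Clm := ⟨14, 14, false, [1,4,4,1,4,1,6], [1,4,1,4,4,1,5,1,4,1,5,1,4,1,4,4,1,5,12,11,11], 3, [([], 2801, []), ([357], 2789, [1,4,4,1,4,1,5,1,4,4,1,4,4,1,5,1,4,4,1,4,4])], []⟩
def c2803 : Clm := ⟨14, 9, true, [4,1,4,1,5,1,6], [5,1,5,1,4,1,4,4,1,4,4,1,5,1,4,1,5,7,10,10,7], 7, [([], 2760, [4,1,4,1,5,1]), ([93,88], 1268, [5,1,5,1,4,4,1,4,1,5,1,4,1,4,1,5,1,4,4])], []⟩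
def c2804 : Clm := ⟨9, 14, true, [5,1,5,1,4,1,4,4,1,4,4,1,5,1,4,1,5,7,10,10,7], [4,1,4,1,5,1,6], 5, [([], 2803, [])], []⟩
def c2805 : Clm := ⟨14, 10, true, [4,1,5,1,4,1,6], [4,1,5,1,4,4,1,4,4,1,5,1,4,8,11,7], 7, [([], 2760, [4,1,5,1,4,1]), ([93,90], 1373, [1,5,1,4,4,1,4,1,5,1,5,1,4,1,5,1])], []⟩
def c2806 : Clm := ⟨10, 14, true, [4,1,5,1,4,4,1,4,4,1,5,1,4,8,11,7], [4,1,5,1,4,1,6], 5, [([], 2805, [])], []⟩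
def c2807 : Clm := ⟨14, 12, true, [5,1,5,1,4,1,6], [1,5,1,4,4,1,4,1,5,1,5,1,4,1,7], 7, [([], 2760, [5,1,5,1,4,1]), ([88], 2383, [1,5,1,4,4,1,4,1,5,1,5,1,4,1])], []⟩
def c2808 : Clm := ⟨12, 14, true, [1,5,1,4,4,1,4,1,5,1,5,1,4,1,7], [5,1,5,1,4,1,6], 5, [([], 2807, [])], []⟩
def c2809 : Clm := ⟨14, 8, true, [1,4,1,4,1,5,1,6], [1,4,1,4,4,1,5,1,5,1,4,1,4,4,1,5,1,4,1,8,1,12], 7, [([], 2760, [1,4,1,4,1,5,1]), ([90,92], 608, [4,4,1,5,1,4,1,5,1,5,1,5,1,5,1,5,1,5,1,4,1,4])], []⟩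
def c2810 : Clm := ⟨8, 14, true, [1,4,1,4,4,1,5,1,5,1,4,1,4,4,1,5,1,4,1,8,1,12], [1,4,1,4,1,5,1,6], 5, [([], 2809, [])], []⟩
def c2811 : Clm := ⟨14, 5, true, [1,5,1,5,1,4,1,6], [1,4,1,4,4,1,5,1,4,4,1,5,1,3,7,9,14], 7, [([], 2760, [1,5,1,5,1,4,1]), ([92,88], 96, [1,5,1,5,1,4,4,1,4,4,1,4,4,1,5,1,4,1,4,1,5])], []⟩
def c2812 : Clm := ⟨5, 14, true, [1,4,1,4,4,1,5,1,4,4,1,5,1,3,7,9,14], [1,5,1,5,1,4,1,6], 5, [([], 2811, [])], []⟩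
def c2813 : Clm := ⟨14, 14, true, [4,1,5,1,5,1,4,1,5,1,4,1,4,9], [1,4,4,1,4,1,4,4,1,4,1,4,1,4,4,1,5,1,5,1,5,1,2,6,3,9], 11, [([], 2760, [4,1,5,1,5,1,4,1,5,1,4,1,4]), ([92,92,158], 375, [5,1,4,1,4,1,4,4,1,4,4,1,4,4,1,5,1,5]), ([356], 2809, [4,1,5,1,4,4,1,4,4,1,4,1,4,1,5,1,4,4,1])], []⟩
def c2814 : Clm := ⟨14, 14, true, [1,4,4,1,4,1,4,4,1,4,1,4,1,4,4,1,5,1,5,1,5,1,2,6,3,9], [4,1,5,1,5,1,4,1,5,1,4,1,4,9], 5, [([], 2813, [])], []⟩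
def c2815 : Clm := ⟨14, 10, true, [4,4,1,4,4,1,4,4,1,4,1,4,1,4,1,9], [5,1,4,4,1,5,1,4,1,4,4,1,5,1,5,1,5,1,5,1,5,2,7,1,5], 11, [([], 2760, [4,4,1,4,4,1,4,4,1,4,1,4,1,4,1]), ([93,158,90], 275, [1,5,1,5,1,4,1,4,4,1,4,4,1,4,4,1,4,4,1]), ([356], 1830, [4,1,5,1,4,1,4,1,4,1,4,4,1,4,4,1,4,1,5,1])], []⟩
def c2816 : Clm := ⟨10, 14, true, [5,1,4,4,1,5,1,4,1,4,4,1,5,1,5,1,5,1,5,1,5,2,7,1,5], [4,4,1,4,4,1,4,4,1,4,1,4,1,4,1,9], 5, [([], 2815, [])], []⟩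
def c2817 : Clm := ⟨14, 9, true, [1,5,1,5,1,5,1,4,9], [4,1,4,4,1,4,1,5,1,4,4,1,4,4,1,5,1,4,4,1,4,4,6,3,5,11], 11, [([], 2760, [1,5,1,5,1,5,1,4]), ([158,92], 214, [1,4,1,4,1,5,1,5,1,4,4,1,4,4,1,4]), ([], 1261, [4,4,1,5,1,4,1,4,4,1,4,1,5,1,5,1,4,4,1,4,1,5])], []⟩
def c2818 : Clm := ⟨9, 14, true, [4,1,4,4,1,4,1,5,1,4,4,1,4,4,1,5,1,4,4,1,4,4,6,3,5,11], [1,5,1,5,1,5,1,4,9], 5, [([], 2817, [])], []⟩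
def c2819 : Clm := ⟨14, 8, true, [1,5,1,5,1,4,4,1,4,4,1,5,1,9], [5,1,5,1,4,4,1,5,1,4,1,4,1,5,1,4,4,1,4,4,2,4,12,7], 11, [([], 2760, [1,5,1,5,1,4,4,1,4,4,1,5,1]), ([93], 512, [5,1,4,1,5,1,5,1,5,1,4,4,1,4,1,4,1]), ([357], 622, [1,4,1,5,1,5,1,5,1,5,1,5,1,5,1,5])], []⟩
def c2820 : Clm := ⟨8, 14, true, [5,1,5,1,4,4,1,5,1,4,1,4,1,5,1,4,4,1,4,4,2,4,12,7], [1,5,1,5,1,4,4,1,4,4,1,5,1,9], 5, [([], 2819, [])], []⟩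
def c2821 : Clm := ⟨14, 8, true, [4,4,1,4,4,1,4,1,4,1,4,9], [4,4,1,4,4,1,5,1,5,1,4,4,1,4,4,1,5,1,4,1,2,10,10,8], 11, [([], 2760, [4,4,1,4,4,1,4,1,4,1,4]), ([93,158], 1842, [4,1,4,1,4,1,5,1,4,4,1,4,1,5,1,4,1,4,1]), ([2688,2840,2688], 1424, [1,5,1,4,1,4,4,1,4,4,1,4,1,4,1,4,4,1,5,1,5,1,4,4])], []⟩
def c2822 : Clm := ⟨8, 14, true, [4,4,1,4,4,1,5,1,5,1,4,4,1,4,4,1,5,1,4,1,2,10,10,8], [4,4,1,4,4,1,4,1,4,1,4,9], 5, [([], 2821, [])], []⟩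
def c2823 : Clm := ⟨14, 8, true, [4,1,5,1,5,1,4,1,4,1,4,1,5,1,9], [5,1,4,1,4,4,1,5,1,4,1,5,1,5,1,4,4,1,4,1,5,1,10,6,12,5], 11, [([], 2760, [4,1,5,1,5,1,4,1,4,1,4,1,5,1]), ([92], 64, [5,1,4,4,1,5,1,5,1,5,1,5,1,5,1]), ([88,92], 289, [1,4,4,1,4,4,1,5,1,4,1,5,1,4,1,4,1,4,1,4,1])], []⟩
def c2824 : Clm := ⟨8, 14, true, [5,1,4,1,4,4,1,5,1,4,1,5,1,5,1,4,4,1,4,1,5,1,10,6,12,5], [4,1,5,1,5,1,4,1,4,1,4,1,5,1,9], 5, [([], 2823, [])], []⟩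
def c2825 : Clm := ⟨14, 8, true, [1,4,4,1,4,1,4,1,4,1,4,1,4,4,1,9], [1,5,1,4,1,5,1,5,1,5,1,4,4,1,4,1,4,1,4,10,1,4,6], 11, [([], 2760, [1,4,4,1,4,1,4,1,4,1,4,1,4,4,1]), ([158,92,90], 48, [1,5,1,4,1,4,4,1,4,1,5,1,5,1,4,4,1,4,1,4,1]), ([158,93,90,88], 510, [4,1,4,1,5,1,4,1,4,1,5,1,5,1,5,1,4,4])], []⟩
def c2826 : Clm := ⟨8, 14, true, [1,5,1,4,1,5,1,5,1,5,1,4,4,1,4,1,4,1,4,10,1,4,6], [1,4,4,1,4,1,4,1,4,1,4,1,4,4,1,9], 5, [([], 2825, [])], []⟩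
def c2827 : Clm := ⟨14, 8, true, [4,4,1,4,1,4,4,1,4,4,1,4,9], [4,1,4,1,4,4,1,4,1,4,1,5,1,5,1,5,1,4,4,1,4,4,9,1,4,12], 11, [([], 2760, [4,4,1,4,1,4,4,1,4,4,1,4]), ([90], 275, [4,4,1,4,1,4,1,5,1,5,1,4,4,1,5,1,5,1,4]), ([356], 724, [1,4,1,4,4,1,5,1,4,1,4,4,1,4,4,1,5,1,5])], []⟩
def c2828 : Clm := ⟨8, 14, true, [4,1,4,1,4,4,1,4,1,4,1,5,1,5,1,5,1,4,4,1,4,4,9,1,4,12], [4,4,1,4,1,4,4,1,4,4,1,4,9], 5, [([], 2827, [])], []⟩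
def c2829 : Clm := ⟨14, 10, true, [4,1,4,4,1,5,1,5,1,5,1,5,1,4,9], [4,1,5,1,4,1,4,4,1,4,1,4,1,5,1,4,1,5,1,5,1,5,8,10,6], 11, [([], 2760, [4,1,4,4,1,5,1,5,1,5,1,5,1,4]), ([88], 719, [1,5,1,4,1,5,1,4,4,1,5,1,4,1,4,1,4,4,1,4,4]), ([], 2174, [1,5,1,4,1,5,1,4,4,1,4,1,4,1,5,1,4,4])], []⟩
def c2830 : Clm := ⟨10, 14, true, [4,1,5,1,4,1,4,4,1,4,1,4,1,5,1,4,1,5,1,5,1,5,8,10,6], [4,1,4,4,1,5,1,5,1,5,1,5,1,4,9], 5, [([], 2829, [])], []⟩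
def c2831 : Clm := ⟨14, 10, true, [1,4,1,5,1,4,1,4,9], [5,1,4,4,1,4,1,4,1,5,1,4,4,1,4,1,4,1,5,1,6,14,10], 11, [([], 2760, [1,4,1,5,1,4,1,4]), ([92,90,88], 407, [4,4,1,4,4,1,4,1,4,1,4,1,4,1,5,1,4,1,5]), ([], 2148, [1,4,1,5,1,5,1,5,1,5,1,4,4,1,5,1,4,4,1])], []⟩
def c2832 : Clm := ⟨10, 14, true, [5,1,4,4,1,4,1,4,1,5,1,4,4,1,4,1,4,1,5,1,6,14,10], [1,4,1,5,1,4,1,4,9], 5, [([], 2831, [])], []⟩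
def c2833 : Clm := ⟨14, 10, true, [1,4,4,1,5,1,5,1,5,1,5,1,9], [4,1,4,1,4,1,4,1,4,1,5,1,4,1,5,1,5,6,14,9], 11, [([], 2760, [1,4,4,1,5,1,5,1,5,1,5,1]), ([], 1133, [5,1,5,1,4,1,5,1,4,1,4,4,1,5,1,4,1,4]), ([2197,2004], 2070, [5,1,4,1,4,4,1,4,4,1,5,1,4,1,5,1,5,1,4])], []⟩
def c2834 : Clm := ⟨10, 14, true, [4,1,4,1,4,1,4,1,4,1,5,1,4,1,5,1,5,6,14,9], [1,4,4,1,5,1,5,1,5,1,5,1,9], 5, [([], 2833, [])], []⟩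
def c2835 : Clm := ⟨14, 8, true, [1,5,1,4,4,1,4,4,1,4,4,1,9], [1,4,1,4,4,1,4,4,1,4,1,5,1,5,1,4,1,5,1,4,1,7,8,7,12], 11, [([], 2760, [1,5,1,4,4,1,4,4,1,4,4,1]), ([92,88], 330, [5,1,4,1,5,1,4,4,1,5,1,4,1,4,4,1,4,1,4,1]), ([357], 855, [4,1,4,1,4,1,4,1,4,1,5,1,4,4,1,4,4,1,5,1,4])], []⟩
def c2836 : Clm := ⟨8, 14, true, [1,4,1,4,4,1,4,4,1,4,1,5,1,5,1,4,1,5,1,4,1,7,8,7,12], [1,5,1,4,4,1,4,4,1,4,4,1,9], 5, [([], 2835, [])], []⟩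
def c2837 : Clm := ⟨14, 10, true, [1,5,1,4,1,4,1,4,1,4,4,1,5,1,9], [4,4,1,4,4,1,5,1,5,1,10,13,2], 11, [([], 2760, [1,5,1,4,1,4,1,4,1,4,4,1,5,1]), ([92,90], 1070, [5,1,4,1,4,4,1,4,4,1,4,4,1,5,1,4,4,1,4,4,1,4]), ([2114,2010,2004], 1944, [4,4,1,4,1,4,1,4,1,4,4,1,4,1,4,1,4,4,1,4,4])], []⟩
def c2838 : Clm := ⟨10, 14, true, [4,4,1,4,4,1,5,1,5,1,10,13,2], [1,5,1,4,1,4,1,4,1,4,4,1,5,1,9], 5, [([], 2837, [])], []⟩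
def c2839 : Clm := ⟨14, 12, true, [1,4,1,4,4,1,4,1,5,1,5,1,4,9], [5,1,4,4,1,5,1,4,1,4,1,4,1,4,4,1,4,4,3,6,8,12], 11, [([], 2760, [1,4,1,4,4,1,4,1,5,1,5,1,4]), ([90,92], 346, [1,5,1,5,1,4,4,1,5,1,4,1,4,1,5,1,4,4,1,4]), ([356], 2398, [4,1,4,1,5,1,4,1,5,1,4,4,1,4,4,1,5,1,5,1,4])], []⟩
def c2840 : Clm := ⟨12, 14, true, [5,1,4,4,1,5,1,4,1,4,1,4,1,4,4,1,4,4,3,6,8,12], [1,4,1,4,4,1,4,1,5,1,5,1,4,9], 5, [([], 2839, [])], []⟩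
def c2841 : Clm := ⟨14, 8, true, [5,1,5,1,5,1,9], [5,1,4,1,5,1,4,4,1,4,1,4,1,5,1,4,1,4,4,1,5,1,12,6,1], 11, [([], 2760, [5,1,5,1,5,1]), ([158,92,92,88], 249, [1,5,1,5,1,4,1,4,1,4,1,5,1,5,1,4,1,5,1,4,4]), ([357], 748, [4,1,5,1,5,1,4,4,1,4,4,1,5,1,5,1,5,1,5,1,4,1])], []⟩
def c2842 : Clm := ⟨8, 14, true, [5,1,4,1,5,1,4,4,1,4,1,4,1,5,1,4,1,4,4,1,5,1,12,6,1], [5,1,5,1,5,1,9], 5, [([], 2841, [])], []⟩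
def c2843 : Clm := ⟨14, 8, true, [5,1,5,1,5,1,4,1,4,1,9], [1,5,1,4,1,5,1,4,1,5,1,4,1,4,1,6,9,14,1], 11, [([], 2760, [5,1,5,1,5,1,4,1,4,1]), ([90,88], 346, [4,1,5,1,5,1,4,1,5,1]), ([356], 668, [4,1,4,1,4,1,4,1,4,1,4,4,1,5,1,4,4,1,4,1])], []⟩
def c2844 : Clm := ⟨8, 14, true, [1,5,1,4,1,5,1,4,1,5,1,4,1,4,1,6,9,14,1], [5,1,5,1,5,1,4,1,4,1,9], 5, [([], 2843, [])], []⟩
def c2845 : Clm := ⟨14, 8, true, [1,4,1,4,4,1,5,1,4,4,1,5,1,4,9], [4,1,4,1,5,1,5,1,4,1,5,1,4,1,5,1,4,1,4,1,9,11,9,11], 11, [([], 2760, [1,4,1,4,4,1,5,1,4,4,1,5,1,4]), ([158,92,90], 344, [1,5,1,5,1,4,1,4]), ([357], 920, [5,1,4,1,5,1,5,1,5,1,5,1,5,1,4,4,1])], []⟩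
def c2846 : Clm := ⟨8, 14, true, [4,1,4,1,5,1,5,1,4,1,5,1,4,1,5,1,4,1,4,1,9,11,9,11], [1,4,1,4,4,1,5,1,4,4,1,5,1,4,9], 5, [([], 2845, [])], []⟩
def c2847 : Clm := ⟨14, 8, true, [1,4,4,1,4,1,4,4,1,5,1,4,1,5,1,5,1,5,1,5,1,5,2,1,11,14], [4,1,5,1,4,1,4,1,5,1,4,4,1,5,1,4,4,1,8,1,9,11], 9, [([], 2814, [1,4,1,4,1,5,1,4,1,4,1,4,4,1,4,4,1,4,4,1,4,1,5]), ([5524,5604], 2760, [1,4,1,4,1,4,1,4,1,5,1,5,1,5,1,5]), ([158,92,90], 346, [1,4,1,4,1,5,1,5,1,4,4,1,4,4,1,4,4,1,5,1,4,4])], []⟩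
def c2848 : Clm := ⟨8, 14, true, [4,1,5,1,4,1,4,1,5,1,4,4,1,5,1,4,4,1,8,1,9,11], [1,4,4,1,4,1,4,4,1,5,1,4,1,5,1,5,1,5,1,5,1,5,2,1,11,14], 5, [([], 2847, [])], []⟩
def c2849 : Clm := ⟨14, 8, true, [1,4,1,4,4,1,4,1,4,1,5,1,4,9], [4,1,4,1,4,4,1,4,4,1,5,1,4,3,12,8,14], 11, [([], 2760, [1,4,1,4,4,1,4,1,4,1,5,1,4]), ([158,92], 52, [1,5,1,5,1,5,1,4,1,4,1,5,1,4,1,4,1,5,1,5,1]), ([73], 360, [1,5,1,4,4,1,4,4,1,4,1,4,1,4,4,1,4,4,1,4])], []⟩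
def c2850 : Clm := ⟨8, 14, true, [4,1,4,1,4,4,1,4,4,1,5,1,4,3,12,8,14], [1,4,1,4,4,1,4,1,4,1,5,1,4,9], 5, [([], 2849, [])], []⟩
def c2851 : Clm := ⟨14, 10, true, [1,4,4,1,4,1,4,4,1,4,1,4,4,1,9], [4,4,1,5,1,4,4,1,4,4,1,4,4,1,4,1,4,1,5,1,4,3,1,11,2], 11, [([], 2760, [1,4,4,1,4,1,4,4,1,4,1,4,4,1]), ([158,92,88], 353, [1,4,1,4,4,1,5,1,4,1,5,1,5,1,5,1,5,1,5,1,4,4,1,5]), ([357], 1830, [1,5,1,4,1,4,1,4,1,5,1,5,1,5,1,4,4,1])], []⟩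
def c2852 : Clm := ⟨10, 14, true, [4,4,1,5,1,4,4,1,4,4,1,4,4,1,4,1,4,1,5,1,4,3,1,11,2], [1,4,4,1,4,1,4,4,1,4,1,4,4,1,9], 5, [([], 2851, [])], []⟩
def c2853 : Clm := ⟨14, 8, true, [5,1,5,1,5,1,5,1,4,1,4,1,4,1,4,9], [4,1,4,1,4,1,4,1,4,1,5,1,4,4,1,4,4,1,5,1,6,13,10,9], 11, [([], 2760, [5,1,5,1,5,1,5,1,4,1,4,1,4,1,4]), ([88], 1280, [4,1,5,1,4,4,1,5,1,5,1,5,1,4,1,4,4,1,5,1,5]), ([2114], 1295, [5,1,5,1,4,4,1,4,1,4,4,1,5,1,4,4,1])], []⟩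
def c2854 : Clm := ⟨8, 14, true, [4,1,4,1,4,1,4,1,4,1,5,1,4,4,1,4,4,1,5,1,6,13,10,9], [5,1,5,1,5,1,5,1,4,1,4,1,4,1,4,9], 5, [([], 2853, [])], []⟩
def c2855 : Clm := ⟨14, 8, true, [1,4,4,1,5,1,5,1,4,4,1,4,1,9], [1,5,1,4,1,4,4,1,5,1,4,1,4,1,5,1,5,1,5,1,8,2,4,14], 11, [([], 2760, [1,4,4,1,5,1,5,1,4,4,1,4,1]), ([92,92,158,88], 1790, [1,4,1,4,4,1,5,1,4,1,4,4,1,4,1,4,1]), ([2688], 2292, [1,4,1,4,4,1,5,1,5,1,4,4,1,4,1,5,1,4,4,1])], []⟩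
def c2856 : Clm := ⟨8, 14, true, [1,5,1,4,1,4,4,1,5,1,4,1,4,1,5,1,5,1,5,1,8,2,4,14], [1,4,4,1,5,1,5,1,4,4,1,4,1,9], 5, [([], 2855, [])], []⟩
def c2857 : Clm := ⟨14, 8, true, [5,1,4,4,1,4,1,9], [1,4,1,4,4,1,4,4,1,5,2,1,6,1,2], 11, [([], 2760, [5,1,4,4,1,4,1]), ([93], 2494, [1,4,1,4,1,4,4,1,4,4,1,4,4,1,4,4,1,4,1,5,1,4]), ([5040,5138,4982], 2661, [5,1,4,4,1,4,1,5,1,4,1,5,1,5,1,5])], []⟩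
def c2858 : Clm := ⟨8, 14, true, [1,4,1,4,4,1,4,4,1,5,2,1,6,1,2], [5,1,4,4,1,4,1,9], 5, [([], 2857, [])], []⟩
def c2859 : Clm := ⟨14, 8, true, [1,4,1,5,1,4,1,4,4,1,5,1,9], [4,1,4,1,4,4,1,5,1,5,1,4,4,1,5,1,5,1,5,1,5,2,4,2,9], 11, [([], 2760, [1,4,1,5,1,4,1,4,4,1,5,1]), ([92], 1566, [5,1,4,4,1,4,4,1,4,4,1,4,1,4,4,1,5,1,5]), ([2688,2840,2688], 2337, [1,4,1,4,4,1,5,1,5,1,4,1,4,1,4,4,1,4,1,4])], []⟩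
def c2860 : Clm := ⟨8, 14, true, [4,1,4,1,4,4,1,5,1,5,1,4,4,1,5,1,5,1,5,1,5,2,4,2,9], [1,4,1,5,1,4,1,4,4,1,5,1,9], 5, [([], 2859, [])], []⟩
def c2861 : Clm := ⟨14, 10, true, [5,1,5,1,4,1,4,4,1,4,1,4,4,1,4,9], [1,4,1,4,1,4,4,1,4,4,1,5,1,4,4,1,4,1,4,1,5,1,6,4,2,11], 11, [([], 2760, [5,1,5,1,4,1,4,4,1,4,1,4,4,1,4]), ([90,88], 281, [1,4,4,1,5,1,4,4,1,5,1,5,1,4,4,1,4,4,1]), ([356], 1734, [4,1,4,1,5,1,4,4,1,4,1,5,1,5,1,5,1,4,1])], []⟩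
def c2862 : Clm := ⟨10, 14, true, [1,4,1,4,1,4,4,1,4,4,1,5,1,4,4,1,4,1,4,1,5,1,6,4,2,11], [5,1,5,1,4,1,4,4,1,4,1,4,4,1,4,9], 5, [([], 2861, [])], []⟩
def c2863 : Clm := ⟨14, 9, true, [1,4,1,4,4,1,4,4,1,4,9], [1,4,1,4,1,4,1,5,1,5,1,4,1,5,1,5,1,4,4,2,6,11,7], 11, [([], 2760, [1,4,1,4,4,1,4,4,1,4]), ([92,158], 1133, [1,4,4,1,4,1,4,1,4,4,1,5,1,4,1,4,1,5,1,4]), ([2196,2004], 1171, [5,1,4,1,5,1,4,4,1,4,4,1,5,1,5,1,5,1,4,1,5])], []⟩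
def c2864 : Clm := ⟨9, 14, true, [1,4,1,4,1,4,1,5,1,5,1,4,1,5,1,5,1,4,4,2,6,11,7], [1,4,1,4,4,1,4,4,1,4,9], 5, [([], 2863, [])], []⟩
def c2865 : Clm := ⟨14, 8, true, [1,4,1,4,1,9], [4,4,1,5,1,4,1,4,1,5,1,5,1,4,4,1,4,4,1,5,3,4,1,8], 11, [([], 2760, [1,4,1,4,1]), ([88,93], 249, [5,1,4,1,4,1,5,1,4,1,5,1,4,1,4,1,5,1,5]), ([], 703, [1,4,1,4,1,5,1,5,1,5,1,4,4,1,5,1,5,1,4,1,4,1])], []⟩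
def c2866 : Clm := ⟨8, 14, true, [4,4,1,5,1,4,1,4,1,5,1,5,1,4,4,1,4,4,1,5,3,4,1,8], [1,4,1,4,1,9], 5, [([], 2865, [])], []⟩
def c2867 : Clm := ⟨14, 8, true, [1,4,4,1,4,1,5,1,5,1,4,9], [1,5,1,4,4,1,4,4,1,4,1,5,1,5,1,4,1,4,3,10,8,12], 11, [([], 2760, [1,4,4,1,4,1,5,1,5,1,4]), ([158], 2205, [1,4,1,4,1,5,1,4,4,1,5,1,4,1,4,4,1,4,4,1,5]), ([2840,2688], 1445, [1,5,1,5,1,5,1,5,1,5,1,4,1,4,4,1,4])], []⟩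
def c2868 : Clm := ⟨8, 14, true, [1,5,1,4,4,1,4,4,1,4,1,5,1,5,1,4,1,4,3,10,8,12], [1,4,4,1,4,1,5,1,5,1,4,9], 5, [([], 2867, [])], []⟩
def c2869 : Clm := ⟨14, 10, true, [5,1,4,1,5,1,5,1,4,1,4,1,9], [1,5,1,4,1,5,1,4,1,4,1,5,1,5,1,5,1,5,1,5,1,4,6,8,6,12], 11, [([], 2760, [5,1,4,1,5,1,5,1,4,1,4,1]), ([93,158], 320, [4,1,4,1,5,1,4,4,1,4,4,1,4,4,1,5,1,4,1,5]), ([357], 1552, [4,1,4,4,1,5,1,4,4,1,4,1,5,1,4,1,4,1,4,4,1])], []⟩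
def c2870 : Clm := ⟨10, 14, true, [1,5,1,4,1,5,1,4,1,4,1,5,1,5,1,5,1,5,1,5,1,4,6,8,6,12], [5,1,4,1,5,1,5,1,4,1,4,1,9], 5, [([], 2869, [])], []⟩
def c2871 : Clm := ⟨14, 8, true, [1,4,1,4,1,4,1,4,1,9], [4,4,1,4,1,4,1,4,4,1,4,4,1,4,4,1,9,13,10,4], 11, [([], 2760, [1,4,1,4,1,4,1,4,1]), ([88,92], 1936, [1,5,1,5,1,5,1,4,1,4,4,1,5,1,5,1,5,1,5,1,5]), ([2840], 1863, [4,1,4,4,1,4,1,5,1,5,1,4,4,1,5,1,4,1,5,1,5])], []⟩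
def c2872 : Clm := ⟨8, 14, true, [4,4,1,4,1,4,1,4,4,1,4,4,1,4,4,1,9,13,10,4], [1,4,1,4,1,4,1,4,1,9], 5, [([], 2871, [])], []⟩
def c2873 : Clm := ⟨14, 8, true, [1,4,1,5,1,5,1,4,4,1,9], [4,1,5,1,5,1,5,1,4,4,1,5,1,4,4,1,5,1,9,13,10], 11, [([], 2760, [1,4,1,5,1,5,1,4,4,1]), ([158,90,88], 1971, [5,1,4,1,4,1,4,1,4,1,4,4,1,5,1,4,1,4,1,4]), ([], 1681, [5,1,5,1,4,1,4,1,4,1,4,4,1,5,1,5,1,5,1,4,4])], []⟩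
def c2874 : Clm := ⟨8, 14, true, [4,1,5,1,5,1,5,1,4,4,1,5,1,4,4,1,5,1,9,13,10], [1,4,1,5,1,5,1,4,4,1,9], 5, [([], 2873, [])], []⟩
def c2875 : Clm := ⟨14, 10, true, [1,4,1,4,4,1,4,4,1,4,4,1,5,1,9], [5,1,5,1,4,1,4,1,4,1,4,1,4,4,1,4,4,2,4,9,12], 11, [([], 2760, [1,4,1,4,4,1,4,4,1,4,4,1,5,1]), ([92,92,158,88], 407, [4,1,4,4,1,4,4,1,4,1,4,4,1,5,1]), ([], 2009, [1,4,1,4,4,1,5,1,4,4,1,4,1,5,1,4,1,4,4,1,4,4,1,5])], []⟩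
def c2876 : Clm := ⟨10, 14, true, [5,1,5,1,4,1,4,1,4,1,4,1,4,4,1,4,4,2,4,9,12], [1,4,1,4,4,1,4,4,1,4,4,1,5,1,9], 5, [([], 2875, [])], []⟩
def c2877 : Clm := ⟨14, 14, true, [1,4,4,1,4,4,1,4,4,1,5,1,9], [4,1,4,4,1,5,1,4,1,4,1,4,1,4,4,1,4,1,5,9], 11, [([], 2760, [1,4,4,1,4,4,1,4,4,1,5,1]), ([88,92,88], 104, [1,4,4,1,4,4,1,4,1,4,4,1,4,4,1,5,1,5]), ([92,90], 2761, [4,1,4,1,5,1,5,1,4,4,1,5,1,4,1,4,4,1,4,4,1,4])], []⟩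
def c2878 : Clm := ⟨14, 14, true, [4,1,4,4,1,5,1,4,1,4,1,4,1,4,4,1,4,1,5,9], [1,4,4,1,4,4,1,4,4,1,5,1,9], 5, [([], 2877, [])], []⟩
def c2879 : Clm := ⟨14, 14, true, [5,1,5,1,4,4,1,4,4,1,4,4,1,9], [4,1,4,1,4,1,4,4,1,4,4,1,4,1,5,1,4,1,2,10,5,8,12], 11, [([], 2760, [5,1,5,1,4,4,1,4,4,1,4,4,1]), ([158,93,90,88], 433, [4,1,4,1,5,1,5,1,4,1,5,1,4,1,5,1,4,1,5]), ([], 2790, [5,1,4,1,4,4,1,4,4,1,4,1,4,4,1])], []⟩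
def c2880 : Clm := ⟨14, 8, true, [4,1,4,1,4,1,5,1,9], [4,4,1,4,1,4,4,1,4,1,4,1,4,1,5,1,4,3,14,9,9], 11, [([], 2760, [4,1,4,1,4,1,5,1]), ([158], 330, [4,1,5,1,5,1,4,4,1,4,4,1,4,1,5,1,5,1,4,1]), ([357], 262, [1,4,4,1,5,1,4,4,1,4,1,5,1,4,1,4,4,1,4,4,1,5])], []⟩
def c2881 : Clm := ⟨8, 14, true, [4,4,1,4,1,4,4,1,4,1,4,1,4,1,5,1,4,3,14,9,9], [4,1,4,1,4,1,5,1,9], 5, [([], 2880, [])], []⟩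
def c2882 : Clm := ⟨14, 8, true, [4,1,4,1,4,1,4,4,1,4,4,1,9], [1,4,4,1,4,1,5,1,4,1,4,4,1,5,1,4,4,1,4,3,12,8,14], 11, [([], 2760, [4,1,4,1,4,1,4,4,1,4,4,1]), ([88,93,88], 340, [4,1,5,1,4,1,5,1,5,1,5,1,5,1,5]), ([357], 731, [1,4,1,4,1,5,1,5,1,5,1,5,1,4,1,4,1,5,1,4])], []⟩
def c2883 : Clm := ⟨8, 14, true, [1,4,4,1,4,1,5,1,4,1,4,4,1,5,1,4,4,1,4,3,12,8,14], [4,1,4,1,4,1,4,4,1,4,4,1,9], 5, [([], 2882, [])], []⟩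
def c2884 : Clm := ⟨14, 8, true, [1,5,1,4,1,4,4,1,4,1,4,1,5,1,9], [4,1,4,1,4,4,1,4,1,4,1,5,1,4,1,5,1,4,1,6,1,8], 11, [([], 2760, [1,5,1,4,1,4,4,1,4,1,4,1,5,1]), ([88,93], 1790, [1,4,1,4,1,4,4,1,5,1,5,1,4,1,4,4,1,4,4,1,4,1]), ([2688,2840], 1465, [1,5,1,5,1,4,1,4,1,4,1,4,4,1,5,1,5,1,5,1,4,1])], []⟩
def c2885 : Clm := ⟨8, 14, true, [4,1,4,1,4,4,1,4,1,4,1,5,1,4,1,5,1,4,1,6,1,8], [1,5,1,4,1,4,4,1,4,1,4,1,5,1,9], 5, [([], 2884, [])], []⟩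
def c2886 : Clm := ⟨14, 9, true, [1,4,4,1,4,1,4,1,4,1,4,9], [1,5,1,5,1,4,1,5,1,5,1,4,4,1,5,1,4,1,5,6,1,6,13], 11, [([], 2760, [1,4,4,1,4,1,4,1,4,1,4]), ([90,88], 1663, [1,5,1,4,1,4,4,1,4,1,4,4,1,5,1,4,1,5,1,5]), ([2840,2688], 2256, [1,4,1,4,1,4,4,1,5,1,4,4,1,4,4,1,5,1,5])], []⟩
def c2887 : Clm := ⟨9, 14, true, [1,5,1,5,1,4,1,5,1,5,1,4,4,1,5,1,4,1,5,6,1,6,13], [1,4,4,1,4,1,4,1,4,1,4,9], 5, [([], 2886, [])], []⟩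
def c2888 : Clm := ⟨14, 10, true, [4,1,4,1,4,1,4,4,1,5,1,4,1,4,1,4,9], [4,1,4,1,4,1,5,1,5,1,4,4,1,2,11,4,13], 11, [([], 2760, [4,1,4,1,4,1,4,4,1,5,1,4,1,4,1,4]), ([93,88], 713, [5,1,4,1,5,1,5,1,4,4,1,5,1,5,1,4,4]), ([357], 2020, [1,4,4,1,4,1,5,1,4,1,4,4,1,4,4,1,5,1,5])], []⟩
def c2889 : Clm := ⟨10, 14, true, [4,1,4,1,4,1,5,1,5,1,4,4,1,2,11,4,13], [4,1,4,1,4,1,4,4,1,5,1,4,1,4,1,4,9], 5, [([], 2888, [])], []⟩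
def c2890 : Clm := ⟨14, 8, true, [4,1,5,1,4,1,4,1,4,1,4,4,1,5,1,9], [1,4,4,1,5,1,5,1,4,4,1,5,1,4,4,1,4,1,5,6,4,7,11], 11, [([], 2760, [4,1,5,1,4,1,4,1,4,1,4,4,1,5,1]), ([92,88], 2644, [1,4,1,4,1,5,1,5,1,4,1,4,1,4,4,1,4,4,1]), ([5078], 2617, [5,1,4,1,4,1,4,4,1,5,1,4,1,4,1,5,1,4,1,5,1,4])], []⟩
def c2891 : Clm := ⟨8, 14, true, [1,4,4,1,5,1,5,1,4,4,1,5,1,4,4,1,4,1,5,6,4,7,11], [4,1,5,1,4,1,4,1,4,1,4,4,1,5,1,9], 5, [([], 2890, [])], []⟩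
def c2892 : Clm := ⟨14, 8, true, [4,1,4,1,5,1,4,4,1,4,4,1,4,9], [4,1,5,1,4,4,1,4,4,1,4,1,4,1,5,1,6,8,3], 11, [([], 2760, [4,1,4,1,5,1,4,4,1,4,4,1,4]), ([90,93], 275, [5,1,4,1,4,4,1,4,1,5,1,4,4,1,4,1,4,4]), ([356], 702, [4,4,1,5,1,4,4,1,4,4,1,4,4,1,4,1,4,1,5,1,5])], []⟩
def c2893 : Clm := ⟨8, 14, true, [4,1,5,1,4,4,1,4,4,1,4,1,4,1,5,1,6,8,3], [4,1,4,1,5,1,4,4,1,4,4,1,4,9], 5, [([], 2892, [])], []⟩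
def c2894 : Clm := ⟨14, 9, true, [5,1,5,1,4,1,4,1,5,1,9], [1,4,1,4,1,5,1,5,1,4,4,1,5,1,5,1,5,1,4,1,5,2,4,2,4], 11, [([], 2760, [5,1,5,1,4,1,4,1,5,1]), ([90], 1268, [1,4,4,1,4,1,4,1,4,1,4,1,5,1,4,1,5,1,5]), ([2197,2114,2004], 1202, [1,4,1,5,1,5,1,4,1,5,1,4,1,4,1,4,4,1,4,1,4,1,4])], []⟩
def c2895 : Clm := ⟨9, 14, true, [1,4,1,4,1,5,1,5,1,4,4,1,5,1,5,1,5,1,4,1,5,2,4,2,4], [5,1,5,1,4,1,4,1,5,1,9], 5, [([], 2894, [])], []⟩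
def c2896 : Clm := ⟨14, 8, true, [4,1,4,4,1,4,1,4,4,1,4,9], [1,5,1,4,4,1,4,4,1,4,1,4,1,6,4,8,1], 11, [([], 2760, [4,1,4,4,1,4,1,4,4,1,4]), ([88,93,88], 336, [1,5,1,4,4,1,5,1,5,1,4,4,1,4,1,5,1,5,1,4,4]), ([357], 482, [1,4,1,4,4,1,4,4,1,4,1,4,4,1,4,1,5,1,4])], []⟩
def c2897 : Clm := ⟨8, 14, true, [1,5,1,4,4,1,4,4,1,4,1,4,1,6,4,8,1], [4,1,4,4,1,4,1,4,4,1,4,9], 5, [([], 2896, [])], []⟩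
def c2898 : Clm := ⟨14, 9, true, [5,1,4,1,4,1,4,1,4,9], [4,4,1,5,1,4,1,4,1,5,1,4,4,1,5,1,4,4,1,6,4,13,4], 11, [([], 2760, [5,1,4,1,4,1,4,1,4]), ([92,92,158], 214, [1,4,1,4,1,4,1,4,1,4,4,1,4,4,1,5,1,4,4]), ([], 1147, [4,1,4,1,4,4,1,4,4,1,5,1,4,4,1,4,4,1,5,1,5])], []⟩
def c2899 : Clm := ⟨9, 14, true, [4,4,1,5,1,4,1,4,1,5,1,4,4,1,5,1,4,4,1,6,4,13,4], [5,1,4,1,4,1,4,1,4,9], 5, [([], 2898, [])], []⟩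
def c2900 : Clm := ⟨14, 8, true, [4,1,4,1,4,4,1,4,1,4,4,1,4,1,9], [1,5,1,4,1,5,1,4,4,1,5,1,5,1,4,1,4,1,4,4,1,4,13,8,11], 11, [([], 2760, [4,1,4,1,4,4,1,4,1,4,4,1,4,1]), ([90,93,88], 2151, [4,4,1,4,1,4,4,1,5,1,5,1,5]), ([], 1582, [4,4,1,5,1,4,4,1,4,4,1,5,1,5,1,4,1,4])], []⟩
def c2901 : Clm := ⟨8, 14, true, [1,5,1,4,1,5,1,4,4,1,5,1,5,1,4,1,4,1,4,4,1,4,13,8,11], [4,1,4,1,4,4,1,4,1,4,4,1,4,1,9], 5, [([], 2900, [])], []⟩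
def c2902 : Clm := ⟨14, 10, true, [1,4,1,4,4,1,5,1,4,1,4,1,4,1,9], [1,4,1,5,1,4,4,1,4,1,4,1,5,1,10,10,1,7], 11, [([], 2760, [1,4,1,4,4,1,5,1,4,1,4,1,4,1]), ([90], 1936, [1,5,1,4,4,1,5,1,4,1,4,4,1,4,1,4,4,1,5,1,4,1]), ([2840], 2000, [1,4,4,1,4,4,1,4,1,5,1,5,1,5,1,4])], []⟩
def c2903 : Clm := ⟨10, 14, true, [1,4,1,5,1,4,4,1,4,1,4,1,5,1,10,10,1,7], [1,4,1,4,4,1,5,1,4,1,4,1,4,1,9], 5, [([], 2902, [])], []⟩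
def c2904 : Clm := ⟨14, 8, true, [1,4,1,4,1,4,1,4,1,4,9], [5,1,4,1,4,4,1,5,1,4,4,1,5,1,5,1,4,3,12,1], 11, [([], 2760, [1,4,1,4,1,4,1,4,1,4]), ([88,92], 1013, [1,4,1,4,4,1,4,1,5,1,4,4,1,4,4,1,5,1,4]), ([2197,2004], 1313, [5,1,4,1,4,1,4,1,4,4,1,4,4,1,4,1,5,1,5])], []⟩
def c2905 : Clm := ⟨8, 14, true, [5,1,4,1,4,4,1,5,1,4,4,1,5,1,5,1,4,3,12,1], [1,4,1,4,1,4,1,4,1,4,9], 5, [([], 2904, [])], []⟩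
def c2906 : Clm := ⟨14, 8, true, [4,4,1,4,1,4,4,1,4,1,5,1,5,1,4,9], [4,1,5,1,5,1,4,1,5,1,4,4,1,5,1,5,1,8,10,4,12], 11, [([], 2760, [4,4,1,4,1,4,4,1,4,1,5,1,5,1,4]), ([158,88], 1383, [1,4,1,5,1,4,4,1,5,1,5,1,5,1,4,4,1,4,4,1,4,4]), ([2840,2688], 1893, [4,1,5,1,5,1,4,1,4,4,1,5,1,4,4,1,5,1,4,1,4])], []⟩
def c2907 : Clm := ⟨8, 14, true, [4,1,5,1,5,1,4,1,5,1,4,4,1,5,1,5,1,8,10,4,12], [4,4,1,4,1,4,4,1,4,1,5,1,5,1,4,9], 5, [([], 2906, [])], []⟩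
def c2908 : Clm := ⟨14, 9, true, [1,4,1,4,4,1,4,4,1,4,4,1,4,1,4,1,9], [1,4,1,4,1,4,1,4,1,5,1,4,1,5,1,4,1,6,3,5,8], 11, [([], 2760, [1,4,1,4,4,1,4,4,1,4,4,1,4,1,4,1]), ([158,88], 1432, [5,1,5,1,5,1,5,1,4,1,4,1,4,4,1,5,1,4,4]), ([2688,2840,2688], 1639, [5,1,5,1,4,4,1,5,1,5,1,4,4,1,5,1,5])], []⟩
def c2909 : Clm := ⟨9, 14, true, [1,4,1,4,1,4,1,4,1,5,1,4,1,5,1,4,1,6,3,5,8], [1,4,1,4,4,1,4,4,1,4,4,1,4,1,4,1,9], 5, [([], 2908, [])], []⟩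
def c2910 : Clm := ⟨14, 10, true, [4,1,4,1,4,4,1,4,4,1,4,4,1,4,1,4,1,9], [1,4,4,1,4,4,1,5,1,4,1,4,1,5,1,4,1,5,1,2,4,1,6], 11, [([], 2760, [4,1,4,1,4,4,1,4,4,1,4,4,1,4,1,4,1]), ([158,92], 1133, [1,5,1,4,1,4,1,4,4,1,4,1,5,1,4,4]), ([], 1579, [4,1,5,1,4,4,1,5,1,4,4,1,5])], []⟩
def c2911 : Clm := ⟨10, 14, true, [1,4,4,1,4,4,1,5,1,4,1,4,1,5,1,4,1,5,1,2,4,1,6], [4,1,4,1,4,4,1,4,4,1,4,4,1,4,1,4,1,9], 5, [([], 2910, [])], []⟩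
def c2912 : Clm := ⟨14, 14, true, [4,4,1,4,4,1,4,4,1,4,4,1,9], [4,1,4,4,1,4,4,1,5,1,4,1,5,1,4,4,1,4,1,4,2,10,5,8,12], 11, [([], 2760, [4,4,1,4,4,1,4,4,1,4,4,1]), ([90,92], 2490, [1,5,1,4,1,5,1,5,1,4,4,1,5,1,5,1,5]), ([5078], 2796, [1,4,1,4,4,1,5,1,5,1,5,1,5,1,4,1,4,1])], []⟩
def c2913 : Clm := ⟨14, 14, true, [4,1,4,4,1,4,4,1,5,1,4,1,5,1,4,4,1,4,1,4,2,10,5,8,12], [4,4,1,4,4,1,4,4,1,4,4,1,9], 5, [([], 2912, [])], []⟩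
def c2914 : Clm := ⟨14, 10, true, [4,1,4,1,5,1,4,4,1,4,4,1,4,1,9], [1,5,1,4,4,1,4,4,1,5,1,5,1,5,1,4,4,1,4,1,5,12,9,7,9], 11, [([], 2760, [4,1,4,1,5,1,4,4,1,4,4,1,4,1]), ([92,92,158,88], 375, [5,1,5,1,4,1,4,4,1,5,1,4,4,1,5,1,5,1,4,1]), ([357], 1930, [4,4,1,4,1,4,1,4,1,5,1,4,1,5,1,4,1,4])], []⟩
def c2915 : Clm := ⟨10, 14, true, [1,5,1,4,4,1,4,4,1,5,1,5,1,5,1,4,4,1,4,1,5,12,9,7,9], [4,1,4,1,5,1,4,4,1,4,4,1,4,1,9], 5, [([], 2914, [])], []⟩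
def c2916 : Clm := ⟨14, 10, true, [1,4,4,1,4,4,1,4,1,4,4,1,4,9], [4,4,1,4,4,1,4,1,4,4,1,5,1,4,4,1,5,1,5,1,2,1,12,5], 11, [([], 2760, [1,4,4,1,4,4,1,4,1,4,4,1,4]), ([90,92,88], 346, [1,5,1,4,1,5,1,5,1,5,1,4,4,1,4,1,4,1,4,4,1]), ([357], 1450, [1,4,4,1,5,1,4,1,4,1,5,1,4,4,1,4,1,5])], []⟩
def c2917 : Clm := ⟨10, 14, true, [4,4,1,4,4,1,4,1,4,4,1,5,1,4,4,1,5,1,5,1,2,1,12,5], [1,4,4,1,4,4,1,4,1,4,4,1,4,9], 5, [([], 2916, [])], []⟩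
def c2918 : Clm := ⟨14, 8, true, [1,5,1,5,1,5,1,4,4,1,9], [1,4,4,1,4,4,1,5,1,4,4,1,4,4,1,5,1,5,1,5,1,5,1,2,4,1,11], 11, [([], 2760, [1,5,1,5,1,5,1,4,4,1]), ([93,90,88], 626, [4,1,4,1,4,1,4,1,4,1,4,4,1,4,4,1,4,1,4]), ([356], 680, [1,4,1,5,1,5,1,4,4,1,4,1,4,1,4,4,1,4])], []⟩
def c2919 : Clm := ⟨8, 14, true, [1,4,4,1,4,4,1,5,1,4,4,1,4,4,1,5,1,5,1,5,1,5,1,2,4,1,11], [1,5,1,5,1,5,1,4,4,1,9], 5, [([], 2918, [])], []⟩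
def c2920 : Clm := ⟨14, 10, true, [5,1,5,1,5,1,5,1,4,4,1,4,9], [1,5,1,4,4,1,5,1,4,4,1,5,1,4,4,1,5,1,4,4,1,5,7,8,8,7], 11, [([], 2760, [5,1,5,1,5,1,5,1,4,4,1,4]), ([92,92,158,88], 1566, [1,4,4,1,5,1,5,1,4,1,4,4,1,4,1,4,1,4]), ([], 2167, [4,4,1,5,1,5,1,5,1,5,1,5])], []⟩
def c2921 : Clm := ⟨10, 14, true, [1,5,1,4,4,1,5,1,4,4,1,5,1,4,4,1,5,1,4,4,1,5,7,8,8,7], [5,1,5,1,5,1,5,1,4,4,1,4,9], 5, [([], 2920, [])], []⟩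
def c2922 : Clm := ⟨14, 13, true, [1,4,1,5,1,5,1,5,1,5,1,9], [1,5,1,4,1,5,1,4,4,1,5,1,5,1,4,4,1,5,1,4,1,3,10,13,8], 11, [([], 2760, [1,4,1,5,1,5,1,5,1,5,1]), ([92,158,90], 2656, [1,5,1,4,1,4,4,1,5,1,5,1,5,1,4,4,1,4]), ([5120], 2506, [1,5,1,4,1,4,1,4,1,4,4,1,5,1,4,1,4,4,1,4,1,4,1])], []⟩
def c2923 : Clm := ⟨13, 14, true, [1,5,1,4,1,5,1,4,4,1,5,1,5,1,4,4,1,5,1,4,1,3,10,13,8], [1,4,1,5,1,5,1,5,1,5,1,9], 5, [([], 2922, [])], []⟩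
def c2924 : Clm := ⟨14, 9, true, [4,1,4,4,1,4,4,1,4,9], [1,4,4,1,4,4,1,4,1,4,1,5,1,5,1,4,4,1,5,1,4,4,1,2,7,10,6], 11, [([], 2760, [4,1,4,4,1,4,4,1,4]), ([93,158,90,88], 2205, [1,5,1,4,1,5,1,4,4,1,5,1,4,1,4,1,4,1]), ([], 1633, [1,4,4,1,4,4,1,4,4,1,4,1,4,1,4,1,4,4,1])], []⟩
def c2925 : Clm := ⟨9, 14, true, [1,4,4,1,4,4,1,4,1,4,1,5,1,5,1,4,4,1,5,1,4,4,1,2,7,10,6], [4,1,4,4,1,4,4,1,4,9], 5, [([], 2924, [])], []⟩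
def c2926 : Clm := ⟨14, 8, true, [1,5,1,4,4,1,4,4,1,4,4,1,4,9], [4,4,1,4,4,1,4,4,1,4,1,4,1,4,4,1,5,1,4,1,4,1,8,12,2,4], 11, [([], 2760, [1,5,1,4,4,1,4,4,1,4,4,1,4]), ([88,93,88], 275, [1,5,1,4,1,5,1,4,1,4,1,4,4,1,4,1,5,1,4,1]), ([357], 875, [4,1,4,1,5,1,4,1,5,1,4,4,1,5,1,5,1,5,1])], []⟩
def c2927 : Clm := ⟨8, 14, true, [4,4,1,4,4,1,4,4,1,4,1,4,1,4,4,1,5,1,4,1,4,1,8,12,2,4], [1,5,1,4,4,1,4,4,1,4,4,1,4,9], 5, [([], 2926, [])], []⟩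
def c2928 : Clm := ⟨14, 14, true, [5,1,4,4,1,4,1,4,1,4,1,9], [4,4,1,4,1,4,1,4,4,1,5,1,4,1,4,1,4,1,4,1,4,2,4,6,4], 11, [([], 2760, [5,1,4,4,1,4,1,4,1,4,1]), ([92,90], 1280, [4,1,4,4,1,5,1,4,1,4,4,1,4]), ([2196], 2898, [1,4,1,5,1,4,4,1,5,1,4,1,4,4,1,4,1,4,4,1,5])], []⟩
def c2929 : Clm := ⟨14, 14, true, [4,4,1,4,1,4,1,4,4,1,5,1,4,1,4,1,4,1,4,1,4,2,4,6,4], [5,1,4,4,1,4,1,4,1,4,1,9], 5, [([], 2928, [])], []⟩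
def c2930 : Clm := ⟨14, 8, true, [4,1,4,4,1,5,1,5,1,5,1,4,1,4,1,9], [1,4,4,1,4,4,1,5,1,4,4,1,4,1,4,1,5,1,4,4,2,5,13,3], 11, [([], 2760, [4,1,4,4,1,5,1,5,1,5,1,4,1,4,1]), ([], 512, [5,1,5,1,4,1,4,4,1,4,4,1,4,4,1,4,4,1,4,1]), ([356], 955, [1,4,1,5,1,4,1,5,1,5,1,5,1,4,4,1,4,1,4,1])], []⟩
def c2931 : Clm := ⟨8, 14, true, [1,4,4,1,4,4,1,5,1,4,4,1,4,1,4,1,5,1,4,4,2,5,13,3], [4,1,4,4,1,5,1,5,1,5,1,4,1,4,1,9], 5, [([], 2930, [])], []⟩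
def c2932 : Clm := ⟨14, 13, true, [5,1,5,1,4,1,4,4,1,5,1,9], [1,5,1,5,1,5,1,4,4,1,5,1,4,1,4,4,9], 11, [([], 2760, [5,1,5,1,4,1,4,4,1,5,1]), ([92,92,88], 81, [4,4,1,4,1,4,4,1,4,1,4,4,1,5,1,4,1,4,1,4,1]), ([92,88], 2490, [1,5,1,4,4,1,5,1,5,1,5,1,4,4,1,4,4,1,5])], []⟩
def c2933 : Clm := ⟨13, 14, true, [1,5,1,5,1,5,1,4,4,1,5,1,4,1,4,4,9], [5,1,5,1,4,1,4,4,1,5,1,9], 5, [([], 2932, [])], []⟩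
def c2934 : Clm := ⟨14, 8, true, [1,5,1,4,1,5,1,4,1,4,9], [1,4,1,4,4,1,4,4,1,5,1,5,1,5,1,4,4,1,4,4,1,5,13,8,11,13], 11, [([], 2760, [1,5,1,4,1,5,1,4,1,4]), ([158,92,92], 336, [5,1,4,4,1,5,1,5,1,4,1,5,1,5]), ([357], 900, [5,1,5,1,5,1,5,1,5,1,5,1,4,4,1,5,1,4,1,4,1,5])], []⟩
def c2935 : Clm := ⟨8, 14, true, [1,4,1,4,4,1,4,4,1,5,1,5,1,5,1,4,4,1,4,4,1,5,13,8,11,13], [1,5,1,4,1,5,1,4,1,4,9], 5, [([], 2934, [])], []⟩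
def c2936 : Clm := ⟨14, 8, true, [1,4,1,4,9], [4,1,4,4,1,5,1,4,1,4,1,5,1,4,4,1,5,1,4,4,1,4,10,13,7], 11, [([], 2760, [1,4,1,4]), ([93,158,90], 289, [4,4,1,5,1,4,4,1,5,1,5,1,4,1,5,1,4,4,1]), ([], 363, [1,5,1,5,1,5,1,5,1,4,1,5])], []⟩
def c2937 : Clm := ⟨8, 14, true, [4,1,4,4,1,5,1,4,1,4,1,5,1,4,4,1,5,1,4,4,1,4,10,13,7], [1,4,1,4,9], 5, [([], 2936, [])], []⟩
def c2938 : Clm := ⟨14, 8, true, [5,1,4,4,1,4,4,1,4,4,1,4,9], [4,1,5,1,4,1,4,1,4,1,4,4,1,5,1,4,1,12,9,14,10], 11, [([], 2760, [5,1,4,4,1,4,4,1,4,4,1,4]), ([93,158], 1058, [1,5,1,5,1,5,1,4,1,4,1,4,1,4,4,1,4,1]), ([2114], 1174, [1,4,1,4,1,4,1,5,1,5,1,4,1,4,1,5,1,4,1,5,1,5])], []⟩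
def c2939 : Clm := ⟨8, 14, true, [4,1,5,1,4,1,4,1,4,1,4,4,1,5,1,4,1,12,9,14,10], [5,1,4,4,1,4,4,1,4,4,1,4,9], 5, [([], 2938, [])], []⟩
def c2940 : Clm := ⟨14, 8, true, [4,1,5,1,4,1,5,1,4,4,1,5,1,9], [1,4,1,4,1,5,1,4,1,4,1,4,4,1,4,1,4,1,4,4,1,4,13,8], 11, [([], 2760, [4,1,5,1,4,1,5,1,4,4,1,5,1]), ([158,93,88], 433, [5,1,5,1,4,1,4,1,5,1,5,1,4,1,5,1,4,4,1,5]), ([356], 962, [1,4,4,1,4,1,5,1,5,1,4,1,4,4])], []⟩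
def c2941 : Clm := ⟨8, 14, true, [1,4,1,4,1,5,1,4,1,4,1,4,4,1,4,1,4,1,4,4,1,4,13,8], [4,1,5,1,4,1,5,1,4,4,1,5,1,9], 5, [([], 2940, [])], []⟩
def c2942 : Clm := ⟨14, 8, true, [1,5,1,4,4,1,4,4,1,4,1,4,4,1,9], [4,4,1,5,1,4,1,5,1,4,4,1,5,1,5,1,5,1,5,3,8,13,5], 11, [([], 2760, [1,5,1,4,4,1,4,4,1,4,1,4,4,1]), ([93,88], 1566, [1,4,1,4,1,4,4,1,5,1,4,1,4,1,4,1,4,4,1,4,1,4,1]), ([2688,2840,2688], 1631, [1,4,1,4,1,4,4,1,4,1,4,1,4,4,1,5])], []⟩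
def c2943 : Clm := ⟨8, 14, true, [4,4,1,5,1,4,1,5,1,4,4,1,5,1,5,1,5,1,5,3,8,13,5], [1,5,1,4,4,1,4,4,1,4,1,4,4,1,9], 5, [([], 2942, [])], []⟩
def c2944 : Clm := ⟨14, 8, true, [1,4,4,1,4,4,1,4,1,4,1,9], [4,1,5,1,5,1,4,4,1,5,1,4,1,4,4,1,4,4,1,4,1,9,11,8,7], 11, [([], 2760, [1,4,4,1,4,4,1,4,1,4,1]), ([92,158], 626, [4,1,5,1,4,1,4,1,4,4,1,4,4,1,4,4,1,5,1,5]), ([357], 902, [4,1,4,4,1,4,1,4,1,4,1,5,1,5,1,4,4,1,4])], []⟩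
def c2945 : Clm := ⟨8, 14, true, [4,1,5,1,5,1,4,4,1,5,1,4,1,4,4,1,4,4,1,4,1,9,11,8,7], [1,4,4,1,4,4,1,4,1,4,1,9], 5, [([], 2944, [])], []⟩
def c2946 : Clm := ⟨14, 10, true, [5,1,4,1,5,1,4,4,1,4,1,4,9], [5,1,5,1,4,1,5,1,4,4,1,5,1,4,2,4,12,1,5], 11, [([], 2760, [5,1,4,1,5,1,4,4,1,4,1,4]), ([158,92], 524, [1,4,4,1,4,4,1,5,1,4,1,4,4,1,4,4,1,4,4,1]), ([], 2143, [1,4,1,4,1,4,1,4,4,1,4,1,5,1,4,1,4,4,1,4,4,1,4])], []⟩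
def c2947 : Clm := ⟨10, 14, true, [5,1,5,1,4,1,5,1,4,4,1,5,1,4,2,4,12,1,5], [5,1,4,1,5,1,4,4,1,4,1,4,9], 5, [([], 2946, [])], []⟩
def c2948 : Clm := ⟨14, 8, true, [4,4,1,5,1,5,1,5,1,5,1,9], [4,1,4,1,5,1,4,1,4,1,4,4,1,4,1,4,1,5,2,11,6,8], 11, [([], 2760, [4,4,1,5,1,5,1,5,1,5,1]), ([158,93,88], 1363, [5,1,4,4,1,4,1,4,1,4,4,1,5,1,5,1,5,1]), ([2688,2840,2688], 1459, [1,4,1,4,1,5,1,4,4,1,5,1,4,1,5,1,5,1,4,4,1,4,1,4])], []⟩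
def c2949 : Clm := ⟨8, 14, true, [4,1,4,1,5,1,4,1,4,1,4,4,1,4,1,4,1,5,2,11,6,8], [4,4,1,5,1,5,1,5,1,5,1,9], 5, [([], 2948, [])], []⟩
def c2950 : Clm := ⟨14, 10, true, [4,1,4,1,4,4,1,4,1,4,1,9], [1,4,4,1,4,4,1,5,1,5,1,5,1,4,1,4,1,5,1,4,2,1,13,9], 11, [([], 2760, [4,1,4,1,4,4,1,4,1,4,1]), ([], 64, [4,1,4,4,1,5,1,5,1,4,4,1,5,1,4,1,5,1,5]), ([92,158,90], 1363, [1,4,1,4,4,1,4,1,5,1,5,1,5,1,5,1,4,1,5,1,4])], []⟩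
def c2951 : Clm := ⟨10, 14, true, [1,4,4,1,4,4,1,5,1,5,1,5,1,4,1,4,1,5,1,4,2,1,13,9], [4,1,4,1,4,4,1,4,1,4,1,9], 5, [([], 2950, [])], []⟩
def c2952 : Clm := ⟨14, 10, true, [5,1,4,4,1,4,4,1,4,4,1,4,1,9], [1,5,1,5,1,4,1,4,1,4,4,1,4,1,4,1,5,1,5,1,4,4,10,1,10], 11, [([], 2760, [5,1,4,4,1,4,4,1,4,4,1,4,1]), ([88,92,88], 340, [1,4,1,5,1,4,4,1,4,1,4,1,5,1,5,1,4,1,4,1,5]), ([], 1987, [1,4,1,4,1,5,1,4,1,4,1,5,1,4,1,5,1,4,1])], []⟩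
def c2953 : Clm := ⟨10, 14, true, [1,5,1,5,1,4,1,4,1,4,4,1,4,1,4,1,5,1,5,1,4,4,10,1,10], [5,1,4,4,1,4,4,1,4,4,1,4,1,9], 5, [([], 2952, [])], []⟩
def c2954 : Clm := ⟨14, 12, true, [4,4,1,4,1,4,1,5,1,4,9], [4,1,4,1,5,1,5,1,4,1,4,4,1,5,1,4,4,1,5,1,5,9], 11, [([], 2760, [4,4,1,4,1,4,1,5,1,4]), ([88], 70, [4,1,5,1,4,4,1,4,4,1,4,1,4,4,1,5,1,5,1,5,1,5]), ([93], 2383, [1,5,1,5,1,4,4,1,5,1,4,4,1,5,1,5,1,4])], []⟩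
def c2955 : Clm := ⟨12, 14, true, [4,1,4,1,5,1,5,1,4,1,4,4,1,5,1,4,4,1,5,1,5,9], [4,4,1,4,1,4,1,5,1,4,9], 5, [([], 2954, [])], []⟩
def c2956 : Clm := ⟨14, 9, true, [4,4,1,5,1,5,1,4,4,1,5,1,9], [1,5,1,4,4,1,4,1,4,1,5,1,4,1,4,4,1,5,1,4,1,2,10,2], 11, [([], 2760, [4,4,1,5,1,5,1,4,4,1,5,1]), ([92,92,90,88], 344, [5,1,5,1,5,1,5,1,4,4,1,4,1,4,4,1,5]), ([357], 1286, [5,1,4,1,4,4,1,4,1,4,1,4,4,1,4,1,4,4])], []⟩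
def c2957 : Clm := ⟨9, 14, true, [1,5,1,4,4,1,4,1,4,1,5,1,4,1,4,4,1,5,1,4,1,2,10,2], [4,4,1,5,1,5,1,4,4,1,5,1,9], 5, [([], 2956, [])], []⟩
def c2958 : Clm := ⟨14, 10, true, [5,1,4,1,4,4,1,9], [4,1,4,1,4,4,1,4,4,1,4,4,1,7,8,7], 11, [([], 2760, [5,1,4,1,4,4,1]), ([90], 344, [1,5,1,4,1,4,1,4,4,1,5,1,4,1,5,1,4,1,4,1,4]), ([357], 2289, [1,5,1,5,1,4,4,1,5,1,5,1,5,1,4,4,1,4,4,1,4,1,4])], []⟩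
def c2959 : Clm := ⟨10, 14, true, [4,1,4,1,4,4,1,4,4,1,4,4,1,7,8,7], [5,1,4,1,4,4,1,9], 5, [([], 2958, [])], []⟩
def c2960 : Clm := ⟨14, 8, true, [5,1,5,1,4,1,5,1,4,1,4,1,4,4,1,9], [5,1,4,1,5,1,5,1,5,1,5,1,5,1,5,1,5,1,5,9,1,8,14], 11, [([], 2760, [5,1,5,1,4,1,5,1,4,1,4,1,4,4,1]), ([92,92,90], 81, [1,4,4,1,5,1,5,1,4,4,1,5,1,5,1,4,4,1,4]), ([158,92,90], 320, [1,4,1,4,1,4,1,5,1,5])], []⟩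
def c2961 : Clm := ⟨8, 14, true, [5,1,4,1,5,1,5,1,5,1,5,1,5,1,5,1,5,1,5,9,1,8,14], [5,1,5,1,4,1,5,1,4,1,4,1,4,4,1,9], 5, [([], 2960, [])], []⟩
def c2962 : Clm := ⟨14, 13, true, [4,4,1,5,1,4,1,4,1,4,1,9], [1,5,1,4,1,4,1,4,1,5,1,5,1,5,1,5,1,4,4,1,5,1,4,8,8,7,4], 11, [([], 2760, [4,4,1,5,1,4,1,4,1,4,1]), ([158,88], 2656, [5,1,5,1,5,1,5,1,4,1,4,4,1,5,1,4,4,1,5,1,5,1]), ([5139,5078], 2686, [1,4,1,5,1,5,1,5,1,4,1,4,4,1,4,4,1,4,4,1,5,1])], []⟩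
def c2963 : Clm := ⟨13, 14, true, [1,5,1,4,1,4,1,4,1,5,1,5,1,5,1,5,1,4,4,1,5,1,4,8,8,7,4], [4,4,1,5,1,4,1,4,1,4,1,9], 5, [([], 2962, [])], []⟩
def c2964 : Clm := ⟨14, 8, true, [1,4,1,5,1,9], [1,4,1,5,1,4,1,4,1,4,1,4,1,4,1,4,1,5,1,4,4,1,13,11,3], 11, [([], 2760, [1,4,1,5,1]), ([92,158,90,88], 1971, [5,1,5,1,4,1,4,1,5]), ([], 1660, [1,4,1,5,1,4,4,1,5,1,5,1,4,1,5,1,4,4,1,5,1])], []⟩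
def c2965 : Clm := ⟨8, 14, true, [1,4,1,5,1,4,1,4,1,4,1,4,1,4,1,4,1,5,1,4,4,1,13,11,3], [1,4,1,5,1,9], 5, [([], 2964, [])], []⟩
def c2966 : Clm := ⟨14, 8, true, [5,1,4,1,4,1,4,1,4,4,1,5,1,9], [4,1,4,4,1,4,4,1,4,1,4,1,4,1,4,4,1,5,1,4,4,3,12,2,12], 11, [([], 2760, [5,1,4,1,4,1,4,1,4,4,1,5,1]), ([88,93,88], 353, [4,1,4,1,4,1,5,1,4,1,5,1,4,1,5,1,5,1,5]), ([356], 410, [4,1,4,1,4,4,1,4,4,1,4,1,4,4,1,4,1,4,4])], []⟩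
def c2967 : Clm := ⟨8, 14, true, [4,1,4,4,1,4,4,1,4,1,4,1,4,1,4,4,1,5,1,4,4,3,12,2,12], [5,1,4,1,4,1,4,1,4,4,1,5,1,9], 5, [([], 2966, [])], []⟩
def c2968 : Clm := ⟨14, 14, true, [5,1,4,1,4,4,1,4,1,4,1,4,9], [4,4,1,4,1,4,1,4,4,1,5,1,4,4,1,4,4,1,5,1,5,7,8,13,6], 11, [([], 2760, [5,1,4,1,4,4,1,4,1,4,1,4]), ([158,90,88], 281, [4,1,5,1,5,1,4,1,5,1,4,1,5,1,4,1,4,4,1,4,4]), ([356], 2960, [4,1,4,1,4,1,4,1,4,4,1,5,1,4,1])], []⟩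
def c2969 : Clm := ⟨14, 14, true, [4,4,1,4,1,4,1,4,4,1,5,1,4,4,1,4,4,1,5,1,5,7,8,13,6], [5,1,4,1,4,4,1,4,1,4,1,4,9], 5, [([], 2968, [])], []⟩
def c2970 : Clm := ⟨14, 8, true, [1,5,1,5,1,4,1,4,4,1,4,1,4,1,9], [4,1,5,1,4,4,1,4,4,1,4,4,1,4,1,4,4,1,5,7,11,14], 11, [([], 2760, [1,5,1,5,1,4,1,4,4,1,4,1,4,1]), ([92,92,90,88], 1566, [1,4,1,5,1,4,1,5,1,4,1,5,1,5,1]), ([], 1369, [5,1,4,4,1,4,4,1,4,4,1,5,1,4,1,4,4,1,4,4])], []⟩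
def c2971 : Clm := ⟨8, 14, true, [4,1,5,1,4,4,1,4,4,1,4,4,1,4,1,4,4,1,5,7,11,14], [1,5,1,5,1,4,1,4,4,1,4,1,4,1,9], 5, [([], 2970, [])], []⟩
def c2972 : Clm := ⟨14, 8, true, [4,1,4,4,1,5,1,4,1,5,1,4,1,9], [1,4,1,4,4,1,4,1,4,4,1,4,4,1,5,1,4,4,1,4,1,9,9,14,7], 11, [([], 2760, [4,1,4,4,1,5,1,4,1,5,1,4,1]), ([90,93,88], 1379, [4,1,4,1,4,1,4,1,4,1,5,1,4,1,4,4,1,5,1,5]), ([2688,2840], 1769, [4,4,1,5,1,4,4,1,4,4,1,4,1,4,1,5])], []⟩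
def c2973 : Clm := ⟨8, 14, true, [1,4,1,4,4,1,4,1,4,4,1,4,4,1,5,1,4,4,1,4,1,9,9,14,7], [4,1,4,4,1,5,1,4,1,5,1,4,1,9], 5, [([], 2972, [])], []⟩
def c2974 : Clm := ⟨14, 8, true, [4,4,1,4,1,4,4,1,5,1,4,1,4,1,4,9], [1,5,1,4,1,4,4,1,4,1,4,1,4,4,1,4,1,5,2,8,5,9,3], 11, [([], 2760, [4,4,1,4,1,4,4,1,5,1,4,1,4,1,4]), ([90,92,88], 1040, [4,4,1,5,1,4,1,5,1,5,1,4,4,1,4,1,5,1,4,4]), ([2197,2004], 1239, [4,4,1,5,1,5,1,4,4,1,4,1,4,4,1,4,4,1,4])], []⟩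
def c2975 : Clm := ⟨8, 14, true, [1,5,1,4,1,4,4,1,4,1,4,1,4,4,1,4,1,5,2,8,5,9,3], [4,4,1,4,1,4,4,1,5,1,4,1,4,1,4,9], 5, [([], 2974, [])], []⟩
def c2976 : Clm := ⟨14, 10, true, [5,1,4,4,1,4,4,1,5,1,9], [1,5,1,5,1,4,1,4,1,4,4,1,5,1,5,1,4,1,4,1,6,2,6,11], 11, [([], 2760, [5,1,4,4,1,4,4,1,5,1]), ([92,88], 1842, [4,1,5,1,4,4,1,5,1,4,4,1,5,1,5,1,5,1,4,1]), ([2840], 2135, [1,4,1,5,1,5,1,4,1,4,1,4,1,4,4,1,4,4])], []⟩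
def c2977 : Clm := ⟨10, 14, true, [1,5,1,5,1,4,1,4,1,4,4,1,5,1,5,1,4,1,4,1,6,2,6,11], [5,1,4,4,1,4,4,1,5,1,9], 5, [([], 2976, [])], []⟩
def c2978 : Clm := ⟨14, 14, true, [1,5,1,4,1,5,1,4,1,4,1,5,1,9], [4,1,4,1,4,4,1,4,1,4,1,5,1,4,1,5,1,4,1,4,13,4], 11, [([], 2760, [1,5,1,4,1,5,1,4,1,4,1,5,1]), ([158,90], 468, [1,4,4,1,4,4,1,4,4,1,4,1,4,1,4,1,5,1,5]), ([356], 2786, [4,1,5,1,4,1,5,1,4,1,5,1,5,1,5,1])], []⟩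
def c2979 : Clm := ⟨14, 14, true, [4,1,4,1,4,4,1,4,1,4,1,5,1,4,1,5,1,4,1,4,13,4], [1,5,1,4,1,5,1,4,1,4,1,5,1,9], 5, [([], 2978, [])], []⟩
def c2980 : Clm := ⟨14, 13, true, [1,4,4,1,4,4,1,4,4,1,4,1,9], [1,4,1,4,1,4,1,5,1,5,1,4,1,4,1,5,1,4,1,4,4,1,10,13,3], 11, [([], 2760, [1,4,4,1,4,4,1,4,4,1,4,1]), ([88], 2339, [1,5,1,4,1,5,1,4,4,1,5,1,4,1,5,1,4,4]), ([4704], 2727, [4,1,5,1,5,1,5,1,5,1,4,4,1,5,1,5,1,4,1,5])], []⟩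
def c2981 : Clm := ⟨13, 14, true, [1,4,1,4,1,4,1,5,1,5,1,4,1,4,1,5,1,4,1,4,4,1,10,13,3], [1,4,4,1,4,4,1,4,4,1,4,1,9], 5, [([], 2980, [])], []⟩
def c2982 : Clm := ⟨14, 8, true, [4,1,5,1,5,1,4,4,1,4,9], [4,1,4,1,4,1,4,1,4,4,1,4,1,5,1,4,1,5,1,5,1,4,2,5,8,5], 11, [([], 2760, [4,1,5,1,5,1,4,4,1,4]), ([158,92,90,88], 536, [4,1,4,4,1,5,1,5,1,4,4,1,4,4,1,5,1,4,1,4,4]), ([356], 683, [1,4,4,1,5,1,4,4,1,5,1,4,4,1,4,1,4,4,1])], []⟩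
def c2983 : Clm := ⟨8, 14, true, [4,1,4,1,4,1,4,1,4,4,1,4,1,5,1,4,1,5,1,5,1,4,2,5,8,5], [4,1,5,1,5,1,4,4,1,4,9], 5, [([], 2982, [])], []⟩
def c2984 : Clm := ⟨14, 10, true, [1,4,4,1,4,4,1,9], [1,5,1,4,1,5,1,5,1,5,1,4,4,1,5,1,5,1,4,1,5,2,1,5,2], 11, [([], 2760, [1,4,4,1,4,4,1]), ([92,158], 2644, [4,4,1,4,4,1,4,1,5,1,5,1,4,4,1,4,4,1,5]), ([5078,5040], 2743, [1,4,4,1,4,1,4,1,4,1,4,4,1,5,1,5,1,5])], []⟩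
def c2985 : Clm := ⟨10, 14, true, [1,5,1,4,1,5,1,5,1,5,1,4,4,1,5,1,5,1,4,1,5,2,1,5,2], [1,4,4,1,4,4,1,9], 5, [([], 2984, [])], []⟩
def c2986 : Clm := ⟨14, 12, true, [1,5,1,5,1,5,1,4,1,4,1,4,1,4,9], [4,1,4,1,4,4,1,4,1,4,4,1,4,4,1,4,4,1,4,4,6,9], 11, [([], 2760, [1,5,1,5,1,5,1,4,1,4,1,4,1,4]), ([158,90], 214, [4,1,4,1,4,1,4,4,1,5,1,4,1,4,1,4,4]), ([357], 2387, [4,4,1,4,1,4,1,5,1,4,4,1,4,1,5,1,5,1,5])], []⟩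
def c2987 : Clm := ⟨12, 14, true, [4,1,4,1,4,4,1,4,1,4,4,1,4,4,1,4,4,1,4,4,6,9], [1,5,1,5,1,5,1,4,1,4,1,4,1,4,9], 5, [([], 2986, [])], []⟩
def c2988 : Clm := ⟨14, 10, true, [1,4,1,5,1,4,1,4,1,4,1,4,1,9], [5,1,4,1,4,1,4,4,1,5,1,4,1,4,1,4,4,1,5,1,3,4,10,14], 11, [([], 2760, [1,4,1,5,1,4,1,4,1,4,1,4,1]), ([90,92,88], 1383, [5,1,4,1,4,1,4,1,4,4,1,4,4]), ([2840,2688], 1946, [5,1,4,4,1,4,4,1,5,1,4,4,1,4])], []⟩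
def c2989 : Clm := ⟨10, 14, true, [5,1,4,1,4,1,4,4,1,5,1,4,1,4,1,4,4,1,5,1,3,4,10,14], [1,4,1,5,1,4,1,4,1,4,1,4,1,9], 5, [([], 2988, [])], []⟩
def c2990 : Clm := ⟨14, 10, true, [5,1,4,1,5,1,4,1,4,1,5,1,9], [1,5,1,5,1,4,1,5,1,5,1,4,4,1,5,1,5,1,5,1,10,8,11,7], 11, [([], 2760, [5,1,4,1,5,1,4,1,4,1,5,1]), ([92,158,90], 344, [1,5,1,5,1,4,1,4,4,1,4,4,1,5,1,5,1,5,1,4,1]), ([356], 1770, [1,5,1,4,4,1,4,1,5,1,5])], []⟩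
def c2991 : Clm := ⟨10, 14, true, [1,5,1,5,1,4,1,5,1,5,1,4,4,1,5,1,5,1,5,1,10,8,11,7], [5,1,4,1,5,1,4,1,4,1,5,1,9], 5, [([], 2990, [])], []⟩
def c2992 : Clm := ⟨14, 8, true, [1,4,1,4,1,4,1,5,1,5,1,4,4,1,5,1,9], [4,4,1,4,1,4,1,4,4,1,5,1,5,1,5,1,4,1,4,4,1,3,14,9,7], 11, [([], 2760, [1,4,1,4,1,4,1,5,1,5,1,4,4,1,5,1]), ([93,90,88], 104, [1,4,1,4,1,4,4,1,5,1,4,1,4,4,1,4,4,1,5,1,4,4,1]), ([88,93], 505, [5,1,4,1,5,1,4,1,5,1,5,1,5,1,5,1,5,1,5,1])], []⟩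
def c2993 : Clm := ⟨8, 14, true, [4,4,1,4,1,4,1,4,4,1,5,1,5,1,5,1,4,1,4,4,1,3,14,9,7], [1,4,1,4,1,4,1,5,1,5,1,4,4,1,5,1,9], 5, [([], 2992, [])], []⟩
def c2994 : Clm := ⟨14, 9, true, [4,4,1,4,1,4,1,4,1,4,1,9], [1,5,1,4,4,1,5,1,4,1,5,1,4,1,5,1,4,1,4,4,1,3,6,5,10], 11, [([], 2760, [4,4,1,4,1,4,1,4,1,4,1]), ([158,92,90,88], 713, [4,1,4,1,5,1,4,1,4,1,5,1,5,1,4,4,1,4,4,1,4]), ([356], 1028, [4,1,4,4,1,5,1,5,1,4,1,4,4,1,4,1,4,4,1,5,1])], []⟩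
def c2995 : Clm := ⟨9, 14, true, [1,5,1,4,4,1,5,1,4,1,5,1,4,1,5,1,4,1,4,4,1,3,6,5,10], [4,4,1,4,1,4,1,4,1,4,1,9], 5, [([], 2994, [])], []⟩
def c2996 : Clm := ⟨14, 10, true, [1,4,4,1,4,4,1,4,1,9], [1,5,1,5,1,5,1,4,4,1,4,1,4,4,1,5,1,4,1,4,1,6,2,12], 11, [([], 2760, [1,4,4,1,4,4,1,4,1]), ([88,93,88], 407, [1,4,1,4,1,4,4,1,5,1,4,1,5,1,4,4,1,4]), ([357], 2255, [5,1,4,1,4,4,1,4,4,1,5,1,5,1,4,1])], []⟩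
def c2997 : Clm := ⟨10, 14, true, [1,5,1,5,1,5,1,4,4,1,4,1,4,4,1,5,1,4,1,4,1,6,2,12], [1,4,4,1,4,4,1,4,1,9], 5, [([], 2996, [])], []⟩
def c2998 : Clm := ⟨14, 10, true, [1,5,1,5,1,5,1,4,1,4,1,9], [1,4,4,1,4,4,1,4,1,4,1,4,4,1,4,1,4,1,5,1,5,2,1,6], 11, [([], 2760, [1,5,1,5,1,5,1,4,1,4,1]), ([88,92], 96, [4,1,5,1,5,1,4,1,4,4,1,4,1,4,4,1]), ([93,158,90,88], 1663, [1,4,1,4,4,1,5,1,4,4,1,4,4,1,5,1,4,1,4,1,5,1,4])], []⟩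
def c2999 : Clm := ⟨10, 14, true, [1,4,4,1,4,4,1,4,1,4,1,4,4,1,4,1,4,1,5,1,5,2,1,6], [1,5,1,5,1,5,1,4,1,4,1,9], 5, [([], 2998, [])], []⟩
def c3000 : Clm := ⟨14, 8, true, [4,1,5,1,4,4,1,5,1,4,4,1,5,1,5,1,5,1,9,4,14,12], [1,4,1,5,1,5,1,4,4,1,5,1,5,1,5,1,5,1,4,1,5,12,6,12], 9, [([], 2913, [4,1,4,1,5,1,4,1,5,1,4,1,4,1,4,4,1,4,1]), ([5604,5604], 2760, [4,4,1,5,1,5,1,4,1,4,4,1,4,1,4,4,1,4,1,5,1,5,1]), ([90], 322, [1,4,4,1,4,1,4,4,1,5,1,5,1,5,1,4,1])], []⟩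
def c3001 : Clm := ⟨8, 14, true, [1,4,1,5,1,5,1,4,4,1,5,1,5,1,5,1,5,1,4,1,5,12,6,12], [4,1,5,1,4,4,1,5,1,4,4,1,5,1,5,1,5,1,9,4,14,12], 5, [([], 3000, [])], []⟩
def c3002 : Clm := ⟨14, 8, true, [4,1,5,1,4,4,1,5,1,5,1,4,1,4,1,9], [5,1,4,1,4,4,1,5,1,4,1,4,1,5,1,4,1,3,10,8,10], 11, [([], 2760, [4,1,5,1,4,4,1,5,1,5,1,4,1,4,1]), ([158,92,92,88], 285, [1,5,1,4,1,5,1,4,4,1,4,1,4,1,5,1,5,1,4,1,5]), ([356], 572, [1,5,1,5,1,4,4,1,5,1,4,1,4,4])], []⟩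
def c3003 : Clm := ⟨8, 14, true, [5,1,4,1,4,4,1,5,1,4,1,4,1,5,1,4,1,3,10,8,10], [4,1,5,1,4,4,1,5,1,5,1,4,1,4,1,9], 5, [([], 3002, [])], []⟩
def c3004 : Clm := ⟨14, 10, true, [1,4,4,1,5,1,4,4,1,5,1,9], [1,5,1,5,1,5,1,4,4,1,4,1,4,1,4,4,13,7,2], 11, [([], 2760, [1,4,4,1,5,1,4,4,1,5,1]), ([158,93], 585, [5,1,5,1,4,4,1,5,1,4,1,4,1,5]), ([], 2148, [1,4,1,5,1,4,1,5,1,4,1,4,4,1,4,1,4,1,5,1,4,4])], []⟩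
def c3005 : Clm := ⟨10, 14, true, [1,5,1,5,1,5,1,4,4,1,4,1,4,1,4,4,13,7,2], [1,4,4,1,5,1,4,4,1,5,1,9], 5, [([], 3004, [])], []⟩
def c3006 : Clm := ⟨14, 8, true, [1,4,1,4,1,4,1,5,1,4,9], [4,4,1,4,4,1,4,1,5,1,5,1,4,1,5,3,7,9,14], 11, [([], 2760, [1,4,1,4,1,4,1,5,1,4]), ([158,92,90,88], 48, [4,1,4,1,4,1,4,1,5,1,4,4,1,4,1,5,1,5,1,4,4,1,4]), ([158,92,90,88], 528, [4,1,4,1,5,1,4,1,4,4,1,5,1,4,1,5,1])], []⟩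
def c3007 : Clm := ⟨8, 14, true, [4,4,1,4,4,1,4,1,5,1,5,1,4,1,5,3,7,9,14], [1,4,1,4,1,4,1,5,1,4,9], 5, [([], 3006, [])], []⟩
def c3008 : Clm := ⟨14, 8, true, [1,4,4,1,4,1,4,4,1,4,1,4,1,5,1,9], [5,1,4,1,4,4,1,4,4,1,5,1,5,1,5,1,4,4,1,2,10,12,14], 11, [([], 2760, [1,4,4,1,4,1,4,4,1,4,1,4,1,5,1]), ([92,92,90,88], 1003, [1,4,1,4,1,4,1,4,1,4,1,4,4,1,4,1]), ([2196], 1265, [5,1,4,1,5,1,5,1,4,4,1,5,1,5,1,5,1,4,1,5])], []⟩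
def c3009 : Clm := ⟨8, 14, true, [5,1,4,1,4,4,1,4,4,1,5,1,5,1,5,1,4,4,1,2,10,12,14], [1,4,4,1,4,1,4,4,1,4,1,4,1,5,1,9], 5, [([], 3008, [])], []⟩
def c3010 : Clm := ⟨14, 10, true, [1,4,1,4,4,1,4,1,5,1,5,1,9], [4,1,4,4,1,4,1,5,1,5,1,5,1,5,1,4,1,9,5,1,6], 11, [([], 2760, [1,4,1,4,4,1,4,1,5,1,5,1]), ([92], 719, [4,1,4,1,5,1,4,1,4,4,1,4,1,5,1,5,1,5,1,4,1]), ([], 2022, [5,1,4,1,4,1,4,4,1,4,4,1,4])], []⟩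
def c3011 : Clm := ⟨10, 14, true, [4,1,4,4,1,4,1,5,1,5,1,5,1,5,1,4,1,9,5,1,6], [1,4,1,4,4,1,4,1,5,1,5,1,9], 5, [([], 3010, [])], []⟩
def c3012 : Clm := ⟨14, 13, true, [1,4,1,5,1,4,1,5,1,4,1,4,4,1,5,1,9], [5,1,4,1,4,1,4,1,4,4,1,4,4,1,5,1,4,1,4,1,3,8,4,11], 11, [([], 2760, [1,4,1,5,1,4,1,5,1,4,1,4,4,1,5,1]), ([90,92], 275, [4,1,4,4,1,4,4,1,4,4,1,4,1,4,1,4,4,1,5,1,4]), ([356], 2711, [5,1,4,1,4,1,4,1,5,1,4,4,1,4,1])], []⟩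
def c3013 : Clm := ⟨13, 14, true, [5,1,4,1,4,1,4,1,4,4,1,4,4,1,5,1,4,1,4,1,3,8,4,11], [1,4,1,5,1,4,1,5,1,4,1,4,4,1,5,1,9], 5, [([], 3012, [])], []⟩
def c3014 : Clm := ⟨14, 10, true, [5,1,4,4,1,4,4,1,5,1,4,1,4,1,9], [5,1,5,1,4,4,1,5,1,4,4,1,5,1,5,1,3,5,9,12], 11, [([], 2760, [5,1,4,4,1,4,4,1,5,1,4,1,4,1]), ([92], 304, [5,1,5,1,5,1,5,1,4,4,1,4,1,4,4,1,4,1]), ([], 2323, [4,4,1,4,1,4,4,1,4,4,1,4,4,1,5,1,4])], []⟩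
def c3015 : Clm := ⟨10, 14, true, [5,1,5,1,4,4,1,5,1,4,4,1,5,1,5,1,3,5,9,12], [5,1,4,4,1,4,4,1,5,1,4,1,4,1,9], 5, [([], 3014, [])], []⟩
def c3016 : Clm := ⟨14, 10, true, [4,1,4,1,4,1,4,1,5,1,4,9], [1,4,4,1,4,4,1,4,1,5,1,4,1,4,1,5,1,5,1,4,1,4,6,8,1,9], 11, [([], 2760, [4,1,4,1,4,1,4,1,5,1,4]), ([158,90], 1383, [4,4,1,4,1,5,1,4,1,4,1,5,1,5,1,5,1,4]), ([], 2225, [4,1,4,1,4,1,4,4,1,5,1,4,1,4,4,1])], []⟩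
def c3017 : Clm := ⟨10, 14, true, [1,4,4,1,4,4,1,4,1,5,1,4,1,4,1,5,1,5,1,4,1,4,6,8,1,9], [4,1,4,1,4,1,4,1,5,1,4,9], 5, [([], 3016, [])], []⟩
def c3018 : Clm := ⟨14, 8, true, [4,1,4,1,4,4,1,5,1,5,1,5,1,9], [5,1,5,1,5,1,4,1,5,1,4,4,1,4,1,4,1,7,3,12], 11, [([], 2760, [4,1,4,1,4,4,1,5,1,5,1,5,1]), ([158,93,88], 1070, [1,5,1,4,1,4,1,4,4,1,4,1,4,4,1,4,1,4,1,5]), ([2196], 1047, [5,1,4,4,1,5,1,5,1,4,4,1,5,1,4,1,4,4])], []⟩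
def c3019 : Clm := ⟨8, 14, true, [5,1,5,1,5,1,4,1,5,1,4,4,1,4,1,4,1,7,3,12], [4,1,4,1,4,4,1,5,1,5,1,5,1,9], 5, [([], 3018, [])], []⟩
def c3020 : Clm := ⟨14, 10, true, [1,5,1,4,1,4,1,4,4,1,4,1,5,1,5,1,9], [4,1,4,1,4,1,4,1,4,4,1,4,1,4,1,4,1,5,1,6,8,1], 11, [([], 2760, [1,5,1,4,1,4,1,4,4,1,4,1,5,1,5,1]), ([158,88], 330, [1,5,1,5,1,5,1,4,1,4,4,1,4,1,4,4,1,5,1,4]), ([356], 1575, [4,4,1,4,1,5,1,5,1,4,1,4,4,1,5,1,5,1,4,1,4,1])], []⟩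
def c3021 : Clm := ⟨10, 14, true, [4,1,4,1,4,1,4,1,4,4,1,4,1,4,1,4,1,5,1,6,8,1], [1,5,1,4,1,4,1,4,4,1,4,1,5,1,5,1,9], 5, [([], 3020, [])], []⟩
def c3022 : Clm := ⟨14, 6, true, [5,1,4,1,5,1,5,1,9], [5,1,4,4,1,5,1,4,1,5,1,5,1,5,1,5,1,5,1,10,1,8,1], 11, [([], 2760, [5,1,4,1,5,1,5,1]), ([88,92,88], 1566, [1,4,1,4,1,4,4,1,4,4,1,5,1,4,1,4,1,5,1,4,1]), ([2688,2840,2688], 1984, [1,4,1,4,1,4,4,1,5,1,4,1,4,1,5,1,5,1,4,1,4,4])], []⟩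
def c3023 : Clm := ⟨6, 14, true, [5,1,4,4,1,5,1,4,1,5,1,5,1,5,1,5,1,5,1,10,1,8,1], [5,1,4,1,5,1,5,1,9], 5, [([], 3022, [])], []⟩
def c3024 : Clm := ⟨14, 8, true, [1,5,1,4,4,1,4,1,4,1,9], [5,1,4,4,1,4,4,1,4,1,5,1,5,1,4,1,4,4,2,5,10,13], 11, [([], 2760, [1,5,1,4,4,1,4,1,4,1]), ([88,93], 536, [4,1,4,1,4,4,1,4,1,4,1,5,1,5,1,4,4,1,5,1,5]), ([357], 870, [1,5,1,4,1,5,1,4,1,4,4,1,5,1,4,1,4,1,5,1,4])], []⟩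
def c3025 : Clm := ⟨8, 14, true, [5,1,4,4,1,4,4,1,4,1,5,1,5,1,4,1,4,4,2,5,10,13], [1,5,1,4,4,1,4,1,4,1,9], 5, [([], 3024, [])], []⟩
def c3026 : Clm := ⟨14, 10, true, [1,5,1,4,1,5,1,4,4,1,5,1,4,9], [1,5,1,4,1,5,1,5,1,4,4,1,5,1,5,1,4,4,1,5,1,5,1,9], 11, [([], 2760, [1,5,1,4,1,5,1,4,4,1,5,1,4]), ([88,92], 99, [1,5,1,4,1,4,1,4,1,4,4,1,5,1,4,1,4,1,4,1]), ([46,73,78], 1331, [1,5,1,4,4,1,5,1,4,4,1,4,1,4,1,4,1,4,4,1,5,1])], []⟩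
def c3027 : Clm := ⟨10, 14, true, [1,5,1,4,1,5,1,5,1,4,4,1,5,1,5,1,4,4,1,5,1,5,1,9], [1,5,1,4,1,5,1,4,4,1,5,1,4,9], 5, [([], 3026, [])], []⟩
def c3028 : Clm := ⟨14, 9, true, [4,4,1,9], [1,4,4,1,5,1,4,4,1,4,1,5,1,4,1,4,1,4,4,1,4,1,4,3,9,4,13], 11, [([], 2760, [4,4,1]), ([158,92], 1363, [1,5,1,4,1,4,1,4,1,4,4,1,5,1,4,4,1,5,1,5,1,4,1,5]), ([2688,2840], 1463, [5,1,4,4,1,5,1,4,1,4,1,4,1,4,4,1,4,4,1,4,1])], []⟩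
def c3029 : Clm := ⟨9, 14, true, [1,4,4,1,5,1,4,4,1,4,1,5,1,4,1,4,1,4,4,1,4,1,4,3,9,4,13], [4,4,1,9], 5, [([], 3028, [])], []⟩
def c3030 : Clm := ⟨14, 8, true, [1,5,1,5,1,5,1,4,1,4,1,4,9], [1,4,4,1,5,1,5,1,4,1,4,1,4,1,4,4,1,4,4,3,10,8,13], 11, [([], 2760, [1,5,1,5,1,5,1,4,1,4,1,4]), ([158,88], 626, [4,1,5,1,4,1,4,4,1,4,1,4,1,4,4]), ([356], 230, [4,1,5,1,5,1,4,1,4,4,1,4,1,5,1,4])], []⟩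
def c3031 : Clm := ⟨8, 14, true, [1,4,4,1,5,1,5,1,4,1,4,1,4,1,4,4,1,4,4,3,10,8,13], [1,5,1,5,1,5,1,4,1,4,1,4,9], 5, [([], 3030, [])], []⟩
def c3032 : Clm := ⟨14, 8, true, [4,4,1,4,1,4,4,1,4,1,5,1,5,1,9], [4,1,4,4,1,5,1,4,4,1,4,1,5,1,4,1,4,8,12,2,1], 11, [([], 2760, [4,4,1,4,1,4,4,1,4,1,5,1,5,1]), ([92,88], 128, [5,1,4,1,4,1,4,4,1,4,1,4,4,1,4,4,1,4,1,5,1]), ([229,241,230], 315, [1,4,4,1,4,1,4,1,4,4,1,5,1,5,1,5,1,4,1])], []⟩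
def c3033 : Clm := ⟨8, 14, true, [4,1,4,4,1,5,1,4,4,1,4,1,5,1,4,1,4,8,12,2,1], [4,4,1,4,1,4,4,1,4,1,5,1,5,1,9], 5, [([], 3032, [])], []⟩
def c3034 : Clm := ⟨14, 8, true, [1,4,1,5,1,5,1,5,1,4,1,4,1,9], [1,5,1,5,1,5,1,5,1,4,1,4,4,1,5,1,4,4,1,5,1,4,2,11,13,4], 11, [([], 2760, [1,4,1,5,1,5,1,5,1,4,1,4,1]), ([92,92,88], 1902, [1,5,1,5,1,4,1,5,1,4,1,4,1,4,4,1,4,1,5,1]), ([], 1337, [1,5,1,4,1,4,1,4,4,1,4,1,4,4,1,4,1])], []⟩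
def c3035 : Clm := ⟨8, 14, true, [1,5,1,5,1,5,1,5,1,4,1,4,4,1,5,1,4,4,1,5,1,4,2,11,13,4], [1,4,1,5,1,5,1,5,1,4,1,4,1,9], 5, [([], 3034, [])], []⟩
def c3036 : Clm := ⟨14, 8, true, [1,5,1,4,1,4,4,1,4,4,1,4,4,1,4,9], [1,5,1,5,1,4,1,4,1,4,4,1,4,4,1,4,1,5,1,5,1,4,12,7,5,14], 11, [([], 2760, [1,5,1,4,1,4,4,1,4,4,1,4,4,1,4]), ([90,88], 1383, [1,4,4,1,5,1,5,1,5,1,5,1,4,1,4,1,5,1,4,4]), ([], 1396, [4,1,5,1,5,1,4,4,1,4,1,4,1,5,1,4,4])], []⟩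
def c3037 : Clm := ⟨8, 14, true, [1,5,1,5,1,4,1,4,1,4,4,1,4,4,1,4,1,5,1,5,1,4,12,7,5,14], [1,5,1,4,1,4,4,1,4,4,1,4,4,1,4,9], 5, [([], 3036, [])], []⟩
def c3038 : Clm := ⟨14, 13, true, [1,4,1,5,1,5,1,5,1,4,9], [5,1,4,4,1,5,1,4,4,1,4,4,1,4,1,4,1,5,6,2,12,11], 11, [([], 2760, [1,4,1,5,1,5,1,5,1,4]), ([93], 1686, [4,1,5,1,5,1,5,1,4,1,4,4,1,4,4,1,4,1,4]), ([], 2734, [1,4,1,4,4,1,5,1,5,1,4,1,4,4,1,4,4,1])], []⟩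
def c3039 : Clm := ⟨13, 14, true, [5,1,4,4,1,5,1,4,4,1,4,4,1,4,1,4,1,5,6,2,12,11], [1,4,1,5,1,5,1,5,1,4,9], 5, [([], 3038, [])], []⟩
def c3040 : Clm := ⟨14, 14, true, [4,1,4,1,4,1,4,4,1,4,1,4,4,1,9], [4,1,4,1,4,1,4,4,1,4,1,4,4,1,5,2,1,13,9], 11, [([], 2760, [4,1,4,1,4,1,4,4,1,4,1,4,4,1]), ([93,90], 2383, [1,4,1,4,4,1,4,1,4,1,4,1,4,4,1,4,4,1,5,1,5]), ([4812,4823,4812], 2767, [1,5,1,4,4,1,4,4,1,4,4,1,4,1,4,1,4,1,5,1,4])], []⟩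
def c3041 : Clm := ⟨14, 14, true, [4,1,4,1,4,1,4,4,1,4,1,4,4,1,5,2,1,13,9], [4,1,4,1,4,1,4,4,1,4,1,4,4,1,9], 5, [([], 3040, [])], []⟩
def c3042 : Clm := ⟨14, 8, true, [4,1,4,1,4,1,4,1,4,1,5,1,5,1,9], [1,4,1,4,4,1,4,1,5,1,5,1,5,1,5,1,5,1,8,3,6], 11, [([], 2760, [4,1,4,1,4,1,4,1,4,1,5,1,5,1]), ([92,90,88], 1373, [1,4,1,5,1,4,1,4,4,1,5,1,4,1,4,1,5]), ([], 2117, [1,5,1,5,1,5,1,4,1,5,1,4,4,1,5,1,5,1,4])], []⟩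
def c3043 : Clm := ⟨8, 14, true, [1,4,1,4,4,1,4,1,5,1,5,1,5,1,5,1,5,1,8,3,6], [4,1,4,1,4,1,4,1,4,1,5,1,5,1,9], 5, [([], 3042, [])], []⟩
def c3044 : Clm := ⟨14, 8, true, [4,4,1,4,1,5,1,5,1,5,1,4,4,1,5,1,5,1,4,12,7,11], [1,4,4,1,4,4,1,5,1,4,4,1,5,13,2,9], 9, [([5605,5524,5605], 3041, [4,1,4,4,1,4,4,1,4,4,1,4,4,1,5,1,4,1,4,1,4]), ([5604], 2760, [1,4,4,1,5,1,5,1,4,1,5,1,4,1,5,1,4,1,4,1,4,1,4]), ([93,90,88], 191, [1,4,4,1,4,1,4,1,4,1,4,4,1,5,1,4,1,4,4,1,4,4,1,4,1])], []⟩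
def c3045 : Clm := ⟨8, 14, true, [1,4,4,1,4,4,1,5,1,4,4,1,5,13,2,9], [4,4,1,4,1,5,1,5,1,5,1,4,4,1,5,1,5,1,4,12,7,11], 5, [([], 3044, [])], []⟩
def c3046 : Clm := ⟨14, 13, true, [1,4,1,4,1,4,1,4,1,5,1,4,9], [4,1,4,1,4,1,4,4,1,5,1,5,1,5,1,5,2,8,8,1], 11, [([], 2760, [1,4,1,4,1,4,1,4,1,5,1,4]), ([92,90,88], 468, [4,1,5,1,4,4,1,4,4,1,5,1,5,1,4,4,1,5]), ([], 2616, [4,1,4,1,4,4,1,5,1,4,4,1,4,4,1,4,1,4,1,4,4,1])], []⟩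
def c3047 : Clm := ⟨13, 14, true, [4,1,4,1,4,1,4,4,1,5,1,5,1,5,1,5,2,8,8,1], [1,4,1,4,1,4,1,4,1,5,1,4,9], 5, [([], 3046, [])], []⟩
def c3048 : Clm := ⟨14, 14, true, [1,4,1,5,1,4,1,4,1,5,1,4,9], [4,4,1,4,1,4,4,1,5,1,4,4,1,5,1,5,1,4,1,5,1,4,4,2,5,11,2], 11, [([], 2760, [1,4,1,5,1,4,1,4,1,5,1,4]), ([92,92,90], 493, [1,5,1,4,1,4,4,1,4,4]), ([], 2857, [4,4,1,4,1,5,1,4,4,1,4,4,1,5,1,5,1,4])], []⟩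
def c3049 : Clm := ⟨14, 8, true, [5,1,5,1,5,1,4,4,1,5,1,5,1,9], [4,4,1,4,1,5,1,5,1,4,4,1,4,1,4,4,1,4,1,4,4,1,13,1,4,4], 11, [([], 2760, [5,1,5,1,5,1,4,4,1,5,1,5,1]), ([90,93], 1268, [1,4,4,1,4,4,1,4,1,4,4,1,4,4,1,5,1,5,1,4,1,5]), ([2004], 1176, [1,4,4,1,4,4,1,4,4,1,5,1,5,1,4,4,1,4,4])], []⟩
def c3050 : Clm := ⟨8, 14, true, [4,4,1,4,1,5,1,5,1,4,4,1,4,1,4,4,1,4,1,4,4,1,13,1,4,4], [5,1,5,1,5,1,4,4,1,5,1,5,1,9], 5, [([], 3049, [])], []⟩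
def c3051 : Clm := ⟨14, 10, true, [4,4,1,4,4,1,5,1,5,1,5,1,5,1,9], [4,1,4,1,4,1,4,4,1,5,1,4,1,5,1,4,1,4,1,4,2,10,7,13], 11, [([], 2760, [4,4,1,4,4,1,5,1,5,1,5,1,5,1]), ([92,92], 289, [1,4,4,1,4,4,1,5,1,4,1,5,1,5,1,4,4,1,4,1,5]), ([357], 1575, [1,4,1,4,1,5,1,4,4,1,4,4,1,4,1,4,1,5,1,4,1,5])], []⟩
def c3052 : Clm := ⟨10, 14, true, [4,1,4,1,4,1,4,4,1,5,1,4,1,5,1,4,1,4,1,4,2,10,7,13], [4,4,1,4,4,1,5,1,5,1,5,1,5,1,9], 5, [([], 3051, [])], []⟩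
def c3053 : Clm := ⟨14, 8, true, [5,1,5,1,4,1,4,1,4,1,5,1,9], [5,1,4,4,1,4,1,5,1,4,1,5,1,4,1,5,1,4,1,4,4,8,3,12,11], 11, [([], 2760, [5,1,5,1,4,1,4,1,4,1,5,1]), ([92], 81, [1,4,1,4,1,4,1,5,1,5,1,4,4,1,5,1,5,1,5,1,4]), ([158,92,90,88], 285, [4,1,4,4,1,4,1,5,1,4,1,5,1,5,1,4,1,5])], []⟩
def c3054 : Clm := ⟨8, 14, true, [5,1,4,4,1,4,1,5,1,4,1,5,1,4,1,5,1,4,1,4,4,8,3,12,11], [5,1,5,1,4,1,4,1,4,1,5,1,9], 5, [([], 3053, [])], []⟩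
def c3055 : Clm := ⟨14, 8, true, [5,1,4,1,4,1,4,4,1,4,1,5,1,5,1,9], [1,4,1,4,1,4,1,4,4,1,5,1,4,1,4,4,1,4,4,1,5,1,3,10,10,9], 11, [([], 2760, [5,1,4,1,4,1,4,4,1,4,1,5,1,5,1]), ([], 81, [4,4,1,4,4,1,5,1,5,1,4,4,1,4,4,1]), ([88,92], 291, [4,1,4,1,4,4,1,4,4,1,4,1,4,4,1,4,1,5])], []⟩
def c3056 : Clm := ⟨8, 14, true, [1,4,1,4,1,4,1,4,4,1,5,1,4,1,4,4,1,4,4,1,5,1,3,10,10,9], [5,1,4,1,4,1,4,4,1,4,1,5,1,5,1,9], 5, [([], 3055, [])], []⟩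
def c3057 : Clm := ⟨14, 14, true, [4,1,4,4,1,4,1,9], [1,4,1,5,1,4,1,4,4,1,4,1,4,1,5,1,5,1,4,4,3,1,5,13], 11, [([], 2760, [4,1,4,4,1,4,1]), ([88,92], 1040, [4,1,4,1,4,1,4,1,4,1,5,1,4,4,1,4,4,1,5,1,4,1,4]), ([2114,2004], 2794, [1,4,1,4,1,5,1,5,1,4,1,4,1,4,4,1,4,4,1,4,4])], []⟩
def c3058 : Clm := ⟨14, 8, true, [1,4,1,4,1,4,1,4,1,5,1,5,1,5,1,5,1,9], [1,5,1,4,1,5,1,4,1,4,1,4,1,4,1,5,1,5,1,4,1,3,10,6,4], 11, [([], 2760, [1,4,1,4,1,4,1,4,1,5,1,5,1,5,1,5,1]), ([], 1003, [1,4,1,4,1,4,1,4,4,1,4,4,1,4,1,5,1,4]), ([2197,2114], 1144, [1,4,1,4,4,1,5,1,5,1,4,1,4])], []⟩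
def c3059 : Clm := ⟨8, 14, true, [1,5,1,4,1,5,1,4,1,4,1,4,1,4,1,5,1,5,1,4,1,3,10,6,4], [1,4,1,4,1,4,1,4,1,5,1,5,1,5,1,5,1,9], 5, [([], 3058, [])], []⟩
def c3060 : Clm := ⟨14, 14, true, [1,4,4,1,4,1,4,4,1,4,1,9], [1,4,1,5,1,4,1,4,1,4,1,4,4,1,4,4,1,4,4,1,4,2,5,6], 11, [([], 2760, [1,4,4,1,4,1,4,4,1,4,1]), ([158], 214, [1,4,1,4,4,1,4,4,1,4,1,5,1,5,1,4,4]), ([357], 2972, [5,1,4,4,1,5,1,5,1,5,1,4,1,4,1,5,1])], []⟩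
def c3061 : Clm := ⟨14, 9, true, [4,4,1,5,1,5,1,4,4,1,5,1,4,4,1,5,1,4,1,4,7,11,2,5], [4,1,4,4,1,4,1,5,1,5,1,5,1,5,1,5,1,5,1,7,9,6,12], 9, [([5604,5524,5604], 2929, [1,4,1,4,1,5,1,4,1,4,1,5,1,5,1,5,1,5,1]), ([5524,5604], 2760, [1,4,1,4,4,1,4,1,5,1,4,4,1,5,1,4,4,1]), ([92,88], 1280, [4,4,1,4,1,4,1,4,1,4,1,4,1,4,1,5,1,4,1,4,4])], []⟩
def c3062 : Clm := ⟨9, 14, true, [4,1,4,4,1,4,1,5,1,5,1,5,1,5,1,5,1,5,1,7,9,6,12], [4,4,1,5,1,5,1,4,4,1,5,1,4,4,1,5,1,4,1,4,7,11,2,5], 5, [([], 3061, [])], []⟩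
def c3063 : Clm := ⟨14, 8, true, [4,1,5,1,5,1,5,1,5,1,4,4,1,9], [1,5,1,4,4,1,5,1,4,1,4,4,1,4,4,1,4,3,7,4,9], 11, [([], 2760, [4,1,5,1,5,1,5,1,5,1,4,4,1]), ([158,92,92], 505, [4,1,4,1,5,1,4,1,4,1,5,1,5,1,4,1,4,1,4,4]), ([], 366, [4,4,1,4,1,4,1,4,4,1,5,1,4,1,4,1,5,1,4,1,5])], []⟩
def c3064 : Clm := ⟨8, 14, true, [1,5,1,4,4,1,5,1,4,1,4,4,1,4,4,1,4,3,7,4,9], [4,1,5,1,5,1,5,1,5,1,4,4,1,9], 5, [([], 3063, [])], []⟩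
def c3065 : Clm := ⟨14, 8, true, [4,4,1,4,4,1,5,1,4,1,4,1,4,1,4,4,1,4,4,3,1,5,7], [1,4,1,5,1,4,1,4,4,1,5,1,4,1,4,1,4,3,1,13,4], 9, [([5524], 2878, [1,5,1,4,4,1,4,1,5,1,4,1,5,1,5,1,5,1,4]), ([5524,5605], 2760, [1,4,1,4,1,4,4,1,5,1,4,1,5,1,5,1,4,1,5,1,5]), ([158,90,88], 249, [1,4,4,1,5,1,4,1,4,1,5,1,5,1,5,1])], []⟩
def c3066 : Clm := ⟨8, 14, true, [1,4,1,5,1,4,1,4,4,1,5,1,4,1,4,1,4,3,1,13,4], [4,4,1,4,4,1,5,1,4,1,4,1,4,1,4,4,1,4,4,3,1,5,7], 5, [([], 3065, [])], []⟩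
def c3067 : Clm := ⟨14, 8, true, [5,1,5,1,5,1,5,1,4,4,1,4,1,5,10], [1,4,1,4,4,1,4,1,4,1,4,1,4,4,1,5,1,5,1,3,9,10,1], 9, [([], 2760, [5,1,5,1,5,1,5,1,4,4,1,4,1,5]), ([93,158], 1058, [4,1,5,1,5,1,4,4,1,5,1,5,1,4,4,1,4,4,1,4,1]), ([2114,2004], 1047, [4,1,4,4,1,5,1,4,4,1,4,1,4,1,5,1])], []⟩
def c3068 : Clm := ⟨8, 14, true, [1,4,1,4,4,1,4,1,4,1,4,1,4,4,1,5,1,5,1,3,9,10,1], [5,1,5,1,5,1,5,1,4,4,1,4,1,5,10], 5, [([], 3067, [])], []⟩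
def c3069 : Clm := ⟨14, 9, true, [1,5,1,5,1,5,1,4,1,10], [1,4,4,1,5,1,4,1,5,1,4,4,1,4,1,5,2,1,12,11], 9, [([], 2760, [1,5,1,5,1,5,1,4,1]), ([93,88], 96, [4,1,5,1,5,1,4,1,5,1,5,1,4,4,1,4,1,5,1,4,4]), ([92], 1294, [5,1,4,1,4,4,1,5,1,5,1,4,1,4,4])], []⟩
def c3070 : Clm := ⟨9, 14, true, [1,4,4,1,5,1,4,1,5,1,4,4,1,4,1,5,2,1,12,11], [1,5,1,5,1,5,1,4,1,10], 5, [([], 3069, [])], []⟩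
def c3071 : Clm := ⟨14, 10, true, [4,1,4,1,5,1,4,4,1,4,10], [4,1,4,4,1,5,1,4,4,1,5,1,5,1,4,1,4,1,4,1,4,6,11,13,11], 9, [([], 2760, [4,1,4,1,5,1,4,4,1,4]), ([158,90,88], 1721, [1,5,1,4,4,1,4,1,4,1,5,1,4,1,4,4,1,4,1,5,1]), ([2688,2840], 1544, [1,5,1,5,1,4,1,4,1,4,1,4,1,5,1,5])], []⟩
def c3072 : Clm := ⟨10, 14, true, [4,1,4,4,1,5,1,4,4,1,5,1,5,1,4,1,4,1,4,1,4,6,11,13,11], [4,1,4,1,5,1,4,4,1,4,10], 5, [([], 3071, [])], []⟩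
def c3073 : Clm := ⟨14, 12, true, [1,4,1,4,4,1,4,4,1,4,10], [1,5,1,4,1,5,1,5,1,4,4,1,5,1,5,1,4,1,5,1,6,13,11,2], 9, [([], 2760, [1,4,1,4,4,1,4,4,1,4]), ([92,92,90], 1133, [4,1,4,1,4,1,4,1,4,1,4,4,1,5,1,4,1,5,1,5,1]), ([2010], 2385, [4,4,1,4,4,1,4,4,1,4,4,1,5,1,4,1,4,1,5])], []⟩
def c3074 : Clm := ⟨12, 14, true, [1,5,1,4,1,5,1,5,1,4,4,1,5,1,5,1,4,1,5,1,6,13,11,2], [1,4,1,4,4,1,4,4,1,4,10], 5, [([], 3073, [])], []⟩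
def c3075 : Clm := ⟨14, 14, true, [1,5,1,4,1,4,4,1,4,4,1,4,10], [4,1,4,1,4,1,4,4,1,5,1,4,1,4,4,1,4,4,1,4,1,5,6,4,2,1], 9, [([], 2760, [1,5,1,4,1,4,4,1,4,4,1,4]), ([158,93,88], 289, [5,1,4,1,5,1,5,1,4,1,5,1,4,4,1,4,4,1,4,4]), ([356], 3044, [1,5,1,5,1,4,4,1,5,1,4,1,4,1,4,4,1,4,4,1,4,4])], []⟩
def c3076 : Clm := ⟨14, 8, true, [1,4,1,5,1,5,1,4,4,10], [5,1,5,1,4,1,4,1,4,1,4,4,1,4,4,1,4,1,5,13,2,1], 9, [([], 2760, [1,4,1,5,1,5,1,4,4]), ([158,93,88], 1790, [1,5,1,4,1,5,1,5,1,4,1,5,1,4,1,5]), ([2688,2840], 1337, [1,4,4,1,4,1,4,1,4,4,1,4,1,4,1,4,1,5,1,5,1,5])], []⟩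
def c3077 : Clm := ⟨8, 14, true, [5,1,5,1,4,1,4,1,4,1,4,4,1,4,4,1,4,1,5,13,2,1], [1,4,1,5,1,5,1,4,4,10], 5, [([], 3076, [])], []⟩
def c3078 : Clm := ⟨14, 8, true, [4,1,4,1,4,4,1,4,1,10], [1,5,1,5,1,4,4,1,4,4,1,4,4,1,4,1,5,1,3,11,11], 9, [([], 2760, [4,1,4,1,4,4,1,4,1]), ([88,93,88], 2763, [4,1,5,1,4,1,4,1,4,1,4,1,4,4,1,4,4,1,4,1]), ([5524,5604,5604], 2846, [1,4,4,1,4,1,4,4,1,4,1,4,1,4,4,1,4,1,4])], []⟩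
def c3079 : Clm := ⟨8, 14, true, [1,5,1,5,1,4,4,1,4,4,1,4,4,1,4,1,5,1,3,11,11], [4,1,4,1,4,4,1,4,1,10], 5, [([], 3078, [])], []⟩
def c3080 : Clm := ⟨14, 8, true, [5,1,4,4,1,4,1,10], [1,5,1,4,4,1,4,4,1,4,1,4,1,4,4,6,2,8,10], 9, [([], 2760, [5,1,4,4,1,4,1]), ([92,92], 1383, [1,4,1,4,1,4,1,4,4,1,5,1,5,1,4,4,1,4,4,1]), ([2688], 1392, [4,1,4,4,1,4,1,4,1,4,1,4,1,5,1,4,1,4,4,1])], []⟩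
def c3081 : Clm := ⟨8, 14, true, [1,5,1,4,4,1,4,4,1,4,1,4,1,4,4,6,2,8,10], [5,1,4,4,1,4,1,10], 5, [([], 3080, [])], []⟩
def c3082 : Clm := ⟨14, 14, true, [1,4,1,4,4,1,5,1,5,1,4,1,4,10], [1,4,1,5,1,4,1,4,1,5,1,5,1,4,1,4,4,1,4,1,6,8,12,5], 9, [([], 2760, [1,4,1,4,4,1,5,1,5,1,4,1,4]), ([92], 713, [1,5,1,4,4,1,4,4,1,5,1,4,1]), ([], 2843, [5,1,4,4,1,4,4,1,4,1,5,1,4,1,4,4,1,4])], []⟩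
def c3083 : Clm := ⟨14, 8, true, [4,1,4,1,4,1,4,1,4,1,4,10], [4,1,4,4,1,5,1,5,1,4,1,4,1,5,1,5,1,5,1,7,1,9,7], 9, [([], 2760, [4,1,4,1,4,1,4,1,4,1,4]), ([], 145, [4,1,4,1,5,1,4,4,1,4,4,1,4,4,1,4,4,1,5]), ([282,282,270], 324, [4,4,1,4,4,1,4,1,5,1,5])], []⟩
def c3084 : Clm := ⟨8, 14, true, [4,1,4,4,1,5,1,5,1,4,1,4,1,5,1,5,1,5,1,7,1,9,7], [4,1,4,1,4,1,4,1,4,1,4,10], 5, [([], 3083, [])], []⟩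
def c3085 : Clm := ⟨14, 7, true, [4,1,4,1,4,1,4,4,1,10], [4,1,4,1,4,4,1,4,1,4,4,1,4,4,1,4,4,1,4,1,12,8,4,12], 9, [([], 2760, [4,1,4,1,4,1,4,4,1]), ([93], 1373, [1,4,1,5,1,5,1,4,1,5,1,4,4,1,4,1,4,1,5,1,4,1]), ([2840,2688], 1419, [1,5,1,5,1,5,1,5,1,5,1,4,1,4,1,4,1,5])], []⟩
def c3086 : Clm := ⟨7, 14, true, [4,1,4,1,4,4,1,4,1,4,4,1,4,4,1,4,4,1,4,1,12,8,4,12], [4,1,4,1,4,1,4,4,1,10], 5, [([], 3085, [])], []⟩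
def c3087 : Clm := ⟨14, 10, true, [4,4,1,4,1,4,1,5,1,10], [1,4,1,4,1,4,1,4,4,1,4,1,5,1,4,1,4,4,1,4,6,2,5,10], 9, [([], 2760, [4,4,1,4,1,4,1,5,1]), ([158,90,88], 2151, [1,5,1,4,1,4,1,5,1,5,1,4,1,5,1,4,4,1,4,4]), ([2840], 2320, [4,1,4,1,4,1,5,1,4,1,5,1,4,4,1,4,4])], []⟩
def c3088 : Clm := ⟨10, 14, true, [1,4,1,4,1,4,1,4,4,1,4,1,5,1,4,1,4,4,1,4,6,2,5,10], [4,4,1,4,1,4,1,5,1,10], 5, [([], 3087, [])], []⟩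
def c3089 : Clm := ⟨14, 14, true, [4,1,4,1,4,4,1,5,1,4,1,4,1,10], [4,1,4,4,1,4,1,4,1,4,1,4,1,4,1,5,6,5,8], 9, [([], 2760, [4,1,4,1,4,4,1,5,1,4,1,4,1]), ([90], 1432, [1,4,1,4,4,1,5,1,4,4,1,4,1,4,1,4,1,4,1,4]), ([2688,2840], 2778, [4,1,4,1,5,1,5,1,4,1,4,1,4,1])], []⟩
def c3090 : Clm := ⟨14, 14, true, [1,5,1,4,1,4,1,4,4,1,5,1,4,10], [1,4,1,4,1,4,4,1,4,1,4,4,1,5,1,5,1,5,8], 9, [([], 2760, [1,5,1,4,1,4,1,4,4,1,5,1,4]), ([], 62, [5,1,5,1,4,1,4,1,4,4,1,4,4,1,4,1,5,1,4,1]), ([92,88], 2761, [1,4,1,4,1,4,4,1,4,1,4,4,1,5,1,5,1,5])], []⟩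
def c3091 : Clm := ⟨14, 14, true, [4,1,4,1,5,1,4,1,4,1,4,10], [1,4,4,1,4,4,1,5,1,5,1,4,1,4,4,1,4,4,2,12,2,9], 9, [([], 2760, [4,1,4,1,5,1,4,1,4,1,4]), ([158], 128, [4,1,4,1,4,4,1,4,1,4,1,5,1,4,1,5,1]), ([228,230], 3022, [1,4,1,4,1,4,4,1,4,1,4,4,1,5,1,4,4])], []⟩
def c3092 : Clm := ⟨14, 8, true, [4,1,5,1,5,1,4,1,4,1,10], [1,5,1,5,1,4,1,4,4,1,5,1,5,1,4,1,5,8,8], 9, [([], 2760, [4,1,5,1,5,1,4,1,4,1]), ([93], 304, [1,5,1,5,1,4,4,1,4,1,5,1,5,1,4,1,4,4,1,4,1]), ([], 557, [1,5,1,5,1,5,1,4,4,1,4,4,1,5,1,4,1,4,4,1,5])], []⟩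
def c3093 : Clm := ⟨8, 14, true, [1,5,1,5,1,4,1,4,4,1,5,1,5,1,4,1,5,8,8], [4,1,5,1,5,1,4,1,4,1,10], 5, [([], 3092, [])], []⟩
def c3094 : Clm := ⟨14, 8, true, [5,1,4,1,4,1,4,1,4,10], [1,4,1,5,1,4,1,5,1,5,1,5,1,4,4,6,9,14,2], 9, [([], 2760, [5,1,4,1,4,1,4,1,4]), ([158,93,90], 289, [1,5,1,5,1,4,1,4,1,4,1,4,1,5,1,4,4,1,4]), ([357], 978, [1,5,1,5,1,4,4,1,4,4,1,5,1,4,1,5,1,4,4,1])], []⟩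
def c3095 : Clm := ⟨8, 14, true, [1,4,1,5,1,4,1,5,1,5,1,5,1,4,4,6,9,14,2], [5,1,4,1,4,1,4,1,4,10], 5, [([], 3094, [])], []⟩
def c3096 : Clm := ⟨14, 10, true, [1,4,1,4,1,4,1,5,1,10], [1,5,1,4,1,5,1,4,4,1,4,4,1,5,1,4,4,1,5,9,3,6], 9, [([], 2760, [1,4,1,4,1,4,1,5,1]), ([158,92,92,88], 1663, [1,4,1,5,1,4,1,5,1,5,1,4,4,1,4,1,4]), ([2840,2688], 1942, [4,4,1,4,1,4,4,1,4,1,4,1,4,1,4,4,1,5])], []⟩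
def c3097 : Clm := ⟨10, 14, true, [1,5,1,4,1,5,1,4,4,1,4,4,1,5,1,4,4,1,5,9,3,6], [1,4,1,4,1,4,1,5,1,10], 5, [([], 3096, [])], []⟩
def c3098 : Clm := ⟨14, 14, true, [5,1,4,4,1,4,1,4,1,5,1,10], [4,4,1,4,4,1,4,1,4,4,1,4,4,1,5,1,5,1,5,2,8,1], 9, [([], 2760, [5,1,4,4,1,4,1,4,1,5,1]), ([90], 1127, [1,5,1,4,4,1,5,1,4,1,4,4,1,4,4,1,4,1,4,1]), ([2197,2114], 3028, [1,4,4,1,5,1,5,1,5,1,5,1,5,1,5,1,5,1,5,1,4])], []⟩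
def c3099 : Clm := ⟨14, 14, true, [4,4,1,4,4,1,4,1,4,4,1,4,4,1,5,1,5,1,5,2,8,1], [5,1,4,4,1,4,1,4,1,5,1,10], 5, [([], 3098, [])], []⟩
def c3100 : Clm := ⟨14, 10, true, [1,5,1,4,1,4,4,1,4,4,10], [1,5,1,5,1,4,1,4,1,4,1,4,1,4,1,4,1,5,1,5,2,10,1,8], 9, [([], 2760, [1,5,1,4,1,4,4,1,4,4]), ([93], 1775, [4,1,5,1,5,1,4,1,4,4,1,5,1,5,1,5,1,5,1]), ([], 2202, [1,4,1,4,1,5,1,4,1,4,4,1,4,1,4,4,1])], []⟩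
def c3101 : Clm := ⟨10, 14, true, [1,5,1,5,1,4,1,4,1,4,1,4,1,4,1,4,1,5,1,5,2,10,1,8], [1,5,1,4,1,4,4,1,4,4,10], 5, [([], 3100, [])], []⟩
def c3102 : Clm := ⟨14, 10, true, [4,1,5,1,5,1,4,1,4,1,4,1,4,1,10], [1,5,1,5,1,4,4,1,5,1,4,4,1,5,1,4,6,12,10,5], 9, [([], 2760, [4,1,5,1,5,1,4,1,4,1,4,1,4,1]), ([92], 1133, [1,4,1,4,1,4,1,5,1,5,1,4,4,1,4,1,5,1,5]), ([2010], 2334, [5,1,4,4,1,4,1,5,1,4,1,4,1,5,1,5,1,5,1])], []⟩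
def c3103 : Clm := ⟨10, 14, true, [1,5,1,5,1,4,4,1,5,1,4,4,1,5,1,4,6,12,10,5], [4,1,5,1,5,1,4,1,4,1,4,1,4,1,10], 5, [([], 3102, [])], []⟩
def c3104 : Clm := ⟨14, 8, true, [1,5,1,4,1,5,10], [5,1,5,1,4,1,5,1,4,1,4,1,4,1,4,1,5,1,7,1,2], 9, [([], 2760, [1,5,1,4,1,5]), ([92,92,88], 214, [1,4,1,4,4,1,5,1,5,1,5,1,4,4,1,5,1]), ([356], 894, [1,4,1,5,1,5,1,5,1,5,1,4,1,4,1,5,1,5])], []⟩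
def c3105 : Clm := ⟨8, 14, true, [5,1,5,1,4,1,5,1,4,1,4,1,4,1,4,1,5,1,7,1,2], [1,5,1,4,1,5,10], 5, [([], 3104, [])], []⟩
def c3106 : Clm := ⟨14, 8, true, [4,1,5,1,4,1,4,1,4,1,4,10], [4,4,1,4,4,1,5,1,4,1,4,1,5,1,4,1,4,1,5,6,11,2,7], 9, [([], 2760, [4,1,5,1,4,1,4,1,4,1,4]), ([158,90,88], 528, [1,4,4,1,5,1,4,1,4,1,5,1,4,4,1,4,4,1]), ([357], 975, [4,4,1,5,1,5,1,5,1,4,4,1,4,4,1,4,4,1,5,1])], []⟩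
def c3107 : Clm := ⟨8, 14, true, [4,4,1,4,4,1,5,1,4,1,4,1,5,1,4,1,4,1,5,6,11,2,7], [4,1,5,1,4,1,4,1,4,1,4,10], 5, [([], 3106, [])], []⟩
def c3108 : Clm := ⟨14, 10, true, [5,1,5,1,4,1,4,1,4,10], [4,4,1,5,1,4,1,4,4,1,4,4,1,5,1,4,1,5,1,5,6,9,4,13], 9, [([], 2760, [5,1,5,1,4,1,4,1,4]), ([93,158,88], 1377, [1,4,4,1,4,4,1,5,1,5,1,5,1,5,1,4,1,4,1,4,4,1,5]), ([2840], 1748, [4,1,4,4,1,4,1,4,1,5,1,4,4,1,4,1,4,1,5,1,4,1])], []⟩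
def c3109 : Clm := ⟨10, 14, true, [4,4,1,5,1,4,1,4,4,1,4,4,1,5,1,4,1,5,1,5,6,9,4,13], [5,1,5,1,4,1,4,1,4,10], 5, [([], 3108, [])], []⟩
def c3110 : Clm := ⟨14, 7, true, [4,1,4,1,4,1,4,1,4,4,10], [4,1,5,1,5,1,4,4,1,4,4,1,4,4,1,4,1,4,1,5,1,8,3,5,7], 9, [([], 2760, [4,1,4,1,4,1,4,1,4,4]), ([92,90,88], 2644, [1,4,4,1,4,4,1,4,1,4,1,5,1,4,4,1,4,4,1,4]), ([5138,5078], 2748, [4,1,4,1,4,1,5,1,5,1,5,1,4,4,1,4,4,1,4,4,1,5,1])], []⟩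
def c3111 : Clm := ⟨7, 14, true, [4,1,5,1,5,1,4,4,1,4,4,1,4,4,1,4,1,4,1,5,1,8,3,5,7], [4,1,4,1,4,1,4,1,4,4,10], 5, [([], 3110, [])], []⟩
def c3112 : Clm := ⟨14, 8, true, [1,4,4,1,5,1,4,1,5,1,4,1,4,10], [1,5,1,4,4,1,4,4,1,4,1,4,4,1,4,4,1,4,4,1,5,1,6,11,7,13], 9, [([], 2760, [1,4,4,1,5,1,4,1,5,1,4,1,4]), ([93,158,88], 375, [1,4,1,4,4,1,4,1,4,1,5,1,4]), ([356], 788, [1,4,1,5,1,5,1,5,1,4,1,4,1,4,4,1,4,1,4,1])], []⟩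
def c3113 : Clm := ⟨8, 14, true, [1,5,1,4,4,1,4,4,1,4,1,4,4,1,4,4,1,4,4,1,5,1,6,11,7,13], [1,4,4,1,5,1,4,1,5,1,4,1,4,10], 5, [([], 3112, [])], []⟩
def c3114 : Clm := ⟨14, 10, true, [1,4,4,1,4,1,4,1,5,1,5,1,4,1,4,10], [5,1,4,1,4,4,1,5,1,4,1,4,1,5,1,5,3,10,9], 9, [([], 2760, [1,4,4,1,4,1,4,1,5,1,5,1,4,1,4]), ([158,92,92,88], 1377, [1,5,1,4,1,5,1,5,1,4,4,1,4,4,1,4,4,1,5,1,5]), ([2688,2840,2688], 1534, [1,4,1,4,1,5,1,4,4,1,4,1,4,4,1,4,4,1,5])], []⟩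
def c3115 : Clm := ⟨10, 14, true, [5,1,4,1,4,4,1,5,1,4,1,4,1,5,1,5,3,10,9], [1,4,4,1,4,1,4,1,5,1,5,1,4,1,4,10], 5, [([], 3114, [])], []⟩
def c3116 : Clm := ⟨14, 8, true, [5,1,5,1,4,1,5,1,10], [4,4,1,5,1,4,1,4,1,5,1,5,1,5,2,10,13,1], 9, [([], 2760, [5,1,5,1,4,1,5,1]), ([158], 1842, [1,4,1,4,1,5,1,4,1,4,4,1,4,1,4,1,4,4,1,4]), ([2688], 2258, [4,1,4,4,1,5,1,5,1,5,1,4,4,1,5,1,5,1,4,1,4,4])], []⟩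
def c3117 : Clm := ⟨8, 14, true, [4,4,1,5,1,4,1,4,1,5,1,5,1,5,2,10,13,1], [5,1,5,1,4,1,5,1,10], 5, [([], 3116, [])], []⟩
def c3118 : Clm := ⟨14, 10, true, [4,4,1,5,1,4,4,1,4,1,5,1,4,10], [1,5,1,4,1,4,4,1,5,1,4,4,1,4,1,5,1,4,1,4,1,4,4,10,12,4,2], 9, [([], 2760, [4,4,1,5,1,4,4,1,4,1,5,1,4]), ([92,92], 2494, [4,1,4,1,4,4,1,5,1,5,1,5,1,4,4,1,4,1,4,4]), ([5078,5040], 2509, [1,4,1,4,1,5,1,5,1,4,1,4,1,4,1,4,1,4,4])], []⟩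
def c3119 : Clm := ⟨10, 14, true, [1,5,1,4,1,4,4,1,5,1,4,4,1,4,1,5,1,4,1,4,1,4,4,10,12,4,2], [4,4,1,5,1,4,4,1,4,1,5,1,4,10], 5, [([], 3118, [])], []⟩
def c3120 : Clm := ⟨13, 14, true, [1,5,1,4,1,5,1,4,4,1,5,1,4,4,1,5,1,5,1,5,1,10], [4,4,1,4,1,4,4,1,5,1,4,1,4,1,4,1,4,4,1,9,13,8,4], 9, [([], 2489, [1,5,1,4,1,5,1,4,4,1,5,1,4,4,1,5,1,5,1,5,1]), ([158,90], 2761, [4,4,1,5,1,5,1,4]), ([5604], 2813, [1,5,1,5,1,4,1,4,4,1,4,1,5,1,4,4,1,5,1])], []⟩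
def c3121 : Clm := ⟨14, 13, true, [4,4,1,4,1,4,4,1,5,1,4,1,4,1,4,1,4,4,1,9,13,8,4], [1,5,1,4,1,5,1,4,4,1,5,1,4,4,1,5,1,5,1,5,1,10], 5, [([], 3120, [])], []⟩
def c3122 : Clm := ⟨12, 14, true, [4,1,4,4,1,4,4,1,5,1,4,1,5,1,5,1,13,4,1], [1,5,1,5,1,4,1,5,1,4,1,5,1,5,1,5,1,5,1,5,9], 11, [([], 2386, [1,4,1,4,1,5,1,5,1,4,1,4,1,4,1,4,1,4,4,1,4,1,4]), ([2114,2004], 1041, [1,5,1,5,1,5,1,4,1,4,4,1,5,1,4,4,1]), ([93], 2761, [4,1,4,1,4,4,1,4,1,4,1])], []⟩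
def c3123 : Clm := ⟨14, 12, true, [1,5,1,5,1,4,1,5,1,4,1,5,1,5,1,5,1,5,1,5,9], [4,1,4,4,1,4,4,1,5,1,4,1,5,1,5,1,13,4,1], 5, [([], 3122, [])], []⟩
def c3124 : Clm := ⟨13, 14, true, [5,1,5,1,4,1,4,4,1,4,1,4,1,4,1,4,1,5,1,4,1,4,2,4,4,8], [1,4,1,4,1,4,1,4,4,1,4,1,5,1,4,1,4,4,1,5,1,9], 11, [([], 2585, [5,1,5,1,4,4,1,4,1,5,1,5,1,5,1,4,1,4,1]), ([], 1776, [1,5,1,5,1,4,1,4,4,1,4,4,1,5,1,4,1]), ([93,90,88], 2761, [4,1,4,1,5,1,5,1,4,1,4,1,4,1])], []⟩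
def c3125 : Clm := ⟨14, 13, true, [1,4,1,4,1,4,1,4,4,1,4,1,5,1,4,1,4,4,1,5,1,9], [5,1,5,1,4,1,4,4,1,4,1,4,1,4,1,4,1,5,1,4,1,4,2,4,4,8], 5, [([], 3124, [])], []⟩
def c3126 : Clm := ⟨10, 14, true, [1,4,4,1,5,1,4,4,1,4,4,1,4,1,4,4,1,5,1,5,6,11,9,6], [1,4,1,4,4,1,5,1,5,1,4,1,4,1,4,1,4,4,1,4,9], 11, [([], 2798, [4,4,1,5,1,4,1,5,1,4,1,5,1,4,1,4,1,4,4,1]), ([5605], 2812, [1,4,1,4,4,1,4,4,1,4,4,1,4,1,4,4,1,4,1,5]), ([158,93], 2761, [4,1,4,1,4,1,5,1,5,1,4,4,1,5,1])], []⟩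
def c3127 : Clm := ⟨14, 10, true, [1,4,1,4,4,1,5,1,5,1,4,1,4,1,4,1,4,4,1,4,9], [1,4,4,1,5,1,4,4,1,4,4,1,4,1,4,4,1,5,1,5,6,11,9,6], 5, [([], 3126, [])], []⟩
def c3128 : Clm := ⟨9, 14, true, [1,4,1,4,1,4,1,5,1,4,1,5,1,4,1,5,1,4,8,10], [1,5,1,5,1,4,1,4,1,4,4,1,5,1,5,1,4,1,9], 11, [([], 1267, [1,5,1,4,4,1,4,1,4,4,1,5,1,4,4,1,4,1,4]), ([88,92], 54, [1,5,1,4,4,1,4,1,5,1,4,1,5,1,4,1,4]), ([], 2761, [5,1,5,1,4,4,1,5,1,5,1,4,4,1,5,1,4,1,5])], []⟩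
def c3129 : Clm := ⟨14, 9, true, [1,5,1,5,1,4,1,4,1,4,4,1,5,1,5,1,4,1,9], [1,4,1,4,1,4,1,5,1,4,1,5,1,4,1,5,1,4,8,10], 5, [([], 3128, [])], []⟩
def c3130 : Clm := ⟨14, 8, true, [1,5,1,4,1,4,4,1,4,1,4,1,4,1,4,1,4,1,4,1,5,7,1,10], [4,1,5,1,5,1,4,4,1,4,4,1,5,1,4,1,4,1,5,1,4,1,5,3,5,6], 9, [([], 2764, [1,4,1,5,1,4,4,1,5,1,5,1,5,1,4,1,4,4,1,5,1,5,1]), ([90,88], 2761, [4,1,5,1,5,1,4,4,1,4,1,4]), ([5604,5524,5604], 2846, [1,4,1,4,1,4,4,1,5,1,5,1,4,1,4,1,5,1,5,1])], []⟩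
def c3131 : Clm := ⟨8, 14, true, [4,1,5,1,5,1,4,4,1,4,4,1,5,1,4,1,4,1,5,1,4,1,5,3,5,6], [1,5,1,4,1,4,4,1,4,1,4,1,4,1,4,1,4,1,4,1,5,7,1,10], 5, [([], 3130, [])], []⟩
def c3132 : Clm := ⟨14, 14, true, [1,5,1,4,1,5,1,4,1,4,1,4,4,1,4,4,1,3,10,8,13], [1,5,1,4,1,4,1,4,1,4,4,1,4,1,4,1,5,1,5,1,9], 11, [([], 2826, [1,4,4,1,5,1,4,4,1,5,1,5,1,4,1,5]), ([], 494, [1,4,1,5,1,5,1,4,1,5,1,4,1,5,1,5,1,4,4]), ([92,88], 2761, [5,1,4,4,1,4,1,5,1,4,1,5,1,5,1,5,1])], []⟩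
def c3133 : Clm := ⟨14, 14, true, [1,5,1,4,1,4,1,4,1,4,4,1,4,1,4,1,5,1,5,1,9], [1,5,1,4,1,5,1,4,1,4,1,4,4,1,4,4,1,3,10,8,13], 5, [([], 3132, [])], []⟩
def c3134 : Clm := ⟨8, 14, true, [4,4,1,4,1,4,4,1,4,1,4,1,4,4,1,9,12,11,1], [4,1,4,4,1,4,1,5,1,5,1,4,1,5,1,4,4,1,9], 11, [([], 743, [1,4,1,4,4,1,5,1,4,4,1,5,1,5,1,4,4,1,4]), ([357], 280, [1,4,4,1,4,4,1,5,1,4,1,4,1,5,1,5,1]), ([90,93], 2761, [5,1,4,4,1,5,1,5,1,4,1,4,1])], []⟩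
def c3135 : Clm := ⟨14, 8, true, [4,1,4,4,1,4,1,5,1,5,1,4,1,5,1,4,4,1,9], [4,4,1,4,1,4,4,1,4,1,4,1,4,4,1,9,12,11,1], 5, [([], 3134, [])], []⟩
def c3136 : Clm := ⟨14, 10, true, [1,5,1,4,1,4,1,4,4,1,5,1,4,4,1,4,4,1,4,10], [5,1,5,1,4,1,4,4,1,5,1,4,4,1,4,1,4,1,4,1,5,7,1,12,4], 9, [([], 2760, [1,5,1,4,1,4,1,4,4,1,5,1,4,4,1,4,4,1,4]), ([88,93], 2761, [1,4,4,1,5,1,5,1,5,1,4]), ([5524,5604,5604], 3017, [1,4,4,1,5,1,5,1,4,4,1,5,1,5,1,5,1,4,1])], []⟩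
def c3137 : Clm := ⟨10, 14, true, [5,1,5,1,4,1,4,4,1,5,1,4,4,1,4,1,4,1,4,1,5,7,1,12,4], [1,5,1,4,1,4,1,4,4,1,5,1,4,4,1,4,4,1,4,10], 5, [([], 3136, [])], []⟩
def c3138 : Clm := ⟨14, 14, true, [1,4,4,1,5,1,4,1,4,1,4,1,4,4,1,4,1,4,1,6,4,8,4], [1,5,1,4,1,4,4,1,4,1,4,1,4,1,8], 9, [([], 2804, [4,1,4,4,1,5,1,5,1,4,4,1,4,4,1,4,4,1,5,1,5,1,4,4]), ([2114], 1041, [4,4,1,4,4,1,4,1,5,1,4,1,5,1,5]), ([93,90,88], 2761, [1,5,1,4,1,4,4,1,4,1,4,1,4,1])], []⟩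
def c3139 : Clm := ⟨14, 14, true, [5,1,4,1,5,1,5,1,4,4,1,4,1,4,4,1,4,1,4,1,10], [1,4,1,4,4,1,4,4,1,5,1,4,1,5,8], 9, [([], 2760, [5,1,4,1,5,1,5,1,4,4,1,4,1,4,4,1,4,1,4,1]), ([158,90], 98, [1,5,1,4,4,1,5,1,4,1,5,1,5,1,4,1,5]), ([158,90], 2761, [1,4,1,4,4,1,4,4,1,5,1,4,1,5])], []⟩
def c3140 : Clm := ⟨7, 14, true, [1,5,1,4,1,4,1,5,1,4,1,4,1,5,1,5,1,4,4,1,4,1,7,3,4,12], [4,1,5,1,5,1,4,1,8], 9, [([], 1586, [1,5,1,5,1,4,1,5,1,4,1,4,1,4,4,1,4,1,5,1,4]), ([], 1384, [1,4,4,1,4,1,5,1,5,1,4,4,1,5,1,5,1,4,4,1,5,1,5]), ([158,90], 2761, [4,1,5,1,5,1,4,1])], []⟩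
def c3141 : Clm := ⟨14, 7, true, [4,1,5,1,5,1,4,1,8], [1,5,1,4,1,4,1,5,1,4,1,4,1,5,1,5,1,4,4,1,4,1,7,3,4,12], 5, [([], 3140, [])], []⟩
def c3142 : Clm := ⟨6, 14, true, [4,1,4,1,5,1,5,1,4,1,4,1,4,4,1,4,1,4,1,4,1,6,11], [4,4,1,5,1,5,1,4,1,4,1,4,1,5,1,5,3,6,8,12], 11, [([], 117, [1,4,1,4,4,1,4,4,1,4,1,5,1,4,1,4,4,1,4,4,1,4,1]), ([88,93], 60, [5,1,4,1,5,1,4,1,4,4,1,4,1,4,1,4,4,1,4,4]), ([92,92,158], 2763, [4,1,4,4,1,5,1,5,1,4,1,4,1,4,1])], []⟩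
def c3143 : Clm := ⟨14, 6, true, [4,4,1,5,1,5,1,4,1,4,1,4,1,5,1,5,3,6,8,12], [4,1,4,1,5,1,5,1,4,1,4,1,4,4,1,4,1,4,1,4,1,6,11], 5, [([], 3142, [])], []⟩
def c3144 : Clm := ⟨14, 14, true, [1,5,1,5,1,5,1,5,1,5,1,5,1,4,4,1,5,1,4,1,4,3,5,11,13], [4,1,5,1,5,1,4,1,4,1,4,1,5,8,11,11], 11, [([], 3054, [4,1,5,1,4,1,5,1,5,1,5,1,5,1,5,1,4]), ([356], 494, [5,1,4,4,1,4,4,1,4,4,1,5,1,5,1,4,1,4]), ([92,92,158,88], 2763, [4,4,1,5,1,5,1,4,1,5,1,4,1])], []⟩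
def c3145 : Clm := ⟨14, 14, true, [4,1,4,1,4,4,1,4,1,4,4,1,5,1,4,1,5,6,10,13,8], [5,1,4,1,5,1,4,1,4,4,1,5,1,5,1,4,1,2,1,13,9], 11, [([], 3066, [1,4,4,1,4,1,5,1,5,1,4,1,4,4,1,5,1,5,1,4,1,4]), ([], 625, [1,4,1,4,4,1,4,1,4,4,1,4,1,4,4,1,4,4]), ([90], 2763, [4,4,1,4,1,4,4,1,4,4,1,4])], []⟩
def c3146 : Clm := ⟨8, 14, true, [1,5,1,4,1,5,1,5,1,4,4,1,4,1,5,1,4,1,4,3,12,6], [1,4,4,1,4,4,1,4,1,4,1,4,4,1,5,2,6,13,11], 11, [([], 1876, [5,1,5,1,4,4,1,5,1,4,1,4,4,1,5,1,5,1,5]), ([2840,2688], 1903, [4,4,1,4,1,5,1,4,4,1,4,1,4,1,5,1,4,1,4,4]), ([92,158,90,88], 2763, [5,1,4,1,4,1,5,1,4])], []⟩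
def c3147 : Clm := ⟨14, 8, true, [1,4,4,1,4,4,1,4,1,4,1,4,4,1,5,2,6,13,11], [1,5,1,4,1,5,1,5,1,4,4,1,4,1,5,1,4,1,4,3,12,6], 5, [([], 3146, [])], []⟩
def c3148 : Clm := ⟨9, 14, true, [1,4,4,1,5,1,4,4,1,4,1,4,1,5,1,5,1,4,1,4,1,5,3,10,14,9], [5,1,5,1,4,4,1,5,1,4,1,5,1,4,4,1,4,13,4], 11, [([], 1161, [4,1,4,1,5,1,5,1,4,1,4,1,4,4,1,4,1,4,4]), ([356], 506, [1,4,4,1,4,4,1,5,1,4,1,4,4,1,4,1,4,1,5,1]), ([92], 2763, [1,4,4,1,4,1,4,1])], []⟩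
def c3149 : Clm := ⟨14, 9, true, [5,1,5,1,4,4,1,5,1,4,1,5,1,4,4,1,4,13,4], [1,4,4,1,5,1,4,4,1,4,1,4,1,5,1,5,1,4,1,4,1,5,3,10,14,9], 5, [([], 3148, [])], []⟩
def c3150 : Clm := ⟨14, 14, true, [4,4,1,5,1,4,4,1,4,4,1,5,1,4,4,1,4,4,1,2,4,9,12], [4,1,4,1,4,4,1,4,1,4,1,5,1,5,1,5,1,3,6,8,12], 11, [([], 3047, [4,1,4,1,5,1,5,1,4,4,1,4,4,1,4,1]), ([5139,4982], 2603, [4,1,4,4,1,5,1,4,1,5,1,4,1,4,4,1,5,1,4,1,5]), ([88,93,88], 2763, [1,5,1,4,1,5,1,4,1])], []⟩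
def c3151 : Clm := ⟨14, 14, true, [1,4,4,1,5,1,4,4,1,5,1,4,4,1,4,4,1,5,1,4,4,9,1,13], [1,4,1,4,1,4,4,1,4,1,4,4,1,4,1,5,1,5,2,12,11,12], 11, [([], 2965, [1,4,4,1,4,1,5,1,4,4,1,4,1,4,4,1,5,1,4,1,4,1,4]), ([356], 434, [1,4,1,5,1,5,1,4,4,1,5,1,4,4,1]), ([92,158,90], 2763, [4,1,4,1,4,1,4,1,5,1,5,1])], []⟩
def c3152 : Clm := ⟨14, 14, true, [4,1,4,1,4,4,1,4,1,5,1,4,1,4,4,1,5,1,4,1,4,3,5,8,7], [1,4,4,1,4,4,1,5,1,5,1,5,1,4,4,1,4,1,4,4,1,2,1,13,9], 11, [([], 2818, [1,4,1,4,4,1,4,4,1,5,1,4,4,1,4,1,4]), ([2197], 1279, [1,5,1,5,1,4,1,4,4,1,4,1,4,4,1,4]), ([158], 2763, [1,5,1,4,1,5,1,4,4,1,5,1])], []⟩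
def c3153 : Clm := ⟨13, 14, true, [5,1,5,1,4,1,5,1,5,1,4,4,1,4,12,10,4,7], [4,1,5,1,5,1,5,1,4,1,4,4,1,5,1,4,4,1,4,4,2,4,10], 9, [([], 2657, [1,5,1,4,1,5,1,4,1,4,4,1,5,1,4,4,1,5,1,5,1,4,1]), ([88,92], 98, [1,5,1,4,1,4,4,1,5,1,4,1,4,1,4,1,4,1]), ([158,92,90], 2763, [1,5,1,5,1,4,4,1,4])], []⟩
def c3154 : Clm := ⟨14, 13, true, [4,1,5,1,5,1,5,1,4,1,4,4,1,5,1,4,4,1,4,4,2,4,10], [5,1,5,1,4,1,5,1,5,1,4,4,1,4,12,10,4,7], 5, [([], 3153, [])], []⟩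
def c3155 : Clm := ⟨8, 14, true, [1,5,1,5,1,4,4,1,4,1,4,4,1,3,10,9,13], [5,1,5,1,5,1,4,4,1,4,4,1,4,4,1,4,1,4,4,6,10,4], 9, [([], 467, [5,1,4,1,4,4,1,4,1,5,1,5,1,4,1,4,4,1,4,4]), ([158], 64, [4,4,1,4,4,1,5,1,4,1,4,1,5,1,4]), ([92,92], 2763, [4,4,1,4,4,1,4,1,4,1])], []⟩
def c3156 : Clm := ⟨14, 8, true, [5,1,5,1,5,1,4,4,1,4,4,1,4,4,1,4,1,4,4,6,10,4], [1,5,1,5,1,4,4,1,4,1,4,4,1,3,10,9,13], 5, [([], 3155, [])], []⟩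
def c3157 : Clm := ⟨14, 14, true, [1,4,1,4,1,5,1,4,4,1,5,1,4,4,1,4,4,1,4,1,4,7,8,12,11], [5,1,4,4,1,5,1,5,1,5,1,4,1,4,1,4,4,13,1,5,1], 9, [([], 2891, [1,4,1,4,1,4,4,1,4,1,5,1,4,1,5,1,4,1]), ([357], 637, [1,4,1,4,1,4,1,5,1,4,1,5,1,4,4,1,4,4,1]), ([158,90,88], 2763, [4,1,5,1,5,1,4])], []⟩
def c3158 : Clm := ⟨10, 14, true, [4,4,1,5,1,4,1,4,4,1,4,4,1,5,1,4,4,2,11,13,10], [4,1,4,1,5,1,4,4,1,4,1,4,1,4,1,4,1,5,1,4,7,8], 9, [([], 2393, [5,1,4,1,4,1,4,1,4,1,5,1,5,1,5,1,5]), ([4822,4812,4822,4812], 2382, [1,4,4,1,5,1,4,4,1,4,1,4,1,5,1,5,1,4,1,4,1,4,4]), ([88,92,88], 2763, [1,4,4,1,5,1,5,1,5,1,4,1,5])], []⟩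
def c3159 : Clm := ⟨14, 10, true, [4,1,4,1,5,1,4,4,1,4,1,4,1,4,1,4,1,5,1,4,7,8], [4,4,1,5,1,4,1,4,4,1,4,4,1,5,1,4,4,2,11,13,10], 5, [([], 3158, [])], []⟩
def c3160 : Clm := ⟨5, 15, true, [14,8,13], [], 1, [], []⟩
def c3161 : Clm := ⟨15, 5, true, [], [1,5,1,5,1,5,1,4,1,4,4,1,4,1,5,1,5,12,8,13], 5, [([], 3160, [])], []⟩
def c3162 : Clm := ⟨15, 15, false, [], [1,5,1,4,1,5,1,4,4,1,4,1,4,4,1,4], 3, [([], 3160, []), ([159,89,93], 3160, [1,5,1,4,1,5,1,4,4,1,4,1,4,4,1,4])], []⟩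
def c3163 : Clm := ⟨15, 5, true, [6], [1,4,4,1,4,1,4,1,4,4,1,4,1,4,1,4,1,5,1,5,1,5,6,10,8,1], 7, [([], 3160, []), ([158,92,92], 102, [5,1,4,1,4,4,1,4,4,1,4,1,5,1,5,1,5])], []⟩
def c3164 : Clm := ⟨5, 15, true, [1,4,4,1,4,1,4,1,4,4,1,4,1,4,1,4,1,5,1,5,1,5,6,10,8,1], [6], 5, [([], 3163, [])], []⟩
def c3165 : Clm := ⟨15, 15, false, [6], [4,4,1,5,1,4,4,1,5,1,5,1,5,1,5,1,4,1,4,4,1,4,7], 3, [([], 3164, []), ([92,88], 3160, [4,4,1,5,1,4,4,1,5,1,5,1,5,1,5,1,4,1,4,4,1,4])], []⟩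
def c3166 : Clm := ⟨15, 5, true, [1,6], [4,4,1,4,1,4,4,1,4,4,1,4,1,4,4,1,5,1,8,13,10], 7, [([], 3160, [1]), ([88], 98, [5,1,4,4,1,4,1,4,4,1,4,1,4,4,1,4])], []⟩
def c3167 : Clm := ⟨5, 15, true, [4,4,1,4,1,4,4,1,4,4,1,4,1,4,4,1,5,1,8,13,10], [1,6], 5, [([], 3166, [])], []⟩
def c3168 : Clm := ⟨15, 15, false, [1,6], [1,5,1,4,4,1,4,1,4,4,1,4,1,5,1,4,4,1,7,1], 3, [([], 3167, []), ([88], 3160, [1,5,1,4,4,1,4,1,4,4,1,4,1,5,1,4,4,1])], []⟩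
def c3169 : Clm := ⟨15, 8, true, [4,6], [1,4,4,1,4,1,5,1,5,1,4,1,5,1,4,1,5,1,4,4,1,5,1,3,6,1,7], 7, [([], 3160, [4]), ([158,92,90,88], 512, [1,4,1,4,1,4,4,1,4,1,5,1,4,1,4,4,1,5,1,5,1])], []⟩
def c3170 : Clm := ⟨8, 15, true, [1,4,4,1,4,1,5,1,5,1,4,1,5,1,4,1,5,1,4,4,1,5,1,3,6,1,7], [4,6], 5, [([], 3169, [])], []⟩
def c3171 : Clm := ⟨15, 8, true, [5,6], [4,1,4,4,1,4,1,5,1,4,4,1,4,4,1,5,1,5,1,4,1,6,5,14,11], 7, [([], 3160, [5]), ([93,158], 281, [1,4,1,4,1,4,4,1,5,1,5,1,4,4,1,4,1,4,1])], []⟩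
def c3172 : Clm := ⟨8, 15, true, [4,1,4,4,1,4,1,5,1,4,4,1,4,4,1,5,1,5,1,4,1,6,5,14,11], [5,6], 5, [([], 3171, [])], []⟩
def c3173 : Clm := ⟨15, 15, false, [5,6], [1,4,1,4,4,1,4,1,4,1,4,1,4,4,1,5,1,4,3,9,3], 3, [([], 3172, []), ([357], 3170, [1,4,1,4,1,4,1,4,4,1,5,1,5,1,5,1,4,1,4,4,1])], []⟩
def c3174 : Clm := ⟨15, 8, true, [4,1,6], [1,4,1,5,1,5,1,5,1,4,1,4,1,5,1,5,8,7,1], 7, [([], 3160, [4,1]), ([90,93], 719, [1,4,1,5,1,5,1,5,1,4,4,1,5,1,5,1,4,1,4])], []⟩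
def c3175 : Clm := ⟨8, 15, true, [1,4,1,5,1,5,1,5,1,4,1,4,1,5,1,5,8,7,1], [4,1,6], 5, [([], 3174, [])], []⟩
def c3176 : Clm := ⟨15, 10, true, [4,4,6], [1,4,4,1,5,1,4,4,1,5,1,4,1,4,1,4,4,1,4,4,3,8,1,9], 7, [([], 3160, [4,4]), ([90,92], 1566, [1,5,1,4,4,1,5,1,5,1,5,1,4,1,4,1,5,1,5,1])], []⟩
def c3177 : Clm := ⟨10, 15, true, [1,4,4,1,5,1,4,4,1,5,1,4,1,4,1,4,4,1,4,4,3,8,1,9], [4,4,6], 5, [([], 3176, [])], []⟩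
def c3178 : Clm := ⟨15, 13, true, [1,4,4,6], [1,5,1,5,1,4,1,5,1,4,4,1,4,1,4,1,5,1,4,1,5,9,1,4,4], 7, [([], 3160, [1,4,4]), ([92], 2602, [1,4,4,1,4,1,5,1,4,1,5,1,4,1,4,1,4,4,1,4,4,1,4])], []⟩
def c3179 : Clm := ⟨13, 15, true, [1,5,1,5,1,4,1,5,1,4,4,1,4,1,4,1,5,1,4,1,5,9,1,4,4], [1,4,4,6], 5, [([], 3178, [])], []⟩
def c3180 : Clm := ⟨15, 9, true, [4,4,1,6], [1,5,1,4,1,4,1,4,1,4,4,1,4,1,4,1,4,4,1,6,9,3,7], 7, [([], 3160, [4,4,1]), ([88,93], 1294, [1,5,1,5,1,5,1,5,1,5,1,4,1,4,4,1,4,4,1,4,4])], []⟩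
def c3181 : Clm := ⟨9, 15, true, [1,5,1,4,1,4,1,4,1,4,4,1,4,1,4,1,4,4,1,6,9,3,7], [4,4,1,6], 5, [([], 3180, [])], []⟩
def c3182 : Clm := ⟨15, 13, true, [5,1,4,1,6], [1,4,1,5,1,5,1,5,1,4,1,4,4,1,4,1,5,1,4,1,3,5,2], 7, [([], 3160, [5,1,4,1]), ([93,158,90], 2602, [4,4,1,4,1,4,4,1,4,4,1,5,1,4,1,4,1,4])], []⟩
def c3183 : Clm := ⟨13, 15, true, [1,4,1,5,1,5,1,5,1,4,1,4,4,1,4,1,5,1,4,1,3,5,2], [5,1,4,1,6], 5, [([], 3182, [])], []⟩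
def c3184 : Clm := ⟨15, 13, true, [4,4,1,4,1,6], [4,4,1,4,4,1,5,1,4,1,4,1,4,1,4,4,1,4,4,1,5,10,1,11], 7, [([], 3160, [4,4,1,4,1]), ([92,158,88], 2644, [1,4,1,4,4,1,4,1,4,1,4,4,1,4])], []⟩
def c3185 : Clm := ⟨13, 15, true, [4,4,1,4,4,1,5,1,4,1,4,1,4,1,4,4,1,4,4,1,5,10,1,11], [4,4,1,4,1,6], 5, [([], 3184, [])], []⟩
def c3186 : Clm := ⟨15, 12, true, [1,4,4,1,4,1,6], [4,1,4,1,4,1,4,1,5,1,5,1,4,1,4,1,4,4,1,5,1,7], 7, [([], 3160, [1,4,4,1,4,1]), ([92,92], 2383, [4,1,4,1,4,1,4,1,5,1,5,1,4,1,4,1,4,4,1,5,1])], []⟩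
def c3187 : Clm := ⟨12, 15, true, [4,1,4,1,4,1,4,1,5,1,5,1,4,1,4,1,4,4,1,5,1,7], [1,4,4,1,4,1,6], 5, [([], 3186, [])], []⟩
def c3188 : Clm := ⟨15, 15, true, [5,1,4,1,4,4,1,4,4,1,4,1,9], [5,1,5,1,5,1,5,1,4,4,1,4,1,5,1,4,1,4,8,1,5], 11, [([], 3160, [5,1,4,1,4,4,1,4,4,1,4,1]), ([92,92,90,88], 638, [1,5,1,4,4,1,5,1,5,1,5,1,4,4,1,4,4,1,4,1,4]), ([], 3174, [1,4,4,1,4,4,1,5,1,4,1,5,1,5,1,4,1,4,4,1])], []⟩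
def c3189 : Clm := ⟨15, 15, true, [1,4,4,1,4,4,1,5,1,4,9], [1,5,1,4,1,4,4,1,5,1,5,1,4,1,4,4,1,4,4,1,4,1,5,9], 11, [([], 3160, [1,4,4,1,4,4,1,5,1,4]), ([158,90], 105, [1,4,1,4,4,1,5,1,5,1,4,4,1,4,1,5,1,4,4]), ([88,92], 3161, [5,1,4,4,1,4,1,4,1,4,4,1,5,1,4,1,4,1])], []⟩
def c3190 : Clm := ⟨15, 15, true, [4,1,5,1,4,1,4,4,1,5,1,4,1,4,1,9], [5,1,4,4,1,5,1,4,1,4,1,4,4,1,4,4,1,4,1,5,1,5,9], 11, [([], 3160, [4,1,5,1,4,1,4,4,1,5,1,4,1,4,1]), ([90], 106, [5,1,4,1,5,1,4,4,1,4,1,4,4,1,5,1,4,4,1,5]), ([], 3161, [1,5,1,4,1,5,1,5,1,4,1,5,1,5,1])], []⟩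
def c3191 : Clm := ⟨15, 15, true, [5,1,5,1,4,1,4,4,1,4,1,4,4,1,9], [1,4,1,4,4,1,4,1,4,4,1,4,4,1,5,1,4,4,1,4,1,5,9], 11, [([], 3160, [5,1,5,1,4,1,4,4,1,4,1,4,4,1]), ([88,93], 48, [1,4,1,5,1,4,1,5,1,4,1,4,1,5,1,5,1,5]), ([158], 3161, [1,5,1,4,1,4,1,4,1,4,1,4,1,4,1,5,1,4,1,4,4])], []⟩
def c3192 : Clm := ⟨15, 15, true, [1,5,1,4,4,1,5,1,5,1,4,10], [1,4,1,4,4,1,4,4,1,5,1,5,1,4,4,1,4,4,1,5,8], 9, [([], 3160, [1,5,1,4,4,1,5,1,5,1,4]), ([158,90], 87, [4,1,4,4,1,4,4,1,4,4,1,4,1,4,4,1,4,1,5]), ([88,93,88], 3161, [1,4,1,4,4,1,4,4,1,5,1,5,1,4,4,1,4,4,1,5])], []⟩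
def c3193 : Clm := ⟨15, 15, true, [1,4,1,4,1,5,1,5,1,5,1,4,4,1,4,1,4,1,5,1,4,1,9,7,11,6], [1,5,1,4,4,1,5,1,5,1,4,4,1,5,1,4,1,5,1,4,3,7,9,14], 9, [([], 3170, [4,1,4,4,1,5,1,5,1,5,1,4,1,5]), ([], 683, [4,1,5,1,4,1,4,1,4,1,4,4,1,4,1]), ([356], 3169, [4,1,5,1,5,1,4,1,4,4,1,4,4,1,5,1,4,4])], []⟩
def c3194 : Clm := ⟨15, 15, true, [4,4,1,5,1,5,1,4,1,4,1,5,2,1,5,13,1], [1,4,1,5,1,4,1,4,4,1,4,4,1,4,4,1,4,1,4,1,5,1,5,3,6,5,10], 11, [([], 3179, [5,1,4,4,1,5,1,5,1,4,4,1,4,4,1,4,1,4,4,1,4]), ([], 2755, [4,4,1,4,4,1,5,1,5,1,4,4,1,4,4,1,5,1,4,4]), ([], 3178, [4,4,1,4,4,1,4,4,1,4,1,4])], []⟩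
def c3195 : Clm := ⟨5, 16, true, [8,7,2], [], 1, [], []⟩
def c3196 : Clm := ⟨16, 5, true, [], [8,7,2], 5, [([], 3195, [])], []⟩
def c3197 : Clm := ⟨16, 8, true, [6], [1,5,1,4,1,5,1,4,1,4,1,4,1,4,1,5,1,2,10,4], 7, [([], 3195, []), ([158,92,88], 289, [1,4,4,1,5,1,4,4,1,4,1,4,1,5,1,4,4,1,4,4])], []⟩
def c3198 : Clm := ⟨8, 16, true, [1,5,1,4,1,5,1,4,1,4,1,4,1,4,1,5,1,2,10,4], [6], 5, [([], 3197, [])], []⟩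
def c3199 : Clm := ⟨16, 8, true, [1,6], [4,1,4,1,4,1,4,1,5,1,4,4,1,4,1,5,12,10,5,10], 7, [([], 3195, [1]), ([88], 528, [5,1,4,1,4,1,5,1,4,1,4,1,5,1,5,1,4,4,1,4])], []⟩
def c3200 : Clm := ⟨8, 16, true, [4,1,4,1,4,1,4,1,5,1,4,4,1,4,1,5,12,10,5,10], [1,6], 5, [([], 3199, [])], []⟩
def c3201 : Clm := ⟨16, 13, true, [4,6], [4,1,5,1,4,4,1,5,1,5,1,4,4,1,5,9,6,11], 7, [([], 3195, [4]), ([93,90], 2602, [4,1,4,1,4,4,1,4,1,5,1,4,4,1,5,1,4,4,1,4,1])], []⟩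
def c3202 : Clm := ⟨13, 16, true, [4,1,5,1,4,4,1,5,1,5,1,4,4,1,5,9,6,11], [4,6], 5, [([], 3201, [])], []⟩
def c3203 : Clm := ⟨16, 16, false, [4,6], [1,4,4,1,4,4,1,4,1,4,4,1,4,1,4,4,1,2,1,14,5], 3, [([], 3202, []), ([5138,5079,5138], 3202, [4,1,4,1,4,4,1,5,1,4,4,1,4,1,5,1,4,1,4,4,1,5])], []⟩
def c3204 : Clm := ⟨16, 10, true, [5,6], [5,1,5,1,4,4,1,5,1,4,4,1,5,1,4,1,4,1,5,1,2,8,2], 7, [([], 3195, [5]), ([158,92,92,88], 2151, [4,1,5,1,5,1,4,1,5,1,4,4,1,4,1,4,1,5,1])], []⟩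
def c3205 : Clm := ⟨10, 16, true, [5,1,5,1,4,4,1,5,1,4,4,1,5,1,4,1,4,1,5,1,2,8,2], [5,6], 5, [([], 3204, [])], []⟩
def c3206 : Clm := ⟨16, 8, true, [4,1,6], [1,5,1,4,1,4,4,1,4,4,1,4,4,1,5,1,4,4,1,5,1,6,11,2,13], 7, [([], 3195, [4,1]), ([90,93], 638, [1,4,1,4,1,4,1,5,1,5,1,4,1,4,4,1,4,1,4,1,4,1,4,4])], []⟩
def c3207 : Clm := ⟨8, 16, true, [1,5,1,4,1,4,4,1,4,4,1,4,4,1,5,1,4,4,1,5,1,6,11,2,13], [4,1,6], 5, [([], 3206, [])], []⟩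
def c3208 : Clm := ⟨16, 8, true, [4,4,6], [5,1,5,1,4,4,1,4,1,4,4,1,4,1,4,4,1,4,7,9,14,11], 7, [([], 3195, [4,4]), ([158,90,88], 322, [4,1,4,4,1,4,1,4,1,5,1,5,1,4,4,1,4,4,1])], []⟩
def c3209 : Clm := ⟨8, 16, true, [5,1,5,1,4,4,1,4,1,4,4,1,4,1,4,4,1,4,7,9,14,11], [4,4,6], 5, [([], 3208, [])], []⟩
def c3210 : Clm := ⟨16, 10, true, [5,1,6], [1,4,1,5,1,4,1,5,1,5,1,5,1,4,4,1,5,1,5,1,5,1,4,4,10,14,2], 7, [([], 3195, [5,1]), ([92,88], 1686, [1,4,1,4,1,4,4,1,4,4,1,4,1,5,1,5,1,5,1])], []⟩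
def c3211 : Clm := ⟨10, 16, true, [1,4,1,5,1,4,1,5,1,5,1,5,1,4,4,1,5,1,5,1,5,1,4,4,10,14,2], [5,1,6], 5, [([], 3210, [])], []⟩
def c3212 : Clm := ⟨16, 13, true, [1,4,1,6], [5,1,4,1,4,1,4,1,4,1,4,1,4,4,1,5,1,4,1,4,2,5,14,9,12], 7, [([], 3195, [1,4,1]), ([88,93,88], 2656, [4,1,4,4,1,4,4,1,4,1,5,1,5,1,4,4,1,5,1,4])], []⟩
def c3213 : Clm := ⟨13, 16, true, [5,1,4,1,4,1,4,1,4,1,4,1,4,4,1,5,1,4,1,4,2,5,14,9,12], [1,4,1,6], 5, [([], 3212, [])], []⟩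
def c3214 : Clm := ⟨16, 16, false, [1,4,1,6], [1,4,4,1,4,1,4,1,5,1,5,1,4,1,4,4,1,5,1,4,4,1,7,2,10,3], 3, [([], 3213, []), ([5139,4982], 3213, [1,4,4,1,4,1,4,1,5,1,4,1,5,1,5,1,4])], []⟩
def c3215 : Clm := ⟨16, 8, true, [1,4,4,6], [1,4,4,1,5,1,4,4,1,5,1,4,4,1,5,1,5,1,7,8,7,3], 7, [([], 3195, [1,4,4]), ([88,92,88], 510, [1,4,1,4,1,4,4,1,4,1,4,1,5,1,4,4,1,5,1,4,1,5,1])], []⟩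
def c3216 : Clm := ⟨8, 16, true, [1,4,4,1,5,1,4,4,1,5,1,4,4,1,5,1,5,1,7,8,7,3], [1,4,4,6], 5, [([], 3215, [])], []⟩
def c3217 : Clm := ⟨16, 8, true, [1,5,1,6], [4,1,4,1,4,1,4,1,4,4,1,4,1,4,1,4,4,1,5,1,10,10,7,8], 7, [([], 3195, [1,5,1]), ([92,90,88], 407, [1,4,4,1,5,1,5,1,5,1,4,1,4,4,1,5,1,4,4,1,4,1])], []⟩
def c3218 : Clm := ⟨8, 16, true, [4,1,4,1,4,1,4,1,4,4,1,4,1,4,1,4,4,1,5,1,10,10,7,8], [1,5,1,6], 5, [([], 3217, [])], []⟩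
def c3219 : Clm := ⟨16, 14, true, [4,4,1,6], [5,1,4,1,4,4,1,4,1,5,1,4,4,1,6,5,7], 7, [([], 3195, [4,4,1]), ([93,88], 2763, [1,5,1,4,4,1,5,1,5,1,4,1,4,1,4,1,4,1,5,1,4])], []⟩
def c3220 : Clm := ⟨14, 16, true, [5,1,4,1,4,4,1,4,1,5,1,4,4,1,6,5,7], [4,4,1,6], 5, [([], 3219, [])], []⟩
def c3221 : Clm := ⟨16, 16, false, [4,4,1,6], [1,4,1,4,4,1,4,4,1,4,1,4,1,4,1,4,4,1,5,1,5,1,13,1,13], 3, [([], 3220, []), ([5525,5604,5525,5604], 3220, [1,4,4,1,5,1,4,4,1,4,4,1,4,4,1,5,1,5,1,4,1,5])], []⟩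
def c3222 : Clm := ⟨16, 9, true, [1,4,4,1,6], [5,1,5,1,4,4,3,13,4,10], 7, [([], 3195, [1,4,4,1]), ([93,88], 1032, [4,4,1,5,1,4,1,5,1,5,1,4,4,1,5,1,5])], []⟩
def c3223 : Clm := ⟨9, 16, true, [5,1,5,1,4,4,3,13,4,10], [1,4,4,1,6], 5, [([], 3222, [])], []⟩
def c3224 : Clm := ⟨16, 8, true, [4,1,4,1,6], [1,5,1,5,1,5,1,5,1,5,1,5,1,5,2,9,5], 7, [([], 3195, [4,1,4,1]), ([158,92,90,88], 281, [4,1,5,1,4,4,1,4,4,1,5,1,5,1,4,1,4,1,4])], []⟩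
def c3225 : Clm := ⟨8, 16, true, [1,5,1,5,1,5,1,5,1,5,1,5,1,5,2,9,5], [4,1,4,1,6], 5, [([], 3224, [])], []⟩
def c3226 : Clm := ⟨16, 8, true, [4,1,5,1,6], [4,1,5,1,4,1,5,1,5,1,5,1,4,4,1,5,1,5,1,4,1,5,2,9,5], 7, [([], 3195, [4,1,5,1]), ([158], 407, [5,1,5,1,4,1,4,1,4,4,1,4,1,4,1,5,1,5,1,5])], []⟩
def c3227 : Clm := ⟨8, 16, true, [4,1,5,1,4,1,5,1,5,1,5,1,4,4,1,5,1,5,1,4,1,5,2,9,5], [4,1,5,1,6], 5, [([], 3226, [])], []⟩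
def c3228 : Clm := ⟨16, 16, true, [5,1,4,1,6], [5,1,4,1,4,4,7], 7, [([], 3195, [5,1,4,1]), ([158,90,88], 3196, [5,1,4,1,4,4])], []⟩
def c3229 : Clm := ⟨16, 16, true, [5,1,4,1,4,4,7], [5,1,4,1,6], 5, [([], 3228, [])], []⟩
def c3230 : Clm := ⟨16, 14, true, [5,1,4,4,6], [1,5,1,5,1,5,1,4,4,1,4,4,1,4,4,1,5,1,5,1,5,2,5,11,13], 7, [([], 3195, [5,1,4,4]), ([93,158,90], 2763, [1,5,1,5,1,5,1,4,1,4,1,4,4,1,4,1,5,1,4])], []⟩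
def c3231 : Clm := ⟨14, 16, true, [1,5,1,5,1,5,1,4,4,1,4,4,1,4,4,1,5,1,5,1,5,2,5,11,13], [5,1,4,4,6], 5, [([], 3230, [])], []⟩
def c3232 : Clm := ⟨16, 15, true, [1,4,1,5,1,6], [4,1,4,1,4,4,1,4,1,4,1,4,4,1,4,1,4,4,1,4,4,7], 7, [([], 3195, [1,4,1,5,1]), ([92,90], 3161, [4,1,4,1,4,4,1,4,1,4,1,4,4,1,4,1,4,4,1,4,4])], []⟩
def c3233 : Clm := ⟨15, 16, true, [4,1,4,1,4,4,1,4,1,4,1,4,4,1,4,1,4,4,1,4,4,7], [1,4,1,5,1,6], 5, [([], 3232, [])], []⟩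
def c3234 : Clm := ⟨16, 8, true, [4,4,1,4,1,6], [4,4,1,4,1,5,1,4,1,4,4,1,4,1,5,1,5,12,11,7], 7, [([], 3195, [4,4,1,4,1]), ([90,93], 304, [4,1,4,4,1,4,4,1,5,1,5,1,4,4,1,4,4,1,4])], []⟩
def c3235 : Clm := ⟨8, 16, true, [4,4,1,4,1,5,1,4,1,4,4,1,4,1,5,1,5,12,11,7], [4,4,1,4,1,6], 5, [([], 3234, [])], []⟩
def c3236 : Clm := ⟨16, 8, true, [1,4,1,4,4,1,6], [1,4,4,1,4,1,4,1,4,1,4,1,5,1,5,1,5,1,4,1,3,8,13,4], 7, [([], 3195, [1,4,1,4,4,1]), ([92,92,88], 512, [1,4,1,5,1,4,1,4,1,5,1,5,1,4,1])], []⟩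
def c3237 : Clm := ⟨8, 16, true, [1,4,4,1,4,1,4,1,4,1,4,1,5,1,5,1,5,1,4,1,3,8,13,4], [1,4,1,4,4,1,6], 5, [([], 3236, [])], []⟩
def c3238 : Clm := ⟨16, 10, true, [1,4,4,1,4,4,6], [5,1,5,1,4,4,1,4,4,1,4,4,1,4,6,12,3,8], 7, [([], 3195, [1,4,4,1,4,4]), ([92,92,90,88], 1790, [4,4,1,5,1,5,1,4,4,1,5,1])], []⟩
def c3239 : Clm := ⟨10, 16, true, [5,1,5,1,4,4,1,4,4,1,4,4,1,4,6,12,3,8], [1,4,4,1,4,4,6], 5, [([], 3238, [])], []⟩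
def c3240 : Clm := ⟨16, 11, true, [5,1,5,1,4,1,6], [5,1,4,4,1,4,1,5,1,4,1,4,4,1,5,1,4,4,1,5,7,10,8,12], 7, [([], 3195, [5,1,5,1,4,1]), ([158], 2369, [4,4,1,5,1,5,1,5,1,4,1,4,1,5,1,5,1,5])], []⟩
def c3241 : Clm := ⟨11, 16, true, [5,1,4,4,1,4,1,5,1,4,1,4,4,1,5,1,4,4,1,5,7,10,8,12], [5,1,5,1,4,1,6], 5, [([], 3240, [])], []⟩
def c3242 : Clm := ⟨16, 16, true, [1,4,1,4,1,5,1,6], [4,4,1,4,1,4,1,5,1,4,1,4,7], 7, [([], 3195, [1,4,1,4,1,5,1]), ([158,92,88], 3196, [4,4,1,4,1,4,1,5,1,4,1,4])], []⟩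
def c3243 : Clm := ⟨16, 8, true, [1,4,1,5,1,4,1,6], [4,1,5,1,4,1,5,1,4,1,4,1,5,1,4,4,1,5,1,5,2,8,8,13], 7, [([], 3195, [1,4,1,5,1,4,1]), ([158,92], 528, [1,4,1,4,1,4,4,1,4,4,1,5,1,5,1,4,1,4,4,1,4,1,5])], []⟩
def c3244 : Clm := ⟨8, 16, true, [4,1,5,1,4,1,5,1,4,1,4,1,5,1,4,4,1,5,1,5,2,8,8,13], [1,4,1,5,1,4,1,6], 5, [([], 3243, [])], []⟩
def c3245 : Clm := ⟨16, 13, true, [1,4,1,4,1,4,1,4,4,1,5,1,4,1,4,1,9], [4,1,4,1,5,1,4,4,1,5,1,4,4,1,5,1,4,1,4,1,4,6,11,7,4], 11, [([], 3195, [1,4,1,4,1,4,1,4,4,1,5,1,4,1,4,1]), ([158,90], 336, [5,1,5,1,5,1,4,4,1,5,1,5,1,4,4,1,4,4]), ([356], 2681, [1,4,1,4,1,5,1,5,1,5,1,4,4,1,5,1,5,1,5,1,4])], []⟩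
def c3246 : Clm := ⟨13, 16, true, [4,1,4,1,5,1,4,4,1,5,1,4,4,1,5,1,4,1,4,1,4,6,11,7,4], [1,4,1,4,1,4,1,4,4,1,5,1,4,1,4,1,9], 5, [([], 3245, [])], []⟩
def c3247 : Clm := ⟨16, 14, true, [4,1,4,1,5,1,4,4,1,4,4,1,4,9], [1,4,1,5,1,4,1,5,1,4,4,1,5,1,5,1,5,1,4,1,4,1,4,3,11], 11, [([], 3195, [4,1,4,1,5,1,4,4,1,4,4,1,4]), ([93,90], 2205, [1,5,1,4,1,5,1,4,4,1,5,1,5,1,4,4,1,4,1]), ([2688,2840], 2815, [4,1,5,1,4,4,1,4,1,5,1,4,1,4,1,4,4,1,4,1,4])], []⟩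
def c3248 : Clm := ⟨14, 16, true, [1,4,1,5,1,4,1,5,1,4,4,1,5,1,5,1,5,1,4,1,4,1,4,3,11], [4,1,4,1,5,1,4,4,1,4,4,1,4,9], 5, [([], 3247, [])], []⟩
def c3249 : Clm := ⟨16, 10, true, [1,5,1,4,4,1,4,4,1,5,1,9], [1,5,1,4,1,5,1,5,1,4,1,4,1,4,1,4,4,1,4,4,7,2,7,9], 11, [([], 3195, [1,5,1,4,4,1,4,4,1,5,1]), ([88,92,88], 1902, [5,1,5,1,4,4,1,5,1,4,1,5,1,4,4,1,4,4,1]), ([2840], 2291, [4,1,5,1,4,4,1,4,4,1,5,1,5,1,4,4,1])], []⟩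
def c3250 : Clm := ⟨10, 16, true, [1,5,1,4,1,5,1,5,1,4,1,4,1,4,1,4,4,1,4,4,7,2,7,9], [1,5,1,4,4,1,4,4,1,5,1,9], 5, [([], 3249, [])], []⟩
def c3251 : Clm := ⟨16, 13, true, [1,5,1,4,1,4,4,1,4,1,4,4,1,9], [5,1,4,1,5,1,5,1,4,4,1,4,1,5,1,4,1,4,1,5,1,4,4,2,8,5,1], 11, [([], 3195, [1,5,1,4,1,4,4,1,4,1,4,4,1]), ([93,88], 105, [1,4,1,4,1,4,4,1,4,4,1,4,1,4,4,1,5,1,5,1]), ([158,93,90,88], 2644, [1,4,4,1,4,1,4,4,1,4,1,5,1,4,1,4,4,1,5,1])], []⟩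
def c3252 : Clm := ⟨13, 16, true, [5,1,4,1,5,1,5,1,4,4,1,4,1,5,1,4,1,4,1,5,1,4,4,2,8,5,1], [1,5,1,4,1,4,4,1,4,1,4,4,1,9], 5, [([], 3251, [])], []⟩
def c3253 : Clm := ⟨16, 9, true, [1,5,1,4,1,4,1,4,1,4,1,4,9], [1,5,1,4,1,4,1,4,1,4,1,5,1,5,10,3,14], 11, [([], 3195, [1,5,1,4,1,4,1,4,1,4,1,4]), ([90], 281, [4,1,5,1,5,1,4,1,4,1,5,1,5,1,4,1,5,1]), ([357], 1160, [5,1,4,4,1,4,1,4,1,4,4,1,5,1,4,1,4])], []⟩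
def c3254 : Clm := ⟨9, 16, true, [1,5,1,4,1,4,1,4,1,4,1,5,1,5,10,3,14], [1,5,1,4,1,4,1,4,1,4,1,4,9], 5, [([], 3253, [])], []⟩
def c3255 : Clm := ⟨16, 8, true, [4,1,4,1,4,1,4,1,5,1,5,1,5,1,5,1,9], [1,4,4,1,5,1,5,1,5,1,4,4,1,5,1,5,1,4,4,1,6,3,9,6], 11, [([], 3195, [4,1,4,1,4,1,4,1,5,1,5,1,5,1,5,1]), ([93], 2602, [5,1,4,4,1,5,1,4,1,4,4,1,4,4,1,4,4,1,5]), ([5120], 2579, [4,1,4,1,4,1,4,1,4,1,4,4])], []⟩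
def c3256 : Clm := ⟨8, 16, true, [1,4,4,1,5,1,5,1,5,1,4,4,1,5,1,5,1,4,4,1,6,3,9,6], [4,1,4,1,4,1,4,1,5,1,5,1,5,1,5,1,9], 5, [([], 3255, [])], []⟩
def c3257 : Clm := ⟨16, 9, true, [4,4,1,4,4,1,4,4,1,4,4,1,4,4,1,4,9], [1,5,1,4,1,4,4,1,5,1,5,1,5,1,4,1,6,9,1], 11, [([], 3195, [4,4,1,4,4,1,4,4,1,4,4,1,4,4,1,4]), ([158,88], 1032, [1,5,1,4,1,4,4,1,5,1,4,1,4,1,4,1,4,1,4,1,4,1]), ([2114], 1255, [4,4,1,5,1,4,1,5,1,4,4,1,4,1,4,1,5,1,5,1,5])], []⟩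
def c3258 : Clm := ⟨9, 16, true, [1,5,1,4,1,4,4,1,5,1,5,1,5,1,4,1,6,9,1], [4,4,1,4,4,1,4,4,1,4,4,1,4,4,1,4,9], 5, [([], 3257, [])], []⟩
def c3259 : Clm := ⟨16, 14, true, [1,5,1,5,1,9], [4,1,4,1,5,1,4,1,4,4,1,4,4,1,5,1,4,3,9,13,8], 11, [([], 3195, [1,5,1,5,1]), ([92,92], 1032, [1,4,1,4,4,1,4,4,1,5,1,5,1,4,4,1,4,4,1,4]), ([2196,2114,2004], 3129, [4,1,4,1,4,1,4,1,4,1,5,1,4,1,5,1,4,4,1,4,1,5])], []⟩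
def c3260 : Clm := ⟨14, 16, true, [4,1,4,1,5,1,4,1,4,4,1,4,4,1,5,1,4,3,9,13,8], [1,5,1,5,1,9], 5, [([], 3259, [])], []⟩
def c3261 : Clm := ⟨16, 8, true, [4,4,1,4,4,1,4,1,4,1,4,9], [1,4,4,1,4,1,4,4,1,4,4,1,4,4,1,4,4,1,4,1,4,1,3,7,11,14], 11, [([], 3195, [4,4,1,4,4,1,4,1,4,1,4]), ([93], 66, [4,4,1,4,1,4,1,5,1,5,1,5,1,5]), ([90,93], 330, [5,1,4,4,1,5,1,4,1,5,1,5,1,4,1])], []⟩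
def c3262 : Clm := ⟨8, 16, true, [1,4,4,1,4,1,4,4,1,4,4,1,4,4,1,4,4,1,4,1,4,1,3,7,11,14], [4,4,1,4,4,1,4,1,4,1,4,9], 5, [([], 3261, [])], []⟩
def c3263 : Clm := ⟨16, 8, true, [4,1,5,1,4,4,1,5,1,5,1,4,1,4,1,9], [4,4,1,5,1,4,4,1,5,1,4,4,1,5,1,4,4,1,4,1,7,8,7,12], 11, [([], 3195, [4,1,5,1,4,4,1,5,1,5,1,4,1,4,1]), ([93,158], 1133, [5,1,4,1,5,1,4,1,5,1,5,1,4,1,5,1,4,4]), ([2196], 1053, [4,1,5,1,4,1,4,1,4,1,4,1,5,1,4,4,1,5])], []⟩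
def c3264 : Clm := ⟨8, 16, true, [4,4,1,5,1,4,4,1,5,1,4,4,1,5,1,4,4,1,4,1,7,8,7,12], [4,1,5,1,4,4,1,5,1,5,1,4,1,4,1,9], 5, [([], 3263, [])], []⟩
def c3265 : Clm := ⟨16, 16, true, [5,1,5,1,4,4,1,5,1,4,9], [4,1,4,1,4,1,4,1,4,4,1,4,4,1,4,1,4,4,1,4,4,1,2,10,5,8,12], 11, [([], 3195, [5,1,5,1,4,4,1,5,1,4]), ([158,88], 626, [1,4,1,5,1,4,1,4,4,1,5,1,4,1,5,1]), ([], 3215, [1,4,1,5,1,4,1,4,4,1,4,1,4,1,5,1,4,1,5,1,4,4])], []⟩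
def c3266 : Clm := ⟨16, 16, true, [4,1,4,1,4,1,4,1,4,4,1,4,4,1,4,1,4,4,1,4,4,1,2,10,5,8,12], [5,1,5,1,4,4,1,5,1,4,9], 5, [([], 3265, [])], []⟩
def c3267 : Clm := ⟨16, 8, true, [4,4,1,4,1,4,1,4,4,1,4,1,4,4,1,4,9], [4,1,4,1,5,1,4,1,4,1,4,4,1,5,1,4,1,4,1,4,4,1,7,10,13,8], 11, [([], 3195, [4,4,1,4,1,4,1,4,4,1,4,1,4,4,1,4]), ([158], 2494, [1,5,1,4,1,4,4,1,5,1,5,1,4,1,4,4,1,4,4,1]), ([5138,5040], 2551, [1,4,4,1,4,4,1,4,4,1,5,1,4,4,1,4,4,1,5,1,5,1])], []⟩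
def c3268 : Clm := ⟨8, 16, true, [4,1,4,1,5,1,4,1,4,1,4,4,1,5,1,4,1,4,1,4,4,1,7,10,13,8], [4,4,1,4,1,4,1,4,4,1,4,1,4,4,1,4,9], 5, [([], 3267, [])], []⟩
def c3269 : Clm := ⟨16, 10, true, [1,4,1,4,4,1,4,1,4,4,1,9], [5,1,5,1,5,1,4,1,4,4,1,5,1,5,1,4,1,5,1,4,2,11,13,1], 11, [([], 3195, [1,4,1,4,4,1,4,1,4,4,1]), ([158,93,88], 1058, [5,1,4,4,1,4,1,4,4,1,4,1,4,1,4,4,1,4,1,5]), ([2114], 2263, [4,1,5,1,4,1,4,1,5,1,4,1,5,1,4,1])], []⟩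
def c3270 : Clm := ⟨10, 16, true, [5,1,5,1,5,1,4,1,4,4,1,5,1,5,1,4,1,5,1,4,2,11,13,1], [1,4,1,4,4,1,4,1,4,4,1,9], 5, [([], 3269, [])], []⟩
def c3271 : Clm := ⟨16, 10, true, [4,4,1,5,1,4,4,1,9], [1,4,1,4,1,4,4,1,5,1,4,1,5,1,4,1,5,1,4,1,4,4,1,8,1,6,3], 11, [([], 3195, [4,4,1,5,1,4,4,1]), ([88,92,88], 433, [1,4,4,1,5,1,4,4,1,5,1,5,1,4,1,5,1,4,1,5,1,4,1,4]), ([356], 1640, [4,1,4,1,4,1,5,1,4,1,5,1,5,1])], []⟩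
def c3272 : Clm := ⟨10, 16, true, [1,4,1,4,1,4,4,1,5,1,4,1,5,1,4,1,5,1,4,1,4,4,1,8,1,6,3], [4,4,1,5,1,4,4,1,9], 5, [([], 3271, [])], []⟩
def c3273 : Clm := ⟨16, 8, true, [1,5,1,4,1,4,1,4,1,4,1,4,4,1,9], [1,4,1,4,1,4,1,5,1,5,1,4,1,4,1,4,1,4,1,4,2,5,12,9], 11, [([], 3195, [1,5,1,4,1,4,1,4,1,4,1,4,4,1]), ([92,158,90], 81, [4,1,4,4,1,4,4,1,4,1,4,1,4,1,5,1,4,1,5,1]), ([90,88], 304, [5,1,4,1,5,1,5,1,5,1,4,4,1,5,1,4,4])], []⟩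
def c3274 : Clm := ⟨8, 16, true, [1,4,1,4,1,4,1,5,1,5,1,4,1,4,1,4,1,4,1,4,2,5,12,9], [1,5,1,4,1,4,1,4,1,4,1,4,4,1,9], 5, [([], 3273, [])], []⟩
def c3275 : Clm := ⟨16, 13, true, [4,9], [5,1,5,1,4,1,5,1,4,4,1,4,1,4,4,1,5,1,4,1,3,10,7], 11, [([], 3195, [4]), ([93], 2490, [1,4,1,5,1,5,1,5,1,4,1,4,4,1,5,1,5,1,5,1,5]), ([5138,5078,4982], 2555, [5,1,4,4,1,4,1,5,1,5,1,5,1,5,1,4,1,5])], []⟩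
def c3276 : Clm := ⟨13, 16, true, [5,1,5,1,4,1,5,1,4,4,1,4,1,4,4,1,5,1,4,1,3,10,7], [4,9], 5, [([], 3275, [])], []⟩
def c3277 : Clm := ⟨16, 10, true, [1,5,1,4,1,4,1,5,1,5,1,9], [4,1,4,1,5,1,5,1,4,1,4,1,4,1,4,4,1,4,1,5,1,5,12,6], 11, [([], 3195, [1,5,1,4,1,4,1,5,1,5,1]), ([92,92,90,88], 2763, [1,4,4,1,5,1,4,1,4,4,1,5,1,5,1,4,1,5]), ([], 3005, [1,4,4,1,4,1,4,1,4,4,1,5,1,4,1,4,1,5])], []⟩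
def c3278 : Clm := ⟨10, 16, true, [4,1,4,1,5,1,5,1,4,1,4,1,4,1,4,4,1,4,1,5,1,5,12,6], [1,5,1,4,1,4,1,5,1,5,1,9], 5, [([], 3277, [])], []⟩
def c3279 : Clm := ⟨16, 8, true, [1,4,4,1,5,1,4,1,4,1,4,1,9], [5,1,5,1,5,1,4,4,1,4,4,1,4,1,5,1,4,1,5,1,7,1,12], 11, [([], 3195, [1,4,4,1,5,1,4,1,4,1,4,1]), ([158,93,88], 2644, [1,5,1,4,1,4,1,4,4,1,4,1,5,1,4,4,1,5,1]), ([5120,4982], 2566, [1,4,4,1,5,1,4,4,1,4,4,1,4,1])], []⟩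
def c3280 : Clm := ⟨8, 16, true, [5,1,5,1,5,1,4,4,1,4,4,1,4,1,5,1,4,1,5,1,7,1,12], [1,4,4,1,5,1,4,1,4,1,4,1,9], 5, [([], 3279, [])], []⟩
def c3281 : Clm := ⟨16, 8, true, [1,4,1,4,1,4,1,5,1,5,1,9], [5,1,4,1,4,1,4,1,4,1,4,1,5,1,4,1,4,4,1,4,1,5,2,4,13,6,5], 11, [([], 3195, [1,4,1,4,1,4,1,5,1,5,1]), ([158,92,88], 102, [1,4,1,5,1,4,1,4,4,1,4,1,4,1,4,4,1,4,1,5]), ([88,92,88], 528, [5,1,4,4,1,5,1,4,4,1,4,4,1,4,1,4,1])], []⟩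
def c3282 : Clm := ⟨8, 16, true, [5,1,4,1,4,1,4,1,4,1,4,1,5,1,4,1,4,4,1,4,1,5,2,4,13,6,5], [1,4,1,4,1,4,1,5,1,5,1,9], 5, [([], 3281, [])], []⟩
def c3283 : Clm := ⟨16, 10, true, [4,1,4,1,5,1,4,4,1,4,4,1,4,1,9], [5,1,5,1,5,1,5,1,4,1,4,4,1,4,4,1,4,1,10,1,8,1], 11, [([], 3195, [4,1,4,1,5,1,4,4,1,4,4,1,4,1]), ([158,92,92], 1686, [5,1,4,1,5,1,4,1,4,4,1,5,1,5,1,4]), ([], 1655, [1,4,1,4,1,4,1,4,4,1,5,1,4,1,4,1,4])], []⟩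
def c3284 : Clm := ⟨10, 16, true, [5,1,5,1,5,1,5,1,4,1,4,4,1,4,4,1,4,1,10,1,8,1], [4,1,4,1,5,1,4,4,1,4,4,1,4,1,9], 5, [([], 3283, [])], []⟩
def c3285 : Clm := ⟨16, 9, true, [4,1,4,1,4,1,5,1,5,1,9], [4,1,4,1,4,1,4,1,4,1,4,1,4,4,1,4,4,3,1,8,7], 11, [([], 3195, [4,1,4,1,4,1,5,1,5,1]), ([92,90], 433, [4,1,5,1,4,4,1,5,1,5,1]), ([356], 1211, [1,5,1,4,1,4,1,4,4,1,4,4,1,4,1,4,1,5,1,5,1])], []⟩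
def c3286 : Clm := ⟨9, 16, true, [4,1,4,1,4,1,4,1,4,1,4,1,4,4,1,4,4,3,1,8,7], [4,1,4,1,4,1,5,1,5,1,9], 5, [([], 3285, [])], []⟩
def c3287 : Clm := ⟨16, 16, true, [4,4,1,5,1,4,4,1,4,1,4,4,1,9], [4,4,1,5,1,4,4,1,4,1,4,4,1,9], 11, [([], 3195, [4,4,1,5,1,4,4,1,4,1,4,4,1]), ([93,158,90,88], 102, [1,4,1,4,1,5,1,4,1,5,1,4,4,1,4,4,1,5,1,5,1,4]), ([93,158,90,88], 3196, [4,1,5,1,5,1,5,1,4,1,4,1,4,1,4,1,4,1,4,1,4,1])], []⟩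
def c3288 : Clm := ⟨16, 9, true, [5,1,4,4,1,4,1,5,1,4,1,9], [5,1,5,1,5,1,4,1,5,1,4,4,1,5,1,4,1,4,4,1,3,9,9,12], 11, [([], 3195, [5,1,4,4,1,4,1,5,1,4,1]), ([93,90], 493, [4,1,4,1,5,1,5,1,4,4,1,4,4,1,4,4,1,5,1,4,1,4]), ([356], 1129, [5,1,5,1,5,1,4,1,4,4,1,4,1,5,1,4,1,4])], []⟩
def c3289 : Clm := ⟨9, 16, true, [5,1,5,1,5,1,4,1,5,1,4,4,1,5,1,4,1,4,4,1,3,9,9,12], [5,1,4,4,1,4,1,5,1,4,1,9], 5, [([], 3288, [])], []⟩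
def c3290 : Clm := ⟨16, 13, true, [4,4,1,5,1,5,1,4,1,4,1,9], [1,4,1,4,4,1,4,1,4,1,5,1,4,1,4,4,1,4,2,9,10,10], 11, [([], 3195, [4,4,1,5,1,5,1,4,1,4,1]), ([93,158,90,88], 304, [1,4,1,4,4,1,4,4,1,4,1,5,1,5,1,5,1,5,1]), ([], 2586, [4,1,4,4,1,4,1,5,1,4,4,1,4,4,1,5,1,5,1,4,4])], []⟩
def c3291 : Clm := ⟨13, 16, true, [1,4,1,4,4,1,4,1,4,1,5,1,4,1,4,4,1,4,2,9,10,10], [4,4,1,5,1,5,1,4,1,4,1,9], 5, [([], 3290, [])], []⟩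
def c3292 : Clm := ⟨16, 16, true, [1,4,1,4,1,5,1,9], [1,5,1,5,1,4,1,4,1,4,1,4,1,5,1,4,4,1,4,4,1,2,4,3,5], 11, [([], 3195, [1,4,1,4,1,5,1]), ([90,92], 1686, [4,1,5,1,5,1,4,1,4,1,4,4,1,5,1]), ([], 3283, [1,4,4,1,4,1,4,1,4,1,5,1,4,4,1,4,1,4,4,1])], []⟩
def c3293 : Clm := ⟨16, 16, true, [1,5,1,5,1,4,1,4,1,4,1,4,1,5,1,4,4,1,4,4,1,2,4,3,5], [1,4,1,4,1,5,1,9], 5, [([], 3292, [])], []⟩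
def c3294 : Clm := ⟨16, 16, true, [1,4,1,5,1,5,1,5,1,5,1,5,1,9], [1,4,1,4,1,4,4,1,4,1,4,1,4,1,5,1,4,1,5,6,9,3,7], 11, [([], 3195, [1,4,1,5,1,5,1,5,1,5,1,5,1]), ([92,88], 1566, [4,1,4,1,4,1,5,1,5,1,4,1,4,1,4,1,4,4,1,5,1,5]), ([2688,2840,2688], 3238, [5,1,4,1,4,4,1,4,1,5,1,5,1,5,1,5,1])], []⟩
def c3295 : Clm := ⟨16, 13, true, [1,5,1,5,1,5,1,4,4,1,4,9], [1,4,4,1,4,4,1,4,4,1,5,1,4,4,2,4,4,2], 11, [([], 3195, [1,5,1,5,1,5,1,4,4,1,4]), ([93,158,90,88], 1040, [4,1,5,1,5,1,4,4,1,5,1,4,4,1]), ([2197], 2498, [1,5,1,4,1,5,1,5,1,4,4,1,4,4,1,4,4,1,4,1])], []⟩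
def c3296 : Clm := ⟨13, 16, true, [1,4,4,1,4,4,1,4,4,1,5,1,4,4,2,4,4,2], [1,5,1,5,1,5,1,4,4,1,4,9], 5, [([], 3295, [])], []⟩
def c3297 : Clm := ⟨16, 9, true, [4,1,5,1,4,1,4,1,4,1,4,4,1,5,1,9], [5,1,4,4,1,5,1,4,1,4,1,4,1,4,1,6,1,4,3], 11, [([], 3195, [4,1,5,1,4,1,4,1,4,1,4,4,1,5,1]), ([158,93,90], 2151, [5,1,4,4,1,4,1,4,1,4,1,5,1,5]), ([2688,2840], 1654, [1,4,4,1,5,1,5,1,4,1,4,1,4,4,1,5,1,5,1,4,1,5])], []⟩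
def c3298 : Clm := ⟨9, 16, true, [5,1,4,4,1,5,1,4,1,4,1,4,1,4,1,6,1,4,3], [4,1,5,1,4,1,4,1,4,1,4,4,1,5,1,9], 5, [([], 3297, [])], []⟩
def c3299 : Clm := ⟨16, 9, true, [4,1,4,1,4,1,4,1,4,1,9], [1,5,1,4,4,1,5,1,4,1,4,4,1,5,1,5,1,4,1,5,1,3,14,12,4], 11, [([], 3195, [4,1,4,1,4,1,4,1,4,1]), ([158,93,88], 493, [1,4,1,4,1,4,1,4,1,4,1,4,1,4,4,1,5,1,4,1,4,4,1,5]), ([], 1223, [1,4,4,1,5,1,4,4,1,5,1,4,4,1,4])], []⟩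
def c3300 : Clm := ⟨9, 16, true, [1,5,1,4,4,1,5,1,4,1,4,4,1,5,1,5,1,4,1,5,1,3,14,12,4], [4,1,4,1,4,1,4,1,4,1,9], 5, [([], 3299, [])], []⟩
def c3301 : Clm := ⟨16, 10, true, [4,1,4,1,5,1,4,1,9], [5,1,4,1,5,1,4,1,4,6,14,10,14], 11, [([], 3195, [4,1,4,1,5,1,4,1]), ([90], 608, [4,1,4,4,1,4,4,1,5,1,4,1,4,1,5,1,4,1,5,1,5]), ([357], 1977, [4,4,1,4,4,1,4,1,5,1,4,1,4,1,5])], []⟩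
def c3302 : Clm := ⟨10, 16, true, [5,1,4,1,5,1,4,1,4,6,14,10,14], [4,1,4,1,5,1,4,1,9], 5, [([], 3301, [])], []⟩
def c3303 : Clm := ⟨16, 11, true, [4,1,5,1,4,4,1,4,4,1,4,1,4,1,9], [1,4,1,4,1,4,1,4,4,1,4,1,4,1,5,1,5,1,5,1,2,5,7,13], 11, [([], 3195, [4,1,5,1,4,4,1,4,4,1,4,1,4,1]), ([88,92,88], 524, [1,4,1,4,1,4,4,1,5,1,5,1,4,1,4,4,1,4,1,4,1,5]), ([], 2361, [1,5,1,4,1,4,4,1,5,1,4,4,1,4,4,1])], []⟩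
def c3304 : Clm := ⟨11, 16, true, [1,4,1,4,1,4,1,4,4,1,4,1,4,1,5,1,5,1,5,1,2,5,7,13], [4,1,5,1,4,4,1,4,4,1,4,1,4,1,9], 5, [([], 3303, [])], []⟩
def c3305 : Clm := ⟨16, 13, true, [4,4,1,4,1,5,1,4,4,1,5,1,4,9], [5,1,4,1,5,1,4,1,4,1,4,4,1,4,4,1,4,10,6,13,10], 11, [([], 3195, [4,4,1,4,1,5,1,4,4,1,5,1,4]), ([92,92,90], 281, [4,4,1,4,1,4,1,4,4,1,5,1,4,4,1,5,1]), ([357], 2677, [1,4,1,4,1,4,1,5,1,5,1,4,4,1,4,4])], []⟩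
def c3306 : Clm := ⟨13, 16, true, [5,1,4,1,5,1,4,1,4,1,4,4,1,4,4,1,4,10,6,13,10], [4,4,1,4,1,5,1,4,4,1,5,1,4,9], 5, [([], 3305, [])], []⟩
def c3307 : Clm := ⟨16, 16, true, [4,1,5,1,5,1,4,1,4,1,4,1,4,1,9], [4,1,5,1,4,1,4,4,1,4,1,4,1,5,1,4,1,4,2,6,13,11], 11, [([], 3195, [4,1,5,1,5,1,4,1,4,1,4,1,4,1]), ([92,92,90], 330, [4,1,4,1,5,1,4,1,5,1,5,1,4,4,1,4,1,4,1,5]), ([], 3206, [1,5,1,4,4,1,4,1,5,1,5,1,5,1,4,4])], []⟩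
def c3308 : Clm := ⟨16, 16, true, [4,1,5,1,4,1,4,4,1,4,1,4,1,5,1,4,1,4,2,6,13,11], [4,1,5,1,5,1,4,1,4,1,4,1,4,1,9], 5, [([], 3307, [])], []⟩
def c3309 : Clm := ⟨16, 16, true, [5,1,4,1,5,1,4,1,4,9], [5,1,4,1,5,1,5,1,4,1,4,4,1,4,1,4,2,10,5,8,12], 11, [([], 3195, [5,1,4,1,5,1,4,1,4]), ([92,92,90], 468, [1,4,1,4,1,4,1,4,4,1,4,4,1,5,1]), ([], 3224, [5,1,5,1,5,1,4,4,1,5,1,5,1,5,1,4,4,1,4,4,1])], []⟩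
def c3310 : Clm := ⟨16, 13, true, [1,5,1,4,4,1,4,4,1,4,1,4,1,9], [5,1,4,1,4,1,4,1,4,1,5,1,5,1,4,1,4,4,2,10,12,11], 11, [([], 3195, [1,5,1,4,4,1,4,4,1,4,1,4,1]), ([92,90,88], 2205, [4,4,1,4,1,4,1,4,1,5,1,4,1,5,1,4,1,4,1]), ([2688], 2709, [1,4,1,4,4,1,4,1,5,1,4,4,1,5,1,4,1,4,1,4])], []⟩
def c3311 : Clm := ⟨13, 16, true, [5,1,4,1,4,1,4,1,4,1,5,1,5,1,4,1,4,4,2,10,12,11], [1,5,1,4,4,1,4,4,1,4,1,4,1,9], 5, [([], 3310, [])], []⟩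
def c3312 : Clm := ⟨16, 16, true, [4,1,5,1,4,4,1,4,4,1,4,4,1,4,9], [4,1,4,1,4,4,1,5,1,4,1,4,4,1,4,4,1,4,4,1,5,6,1,9], 11, [([], 3195, [4,1,5,1,4,4,1,4,4,1,4,4,1,4]), ([90], 1936, [5,1,4,1,5,1,5,1,5,1,5,1,4,4,1,4,1,4,4]), ([2688,2840,2688], 3204, [4,1,5,1,4,1,4,1,5,1,4,4,1,5,1,5,1,4])], []⟩
def c3313 : Clm := ⟨16, 12, true, [1,4,1,5,1,5,1,4,4,1,5,1,4,1,4,1,9], [4,4,1,4,1,4,1,5,1,4,4,1,4,4,1,6,13,9], 11, [([], 3195, [1,4,1,5,1,5,1,4,4,1,5,1,4,1,4,1]), ([93], 336, [1,5,1,4,1,4,4,1,5,1,5,1,5,1,4,1,4,4,1]), ([], 2430, [4,4,1,5,1,5,1,4,1,4,4,1,4,4,1,4,1,5,1,4,4])], []⟩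
def c3314 : Clm := ⟨12, 16, true, [4,4,1,4,1,4,1,5,1,4,4,1,4,4,1,6,13,9], [1,4,1,5,1,5,1,4,4,1,5,1,4,1,4,1,9], 5, [([], 3313, [])], []⟩
def c3315 : Clm := ⟨16, 16, true, [1,4,4,1,4,1,4,1,4,1,4,9], [4,1,4,1,4,4,1,4,1,4,4,1,4,1,5,1,4,4,9], 11, [([], 3195, [1,4,4,1,4,1,4,1,4,1,4]), ([92,92,88], 87, [5,1,4,1,5,1,4,1,5,1,4,1,4,1,4,4,1]), ([158,93,90,88], 3196, [5,1,5,1,4,4,1,4,1,5,1,5,1,4,4,1,5,1,4])], []⟩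
def c3316 : Clm := ⟨16, 7, true, [5,1,5,1,4,4,1,4,1,9], [1,4,1,4,1,5,1,5,1,4,4,1,5,1,4,1,2,11,6,8], 11, [([], 3195, [5,1,5,1,4,4,1,4,1]), ([92,158,90,88], 536, [5,1,5,1,5,1,4,4,1,4,1,4,1,4,1]), ([357], 272, [5,1,4,4,1,5,1,4,1,4,1,4,4,1,5,1,4,1,4,1,4,1,5])], []⟩
def c3317 : Clm := ⟨7, 16, true, [1,4,1,4,1,5,1,5,1,4,4,1,5,1,4,1,2,11,6,8], [5,1,5,1,4,4,1,4,1,9], 5, [([], 3316, [])], []⟩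
def c3318 : Clm := ⟨16, 12, true, [5,1,4,4,1,4,4,1,4,1,4,9], [1,5,1,5,1,4,1,4,4,1,5,1,4,4,1,4,4,1,5,2,10,1,8], 11, [([], 3195, [5,1,4,4,1,4,4,1,4,1,4]), ([93,158], 1141, [4,1,4,1,5,1,4,4,1,5,1,5,1,4,1,4,1,4]), ([2196], 2450, [1,4,1,5,1,4,4,1,5,1,4,1,5,1,5,1,4,4,1,4,1,5])], []⟩
def c3319 : Clm := ⟨12, 16, true, [1,5,1,5,1,4,1,4,4,1,5,1,4,4,1,4,4,1,5,2,10,1,8], [5,1,4,4,1,4,4,1,4,1,4,9], 5, [([], 3318, [])], []⟩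
def c3320 : Clm := ⟨16, 7, true, [4,1,4,4,1,5,1,4,1,4,1,9], [5,1,5,1,5,1,5,1,4,4,1,5,1,4,1,5,1,5,9,9,5,9], 11, [([], 3195, [4,1,4,4,1,5,1,4,1,4,1]), ([158,92], 1127, [1,4,4,1,4,1,5,1,5,1,4,1,5,1,4,4]), ([2196], 1270, [1,4,4,1,4,1,4,4,1,4,4,1,4,4,1,4,4,1,4,1,5,1])], []⟩
def c3321 : Clm := ⟨7, 16, true, [5,1,5,1,5,1,5,1,4,4,1,5,1,4,1,5,1,5,9,9,5,9], [4,1,4,4,1,5,1,4,1,4,1,9], 5, [([], 3320, [])], []⟩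
def c3322 : Clm := ⟨16, 16, true, [1,4,4,1,4,4,1,4,4,1,9], [5,1,4,4,1,4,1,5,2,10,5,8,12], 11, [([], 3195, [1,4,4,1,4,4,1,4,4,1]), ([93,88], 719, [1,4,1,5,1,5,1,4,4,1,4,4,1,5,1,4,1,5,1,4]), ([357], 3215, [5,1,4,1,5,1,4,1,5,1,4,4])], []⟩
def c3323 : Clm := ⟨16, 16, true, [4,1,4,1,5,1,4,4,1,4,1,4,1,5,10], [4,1,5,1,5,1,5,1,5,1,5,1,5,1,4,2,6,2,11], 9, [([], 3195, [4,1,4,1,5,1,4,4,1,4,1,4,1,5]), ([], 528, [4,1,4,1,4,4,1,4,4,1,4,1,5,1,4,4,1,4,1]), ([356], 3224, [4,1,4,1,4,1,4,1,5,1,5,1,4,1,5,1,4,4,1,4])], []⟩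
def c3324 : Clm := ⟨16, 16, true, [5,1,4,1,4,4,1,4,4,1,4,1,10], [1,4,1,4,1,4,1,4,1,5,1,5,1,4,4,1,4,9,6,2,9], 9, [([], 3195, [5,1,4,1,4,4,1,4,4,1,4,1]), ([88], 3196, [1,4,1,5,1,4,1,4,1,4,4,1,4,4,1,4]), ([6442,6428,6428,6406,6428], 3229, [1,4,1,4,1,4,1,4,1,5,1,5,1,5,1,4,4,1,5])], []⟩
def c3325 : Clm := ⟨16, 7, true, [1,4,4,1,4,1,4,1,10], [5,1,4,1,4,1,4,1,5,1,4,4,1,5,9,4,1], 9, [([], 3195, [1,4,4,1,4,1,4,1]), ([92,90], 1428, [4,1,5,1,4,1,5,1,5,1,4,1,4,1,5,1,5,1,4,1]), ([2688,2840,2688], 1349, [5,1,4,1,4,1,4,1,5,1,5,1,5,1,5,1])], []⟩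
def c3326 : Clm := ⟨7, 16, true, [5,1,4,1,4,1,4,1,5,1,4,4,1,5,9,4,1], [1,4,4,1,4,1,4,1,10], 5, [([], 3325, [])], []⟩
def c3327 : Clm := ⟨16, 16, true, [4,1,4,4,1,5,1,4,1,4,1,10], [1,4,4,1,5,1,5,1,5,1,4,1,4,4,1,4,4,1,5,1,4,4,2,11,14], 9, [([], 3195, [4,1,4,4,1,5,1,4,1,4,1]), ([158,93,88], 493, [1,4,1,4,1,4,4,1,5,1,4,1,4,4,1,4,4,1,5,1,4,1]), ([356], 3208, [5,1,5,1,4,1,5,1,4,4,1,5,1,5,1,5])], []⟩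
def c3328 : Clm := ⟨16, 11, true, [4,4,1,5,1,4,4,1,4,1,10], [1,4,1,4,1,4,1,4,1,5,1,4,4,1,4,1,4,4,1,9,3,7,10], 9, [([], 3195, [4,4,1,5,1,4,4,1,4,1]), ([90,93], 102, [4,1,4,1,4,1,4,4,1,5,1,4,4,1,5,1,5,1,4,1,4,1]), ([92], 2369, [4,1,4,1,4,4,1,4,1,5,1,5,1,4,1,5,1,4,4,1])], []⟩
def c3329 : Clm := ⟨11, 16, true, [1,4,1,4,1,4,1,4,1,5,1,4,4,1,4,1,4,4,1,9,3,7,10], [4,4,1,5,1,4,4,1,4,1,10], 5, [([], 3328, [])], []⟩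
def c3330 : Clm := ⟨16, 16, true, [1,5,1,4,4,1,4,4,1,4,1,10], [5,1,4,1,5,1,5,1,4,4,1,4,4,1,4,4,1,5,1,4,1,4,4,12,7,1], 9, [([], 3195, [1,5,1,4,4,1,4,4,1,4,1]), ([92,92], 524, [1,4,4,1,4,1,5,1,5,1,4,4,1,5,1,4,1,4]), ([356], 3199, [5,1,5,1,4,1,4,4,1,4,1,5,1,4,1,4,4,1,5,1])], []⟩
def c3331 : Clm := ⟨16, 16, true, [1,4,4,1,5,1,4,1,4,1,4,1,4,1,10], [1,5,1,5,1,4,4,1,5,1,5,1,5,1,4,1,4,1,4,4,1,3,7,10,12], 9, [([], 3195, [1,4,4,1,5,1,4,1,4,1,4,1,4,1]), ([88,92,88], 344, [4,1,4,1,5,1]), ([], 3267, [4,1,4,1,5,1,4,4,1,4,1,4,1,4,1,4,4,1,5,1,5,1])], []⟩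
def c3332 : Clm := ⟨16, 16, true, [4,1,5,1,4,4,1,5,1,4,1,4,1,4,1,4,4,1,4,4,1,3,1,5,13], [5,1,4,1,4,1,5,1,4,1,5,1,4,4,1,5,1,5,1,4,7,1,9], 11, [([], 3218, [5,1,5,1,4,1,5,1,4,4,1,4,4,1,4,1,4]), ([357], 579, [5,1,5,1,5,1,4,4,1,5,1,5,1,4,1,4,1,5]), ([357], 3197, [5,1,5,1,4,1,4,1,4,1,4])], []⟩
def c3333 : Clm := ⟨16, 16, true, [5,1,4,1,4,1,5,1,4,1,5,1,4,4,1,5,1,5,1,4,7,1,9], [4,1,5,1,4,4,1,5,1,4,1,4,1,4,1,4,4,1,4,4,1,3,1,5,13], 5, [([], 3332, [])], []⟩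
def c3334 : Clm := ⟨16, 16, true, [4,1,4,1,4,4,1,4,4,1,5,1,4,1,4,1,5,1,3,8,3,14], [4,1,4,1,4,4,1,4,4,1,5,1,4,1,4,1,5,1,3,8,3,14], 11, [([], 3200, [1,4,1,5,1,4,4,1,5,1,5,1,4,1,5,1,4,1,4,1,5]), ([], 852, [1,5,1,5,1,5,1,4,1,4,1,5,1,5,1,4,1,4,1,5,1]), ([], 3199, [4,1,4,4,1,4,4,1,4,1,5,1,5,1])], []⟩
def c3335 : Clm := ⟨16, 16, true, [1,5,1,4,4,1,5,1,5,1,4,1,4,4,1,4,1,5,3,6,5,10], [4,4,1,4,1,4,1,5,1,4,1,5,1,4,4,1,4,1,4,2,1,5,13,1], 11, [([], 3200, [1,4,1,4,1,5,1,4,1,5,1,4,4,1,4,4,1,4]), ([356], 978, [4,1,5,1,5,1,5,1,4,1,4,4,1,5,1,4,4,1,4,4]), ([356], 3199, [1,4,4,1,5,1,5,1,4,4,1,4,1])], []⟩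
def c3336 : Clm := ⟨16, 16, true, [5,1,4,1,5,1,4,1,4,1,4,1,4,1,5,1,5,1,4,1,3,8,3,14], [1,4,1,4,1,4,4,1,4,1,4,1,4,4,1,5,1,5,1,5,1,5,6,9], 11, [([], 3229, [4,1,4,1,4,4,1,4,1,5,1,5,1,4,4,1,4,4,1]), ([6428,6428,6406], 3296, [1,4,4,1,4,4,1,4,1,4,1,5,1,4,4,1,4,1,4]), ([], 3201, [1,5,1,5,1,4,1,4,1,4,1])], []⟩
def c3337 : Clm := ⟨16, 16, true, [1,5,1,4,1,4,4,1,5,1,4,4,1,4,1,4,1,5,3,4,6,3], [4,4,1,4,1,4,4,1,5,1,4,4,1,5,1,5,6,1,8], 9, [([], 3207, [1,5,1,4,4,1,5,1,4,4,1,5,1,5,1,4,1,4,1,4,1,4]), ([], 688, [5,1,5,1,4,4,1,4,4,1,4,1,4,1,5,1,5,1,5]), ([], 3206, [4,1,4,4,1,4,4,1,4,4,1,4,1])], []⟩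
def c3338 : Clm := ⟨6, 17, true, [7,11,6,3], [], 1, [], []⟩
def c3339 : Clm := ⟨17, 6, true, [], [4,4,1,4,4,1,5,1,4,1,5,1,4,4,1,4,4,1,5,1,5,1,4,2,4,11,13], 5, [([], 3338, [])], []⟩
def c3340 : Clm := ⟨17, 9, true, [6], [1,4,1,5,1,5,1,4,1,4,1,4,1,4,4,1,4,1,6,4,7], 7, [([], 3338, []), ([240,229], 1011, [4,1,4,1,5,1,5,1,5,1,4,1,4,4,1,4,1,5])], []⟩
def c3341 : Clm := ⟨9, 17, true, [1,4,1,5,1,5,1,4,1,4,1,4,1,4,4,1,4,1,6,4,7], [6], 5, [([], 3340, [])], []⟩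
def c3342 : Clm := ⟨17, 8, true, [1,6], [1,5,1,5,1,5,1,4,4,1,4,4,1,5,1,5,1,5,1,4,4,3,13,4,10], 7, [([], 3338, [1]), ([241,229,240,226], 183, [1,4,4,1,4,4,1,4,1,4,4,1,4,4,1,4,1,5,1,4,4,1,5])], []⟩
def c3343 : Clm := ⟨8, 17, true, [1,5,1,5,1,5,1,4,4,1,4,4,1,5,1,5,1,5,1,4,4,3,13,4,10], [1,6], 5, [([], 3342, [])], []⟩
def c3344 : Clm := ⟨17, 14, true, [4,6], [4,1,4,4,1,4,4,1,5,1,5,1,5,1,5,1,4,1,4,1,2,6,11,7], 7, [([], 3338, [4]), ([240,240,230,228], 3143, [1,5,1,5,1,4,4,1,5,1,5,1,4,4,1,5,1])], []⟩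
def c3345 : Clm := ⟨14, 17, true, [4,1,4,4,1,4,4,1,5,1,5,1,5,1,5,1,4,1,4,1,2,6,11,7], [4,6], 5, [([], 3344, [])], []⟩
def c3346 : Clm := ⟨17, 8, true, [5,6], [1,5,1,4,1,4,1,4,4,1,4,1,5,1,4,1,5,1,4,10,1,5,9], 7, [([], 3338, [5]), ([227,241], 836, [1,4,1,4,1,4,1,5,1,4,1,4,4,1,5,1,4,4])], []⟩
def c3347 : Clm := ⟨8, 17, true, [1,5,1,4,1,4,1,4,4,1,4,1,5,1,4,1,5,1,4,10,1,5,9], [5,6], 5, [([], 3346, [])], []⟩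
def c3348 : Clm := ⟨17, 8, true, [4,1,6], [4,4,1,4,4,1,5,1,4,1,4,1,5,1,5,1,4,4,1,3,4,1,13], 7, [([], 3338, [4,1]), ([226], 342, [5,1,5,1,5,1,4,4,1,4,4,1,4,4,1,4,1,4,1,4])], []⟩
def c3349 : Clm := ⟨8, 17, true, [4,4,1,4,4,1,5,1,4,1,4,1,5,1,5,1,4,4,1,3,4,1,13], [4,1,6], 5, [([], 3348, [])], []⟩
def c3350 : Clm := ⟨17, 17, false, [4,1,6], [1,5,1,4,1,4,1,4,1,4,1,4,4,1,4,4,1,4,13,4], 3, [([], 3349, []), ([356], 3347, [4,4,1,4,1,4,1,4,1,4,4,1,5,1,5,1,5,1,4,1])], []⟩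
def c3351 : Clm := ⟨17, 8, true, [4,4,6], [1,5,1,4,1,4,1,5,1,5,1,4,1,5,1,5,1,7,1,7,1], 7, [([], 3338, [4,4]), ([230,240,228,227], 809, [4,1,4,1,4,4,1,4,4,1,4,4,1,4,4,1,4,1,5,1,4,1])], []⟩
def c3352 : Clm := ⟨8, 17, true, [1,5,1,4,1,4,1,5,1,5,1,4,1,5,1,5,1,7,1,7,1], [4,4,6], 5, [([], 3351, [])], []⟩
def c3353 : Clm := ⟨17, 17, false, [4,4,6], [1,4,1,5,1,4,1,4,1,5,1,4,1,5,1,5,1,6,1,4,6], 3, [([], 3352, []), ([], 3347, [1,4,4,1,5,1,4,4,1,4,1,4])], []⟩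
def c3354 : Clm := ⟨17, 8, true, [5,1,6], [4,1,5,1,4,4,1,4,4,1,5,1,4,1,4,1,4,1,2,5,12,6], 7, [([], 3338, [5,1]), ([228,230,227], 819, [1,5,1,4,4,1,5,1,4,4,1,5,1,4,4,1,5,1,4,4,1,4,4])], []⟩
def c3355 : Clm := ⟨8, 17, true, [4,1,5,1,4,4,1,4,4,1,5,1,4,1,4,1,4,1,2,5,12,6], [5,1,6], 5, [([], 3354, [])], []⟩
def c3356 : Clm := ⟨17, 10, true, [1,4,1,6], [4,1,4,4,1,5,1,4,4,1,5,1,5,1,4,1,5,1,5,9,13], 7, [([], 3338, [1,4,1]), ([240,229], 1985, [4,4,1,5,1,4,4,1,5,1,5,1,5,1,4,4,1,4,1,5])], []⟩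
def c3357 : Clm := ⟨10, 17, true, [4,1,4,4,1,5,1,4,4,1,5,1,5,1,4,1,5,1,5,9,13], [1,4,1,6], 5, [([], 3356, [])], []⟩
def c3358 : Clm := ⟨17, 10, true, [1,4,4,6], [4,4,1,4,1,5,1,5,1,5,1,5,1,4,4,1,5,1,3,11,1,9], 7, [([], 3338, [1,4,4]), ([228,230,229], 1393, [4,1,4,4,1,5,1,5,1,5,1,4,4,1,4,4,1,4,1,4,4])], []⟩
def c3359 : Clm := ⟨10, 17, true, [4,4,1,4,1,5,1,5,1,5,1,5,1,4,4,1,5,1,3,11,1,9], [1,4,4,6], 5, [([], 3358, [])], []⟩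
def c3360 : Clm := ⟨17, 10, true, [1,5,1,6], [5,1,4,1,5,1,4,4,1,4,4,1,4,4,1,5,1,4,4,1,4,1,13,6,2], 7, [([], 3338, [1,5,1]), ([228,226], 1393, [4,1,4,1,4,1,4,1,4,1,4,1,4,4,1,5,1,4,4,1])], []⟩
def c3361 : Clm := ⟨10, 17, true, [5,1,4,1,5,1,4,4,1,4,4,1,4,4,1,5,1,4,4,1,4,1,13,6,2], [1,5,1,6], 5, [([], 3360, [])], []⟩
def c3362 : Clm := ⟨17, 14, true, [1,4,4,1,6], [5,1,5,1,5,1,5,1,4,4,2,1,8,12,2], 7, [([], 3338, [1,4,4,1]), ([228,240,240], 3143, [5,1,5,1,4,4,1,5,1,5,1,4,1,5,1,5,1,4,1,4])], []⟩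
def c3363 : Clm := ⟨14, 17, true, [5,1,5,1,5,1,5,1,4,4,2,1,8,12,2], [1,4,4,1,6], 5, [([], 3362, [])], []⟩
def c3364 : Clm := ⟨17, 8, true, [4,1,4,1,6], [1,5,1,5,1,4,1,5,1,4,4,1,5,1,5,1,5,1,4,1,4,1,2,4,10], 7, [([], 3338, [4,1,4,1]), ([230,240,228,227], 483, [4,1,4,1,4,1,4,4,1,5,1,4,1,5,1,4,4,1,5,1,4])], []⟩
def c3365 : Clm := ⟨8, 17, true, [1,5,1,5,1,4,1,5,1,4,4,1,5,1,5,1,5,1,4,1,4,1,2,4,10], [4,1,4,1,6], 5, [([], 3364, [])], []⟩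
def c3366 : Clm := ⟨17, 8, true, [1,4,1,4,4,6], [1,4,4,1,4,1,4,1,4,4,1,5,1,4,1,4,1,5,8,1,2,8], 7, [([], 3338, [1,4,1,4,4]), ([241,229,230], 483, [1,4,1,5,1,4,4,1,4,4,1,4,1,4,1,4,4,1])], []⟩
def c3367 : Clm := ⟨8, 17, true, [1,4,4,1,4,1,4,1,4,4,1,5,1,4,1,4,1,5,8,1,2,8], [1,4,1,4,4,6], 5, [([], 3366, [])], []⟩
def c3368 : Clm := ⟨17, 10, true, [1,4,1,5,1,6], [1,4,1,5,1,5,1,4,4,1,4,4,1,4,4,1,5,1,5,1,2,1,13,2], 7, [([], 3338, [1,4,1,5,1]), ([229,227,241,230], 1371, [4,4,1,4,1,4,4,1,5,1,4,1,5,1,4,4])], []⟩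
def c3369 : Clm := ⟨10, 17, true, [1,4,1,5,1,5,1,4,4,1,4,4,1,4,4,1,5,1,5,1,2,1,13,2], [1,4,1,5,1,6], 5, [([], 3368, [])], []⟩
def c3370 : Clm := ⟨17, 8, true, [4,1,4,4,1,6], [1,4,1,4,1,5,1,5,1,4,1,4,1,5,1,5,1,4,4,3,1,12,10], 7, [([], 3338, [4,1,4,4,1]), ([241,241,230], 809, [4,4,1,5,1,4,1,5,1,5,1,5,1,5])], []⟩
def c3371 : Clm := ⟨8, 17, true, [1,4,1,4,1,5,1,5,1,4,1,4,1,5,1,5,1,4,4,3,1,12,10], [4,1,4,4,1,6], 5, [([], 3370, [])], []⟩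
def c3372 : Clm := ⟨17, 8, true, [1,5,1,5,1,4,1,6], [1,4,1,4,1,4,4,1,5,1,4,1,4,1,4,4,1,5,1,6,9,12], 7, [([], 3338, [1,5,1,5,1,4,1]), ([230,228,228], 342, [5,1,4,1,4,1,5,1,5,1,4,1,4,1,4,1,4,4,1,5])], []⟩
def c3373 : Clm := ⟨8, 17, true, [1,4,1,4,1,4,4,1,5,1,4,1,4,1,4,4,1,5,1,6,9,12], [1,5,1,5,1,4,1,6], 5, [([], 3372, [])], []⟩
def c3374 : Clm := ⟨8, 18, true, [14,11,9,2], [], 1, [], []⟩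
def c3375 : Clm := ⟨18, 8, true, [], [1,4,1,5,1,5,1,4,1,4,4,1,4,4,1,4,4,1,4,1,4,1,8,11,13,6], 5, [([], 3374, [])], []⟩
def c3376 : Clm := ⟨18, 18, false, [], [1,5,1,5,1,5,1,5,1,4,1,4,4,1,5,1,5,1,4,1], 3, [([], 3374, []), ([357], 3374, [1,5,1,5,1,5,1,5,1,4,1,4,4,1,5,1,5,1,4,1])], []⟩
def c3377 : Clm := ⟨18, 16, true, [6], [1,4,1,4,4,1,4,1,5,1,5,1,4,4,1,5,1,4,1,4,3,9,3,5], 7, [([], 3374, []), ([], 3199, [4,4,1,4,4,1,4,4,1,4,4,1,5,1,5,1,4,1,4])], []⟩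
def c3378 : Clm := ⟨16, 18, true, [1,4,1,4,4,1,4,1,5,1,5,1,4,4,1,5,1,4,1,4,3,9,3,5], [6], 5, [([], 3377, [])], []⟩
def c3379 : Clm := ⟨18, 18, false, [6], [1,4,1,5,1,5,1,5,1,4,1,4,1,5,1,5,1,4,4,1,4,4,2,8,3,7], 3, [([], 3378, []), ([6407], 3378, [4,1,5,1,4,1,4,1,4,4,1,5,1,5,1,4,1,5])], []⟩
def c3380 : Clm := ⟨18, 18, false, [6], [4,1,5,1,4,1,4,1,4,4,1,4,1,4,1,4,1,4,4,8,11,4], 3, [([], 3378, []), ([6443,6407,6429], 3378, [4,1,5,1,5,1,5,1,5,1,5,1,5,1,5,1,5,1])], []⟩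
def c3381 : Clm := ⟨18, 13, true, [5,6], [5,1,4,1,5,1,4,4,1,4,1,4,1,5,1,4,1,12,6,13], 7, [([], 3374, [5]), ([357], 2592, [1,5,1,4,4,1,5,1,4,4,1,4,4,1,4,1,4,1,4,4,1,4])], []⟩
def c3382 : Clm := ⟨13, 18, true, [5,1,4,1,5,1,4,4,1,4,1,4,1,5,1,4,1,12,6,13], [5,6], 5, [([], 3381, [])], []⟩
def c3383 : Clm := ⟨18, 9, true, [4,4,1,6], [4,4,1,4,4,1,4,4,1,5,1,5,1,5,1,4,4,1,4,1,4,1,2,4,12,6,5], 7, [([], 3374, [4,4,1]), ([357], 1077, [1,4,1,5,1,4,1,4,4,1,4,1,5,1,4,1,4,1,5,1,5])], []⟩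
def c3384 : Clm := ⟨9, 18, true, [4,4,1,4,4,1,4,4,1,5,1,5,1,5,1,4,4,1,4,1,4,1,2,4,12,6,5], [4,4,1,6], 5, [([], 3383, [])], []⟩
def c3385 : Clm := ⟨18, 18, true, [4,1,4,1,4,1,4,4,1,5,1,4,1,4,1,4,9], [1,5,1,4,4,1,4,4,1,4,4,1,5,1,4,4,1,4,4,1,5,2,6,9,7], 11, [([], 3374, [4,1,4,1,4,1,4,4,1,5,1,4,1,4,1,4]), ([357], 1143, [1,5,1,4,1,4,4,1,4,4,1,4,4,1,4,4,1,4,1,5,1]), ([2196], 3383, [4,1,4,1,4,4,1,4,4,1,5,1,5,1,5,1,4,4,1,4,1])], []⟩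
def c3386 : Clm := ⟨18, 18, true, [4,4,1,4,4,1,4,1,9], [1,5,1,5,1,4,4,1,5,1,5,1,5,9], 11, [([], 3374, [4,4,1,4,4,1,4,1]), ([356], 308, [4,4,1,4,4,1,4,1,4,4,1,4,4,1,5,1,4,1,5]), ([], 3375, [4,1,5,1,4,1,5,1,5,1,4,1,4,4,1,5,1,5,1,5])], []⟩
def c3387 : Clm := ⟨18, 15, true, [1,5,1,4,4,1,4,1,4,1,9], [1,4,1,4,1,5,1,4,1,4,4,1,5,1,4,1,5,1,4,4,1,2,6,9,7], 11, [([], 3374, [1,5,1,4,4,1,4,1,4,1]), ([], 517, [1,4,4,1,5,1,5,1,5,1,5,1,4,1,4,4,1,5,1,5,1,5]), ([], 3169, [4,4,1,4,4,1,5,1,5,1,5,1,4,4,1,4,1,5,1])], []⟩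
def c3388 : Clm := ⟨15, 18, true, [1,4,1,4,1,5,1,4,1,4,4,1,5,1,4,1,5,1,4,4,1,2,6,9,7], [1,5,1,4,4,1,4,1,4,1,9], 5, [([], 3387, [])], []⟩
def c3389 : Clm := ⟨18, 18, true, [1,4,4,1,4,4,1,5,1,4,1,4,1,4,9], [1,4,4,1,4,4,1,5,1,4,1,4,1,4,9], 11, [([], 3374, [1,4,4,1,4,4,1,5,1,4,1,4,1,4]), ([], 852, [1,5,1,5,1,4,1,4,1,5,1,5,1,4,1]), ([], 3375, [5,1,4,4,1,4,4,1,5,1,5,1,5,1,5,1,5])], []⟩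
def c3390 : Clm := ⟨18, 18, true, [1,5,1,4,1,4,4,1,4,1,4,4,1,4,1,4,1,5,1,4,2,1,13,9], [1,5,1,5,1,5,1,4,1,5,1,4,4,1,4,1,4,1,4,1,2,8,3,11], 11, [([], 3378, [4,1,5,1,5,1,5,1,5,1,4,4,1,5,1,4,4,1,4]), ([6442], 3333, [4,1,4,1,5,1,4,4,1,5,1,5,1,4,4,1,4,1]), ([6406,6428], 3377, [1,5,1,4,1,4,1,5,1])], []⟩
def c3391 : Clm := ⟨9, 19, true, [12,7,2], [], 1, [], []⟩
def c3392 : Clm := ⟨19, 9, true, [], [5,1,5,1,4,4,1,4,4,1,4,1,4,4,1,5,1,4,12,5], 5, [([], 3391, [])], []⟩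
def c3393 : Clm := ⟨19, 19, false, [], [1,5,1,4,4,1,5,1,4,1,4,4,1,4,1], 3, [([], 3391, []), ([2005], 3391, [1,5,1,4,4,1,5,1,4,1,4,4,1,4,1])], []⟩
def c3394 : Clm := ⟨19, 19, false, [], [5,1,4,4,1,5,1,4,1,4,4,1,4], 3, [([], 3391, []), ([2011], 3391, [5,1,4,4,1,5,1,4,1,4,4,1,4])], []⟩
def c3395 : Clm := ⟨19, 19, false, [], [4,1,4,1,5,1,5,1,5,1,5,1,4,4,1,5,1,4,4,1,5], 3, [([], 3391, []), ([2197,2114], 3391, [4,1,4,1,5,1,5,1,5,1,5,1,4,4,1,5,1,4,4,1,5])], []⟩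
def c3396 : Clm := ⟨19, 9, true, [6], [4,1,4,1,4,4,1,4,1,4,1,4,1,4,4,1,4,13,5], 7, [([], 3391, []), ([2010], 1168, [1,4,1,5,1,5,1,4,4,1,4,4,1,5,1,4,1,4,1,5,1,4,1])], []⟩
def c3397 : Clm := ⟨9, 19, true, [4,1,4,1,4,4,1,4,1,4,1,4,1,4,4,1,4,13,5], [6], 5, [([], 3396, [])], []⟩
def c3398 : Clm := ⟨19, 19, false, [6], [1,4,1,4,4,1,4,1,4,4,1,5,1,4,1,4,1,5,1,4,4,1,5,7], 3, [([], 3397, []), ([], 3391, [1,4,1,4,4,1,4,1,4,4,1,5,1,4,1,4,1,5,1,4,4,1,5])], []⟩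
def c3399 : Clm := ⟨19, 12, true, [1,6], [4,4,1,5,1,4,1,5,1,5,1,4,1,4,2,5,1,12], 7, [([], 3391, [1]), ([2004], 2450, [4,4,1,5,1,4,4,1,5,1,4,1,4,4,1,4,1])], []⟩
def c3400 : Clm := ⟨12, 19, true, [4,4,1,5,1,4,1,5,1,5,1,4,1,4,2,5,1,12], [1,6], 5, [([], 3399, [])], []⟩
def c3401 : Clm := ⟨19, 11, true, [4,1,5,1,6], [4,4,1,5,1,4,1,4,1,5,1,4,1,5,3,9,3,7], 7, [([], 3391, [4,1,5,1]), ([2114], 2367, [5,1,4,1,4,1,4,1,4,4,1,4,1,5,1,4,1,4])], []⟩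
def c3402 : Clm := ⟨11, 19, true, [4,4,1,5,1,4,1,4,1,5,1,4,1,5,3,9,3,7], [4,1,5,1,6], 5, [([], 3401, [])], []⟩
def c3403 : Clm := ⟨19, 19, true, [5,1,4,1,4,4,1,9], [5,1,4,4,1,5,1,4,1,5,1,4,4,1,4,4,9], 11, [([], 3391, [5,1,4,1,4,4,1]), ([], 1322, [4,1,5,1,4,4,1,4,4,1,5,1,5,1,4,1,5,1,4,4]), ([2114], 3392, [1,4,4,1,4,4,1,4,4,1,5,1,4,1,4,4,1])], []⟩
def c3404 : Clm := ⟨19, 19, true, [1,4,1,5,1,5,1,5,1,5,1,4,4,1,9], [1,5,1,5,1,4,1,4,1,4,4,1,4,1,5,1,4,1,5,1,5,1,9], 11, [([], 3391, [1,4,1,5,1,5,1,5,1,5,1,4,4,1]), ([2114], 1037, [4,1,4,4,1,4,1,5,1,5,1,5,1,5,1,5,1,5,1]), ([2114], 3392, [4,4,1,4,4,1,4,1,5,1,5,1,5,1,5,1,4,4,1])], []⟩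
def c3405 : Clm := ⟨19, 19, true, [1,4,1,5,1,5,1,4,1,4,4,1,4,1,5,1,4,4,1,5,1,4,2,1,13,11], [5,1,4,1,5,1,4,1,4,1,5,1,5,1,5,1,4,4,8,3,4,10], 11, [([], 3400, [5,1,4,1,4,1,5,1,5,1,4,1,5,1,4,1,5,1,4]), ([4768], 2488, [5,1,5,1,4,1,4,1,4,1,5,1,5,1,4,1,5,1]), ([4768], 3399, [4,4,1,5,1,5,1,5,1,4,1,4,1,4])], []⟩
def c3406 : Clm := ⟨10, 20, true, [11,7,8,12], [], 1, [], []⟩
def c3407 : Clm := ⟨20, 10, true, [], [4,1,4,1,5,1,4,4,1,5,1,5,1,5,1,4,1,4,4,1,5,1,5,12,6,12], 5, [([], 3406, [])], []⟩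
def c3408 : Clm := ⟨20, 20, false, [], [1,4,4,1,4,1,5,1,4,1,5,1,4,4,1,5], 3, [([], 3406, []), ([2689], 3406, [1,4,4,1,4,1,5,1,4,1,5,1,4,4,1,5])], []⟩
def c3409 : Clm := ⟨20, 20, false, [], [1,5,1,4,4,1,5,1,4,4,1,4,1,4,4,1,4,1], 3, [([], 3406, []), ([2841], 3406, [1,5,1,4,4,1,5,1,4,4,1,4,1,4,4,1,4,1])], []⟩
def c3410 : Clm := ⟨20, 16, true, [6], [4,1,4,4,1,5,1,5,1,4,1,4,1,4,1,4,4,1,5,1,2,5,1,14], 7, [([], 3406, []), ([], 3271, [1,4,1,4,4,1,4,4,1,4,1,4,1,4,1])], []⟩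
def c3411 : Clm := ⟨16, 20, true, [4,1,4,4,1,5,1,5,1,4,1,4,1,4,1,4,4,1,5,1,2,5,1,14], [6], 5, [([], 3410, [])], []⟩
def c3412 : Clm := ⟨20, 20, false, [6], [4,1,4,1,5,1,4,4,1,5,1,4,4,1,4,1,4,1,5,7,1,5,7], 3, [([], 3411, []), ([6429], 3411, [1,4,1,4,1,4,4,1,5,1,5,1,4,4,1,4,4])], []⟩
def c3413 : Clm := ⟨20, 10, true, [1,6], [5,1,4,1,4,1,4,1,4,4,1,4,1,4,4,1,6,1,8,1], 7, [([], 3406, [1]), ([2840,2688], 2235, [4,4,1,5,1,4,4,1,4,1,4,4,1,4,1,4])], []⟩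
def c3414 : Clm := ⟨10, 20, true, [5,1,4,1,4,1,4,1,4,4,1,4,1,4,4,1,6,1,8,1], [1,6], 5, [([], 3413, [])], []⟩
def c3415 : Clm := ⟨20, 20, false, [1,6], [1,4,1,5,1,5,1,4,1,4,1,4,1,4,4,1,4,1,4,1,5,7,1], 3, [([], 3414, []), ([], 3406, [1,4,1,5,1,5,1,4,1,4,1,4,1,4,4,1,4,1,4,1,5])], []⟩
def c3416 : Clm := ⟨20, 13, true, [5,6], [4,4,1,5,1,4,4,1,4,4,1,4,1,4,4,1,5,1,3,8,2,12], 7, [([], 3406, [5]), ([2688,2840], 2531, [1,4,1,5,1,4,1,4,1,5,1,5,1,5,1,5,1,5,1,4,4])], []⟩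
def c3417 : Clm := ⟨13, 20, true, [4,4,1,5,1,4,4,1,4,4,1,4,1,4,4,1,5,1,3,8,2,12], [5,6], 5, [([], 3416, [])], []⟩
def c3418 : Clm := ⟨20, 12, true, [4,1,6], [4,1,4,4,1,4,1,4,4,1,5,1,4,1,4,1,5,1,2,10,7,4], 7, [([], 3406, [4,1]), ([2688,2840], 2402, [1,4,1,4,1,4,1,4,1,4,1,4,1,4,1,4,4,1,5,1,4,1,4,4,1])], []⟩
def c3419 : Clm := ⟨12, 20, true, [4,1,4,4,1,4,1,4,4,1,5,1,4,1,4,1,5,1,2,10,7,4], [4,1,6], 5, [([], 3418, [])], []⟩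
def c3420 : Clm := ⟨20, 12, true, [4,4,1,4,4,6], [1,4,1,4,1,4,4,1,5,1,4,1,4,1,4,1,4,4,1,4,1,4,7,1,7], 7, [([], 3406, [4,4,1,4,4]), ([], 2395, [1,4,4,1,5,1,5,1,4,1,4,4,1,5,1,5,1,5,1,4])], []⟩
def c3421 : Clm := ⟨12, 20, true, [1,4,1,4,1,4,4,1,5,1,4,1,4,1,4,1,4,4,1,4,1,4,7,1,7], [4,4,1,4,4,6], 5, [([], 3420, [])], []⟩
def c3422 : Clm := ⟨20, 11, true, [5,1,4,1,4,9], [1,4,4,1,4,1,4,1,4,4,1,5,1,4,1,4,1,5,2,4,2,10], 11, [([], 3406, [5,1,4,1,4]), ([2840], 1801, [4,1,5,1,4,4,1,5,1,4,1,4,4,1,4,1]), ([], 2361, [4,4,1,4,1,5,1,5,1,5,1,4,4])], []⟩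
def c3423 : Clm := ⟨11, 20, true, [1,4,4,1,4,1,4,1,4,4,1,5,1,4,1,4,1,5,2,4,2,10], [5,1,4,1,4,9], 5, [([], 3422, [])], []⟩
def c3424 : Clm := ⟨20, 20, true, [4,1,4,1,4,1,4,1,4,9], [1,4,1,4,4,1,4,1,4,4,1,5,1,4,1,4,8,11,9], 11, [([], 3406, [4,1,4,1,4,1,4,1,4]), ([], 2606, [1,4,1,4,4,1,5,1,4,1,5,1,4,4,1,5,1,4,1,4,1,4]), ([5138], 3416, [4,1,4,1,4,1,4,4,1,4,1,5,1,4,1,4,1])], []⟩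
def c3425 : Clm := ⟨20, 20, true, [5,1,5,1,5,1,4,4,1,9], [4,1,5,1,5,1,4,4,1,4,1,4,1,4,4,1,5,1,5,9], 11, [([], 3406, [5,1,5,1,5,1,4,4,1]), ([2688], 1695, [5,1,4,1,4,1,4,1,4,1,4,1,5,1,4,1,4,4,1,5,1,4,4]), ([], 3407, [4,4,1,5,1,5,1,4,1,4,1,4,1,4,1,4,1,4,1,5,1,5])], []⟩
def c3426 : Clm := ⟨20, 19, true, [5,1,4,4,1,4,4,1,4,4,1,4,9], [4,4,1,4,1,4,4,1,4,4,1,5,1,4,1,4,1,4,1,4,4,9], 11, [([], 3406, [5,1,4,4,1,4,4,1,4,4,1,4]), ([], 2284, [5,1,5,1,4,1,4,1,5,1,5,1,4,1,4,4,1,4,4,1,4,1,4]), ([2114], 3392, [5,1,4,1,4,1,5,1,4,1,5,1,4,4,1,5,1,5,1,4])], []⟩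
def c3427 : Clm := ⟨19, 20, true, [4,4,1,4,1,4,4,1,4,4,1,5,1,4,1,4,1,4,1,4,4,9], [5,1,4,4,1,4,4,1,4,4,1,4,9], 5, [([], 3426, [])], []⟩
def c3428 : Clm := ⟨20, 20, true, [4,4,1,4,4,1,4,1,5,1,4,1,4,4,1,4,1,4,4,1,3,6,8,12], [1,4,4,1,5,1,5,1,4,1,4,4,1,4,1,4,4,1,4,1,5,1,8,11,11], 11, [([], 3411, [1,5,1,4,4,1,4,1,5,1,4,1,5,1,5,1,4,4]), ([6406], 3333, [1,4,4,1,4,1,4,4,1,5,1,4,4,1,4,1,5,1,4,1,4,4,1,5]), ([], 3410, [5,1,5,1,4,4,1,4])], []⟩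
def c3429 : Clm := ⟨16, 21, true, [3,13], [], 1, [], []⟩
def c3430 : Clm := ⟨21, 16, true, [], [3,13], 5, [([], 3429, [])], []⟩
def c3431 : Clm := ⟨21, 21, false, [], [1,5,1,4,4,1,5,1,4,4,1,4,1,5,1,4], 3, [([], 3429, []), ([6407], 3429, [1,5,1,4,4,1,5,1,4,4,1,4,1,5,1,4])], []⟩
def c3432 : Clm := ⟨21, 21, false, [], [4,4,1,5,1,5,1,4,1,5,1,4,1,4,1,5,1], 3, [([], 3429, []), ([6429], 3429, [4,4,1,5,1,5,1,4,1,5,1,4,1,4,1,5,1])], []⟩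
def c3433 : Clm := ⟨21, 16, true, [6], [1,5,1,5,1,4,4,1,4,4,1,5,1,5,1,4,4,1,3,4,1,9], 7, [([], 3429, []), ([6428], 3266, [4,1,4,1,5,1,5,1,4,4,1,4,4,1,5,1,4,1,4,1,5,1,4])], []⟩
def c3434 : Clm := ⟨16, 21, true, [1,5,1,5,1,4,4,1,4,4,1,5,1,5,1,4,4,1,3,4,1,9], [6], 5, [([], 3433, [])], []⟩
def c3435 : Clm := ⟨21, 21, false, [6], [4,4,1,4,4,1,4,4,1,5,1,4,1,4,1,5,1,4,1,4,7], 3, [([], 3434, []), ([], 3429, [4,4,1,4,4,1,4,4,1,5,1,4,1,4,1,5,1,4,1,4])], []⟩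
def c3436 : Clm := ⟨21, 16, true, [1,6], [1,4,4,1,4,4,1,4,1,4,4,1,4,4,1,4,4,1,3,12,9], 7, [([], 3429, [1]), ([6406,6442], 3293, [4,1,4,1,4,1,4,4,1,4,4,1,4,1,5,1,4,1,4,1])], []⟩
def c3437 : Clm := ⟨16, 21, true, [1,4,4,1,4,4,1,4,1,4,4,1,4,4,1,4,4,1,3,12,9], [1,6], 5, [([], 3436, [])], []⟩
def c3438 : Clm := ⟨21, 21, false, [1,6], [4,4,1,4,4,1,4,1,4,4,1,4,1,4,4,7,1], 3, [([], 3437, []), ([], 3429, [4,4,1,4,4,1,4,1,4,4,1,4,1,4,4])], []⟩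
def c3439 : Clm := ⟨21, 18, true, [4,4,6], [5,1,4,4,1,4,4,1,5,1,5,1,5,1,5,1,4,8,12,2,4], 7, [([], 3429, [4,4]), ([], 3377, [5,1,4,4,1,5,1,4,1,4,1,5,1,4,1,5,1,4,4,1,5,1])], []⟩
def c3440 : Clm := ⟨18, 21, true, [5,1,4,4,1,4,4,1,5,1,5,1,5,1,5,1,4,8,12,2,4], [4,4,6], 5, [([], 3439, [])], []⟩
def c3441 : Clm := ⟨21, 21, true, [1,4,4,1,6], [1,4,1,4,1,5,1,5,1,5,1,4,4,1,5,1,5,1,4,1,4,7], 7, [([], 3429, [1,4,4,1]), ([6442], 3430, [1,4,1,4,1,5,1,5,1,5,1,4,4,1,5,1,5,1,4,1,4])], []⟩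
def c3442 : Clm := ⟨21, 21, true, [4,4,1,4,1,4,1,4,1,4,9], [4,1,5,1,4,4,1,4,4,1,4,1,4,4,1,4,4,1,4,4,1,4,9], 11, [([], 3429, [4,4,1,4,1,4,1,4,1,4]), ([], 3333, [5,1,4,1,5,1,4,1,5,1,5,1,4,4,1,5]), ([6442], 3430, [4,1,5,1,4,1,4,4,1,4,4,1,5,1,4,4,1,4,1])], []⟩
def c3443 : Clm := ⟨1, 1, true, [12], [13], 4, [([], 3, [])], [20]⟩

noncomputable def cl0 (y : ℕ) : Clm := (selA 8 y (selA 4 y (selA 2 y (selA 1 y c0 c1) (selA 3 y c2 c3)) (selA 6 y (selA 5 y c4 c5) (selA 7 y c6 c7))) (selA 12 y (selA 10 y (selA 9 y c8 c9) (selA 11 y c10 c11)) (selA 14 y (selA 13 y c12 c13) (selA 15 y c14 c15))))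

noncomputable def cl1 (y : ℕ) : Clm := (selA 24 y (selA 20 y (selA 18 y (selA 17 y c16 c17) (selA 19 y c18 c19)) (selA 22 y (selA 21 y c20 c21) (selA 23 y c22 c23))) (selA 28 y (selA 26 y (selA 25 y c24 c25) (selA 27 y c26 c27)) (selA 30 y (selA 29 y c28 c29) (selA 31 y c30 c31))))

noncomputable def cl2 (y : ℕ) : Clm := (selA 40 y (selA 36 y (selA 34 y (selA 33 y c32 c33) (selA 35 y c34 c35)) (selA 38 y (selA 37 y c36 c37) (selA 39 y c38 c39))) (selA 44 y (selA 42 y (selA 41 y c40 c41) (selA 43 y c42 c43)) (selA 46 y (selA 45 y c44 c45) (selA 47 y c46 c47))))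

noncomputable def cl3 (y : ℕ) : Clm := (selA 56 y (selA 52 y (selA 50 y (selA 49 y c48 c49) (selA 51 y c50 c51)) (selA 54 y (selA 53 y c52 c53) (selA 55 y c54 c55))) (selA 60 y (selA 58 y (selA 57 y c56 c57) (selA 59 y c58 c59)) (selA 62 y (selA 61 y c60 c61) (selA 63 y c62 c63))))

noncomputable def cl4 (y : ℕ) : Clm := (selA 72 y (selA 68 y (selA 66 y (selA 65 y c64 c65) (selA 67 y c66 c67)) (selA 70 y (selA 69 y c68 c69) (selA 71 y c70 c71))) (selA 76 y (selA 74 y (selA 73 y c72 c73) (selA 75 y c74 c75)) (selA 78 y (selA 77 y c76 c77) (selA 79 y c78 c79))))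

noncomputable def cl5 (y : ℕ) : Clm := (selA 88 y (selA 84 y (selA 82 y (selA 81 y c80 c81) (selA 83 y c82 c83)) (selA 86 y (selA 85 y c84 c85) (selA 87 y c86 c87))) (selA 92 y (selA 90 y (selA 89 y c88 c89) (selA 91 y c90 c91)) (selA 94 y (selA 93 y c92 c93) (selA 95 y c94 c95))))

noncomputable def cl6 (y : ℕ) : Clm := (selA 104 y (selA 100 y (selA 98 y (selA 97 y c96 c97) (selA 99 y c98 c99)) (selA 102 y (selA 101 y c100 c101) (selA 103 y c102 c103))) (selA 108 y (selA 106 y (selA 105 y c104 c105) (selA 107 y c106 c107)) (selA 110 y (selA 109 y c108 c109) (selA 111 y c110 c111))))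

noncomputable def cl7 (y : ℕ) : Clm := (selA 120 y (selA 116 y (selA 114 y (selA 113 y c112 c113) (selA 115 y c114 c115)) (selA 118 y (selA 117 y c116 c117) (selA 119 y c118 c119))) (selA 124 y (selA 122 y (selA 121 y c120 c121) (selA 123 y c122 c123)) (selA 126 y (selA 125 y c124 c125) (selA 127 y c126 c127))))

noncomputable def cl8 (y : ℕ) : Clm := (selA 136 y (selA 132 y (selA 130 y (selA 129 y c128 c129) (selA 131 y c130 c131)) (selA 134 y (selA 133 y c132 c133) (selA 135 y c134 c135))) (selA 140 y (selA 138 y (selA 137 y c136 c137) (selA 139 y c138 c139)) (selA 142 y (selA 141 y c140 c141) (selA 143 y c142 c143))))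

noncomputable def cl9 (y : ℕ) : Clm := (selA 152 y (selA 148 y (selA 146 y (selA 145 y c144 c145) (selA 147 y c146 c147)) (selA 150 y (selA 149 y c148 c149) (selA 151 y c150 c151))) (selA 156 y (selA 154 y (selA 153 y c152 c153) (selA 155 y c154 c155)) (selA 158 y (selA 157 y c156 c157) (selA 159 y c158 c159))))

noncomputable def cl10 (y : ℕ) : Clm := (selA 168 y (selA 164 y (selA 162 y (selA 161 y c160 c161) (selA 163 y c162 c163)) (selA 166 y (selA 165 y c164 c165) (selA 167 y c166 c167))) (selA 172 y (selA 170 y (selA 169 y c168 c169) (selA 171 y c170 c171)) (selA 174 y (selA 173 y c172 c173) (selA 175 y c174 c175))))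

noncomputable def cl11 (y : ℕ) : Clm := (selA 184 y (selA 180 y (selA 178 y (selA 177 y c176 c177) (selA 179 y c178 c179)) (selA 182 y (selA 181 y c180 c181) (selA 183 y c182 c183))) (selA 188 y (selA 186 y (selA 185 y c184 c185) (selA 187 y c186 c187)) (selA 190 y (selA 189 y c188 c189) (selA 191 y c190 c191))))

noncomputable def cl12 (y : ℕ) : Clm := (selA 200 y (selA 196 y (selA 194 y (selA 193 y c192 c193) (selA 195 y c194 c195)) (selA 198 y (selA 197 y c196 c197) (selA 199 y c198 c199))) (selA 204 y (selA 202 y (selA 201 y c200 c201) (selA 203 y c202 c203)) (selA 206 y (selA 205 y c204 c205) (selA 207 y c206 c207))))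

noncomputable def cl13 (y : ℕ) : Clm := (selA 216 y (selA 212 y (selA 210 y (selA 209 y c208 c209) (selA 211 y c210 c211)) (selA 214 y (selA 213 y c212 c213) (selA 215 y c214 c215))) (selA 220 y (selA 218 y (selA 217 y c216 c217) (selA 219 y c218 c219)) (selA 222 y (selA 221 y c220 c221) (selA 223 y c222 c223))))

noncomputable def cl14 (y : ℕ) : Clm := (selA 232 y (selA 228 y (selA 226 y (selA 225 y c224 c225) (selA 227 y c226 c227)) (selA 230 y (selA 229 y c228 c229) (selA 231 y c230 c231))) (selA 236 y (selA 234 y (selA 233 y c232 c233) (selA 235 y c234 c235)) (selA 238 y (selA 237 y c236 c237) (selA 239 y c238 c239))))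

noncomputable def cl15 (y : ℕ) : Clm := (selA 248 y (selA 244 y (selA 242 y (selA 241 y c240 c241) (selA 243 y c242 c243)) (selA 246 y (selA 245 y c244 c245) (selA 247 y c246 c247))) (selA 252 y (selA 250 y (selA 249 y c248 c249) (selA 251 y c250 c251)) (selA 254 y (selA 253 y c252 c253) (selA 255 y c254 c255))))

noncomputable def cl16 (y : ℕ) : Clm := (selA 264 y (selA 260 y (selA 258 y (selA 257 y c256 c257) (selA 259 y c258 c259)) (selA 262 y (selA 261 y c260 c261) (selA 263 y c262 c263))) (selA 268 y (selA 266 y (selA 265 y c264 c265) (selA 267 y c266 c267)) (selA 270 y (selA 269 y c268 c269) (selA 271 y c270 c271))))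

noncomputable def cl17 (y : ℕ) : Clm := (selA 280 y (selA 276 y (selA 274 y (selA 273 y c272 c273) (selA 275 y c274 c275)) (selA 278 y (selA 277 y c276 c277) (selA 279 y c278 c279))) (selA 284 y (selA 282 y (selA 281 y c280 c281) (selA 283 y c282 c283)) (selA 286 y (selA 285 y c284 c285) (selA 287 y c286 c287))))

noncomputable def cl18 (y : ℕ) : Clm := (selA 296 y (selA 292 y (selA 290 y (selA 289 y c288 c289) (selA 291 y c290 c291)) (selA 294 y (selA 293 y c292 c293) (selA 295 y c294 c295))) (selA 300 y (selA 298 y (selA 297 y c296 c297) (selA 299 y c298 c299)) (selA 302 y (selA 301 y c300 c301) (selA 303 y c302 c303))))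

noncomputable def cl19 (y : ℕ) : Clm := (selA 312 y (selA 308 y (selA 306 y (selA 305 y c304 c305) (selA 307 y c306 c307)) (selA 310 y (selA 309 y c308 c309) (selA 311 y c310 c311))) (selA 316 y (selA 314 y (selA 313 y c312 c313) (selA 315 y c314 c315)) (selA 318 y (selA 317 y c316 c317) (selA 319 y c318 c319))))

noncomputable def cl20 (y : ℕ) : Clm := (selA 328 y (selA 324 y (selA 322 y (selA 321 y c320 c321) (selA 323 y c322 c323)) (selA 326 y (selA 325 y c324 c325) (selA 327 y c326 c327))) (selA 332 y (selA 330 y (selA 329 y c328 c329) (selA 331 y c330 c331)) (selA 334 y (selA 333 y c332 c333) (selA 335 y c334 c335))))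

noncomputable def cl21 (y : ℕ) : Clm := (selA 344 y (selA 340 y (selA 338 y (selA 337 y c336 c337) (selA 339 y c338 c339)) (selA 342 y (selA 341 y c340 c341) (selA 343 y c342 c343))) (selA 348 y (selA 346 y (selA 345 y c344 c345) (selA 347 y c346 c347)) (selA 350 y (selA 349 y c348 c349) (selA 351 y c350 c351))))

noncomputable def cl22 (y : ℕ) : Clm := (selA 360 y (selA 356 y (selA 354 y (selA 353 y c352 c353) (selA 355 y c354 c355)) (selA 358 y (selA 357 y c356 c357) (selA 359 y c358 c359))) (selA 364 y (selA 362 y (selA 361 y c360 c361) (selA 363 y c362 c363)) (selA 366 y (selA 365 y c364 c365) (selA 367 y c366 c367))))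

noncomputable def cl23 (y : ℕ) : Clm := (selA 376 y (selA 372 y (selA 370 y (selA 369 y c368 c369) (selA 371 y c370 c371)) (selA 374 y (selA 373 y c372 c373) (selA 375 y c374 c375))) (selA 380 y (selA 378 y (selA 377 y c376 c377) (selA 379 y c378 c379)) (selA 382 y (selA 381 y c380 c381) (selA 383 y c382 c383))))

noncomputable def cl24 (y : ℕ) : Clm := (selA 392 y (selA 388 y (selA 386 y (selA 385 y c384 c385) (selA 387 y c386 c387)) (selA 390 y (selA 389 y c388 c389) (selA 391 y c390 c391))) (selA 396 y (selA 394 y (selA 393 y c392 c393) (selA 395 y c394 c395)) (selA 398 y (selA 397 y c396 c397) (selA 399 y c398 c399))))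

noncomputable def cl25 (y : ℕ) : Clm := (selA 408 y (selA 404 y (selA 402 y (selA 401 y c400 c401) (selA 403 y c402 c403)) (selA 406 y (selA 405 y c404 c405) (selA 407 y c406 c407))) (selA 412 y (selA 410 y (selA 409 y c408 c409) (selA 411 y c410 c411)) (selA 414 y (selA 413 y c412 c413) (selA 415 y c414 c415))))

noncomputable def cl26 (y : ℕ) : Clm := (selA 424 y (selA 420 y (selA 418 y (selA 417 y c416 c417) (selA 419 y c418 c419)) (selA 422 y (selA 421 y c420 c421) (selA 423 y c422 c423))) (selA 428 y (selA 426 y (selA 425 y c424 c425) (selA 427 y c426 c427)) (selA 430 y (selA 429 y c428 c429) (selA 431 y c430 c431))))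

noncomputable def cl27 (y : ℕ) : Clm := (selA 440 y (selA 436 y (selA 434 y (selA 433 y c432 c433) (selA 435 y c434 c435)) (selA 438 y (selA 437 y c436 c437) (selA 439 y c438 c439))) (selA 444 y (selA 442 y (selA 441 y c440 c441) (selA 443 y c442 c443)) (selA 446 y (selA 445 y c444 c445) (selA 447 y c446 c447))))

noncomputable def cl28 (y : ℕ) : Clm := (selA 456 y (selA 452 y (selA 450 y (selA 449 y c448 c449) (selA 451 y c450 c451)) (selA 454 y (selA 453 y c452 c453) (selA 455 y c454 c455))) (selA 460 y (selA 458 y (selA 457 y c456 c457) (selA 459 y c458 c459)) (selA 462 y (selA 461 y c460 c461) (selA 463 y c462 c463))))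

noncomputable def cl29 (y : ℕ) : Clm := (selA 472 y (selA 468 y (selA 466 y (selA 465 y c464 c465) (selA 467 y c466 c467)) (selA 470 y (selA 469 y c468 c469) (selA 471 y c470 c471))) (selA 476 y (selA 474 y (selA 473 y c472 c473) (selA 475 y c474 c475)) (selA 478 y (selA 477 y c476 c477) (selA 479 y c478 c479))))

noncomputable def cl30 (y : ℕ) : Clm := (selA 488 y (selA 484 y (selA 482 y (selA 481 y c480 c481) (selA 483 y c482 c483)) (selA 486 y (selA 485 y c484 c485) (selA 487 y c486 c487))) (selA 492 y (selA 490 y (selA 489 y c488 c489) (selA 491 y c490 c491)) (selA 494 y (selA 493 y c492 c493) (selA 495 y c494 c495))))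

noncomputable def cl31 (y : ℕ) : Clm := (selA 504 y (selA 500 y (selA 498 y (selA 497 y c496 c497) (selA 499 y c498 c499)) (selA 502 y (selA 501 y c500 c501) (selA 503 y c502 c503))) (selA 508 y (selA 506 y (selA 505 y c504 c505) (selA 507 y c506 c507)) (selA 510 y (selA 509 y c508 c509) (selA 511 y c510 c511))))

noncomputable def cl32 (y : ℕ) : Clm := (selA 520 y (selA 516 y (selA 514 y (selA 513 y c512 c513) (selA 515 y c514 c515)) (selA 518 y (selA 517 y c516 c517) (selA 519 y c518 c519))) (selA 524 y (selA 522 y (selA 521 y c520 c521) (selA 523 y c522 c523)) (selA 526 y (selA 525 y c524 c525) (selA 527 y c526 c527))))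

noncomputable def cl33 (y : ℕ) : Clm := (selA 536 y (selA 532 y (selA 530 y (selA 529 y c528 c529) (selA 531 y c530 c531)) (selA 534 y (selA 533 y c532 c533) (selA 535 y c534 c535))) (selA 540 y (selA 538 y (selA 537 y c536 c537) (selA 539 y c538 c539)) (selA 542 y (selA 541 y c540 c541) (selA 543 y c542 c543))))

noncomputable def cl34 (y : ℕ) : Clm := (selA 552 y (selA 548 y (selA 546 y (selA 545 y c544 c545) (selA 547 y c546 c547)) (selA 550 y (selA 549 y c548 c549) (selA 551 y c550 c551))) (selA 556 y (selA 554 y (selA 553 y c552 c553) (selA 555 y c554 c555)) (selA 558 y (selA 557 y c556 c557) (selA 559 y c558 c559))))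

noncomputable def cl35 (y : ℕ) : Clm := (selA 568 y (selA 564 y (selA 562 y (selA 561 y c560 c561) (selA 563 y c562 c563)) (selA 566 y (selA 565 y c564 c565) (selA 567 y c566 c567))) (selA 572 y (selA 570 y (selA 569 y c568 c569) (selA 571 y c570 c571)) (selA 574 y (selA 573 y c572 c573) (selA 575 y c574 c575))))

noncomputable def cl36 (y : ℕ) : Clm := (selA 584 y (selA 580 y (selA 578 y (selA 577 y c576 c577) (selA 579 y c578 c579)) (selA 582 y (selA 581 y c580 c581) (selA 583 y c582 c583))) (selA 588 y (selA 586 y (selA 585 y c584 c585) (selA 587 y c586 c587)) (selA 590 y (selA 589 y c588 c589) (selA 591 y c590 c591))))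

noncomputable def cl37 (y : ℕ) : Clm := (selA 600 y (selA 596 y (selA 594 y (selA 593 y c592 c593) (selA 595 y c594 c595)) (selA 598 y (selA 597 y c596 c597) (selA 599 y c598 c599))) (selA 604 y (selA 602 y (selA 601 y c600 c601) (selA 603 y c602 c603)) (selA 606 y (selA 605 y c604 c605) (selA 607 y c606 c607))))

noncomputable def cl38 (y : ℕ) : Clm := (selA 616 y (selA 612 y (selA 610 y (selA 609 y c608 c609) (selA 611 y c610 c611)) (selA 614 y (selA 613 y c612 c613) (selA 615 y c614 c615))) (selA 620 y (selA 618 y (selA 617 y c616 c617) (selA 619 y c618 c619)) (selA 622 y (selA 621 y c620 c621) (selA 623 y c622 c623))))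

noncomputable def cl39 (y : ℕ) : Clm := (selA 632 y (selA 628 y (selA 626 y (selA 625 y c624 c625) (selA 627 y c626 c627)) (selA 630 y (selA 629 y c628 c629) (selA 631 y c630 c631))) (selA 636 y (selA 634 y (selA 633 y c632 c633) (selA 635 y c634 c635)) (selA 638 y (selA 637 y c636 c637) (selA 639 y c638 c639))))

noncomputable def cl40 (y : ℕ) : Clm := (selA 648 y (selA 644 y (selA 642 y (selA 641 y c640 c641) (selA 643 y c642 c643)) (selA 646 y (selA 645 y c644 c645) (selA 647 y c646 c647))) (selA 652 y (selA 650 y (selA 649 y c648 c649) (selA 651 y c650 c651)) (selA 654 y (selA 653 y c652 c653) (selA 655 y c654 c655))))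

noncomputable def cl41 (y : ℕ) : Clm := (selA 664 y (selA 660 y (selA 658 y (selA 657 y c656 c657) (selA 659 y c658 c659)) (selA 662 y (selA 661 y c660 c661) (selA 663 y c662 c663))) (selA 668 y (selA 666 y (selA 665 y c664 c665) (selA 667 y c666 c667)) (selA 670 y (selA 669 y c668 c669) (selA 671 y c670 c671))))

noncomputable def cl42 (y : ℕ) : Clm := (selA 680 y (selA 676 y (selA 674 y (selA 673 y c672 c673) (selA 675 y c674 c675)) (selA 678 y (selA 677 y c676 c677) (selA 679 y c678 c679))) (selA 684 y (selA 682 y (selA 681 y c680 c681) (selA 683 y c682 c683)) (selA 686 y (selA 685 y c684 c685) (selA 687 y c686 c687))))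

noncomputable def cl43 (y : ℕ) : Clm := (selA 696 y (selA 692 y (selA 690 y (selA 689 y c688 c689) (selA 691 y c690 c691)) (selA 694 y (selA 693 y c692 c693) (selA 695 y c694 c695))) (selA 700 y (selA 698 y (selA 697 y c696 c697) (selA 699 y c698 c699)) (selA 702 y (selA 701 y c700 c701) (selA 703 y c702 c703))))

noncomputable def cl44 (y : ℕ) : Clm := (selA 712 y (selA 708 y (selA 706 y (selA 705 y c704 c705) (selA 707 y c706 c707)) (selA 710 y (selA 709 y c708 c709) (selA 711 y c710 c711))) (selA 716 y (selA 714 y (selA 713 y c712 c713) (selA 715 y c714 c715)) (selA 718 y (selA 717 y c716 c717) (selA 719 y c718 c719))))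

noncomputable def cl45 (y : ℕ) : Clm := (selA 728 y (selA 724 y (selA 722 y (selA 721 y c720 c721) (selA 723 y c722 c723)) (selA 726 y (selA 725 y c724 c725) (selA 727 y c726 c727))) (selA 732 y (selA 730 y (selA 729 y c728 c729) (selA 731 y c730 c731)) (selA 734 y (selA 733 y c732 c733) (selA 735 y c734 c735))))

noncomputable def cl46 (y : ℕ) : Clm := (selA 744 y (selA 740 y (selA 738 y (selA 737 y c736 c737) (selA 739 y c738 c739)) (selA 742 y (selA 741 y c740 c741) (selA 743 y c742 c743))) (selA 748 y (selA 746 y (selA 745 y c744 c745) (selA 747 y c746 c747)) (selA 750 y (selA 749 y c748 c749) (selA 751 y c750 c751))))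

noncomputable def cl47 (y : ℕ) : Clm := (selA 760 y (selA 756 y (selA 754 y (selA 753 y c752 c753) (selA 755 y c754 c755)) (selA 758 y (selA 757 y c756 c757) (selA 759 y c758 c759))) (selA 764 y (selA 762 y (selA 761 y c760 c761) (selA 763 y c762 c763)) (selA 766 y (selA 765 y c764 c765) (selA 767 y c766 c767))))

noncomputable def cl48 (y : ℕ) : Clm := (selA 776 y (selA 772 y (selA 770 y (selA 769 y c768 c769) (selA 771 y c770 c771)) (selA 774 y (selA 773 y c772 c773) (selA 775 y c774 c775))) (selA 780 y (selA 778 y (selA 777 y c776 c777) (selA 779 y c778 c779)) (selA 782 y (selA 781 y c780 c781) (selA 783 y c782 c783))))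

noncomputable def cl49 (y : ℕ) : Clm := (selA 792 y (selA 788 y (selA 786 y (selA 785 y c784 c785) (selA 787 y c786 c787)) (selA 790 y (selA 789 y c788 c789) (selA 791 y c790 c791))) (selA 796 y (selA 794 y (selA 793 y c792 c793) (selA 795 y c794 c795)) (selA 798 y (selA 797 y c796 c797) (selA 799 y c798 c799))))

noncomputable def cl50 (y : ℕ) : Clm := (selA 808 y (selA 804 y (selA 802 y (selA 801 y c800 c801) (selA 803 y c802 c803)) (selA 806 y (selA 805 y c804 c805) (selA 807 y c806 c807))) (selA 812 y (selA 810 y (selA 809 y c808 c809) (selA 811 y c810 c811)) (selA 814 y (selA 813 y c812 c813) (selA 815 y c814 c815))))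

noncomputable def cl51 (y : ℕ) : Clm := (selA 824 y (selA 820 y (selA 818 y (selA 817 y c816 c817) (selA 819 y c818 c819)) (selA 822 y (selA 821 y c820 c821) (selA 823 y c822 c823))) (selA 828 y (selA 826 y (selA 825 y c824 c825) (selA 827 y c826 c827)) (selA 830 y (selA 829 y c828 c829) (selA 831 y c830 c831))))

noncomputable def cl52 (y : ℕ) : Clm := (selA 840 y (selA 836 y (selA 834 y (selA 833 y c832 c833) (selA 835 y c834 c835)) (selA 838 y (selA 837 y c836 c837) (selA 839 y c838 c839))) (selA 844 y (selA 842 y (selA 841 y c840 c841) (selA 843 y c842 c843)) (selA 846 y (selA 845 y c844 c845) (selA 847 y c846 c847))))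

noncomputable def cl53 (y : ℕ) : Clm := (selA 856 y (selA 852 y (selA 850 y (selA 849 y c848 c849) (selA 851 y c850 c851)) (selA 854 y (selA 853 y c852 c853) (selA 855 y c854 c855))) (selA 860 y (selA 858 y (selA 857 y c856 c857) (selA 859 y c858 c859)) (selA 862 y (selA 861 y c860 c861) (selA 863 y c862 c863))))

noncomputable def cl54 (y : ℕ) : Clm := (selA 872 y (selA 868 y (selA 866 y (selA 865 y c864 c865) (selA 867 y c866 c867)) (selA 870 y (selA 869 y c868 c869) (selA 871 y c870 c871))) (selA 876 y (selA 874 y (selA 873 y c872 c873) (selA 875 y c874 c875)) (selA 878 y (selA 877 y c876 c877) (selA 879 y c878 c879))))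

noncomputable def cl55 (y : ℕ) : Clm := (selA 888 y (selA 884 y (selA 882 y (selA 881 y c880 c881) (selA 883 y c882 c883)) (selA 886 y (selA 885 y c884 c885) (selA 887 y c886 c887))) (selA 892 y (selA 890 y (selA 889 y c888 c889) (selA 891 y c890 c891)) (selA 894 y (selA 893 y c892 c893) (selA 895 y c894 c895))))

noncomputable def cl56 (y : ℕ) : Clm := (selA 904 y (selA 900 y (selA 898 y (selA 897 y c896 c897) (selA 899 y c898 c899)) (selA 902 y (selA 901 y c900 c901) (selA 903 y c902 c903))) (selA 908 y (selA 906 y (selA 905 y c904 c905) (selA 907 y c906 c907)) (selA 910 y (selA 909 y c908 c909) (selA 911 y c910 c911))))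

noncomputable def cl57 (y : ℕ) : Clm := (selA 920 y (selA 916 y (selA 914 y (selA 913 y c912 c913) (selA 915 y c914 c915)) (selA 918 y (selA 917 y c916 c917) (selA 919 y c918 c919))) (selA 924 y (selA 922 y (selA 921 y c920 c921) (selA 923 y c922 c923)) (selA 926 y (selA 925 y c924 c925) (selA 927 y c926 c927))))

noncomputable def cl58 (y : ℕ) : Clm := (selA 936 y (selA 932 y (selA 930 y (selA 929 y c928 c929) (selA 931 y c930 c931)) (selA 934 y (selA 933 y c932 c933) (selA 935 y c934 c935))) (selA 940 y (selA 938 y (selA 937 y c936 c937) (selA 939 y c938 c939)) (selA 942 y (selA 941 y c940 c941) (selA 943 y c942 c943))))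

noncomputable def cl59 (y : ℕ) : Clm := (selA 952 y (selA 948 y (selA 946 y (selA 945 y c944 c945) (selA 947 y c946 c947)) (selA 950 y (selA 949 y c948 c949) (selA 951 y c950 c951))) (selA 956 y (selA 954 y (selA 953 y c952 c953) (selA 955 y c954 c955)) (selA 958 y (selA 957 y c956 c957) (selA 959 y c958 c959))))

noncomputable def cl60 (y : ℕ) : Clm := (selA 968 y (selA 964 y (selA 962 y (selA 961 y c960 c961) (selA 963 y c962 c963)) (selA 966 y (selA 965 y c964 c965) (selA 967 y c966 c967))) (selA 972 y (selA 970 y (selA 969 y c968 c969) (selA 971 y c970 c971)) (selA 974 y (selA 973 y c972 c973) (selA 975 y c974 c975))))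

noncomputable def cl61 (y : ℕ) : Clm := (selA 984 y (selA 980 y (selA 978 y (selA 977 y c976 c977) (selA 979 y c978 c979)) (selA 982 y (selA 981 y c980 c981) (selA 983 y c982 c983))) (selA 988 y (selA 986 y (selA 985 y c984 c985) (selA 987 y c986 c987)) (selA 990 y (selA 989 y c988 c989) (selA 991 y c990 c991))))

noncomputable def cl62 (y : ℕ) : Clm := (selA 1000 y (selA 996 y (selA 994 y (selA 993 y c992 c993) (selA 995 y c994 c995)) (selA 998 y (selA 997 y c996 c997) (selA 999 y c998 c999))) (selA 1004 y (selA 1002 y (selA 1001 y c1000 c1001) (selA 1003 y c1002 c1003)) (selA 1006 y (selA 1005 y c1004 c1005) (selA 1007 y c1006 c1007))))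

noncomputable def cl63 (y : ℕ) : Clm := (selA 1016 y (selA 1012 y (selA 1010 y (selA 1009 y c1008 c1009) (selA 1011 y c1010 c1011)) (selA 1014 y (selA 1013 y c1012 c1013) (selA 1015 y c1014 c1015))) (selA 1020 y (selA 1018 y (selA 1017 y c1016 c1017) (selA 1019 y c1018 c1019)) (selA 1022 y (selA 1021 y c1020 c1021) (selA 1023 y c1022 c1023))))

noncomputable def cl64 (y : ℕ) : Clm := (selA 1032 y (selA 1028 y (selA 1026 y (selA 1025 y c1024 c1025) (selA 1027 y c1026 c1027)) (selA 1030 y (selA 1029 y c1028 c1029) (selA 1031 y c1030 c1031))) (selA 1036 y (selA 1034 y (selA 1033 y c1032 c1033) (selA 1035 y c1034 c1035)) (selA 1038 y (selA 1037 y c1036 c1037) (selA 1039 y c1038 c1039))))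

noncomputable def cl65 (y : ℕ) : Clm := (selA 1048 y (selA 1044 y (selA 1042 y (selA 1041 y c1040 c1041) (selA 1043 y c1042 c1043)) (selA 1046 y (selA 1045 y c1044 c1045) (selA 1047 y c1046 c1047))) (selA 1052 y (selA 1050 y (selA 1049 y c1048 c1049) (selA 1051 y c1050 c1051)) (selA 1054 y (selA 1053 y c1052 c1053) (selA 1055 y c1054 c1055))))

noncomputable def cl66 (y : ℕ) : Clm := (selA 1064 y (selA 1060 y (selA 1058 y (selA 1057 y c1056 c1057) (selA 1059 y c1058 c1059)) (selA 1062 y (selA 1061 y c1060 c1061) (selA 1063 y c1062 c1063))) (selA 1068 y (selA 1066 y (selA 1065 y c1064 c1065) (selA 1067 y c1066 c1067)) (selA 1070 y (selA 1069 y c1068 c1069) (selA 1071 y c1070 c1071))))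

noncomputable def cl67 (y : ℕ) : Clm := (selA 1080 y (selA 1076 y (selA 1074 y (selA 1073 y c1072 c1073) (selA 1075 y c1074 c1075)) (selA 1078 y (selA 1077 y c1076 c1077) (selA 1079 y c1078 c1079))) (selA 1084 y (selA 1082 y (selA 1081 y c1080 c1081) (selA 1083 y c1082 c1083)) (selA 1086 y (selA 1085 y c1084 c1085) (selA 1087 y c1086 c1087))))

noncomputable def cl68 (y : ℕ) : Clm := (selA 1096 y (selA 1092 y (selA 1090 y (selA 1089 y c1088 c1089) (selA 1091 y c1090 c1091)) (selA 1094 y (selA 1093 y c1092 c1093) (selA 1095 y c1094 c1095))) (selA 1100 y (selA 1098 y (selA 1097 y c1096 c1097) (selA 1099 y c1098 c1099)) (selA 1102 y (selA 1101 y c1100 c1101) (selA 1103 y c1102 c1103))))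

noncomputable def cl69 (y : ℕ) : Clm := (selA 1112 y (selA 1108 y (selA 1106 y (selA 1105 y c1104 c1105) (selA 1107 y c1106 c1107)) (selA 1110 y (selA 1109 y c1108 c1109) (selA 1111 y c1110 c1111))) (selA 1116 y (selA 1114 y (selA 1113 y c1112 c1113) (selA 1115 y c1114 c1115)) (selA 1118 y (selA 1117 y c1116 c1117) (selA 1119 y c1118 c1119))))

noncomputable def cl70 (y : ℕ) : Clm := (selA 1128 y (selA 1124 y (selA 1122 y (selA 1121 y c1120 c1121) (selA 1123 y c1122 c1123)) (selA 1126 y (selA 1125 y c1124 c1125) (selA 1127 y c1126 c1127))) (selA 1132 y (selA 1130 y (selA 1129 y c1128 c1129) (selA 1131 y c1130 c1131)) (selA 1134 y (selA 1133 y c1132 c1133) (selA 1135 y c1134 c1135))))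

noncomputable def cl71 (y : ℕ) : Clm := (selA 1144 y (selA 1140 y (selA 1138 y (selA 1137 y c1136 c1137) (selA 1139 y c1138 c1139)) (selA 1142 y (selA 1141 y c1140 c1141) (selA 1143 y c1142 c1143))) (selA 1148 y (selA 1146 y (selA 1145 y c1144 c1145) (selA 1147 y c1146 c1147)) (selA 1150 y (selA 1149 y c1148 c1149) (selA 1151 y c1150 c1151))))

noncomputable def cl72 (y : ℕ) : Clm := (selA 1160 y (selA 1156 y (selA 1154 y (selA 1153 y c1152 c1153) (selA 1155 y c1154 c1155)) (selA 1158 y (selA 1157 y c1156 c1157) (selA 1159 y c1158 c1159))) (selA 1164 y (selA 1162 y (selA 1161 y c1160 c1161) (selA 1163 y c1162 c1163)) (selA 1166 y (selA 1165 y c1164 c1165) (selA 1167 y c1166 c1167))))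

noncomputable def cl73 (y : ℕ) : Clm := (selA 1176 y (selA 1172 y (selA 1170 y (selA 1169 y c1168 c1169) (selA 1171 y c1170 c1171)) (selA 1174 y (selA 1173 y c1172 c1173) (selA 1175 y c1174 c1175))) (selA 1180 y (selA 1178 y (selA 1177 y c1176 c1177) (selA 1179 y c1178 c1179)) (selA 1182 y (selA 1181 y c1180 c1181) (selA 1183 y c1182 c1183))))

noncomputable def cl74 (y : ℕ) : Clm := (selA 1192 y (selA 1188 y (selA 1186 y (selA 1185 y c1184 c1185) (selA 1187 y c1186 c1187)) (selA 1190 y (selA 1189 y c1188 c1189) (selA 1191 y c1190 c1191))) (selA 1196 y (selA 1194 y (selA 1193 y c1192 c1193) (selA 1195 y c1194 c1195)) (selA 1198 y (selA 1197 y c1196 c1197) (selA 1199 y c1198 c1199))))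

noncomputable def cl75 (y : ℕ) : Clm := (selA 1208 y (selA 1204 y (selA 1202 y (selA 1201 y c1200 c1201) (selA 1203 y c1202 c1203)) (selA 1206 y (selA 1205 y c1204 c1205) (selA 1207 y c1206 c1207))) (selA 1212 y (selA 1210 y (selA 1209 y c1208 c1209) (selA 1211 y c1210 c1211)) (selA 1214 y (selA 1213 y c1212 c1213) (selA 1215 y c1214 c1215))))

noncomputable def cl76 (y : ℕ) : Clm := (selA 1224 y (selA 1220 y (selA 1218 y (selA 1217 y c1216 c1217) (selA 1219 y c1218 c1219)) (selA 1222 y (selA 1221 y c1220 c1221) (selA 1223 y c1222 c1223))) (selA 1228 y (selA 1226 y (selA 1225 y c1224 c1225) (selA 1227 y c1226 c1227)) (selA 1230 y (selA 1229 y c1228 c1229) (selA 1231 y c1230 c1231))))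

noncomputable def cl77 (y : ℕ) : Clm := (selA 1240 y (selA 1236 y (selA 1234 y (selA 1233 y c1232 c1233) (selA 1235 y c1234 c1235)) (selA 1238 y (selA 1237 y c1236 c1237) (selA 1239 y c1238 c1239))) (selA 1244 y (selA 1242 y (selA 1241 y c1240 c1241) (selA 1243 y c1242 c1243)) (selA 1246 y (selA 1245 y c1244 c1245) (selA 1247 y c1246 c1247))))

noncomputable def cl78 (y : ℕ) : Clm := (selA 1256 y (selA 1252 y (selA 1250 y (selA 1249 y c1248 c1249) (selA 1251 y c1250 c1251)) (selA 1254 y (selA 1253 y c1252 c1253) (selA 1255 y c1254 c1255))) (selA 1260 y (selA 1258 y (selA 1257 y c1256 c1257) (selA 1259 y c1258 c1259)) (selA 1262 y (selA 1261 y c1260 c1261) (selA 1263 y c1262 c1263))))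

noncomputable def cl79 (y : ℕ) : Clm := (selA 1272 y (selA 1268 y (selA 1266 y (selA 1265 y c1264 c1265) (selA 1267 y c1266 c1267)) (selA 1270 y (selA 1269 y c1268 c1269) (selA 1271 y c1270 c1271))) (selA 1276 y (selA 1274 y (selA 1273 y c1272 c1273) (selA 1275 y c1274 c1275)) (selA 1278 y (selA 1277 y c1276 c1277) (selA 1279 y c1278 c1279))))

noncomputable def cl80 (y : ℕ) : Clm := (selA 1288 y (selA 1284 y (selA 1282 y (selA 1281 y c1280 c1281) (selA 1283 y c1282 c1283)) (selA 1286 y (selA 1285 y c1284 c1285) (selA 1287 y c1286 c1287))) (selA 1292 y (selA 1290 y (selA 1289 y c1288 c1289) (selA 1291 y c1290 c1291)) (selA 1294 y (selA 1293 y c1292 c1293) (selA 1295 y c1294 c1295))))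

noncomputable def cl81 (y : ℕ) : Clm := (selA 1304 y (selA 1300 y (selA 1298 y (selA 1297 y c1296 c1297) (selA 1299 y c1298 c1299)) (selA 1302 y (selA 1301 y c1300 c1301) (selA 1303 y c1302 c1303))) (selA 1308 y (selA 1306 y (selA 1305 y c1304 c1305) (selA 1307 y c1306 c1307)) (selA 1310 y (selA 1309 y c1308 c1309) (selA 1311 y c1310 c1311))))

noncomputable def cl82 (y : ℕ) : Clm := (selA 1320 y (selA 1316 y (selA 1314 y (selA 1313 y c1312 c1313) (selA 1315 y c1314 c1315)) (selA 1318 y (selA 1317 y c1316 c1317) (selA 1319 y c1318 c1319))) (selA 1324 y (selA 1322 y (selA 1321 y c1320 c1321) (selA 1323 y c1322 c1323)) (selA 1326 y (selA 1325 y c1324 c1325) (selA 1327 y c1326 c1327))))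

noncomputable def cl83 (y : ℕ) : Clm := (selA 1336 y (selA 1332 y (selA 1330 y (selA 1329 y c1328 c1329) (selA 1331 y c1330 c1331)) (selA 1334 y (selA 1333 y c1332 c1333) (selA 1335 y c1334 c1335))) (selA 1340 y (selA 1338 y (selA 1337 y c1336 c1337) (selA 1339 y c1338 c1339)) (selA 1342 y (selA 1341 y c1340 c1341) (selA 1343 y c1342 c1343))))

noncomputable def cl84 (y : ℕ) : Clm := (selA 1352 y (selA 1348 y (selA 1346 y (selA 1345 y c1344 c1345) (selA 1347 y c1346 c1347)) (selA 1350 y (selA 1349 y c1348 c1349) (selA 1351 y c1350 c1351))) (selA 1356 y (selA 1354 y (selA 1353 y c1352 c1353) (selA 1355 y c1354 c1355)) (selA 1358 y (selA 1357 y c1356 c1357) (selA 1359 y c1358 c1359))))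

noncomputable def cl85 (y : ℕ) : Clm := (selA 1368 y (selA 1364 y (selA 1362 y (selA 1361 y c1360 c1361) (selA 1363 y c1362 c1363)) (selA 1366 y (selA 1365 y c1364 c1365) (selA 1367 y c1366 c1367))) (selA 1372 y (selA 1370 y (selA 1369 y c1368 c1369) (selA 1371 y c1370 c1371)) (selA 1374 y (selA 1373 y c1372 c1373) (selA 1375 y c1374 c1375))))

noncomputable def cl86 (y : ℕ) : Clm := (selA 1384 y (selA 1380 y (selA 1378 y (selA 1377 y c1376 c1377) (selA 1379 y c1378 c1379)) (selA 1382 y (selA 1381 y c1380 c1381) (selA 1383 y c1382 c1383))) (selA 1388 y (selA 1386 y (selA 1385 y c1384 c1385) (selA 1387 y c1386 c1387)) (selA 1390 y (selA 1389 y c1388 c1389) (selA 1391 y c1390 c1391))))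

noncomputable def cl87 (y : ℕ) : Clm := (selA 1400 y (selA 1396 y (selA 1394 y (selA 1393 y c1392 c1393) (selA 1395 y c1394 c1395)) (selA 1398 y (selA 1397 y c1396 c1397) (selA 1399 y c1398 c1399))) (selA 1404 y (selA 1402 y (selA 1401 y c1400 c1401) (selA 1403 y c1402 c1403)) (selA 1406 y (selA 1405 y c1404 c1405) (selA 1407 y c1406 c1407))))

noncomputable def cl88 (y : ℕ) : Clm := (selA 1416 y (selA 1412 y (selA 1410 y (selA 1409 y c1408 c1409) (selA 1411 y c1410 c1411)) (selA 1414 y (selA 1413 y c1412 c1413) (selA 1415 y c1414 c1415))) (selA 1420 y (selA 1418 y (selA 1417 y c1416 c1417) (selA 1419 y c1418 c1419)) (selA 1422 y (selA 1421 y c1420 c1421) (selA 1423 y c1422 c1423))))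

noncomputable def cl89 (y : ℕ) : Clm := (selA 1432 y (selA 1428 y (selA 1426 y (selA 1425 y c1424 c1425) (selA 1427 y c1426 c1427)) (selA 1430 y (selA 1429 y c1428 c1429) (selA 1431 y c1430 c1431))) (selA 1436 y (selA 1434 y (selA 1433 y c1432 c1433) (selA 1435 y c1434 c1435)) (selA 1438 y (selA 1437 y c1436 c1437) (selA 1439 y c1438 c1439))))

noncomputable def cl90 (y : ℕ) : Clm := (selA 1448 y (selA 1444 y (selA 1442 y (selA 1441 y c1440 c1441) (selA 1443 y c1442 c1443)) (selA 1446 y (selA 1445 y c1444 c1445) (selA 1447 y c1446 c1447))) (selA 1452 y (selA 1450 y (selA 1449 y c1448 c1449) (selA 1451 y c1450 c1451)) (selA 1454 y (selA 1453 y c1452 c1453) (selA 1455 y c1454 c1455))))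

noncomputable def cl91 (y : ℕ) : Clm := (selA 1464 y (selA 1460 y (selA 1458 y (selA 1457 y c1456 c1457) (selA 1459 y c1458 c1459)) (selA 1462 y (selA 1461 y c1460 c1461) (selA 1463 y c1462 c1463))) (selA 1468 y (selA 1466 y (selA 1465 y c1464 c1465) (selA 1467 y c1466 c1467)) (selA 1470 y (selA 1469 y c1468 c1469) (selA 1471 y c1470 c1471))))

noncomputable def cl92 (y : ℕ) : Clm := (selA 1480 y (selA 1476 y (selA 1474 y (selA 1473 y c1472 c1473) (selA 1475 y c1474 c1475)) (selA 1478 y (selA 1477 y c1476 c1477) (selA 1479 y c1478 c1479))) (selA 1484 y (selA 1482 y (selA 1481 y c1480 c1481) (selA 1483 y c1482 c1483)) (selA 1486 y (selA 1485 y c1484 c1485) (selA 1487 y c1486 c1487))))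

noncomputable def cl93 (y : ℕ) : Clm := (selA 1496 y (selA 1492 y (selA 1490 y (selA 1489 y c1488 c1489) (selA 1491 y c1490 c1491)) (selA 1494 y (selA 1493 y c1492 c1493) (selA 1495 y c1494 c1495))) (selA 1500 y (selA 1498 y (selA 1497 y c1496 c1497) (selA 1499 y c1498 c1499)) (selA 1502 y (selA 1501 y c1500 c1501) (selA 1503 y c1502 c1503))))

noncomputable def cl94 (y : ℕ) : Clm := (selA 1512 y (selA 1508 y (selA 1506 y (selA 1505 y c1504 c1505) (selA 1507 y c1506 c1507)) (selA 1510 y (selA 1509 y c1508 c1509) (selA 1511 y c1510 c1511))) (selA 1516 y (selA 1514 y (selA 1513 y c1512 c1513) (selA 1515 y c1514 c1515)) (selA 1518 y (selA 1517 y c1516 c1517) (selA 1519 y c1518 c1519))))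

noncomputable def cl95 (y : ℕ) : Clm := (selA 1528 y (selA 1524 y (selA 1522 y (selA 1521 y c1520 c1521) (selA 1523 y c1522 c1523)) (selA 1526 y (selA 1525 y c1524 c1525) (selA 1527 y c1526 c1527))) (selA 1532 y (selA 1530 y (selA 1529 y c1528 c1529) (selA 1531 y c1530 c1531)) (selA 1534 y (selA 1533 y c1532 c1533) (selA 1535 y c1534 c1535))))

noncomputable def cl96 (y : ℕ) : Clm := (selA 1544 y (selA 1540 y (selA 1538 y (selA 1537 y c1536 c1537) (selA 1539 y c1538 c1539)) (selA 1542 y (selA 1541 y c1540 c1541) (selA 1543 y c1542 c1543))) (selA 1548 y (selA 1546 y (selA 1545 y c1544 c1545) (selA 1547 y c1546 c1547)) (selA 1550 y (selA 1549 y c1548 c1549) (selA 1551 y c1550 c1551))))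

noncomputable def cl97 (y : ℕ) : Clm := (selA 1560 y (selA 1556 y (selA 1554 y (selA 1553 y c1552 c1553) (selA 1555 y c1554 c1555)) (selA 1558 y (selA 1557 y c1556 c1557) (selA 1559 y c1558 c1559))) (selA 1564 y (selA 1562 y (selA 1561 y c1560 c1561) (selA 1563 y c1562 c1563)) (selA 1566 y (selA 1565 y c1564 c1565) (selA 1567 y c1566 c1567))))

noncomputable def cl98 (y : ℕ) : Clm := (selA 1576 y (selA 1572 y (selA 1570 y (selA 1569 y c1568 c1569) (selA 1571 y c1570 c1571)) (selA 1574 y (selA 1573 y c1572 c1573) (selA 1575 y c1574 c1575))) (selA 1580 y (selA 1578 y (selA 1577 y c1576 c1577) (selA 1579 y c1578 c1579)) (selA 1582 y (selA 1581 y c1580 c1581) (selA 1583 y c1582 c1583))))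

noncomputable def cl99 (y : ℕ) : Clm := (selA 1592 y (selA 1588 y (selA 1586 y (selA 1585 y c1584 c1585) (selA 1587 y c1586 c1587)) (selA 1590 y (selA 1589 y c1588 c1589) (selA 1591 y c1590 c1591))) (selA 1596 y (selA 1594 y (selA 1593 y c1592 c1593) (selA 1595 y c1594 c1595)) (selA 1598 y (selA 1597 y c1596 c1597) (selA 1599 y c1598 c1599))))

noncomputable def cl100 (y : ℕ) : Clm := (selA 1608 y (selA 1604 y (selA 1602 y (selA 1601 y c1600 c1601) (selA 1603 y c1602 c1603)) (selA 1606 y (selA 1605 y c1604 c1605) (selA 1607 y c1606 c1607))) (selA 1612 y (selA 1610 y (selA 1609 y c1608 c1609) (selA 1611 y c1610 c1611)) (selA 1614 y (selA 1613 y c1612 c1613) (selA 1615 y c1614 c1615))))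

noncomputable def cl101 (y : ℕ) : Clm := (selA 1624 y (selA 1620 y (selA 1618 y (selA 1617 y c1616 c1617) (selA 1619 y c1618 c1619)) (selA 1622 y (selA 1621 y c1620 c1621) (selA 1623 y c1622 c1623))) (selA 1628 y (selA 1626 y (selA 1625 y c1624 c1625) (selA 1627 y c1626 c1627)) (selA 1630 y (selA 1629 y c1628 c1629) (selA 1631 y c1630 c1631))))

noncomputable def cl102 (y : ℕ) : Clm := (selA 1640 y (selA 1636 y (selA 1634 y (selA 1633 y c1632 c1633) (selA 1635 y c1634 c1635)) (selA 1638 y (selA 1637 y c1636 c1637) (selA 1639 y c1638 c1639))) (selA 1644 y (selA 1642 y (selA 1641 y c1640 c1641) (selA 1643 y c1642 c1643)) (selA 1646 y (selA 1645 y c1644 c1645) (selA 1647 y c1646 c1647))))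

noncomputable def cl103 (y : ℕ) : Clm := (selA 1656 y (selA 1652 y (selA 1650 y (selA 1649 y c1648 c1649) (selA 1651 y c1650 c1651)) (selA 1654 y (selA 1653 y c1652 c1653) (selA 1655 y c1654 c1655))) (selA 1660 y (selA 1658 y (selA 1657 y c1656 c1657) (selA 1659 y c1658 c1659)) (selA 1662 y (selA 1661 y c1660 c1661) (selA 1663 y c1662 c1663))))

noncomputable def cl104 (y : ℕ) : Clm := (selA 1672 y (selA 1668 y (selA 1666 y (selA 1665 y c1664 c1665) (selA 1667 y c1666 c1667)) (selA 1670 y (selA 1669 y c1668 c1669) (selA 1671 y c1670 c1671))) (selA 1676 y (selA 1674 y (selA 1673 y c1672 c1673) (selA 1675 y c1674 c1675)) (selA 1678 y (selA 1677 y c1676 c1677) (selA 1679 y c1678 c1679))))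

noncomputable def cl105 (y : ℕ) : Clm := (selA 1688 y (selA 1684 y (selA 1682 y (selA 1681 y c1680 c1681) (selA 1683 y c1682 c1683)) (selA 1686 y (selA 1685 y c1684 c1685) (selA 1687 y c1686 c1687))) (selA 1692 y (selA 1690 y (selA 1689 y c1688 c1689) (selA 1691 y c1690 c1691)) (selA 1694 y (selA 1693 y c1692 c1693) (selA 1695 y c1694 c1695))))

noncomputable def cl106 (y : ℕ) : Clm := (selA 1704 y (selA 1700 y (selA 1698 y (selA 1697 y c1696 c1697) (selA 1699 y c1698 c1699)) (selA 1702 y (selA 1701 y c1700 c1701) (selA 1703 y c1702 c1703))) (selA 1708 y (selA 1706 y (selA 1705 y c1704 c1705) (selA 1707 y c1706 c1707)) (selA 1710 y (selA 1709 y c1708 c1709) (selA 1711 y c1710 c1711))))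

noncomputable def cl107 (y : ℕ) : Clm := (selA 1720 y (selA 1716 y (selA 1714 y (selA 1713 y c1712 c1713) (selA 1715 y c1714 c1715)) (selA 1718 y (selA 1717 y c1716 c1717) (selA 1719 y c1718 c1719))) (selA 1724 y (selA 1722 y (selA 1721 y c1720 c1721) (selA 1723 y c1722 c1723)) (selA 1726 y (selA 1725 y c1724 c1725) (selA 1727 y c1726 c1727))))

noncomputable def cl108 (y : ℕ) : Clm := (selA 1736 y (selA 1732 y (selA 1730 y (selA 1729 y c1728 c1729) (selA 1731 y c1730 c1731)) (selA 1734 y (selA 1733 y c1732 c1733) (selA 1735 y c1734 c1735))) (selA 1740 y (selA 1738 y (selA 1737 y c1736 c1737) (selA 1739 y c1738 c1739)) (selA 1742 y (selA 1741 y c1740 c1741) (selA 1743 y c1742 c1743))))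

noncomputable def cl109 (y : ℕ) : Clm := (selA 1752 y (selA 1748 y (selA 1746 y (selA 1745 y c1744 c1745) (selA 1747 y c1746 c1747)) (selA 1750 y (selA 1749 y c1748 c1749) (selA 1751 y c1750 c1751))) (selA 1756 y (selA 1754 y (selA 1753 y c1752 c1753) (selA 1755 y c1754 c1755)) (selA 1758 y (selA 1757 y c1756 c1757) (selA 1759 y c1758 c1759))))

noncomputable def cl110 (y : ℕ) : Clm := (selA 1768 y (selA 1764 y (selA 1762 y (selA 1761 y c1760 c1761) (selA 1763 y c1762 c1763)) (selA 1766 y (selA 1765 y c1764 c1765) (selA 1767 y c1766 c1767))) (selA 1772 y (selA 1770 y (selA 1769 y c1768 c1769) (selA 1771 y c1770 c1771)) (selA 1774 y (selA 1773 y c1772 c1773) (selA 1775 y c1774 c1775))))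

noncomputable def cl111 (y : ℕ) : Clm := (selA 1784 y (selA 1780 y (selA 1778 y (selA 1777 y c1776 c1777) (selA 1779 y c1778 c1779)) (selA 1782 y (selA 1781 y c1780 c1781) (selA 1783 y c1782 c1783))) (selA 1788 y (selA 1786 y (selA 1785 y c1784 c1785) (selA 1787 y c1786 c1787)) (selA 1790 y (selA 1789 y c1788 c1789) (selA 1791 y c1790 c1791))))

noncomputable def cl112 (y : ℕ) : Clm := (selA 1800 y (selA 1796 y (selA 1794 y (selA 1793 y c1792 c1793) (selA 1795 y c1794 c1795)) (selA 1798 y (selA 1797 y c1796 c1797) (selA 1799 y c1798 c1799))) (selA 1804 y (selA 1802 y (selA 1801 y c1800 c1801) (selA 1803 y c1802 c1803)) (selA 1806 y (selA 1805 y c1804 c1805) (selA 1807 y c1806 c1807))))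

noncomputable def cl113 (y : ℕ) : Clm := (selA 1816 y (selA 1812 y (selA 1810 y (selA 1809 y c1808 c1809) (selA 1811 y c1810 c1811)) (selA 1814 y (selA 1813 y c1812 c1813) (selA 1815 y c1814 c1815))) (selA 1820 y (selA 1818 y (selA 1817 y c1816 c1817) (selA 1819 y c1818 c1819)) (selA 1822 y (selA 1821 y c1820 c1821) (selA 1823 y c1822 c1823))))

noncomputable def cl114 (y : ℕ) : Clm := (selA 1832 y (selA 1828 y (selA 1826 y (selA 1825 y c1824 c1825) (selA 1827 y c1826 c1827)) (selA 1830 y (selA 1829 y c1828 c1829) (selA 1831 y c1830 c1831))) (selA 1836 y (selA 1834 y (selA 1833 y c1832 c1833) (selA 1835 y c1834 c1835)) (selA 1838 y (selA 1837 y c1836 c1837) (selA 1839 y c1838 c1839))))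

noncomputable def cl115 (y : ℕ) : Clm := (selA 1848 y (selA 1844 y (selA 1842 y (selA 1841 y c1840 c1841) (selA 1843 y c1842 c1843)) (selA 1846 y (selA 1845 y c1844 c1845) (selA 1847 y c1846 c1847))) (selA 1852 y (selA 1850 y (selA 1849 y c1848 c1849) (selA 1851 y c1850 c1851)) (selA 1854 y (selA 1853 y c1852 c1853) (selA 1855 y c1854 c1855))))

noncomputable def cl116 (y : ℕ) : Clm := (selA 1864 y (selA 1860 y (selA 1858 y (selA 1857 y c1856 c1857) (selA 1859 y c1858 c1859)) (selA 1862 y (selA 1861 y c1860 c1861) (selA 1863 y c1862 c1863))) (selA 1868 y (selA 1866 y (selA 1865 y c1864 c1865) (selA 1867 y c1866 c1867)) (selA 1870 y (selA 1869 y c1868 c1869) (selA 1871 y c1870 c1871))))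

noncomputable def cl117 (y : ℕ) : Clm := (selA 1880 y (selA 1876 y (selA 1874 y (selA 1873 y c1872 c1873) (selA 1875 y c1874 c1875)) (selA 1878 y (selA 1877 y c1876 c1877) (selA 1879 y c1878 c1879))) (selA 1884 y (selA 1882 y (selA 1881 y c1880 c1881) (selA 1883 y c1882 c1883)) (selA 1886 y (selA 1885 y c1884 c1885) (selA 1887 y c1886 c1887))))

noncomputable def cl118 (y : ℕ) : Clm := (selA 1896 y (selA 1892 y (selA 1890 y (selA 1889 y c1888 c1889) (selA 1891 y c1890 c1891)) (selA 1894 y (selA 1893 y c1892 c1893) (selA 1895 y c1894 c1895))) (selA 1900 y (selA 1898 y (selA 1897 y c1896 c1897) (selA 1899 y c1898 c1899)) (selA 1902 y (selA 1901 y c1900 c1901) (selA 1903 y c1902 c1903))))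

noncomputable def cl119 (y : ℕ) : Clm := (selA 1912 y (selA 1908 y (selA 1906 y (selA 1905 y c1904 c1905) (selA 1907 y c1906 c1907)) (selA 1910 y (selA 1909 y c1908 c1909) (selA 1911 y c1910 c1911))) (selA 1916 y (selA 1914 y (selA 1913 y c1912 c1913) (selA 1915 y c1914 c1915)) (selA 1918 y (selA 1917 y c1916 c1917) (selA 1919 y c1918 c1919))))

noncomputable def cl120 (y : ℕ) : Clm := (selA 1928 y (selA 1924 y (selA 1922 y (selA 1921 y c1920 c1921) (selA 1923 y c1922 c1923)) (selA 1926 y (selA 1925 y c1924 c1925) (selA 1927 y c1926 c1927))) (selA 1932 y (selA 1930 y (selA 1929 y c1928 c1929) (selA 1931 y c1930 c1931)) (selA 1934 y (selA 1933 y c1932 c1933) (selA 1935 y c1934 c1935))))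

noncomputable def cl121 (y : ℕ) : Clm := (selA 1944 y (selA 1940 y (selA 1938 y (selA 1937 y c1936 c1937) (selA 1939 y c1938 c1939)) (selA 1942 y (selA 1941 y c1940 c1941) (selA 1943 y c1942 c1943))) (selA 1948 y (selA 1946 y (selA 1945 y c1944 c1945) (selA 1947 y c1946 c1947)) (selA 1950 y (selA 1949 y c1948 c1949) (selA 1951 y c1950 c1951))))

noncomputable def cl122 (y : ℕ) : Clm := (selA 1960 y (selA 1956 y (selA 1954 y (selA 1953 y c1952 c1953) (selA 1955 y c1954 c1955)) (selA 1958 y (selA 1957 y c1956 c1957) (selA 1959 y c1958 c1959))) (selA 1964 y (selA 1962 y (selA 1961 y c1960 c1961) (selA 1963 y c1962 c1963)) (selA 1966 y (selA 1965 y c1964 c1965) (selA 1967 y c1966 c1967))))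

noncomputable def cl123 (y : ℕ) : Clm := (selA 1976 y (selA 1972 y (selA 1970 y (selA 1969 y c1968 c1969) (selA 1971 y c1970 c1971)) (selA 1974 y (selA 1973 y c1972 c1973) (selA 1975 y c1974 c1975))) (selA 1980 y (selA 1978 y (selA 1977 y c1976 c1977) (selA 1979 y c1978 c1979)) (selA 1982 y (selA 1981 y c1980 c1981) (selA 1983 y c1982 c1983))))

noncomputable def cl124 (y : ℕ) : Clm := (selA 1992 y (selA 1988 y (selA 1986 y (selA 1985 y c1984 c1985) (selA 1987 y c1986 c1987)) (selA 1990 y (selA 1989 y c1988 c1989) (selA 1991 y c1990 c1991))) (selA 1996 y (selA 1994 y (selA 1993 y c1992 c1993) (selA 1995 y c1994 c1995)) (selA 1998 y (selA 1997 y c1996 c1997) (selA 1999 y c1998 c1999))))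

noncomputable def cl125 (y : ℕ) : Clm := (selA 2008 y (selA 2004 y (selA 2002 y (selA 2001 y c2000 c2001) (selA 2003 y c2002 c2003)) (selA 2006 y (selA 2005 y c2004 c2005) (selA 2007 y c2006 c2007))) (selA 2012 y (selA 2010 y (selA 2009 y c2008 c2009) (selA 2011 y c2010 c2011)) (selA 2014 y (selA 2013 y c2012 c2013) (selA 2015 y c2014 c2015))))

noncomputable def cl126 (y : ℕ) : Clm := (selA 2024 y (selA 2020 y (selA 2018 y (selA 2017 y c2016 c2017) (selA 2019 y c2018 c2019)) (selA 2022 y (selA 2021 y c2020 c2021) (selA 2023 y c2022 c2023))) (selA 2028 y (selA 2026 y (selA 2025 y c2024 c2025) (selA 2027 y c2026 c2027)) (selA 2030 y (selA 2029 y c2028 c2029) (selA 2031 y c2030 c2031))))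

noncomputable def cl127 (y : ℕ) : Clm := (selA 2040 y (selA 2036 y (selA 2034 y (selA 2033 y c2032 c2033) (selA 2035 y c2034 c2035)) (selA 2038 y (selA 2037 y c2036 c2037) (selA 2039 y c2038 c2039))) (selA 2044 y (selA 2042 y (selA 2041 y c2040 c2041) (selA 2043 y c2042 c2043)) (selA 2046 y (selA 2045 y c2044 c2045) (selA 2047 y c2046 c2047))))

noncomputable def cl128 (y : ℕ) : Clm := (selA 2056 y (selA 2052 y (selA 2050 y (selA 2049 y c2048 c2049) (selA 2051 y c2050 c2051)) (selA 2054 y (selA 2053 y c2052 c2053) (selA 2055 y c2054 c2055))) (selA 2060 y (selA 2058 y (selA 2057 y c2056 c2057) (selA 2059 y c2058 c2059)) (selA 2062 y (selA 2061 y c2060 c2061) (selA 2063 y c2062 c2063))))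

noncomputable def cl129 (y : ℕ) : Clm := (selA 2072 y (selA 2068 y (selA 2066 y (selA 2065 y c2064 c2065) (selA 2067 y c2066 c2067)) (selA 2070 y (selA 2069 y c2068 c2069) (selA 2071 y c2070 c2071))) (selA 2076 y (selA 2074 y (selA 2073 y c2072 c2073) (selA 2075 y c2074 c2075)) (selA 2078 y (selA 2077 y c2076 c2077) (selA 2079 y c2078 c2079))))

noncomputable def cl130 (y : ℕ) : Clm := (selA 2088 y (selA 2084 y (selA 2082 y (selA 2081 y c2080 c2081) (selA 2083 y c2082 c2083)) (selA 2086 y (selA 2085 y c2084 c2085) (selA 2087 y c2086 c2087))) (selA 2092 y (selA 2090 y (selA 2089 y c2088 c2089) (selA 2091 y c2090 c2091)) (selA 2094 y (selA 2093 y c2092 c2093) (selA 2095 y c2094 c2095))))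

noncomputable def cl131 (y : ℕ) : Clm := (selA 2104 y (selA 2100 y (selA 2098 y (selA 2097 y c2096 c2097) (selA 2099 y c2098 c2099)) (selA 2102 y (selA 2101 y c2100 c2101) (selA 2103 y c2102 c2103))) (selA 2108 y (selA 2106 y (selA 2105 y c2104 c2105) (selA 2107 y c2106 c2107)) (selA 2110 y (selA 2109 y c2108 c2109) (selA 2111 y c2110 c2111))))

noncomputable def cl132 (y : ℕ) : Clm := (selA 2120 y (selA 2116 y (selA 2114 y (selA 2113 y c2112 c2113) (selA 2115 y c2114 c2115)) (selA 2118 y (selA 2117 y c2116 c2117) (selA 2119 y c2118 c2119))) (selA 2124 y (selA 2122 y (selA 2121 y c2120 c2121) (selA 2123 y c2122 c2123)) (selA 2126 y (selA 2125 y c2124 c2125) (selA 2127 y c2126 c2127))))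

noncomputable def cl133 (y : ℕ) : Clm := (selA 2136 y (selA 2132 y (selA 2130 y (selA 2129 y c2128 c2129) (selA 2131 y c2130 c2131)) (selA 2134 y (selA 2133 y c2132 c2133) (selA 2135 y c2134 c2135))) (selA 2140 y (selA 2138 y (selA 2137 y c2136 c2137) (selA 2139 y c2138 c2139)) (selA 2142 y (selA 2141 y c2140 c2141) (selA 2143 y c2142 c2143))))

noncomputable def cl134 (y : ℕ) : Clm := (selA 2152 y (selA 2148 y (selA 2146 y (selA 2145 y c2144 c2145) (selA 2147 y c2146 c2147)) (selA 2150 y (selA 2149 y c2148 c2149) (selA 2151 y c2150 c2151))) (selA 2156 y (selA 2154 y (selA 2153 y c2152 c2153) (selA 2155 y c2154 c2155)) (selA 2158 y (selA 2157 y c2156 c2157) (selA 2159 y c2158 c2159))))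

noncomputable def cl135 (y : ℕ) : Clm := (selA 2168 y (selA 2164 y (selA 2162 y (selA 2161 y c2160 c2161) (selA 2163 y c2162 c2163)) (selA 2166 y (selA 2165 y c2164 c2165) (selA 2167 y c2166 c2167))) (selA 2172 y (selA 2170 y (selA 2169 y c2168 c2169) (selA 2171 y c2170 c2171)) (selA 2174 y (selA 2173 y c2172 c2173) (selA 2175 y c2174 c2175))))

noncomputable def cl136 (y : ℕ) : Clm := (selA 2184 y (selA 2180 y (selA 2178 y (selA 2177 y c2176 c2177) (selA 2179 y c2178 c2179)) (selA 2182 y (selA 2181 y c2180 c2181) (selA 2183 y c2182 c2183))) (selA 2188 y (selA 2186 y (selA 2185 y c2184 c2185) (selA 2187 y c2186 c2187)) (selA 2190 y (selA 2189 y c2188 c2189) (selA 2191 y c2190 c2191))))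

noncomputable def cl137 (y : ℕ) : Clm := (selA 2200 y (selA 2196 y (selA 2194 y (selA 2193 y c2192 c2193) (selA 2195 y c2194 c2195)) (selA 2198 y (selA 2197 y c2196 c2197) (selA 2199 y c2198 c2199))) (selA 2204 y (selA 2202 y (selA 2201 y c2200 c2201) (selA 2203 y c2202 c2203)) (selA 2206 y (selA 2205 y c2204 c2205) (selA 2207 y c2206 c2207))))

noncomputable def cl138 (y : ℕ) : Clm := (selA 2216 y (selA 2212 y (selA 2210 y (selA 2209 y c2208 c2209) (selA 2211 y c2210 c2211)) (selA 2214 y (selA 2213 y c2212 c2213) (selA 2215 y c2214 c2215))) (selA 2220 y (selA 2218 y (selA 2217 y c2216 c2217) (selA 2219 y c2218 c2219)) (selA 2222 y (selA 2221 y c2220 c2221) (selA 2223 y c2222 c2223))))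

noncomputable def cl139 (y : ℕ) : Clm := (selA 2232 y (selA 2228 y (selA 2226 y (selA 2225 y c2224 c2225) (selA 2227 y c2226 c2227)) (selA 2230 y (selA 2229 y c2228 c2229) (selA 2231 y c2230 c2231))) (selA 2236 y (selA 2234 y (selA 2233 y c2232 c2233) (selA 2235 y c2234 c2235)) (selA 2238 y (selA 2237 y c2236 c2237) (selA 2239 y c2238 c2239))))

noncomputable def cl140 (y : ℕ) : Clm := (selA 2248 y (selA 2244 y (selA 2242 y (selA 2241 y c2240 c2241) (selA 2243 y c2242 c2243)) (selA 2246 y (selA 2245 y c2244 c2245) (selA 2247 y c2246 c2247))) (selA 2252 y (selA 2250 y (selA 2249 y c2248 c2249) (selA 2251 y c2250 c2251)) (selA 2254 y (selA 2253 y c2252 c2253) (selA 2255 y c2254 c2255))))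

noncomputable def cl141 (y : ℕ) : Clm := (selA 2264 y (selA 2260 y (selA 2258 y (selA 2257 y c2256 c2257) (selA 2259 y c2258 c2259)) (selA 2262 y (selA 2261 y c2260 c2261) (selA 2263 y c2262 c2263))) (selA 2268 y (selA 2266 y (selA 2265 y c2264 c2265) (selA 2267 y c2266 c2267)) (selA 2270 y (selA 2269 y c2268 c2269) (selA 2271 y c2270 c2271))))

noncomputable def cl142 (y : ℕ) : Clm := (selA 2280 y (selA 2276 y (selA 2274 y (selA 2273 y c2272 c2273) (selA 2275 y c2274 c2275)) (selA 2278 y (selA 2277 y c2276 c2277) (selA 2279 y c2278 c2279))) (selA 2284 y (selA 2282 y (selA 2281 y c2280 c2281) (selA 2283 y c2282 c2283)) (selA 2286 y (selA 2285 y c2284 c2285) (selA 2287 y c2286 c2287))))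

noncomputable def cl143 (y : ℕ) : Clm := (selA 2296 y (selA 2292 y (selA 2290 y (selA 2289 y c2288 c2289) (selA 2291 y c2290 c2291)) (selA 2294 y (selA 2293 y c2292 c2293) (selA 2295 y c2294 c2295))) (selA 2300 y (selA 2298 y (selA 2297 y c2296 c2297) (selA 2299 y c2298 c2299)) (selA 2302 y (selA 2301 y c2300 c2301) (selA 2303 y c2302 c2303))))

noncomputable def cl144 (y : ℕ) : Clm := (selA 2312 y (selA 2308 y (selA 2306 y (selA 2305 y c2304 c2305) (selA 2307 y c2306 c2307)) (selA 2310 y (selA 2309 y c2308 c2309) (selA 2311 y c2310 c2311))) (selA 2316 y (selA 2314 y (selA 2313 y c2312 c2313) (selA 2315 y c2314 c2315)) (selA 2318 y (selA 2317 y c2316 c2317) (selA 2319 y c2318 c2319))))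

noncomputable def cl145 (y : ℕ) : Clm := (selA 2328 y (selA 2324 y (selA 2322 y (selA 2321 y c2320 c2321) (selA 2323 y c2322 c2323)) (selA 2326 y (selA 2325 y c2324 c2325) (selA 2327 y c2326 c2327))) (selA 2332 y (selA 2330 y (selA 2329 y c2328 c2329) (selA 2331 y c2330 c2331)) (selA 2334 y (selA 2333 y c2332 c2333) (selA 2335 y c2334 c2335))))

noncomputable def cl146 (y : ℕ) : Clm := (selA 2344 y (selA 2340 y (selA 2338 y (selA 2337 y c2336 c2337) (selA 2339 y c2338 c2339)) (selA 2342 y (selA 2341 y c2340 c2341) (selA 2343 y c2342 c2343))) (selA 2348 y (selA 2346 y (selA 2345 y c2344 c2345) (selA 2347 y c2346 c2347)) (selA 2350 y (selA 2349 y c2348 c2349) (selA 2351 y c2350 c2351))))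

noncomputable def cl147 (y : ℕ) : Clm := (selA 2360 y (selA 2356 y (selA 2354 y (selA 2353 y c2352 c2353) (selA 2355 y c2354 c2355)) (selA 2358 y (selA 2357 y c2356 c2357) (selA 2359 y c2358 c2359))) (selA 2364 y (selA 2362 y (selA 2361 y c2360 c2361) (selA 2363 y c2362 c2363)) (selA 2366 y (selA 2365 y c2364 c2365) (selA 2367 y c2366 c2367))))

noncomputable def cl148 (y : ℕ) : Clm := (selA 2376 y (selA 2372 y (selA 2370 y (selA 2369 y c2368 c2369) (selA 2371 y c2370 c2371)) (selA 2374 y (selA 2373 y c2372 c2373) (selA 2375 y c2374 c2375))) (selA 2380 y (selA 2378 y (selA 2377 y c2376 c2377) (selA 2379 y c2378 c2379)) (selA 2382 y (selA 2381 y c2380 c2381) (selA 2383 y c2382 c2383))))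

noncomputable def cl149 (y : ℕ) : Clm := (selA 2392 y (selA 2388 y (selA 2386 y (selA 2385 y c2384 c2385) (selA 2387 y c2386 c2387)) (selA 2390 y (selA 2389 y c2388 c2389) (selA 2391 y c2390 c2391))) (selA 2396 y (selA 2394 y (selA 2393 y c2392 c2393) (selA 2395 y c2394 c2395)) (selA 2398 y (selA 2397 y c2396 c2397) (selA 2399 y c2398 c2399))))

noncomputable def cl150 (y : ℕ) : Clm := (selA 2408 y (selA 2404 y (selA 2402 y (selA 2401 y c2400 c2401) (selA 2403 y c2402 c2403)) (selA 2406 y (selA 2405 y c2404 c2405) (selA 2407 y c2406 c2407))) (selA 2412 y (selA 2410 y (selA 2409 y c2408 c2409) (selA 2411 y c2410 c2411)) (selA 2414 y (selA 2413 y c2412 c2413) (selA 2415 y c2414 c2415))))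

noncomputable def cl151 (y : ℕ) : Clm := (selA 2424 y (selA 2420 y (selA 2418 y (selA 2417 y c2416 c2417) (selA 2419 y c2418 c2419)) (selA 2422 y (selA 2421 y c2420 c2421) (selA 2423 y c2422 c2423))) (selA 2428 y (selA 2426 y (selA 2425 y c2424 c2425) (selA 2427 y c2426 c2427)) (selA 2430 y (selA 2429 y c2428 c2429) (selA 2431 y c2430 c2431))))

noncomputable def cl152 (y : ℕ) : Clm := (selA 2440 y (selA 2436 y (selA 2434 y (selA 2433 y c2432 c2433) (selA 2435 y c2434 c2435)) (selA 2438 y (selA 2437 y c2436 c2437) (selA 2439 y c2438 c2439))) (selA 2444 y (selA 2442 y (selA 2441 y c2440 c2441) (selA 2443 y c2442 c2443)) (selA 2446 y (selA 2445 y c2444 c2445) (selA 2447 y c2446 c2447))))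

noncomputable def cl153 (y : ℕ) : Clm := (selA 2456 y (selA 2452 y (selA 2450 y (selA 2449 y c2448 c2449) (selA 2451 y c2450 c2451)) (selA 2454 y (selA 2453 y c2452 c2453) (selA 2455 y c2454 c2455))) (selA 2460 y (selA 2458 y (selA 2457 y c2456 c2457) (selA 2459 y c2458 c2459)) (selA 2462 y (selA 2461 y c2460 c2461) (selA 2463 y c2462 c2463))))

noncomputable def cl154 (y : ℕ) : Clm := (selA 2472 y (selA 2468 y (selA 2466 y (selA 2465 y c2464 c2465) (selA 2467 y c2466 c2467)) (selA 2470 y (selA 2469 y c2468 c2469) (selA 2471 y c2470 c2471))) (selA 2476 y (selA 2474 y (selA 2473 y c2472 c2473) (selA 2475 y c2474 c2475)) (selA 2478 y (selA 2477 y c2476 c2477) (selA 2479 y c2478 c2479))))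

noncomputable def cl155 (y : ℕ) : Clm := (selA 2488 y (selA 2484 y (selA 2482 y (selA 2481 y c2480 c2481) (selA 2483 y c2482 c2483)) (selA 2486 y (selA 2485 y c2484 c2485) (selA 2487 y c2486 c2487))) (selA 2492 y (selA 2490 y (selA 2489 y c2488 c2489) (selA 2491 y c2490 c2491)) (selA 2494 y (selA 2493 y c2492 c2493) (selA 2495 y c2494 c2495))))

noncomputable def cl156 (y : ℕ) : Clm := (selA 2504 y (selA 2500 y (selA 2498 y (selA 2497 y c2496 c2497) (selA 2499 y c2498 c2499)) (selA 2502 y (selA 2501 y c2500 c2501) (selA 2503 y c2502 c2503))) (selA 2508 y (selA 2506 y (selA 2505 y c2504 c2505) (selA 2507 y c2506 c2507)) (selA 2510 y (selA 2509 y c2508 c2509) (selA 2511 y c2510 c2511))))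

noncomputable def cl157 (y : ℕ) : Clm := (selA 2520 y (selA 2516 y (selA 2514 y (selA 2513 y c2512 c2513) (selA 2515 y c2514 c2515)) (selA 2518 y (selA 2517 y c2516 c2517) (selA 2519 y c2518 c2519))) (selA 2524 y (selA 2522 y (selA 2521 y c2520 c2521) (selA 2523 y c2522 c2523)) (selA 2526 y (selA 2525 y c2524 c2525) (selA 2527 y c2526 c2527))))

noncomputable def cl158 (y : ℕ) : Clm := (selA 2536 y (selA 2532 y (selA 2530 y (selA 2529 y c2528 c2529) (selA 2531 y c2530 c2531)) (selA 2534 y (selA 2533 y c2532 c2533) (selA 2535 y c2534 c2535))) (selA 2540 y (selA 2538 y (selA 2537 y c2536 c2537) (selA 2539 y c2538 c2539)) (selA 2542 y (selA 2541 y c2540 c2541) (selA 2543 y c2542 c2543))))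

noncomputable def cl159 (y : ℕ) : Clm := (selA 2552 y (selA 2548 y (selA 2546 y (selA 2545 y c2544 c2545) (selA 2547 y c2546 c2547)) (selA 2550 y (selA 2549 y c2548 c2549) (selA 2551 y c2550 c2551))) (selA 2556 y (selA 2554 y (selA 2553 y c2552 c2553) (selA 2555 y c2554 c2555)) (selA 2558 y (selA 2557 y c2556 c2557) (selA 2559 y c2558 c2559))))

noncomputable def cl160 (y : ℕ) : Clm := (selA 2568 y (selA 2564 y (selA 2562 y (selA 2561 y c2560 c2561) (selA 2563 y c2562 c2563)) (selA 2566 y (selA 2565 y c2564 c2565) (selA 2567 y c2566 c2567))) (selA 2572 y (selA 2570 y (selA 2569 y c2568 c2569) (selA 2571 y c2570 c2571)) (selA 2574 y (selA 2573 y c2572 c2573) (selA 2575 y c2574 c2575))))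

noncomputable def cl161 (y : ℕ) : Clm := (selA 2584 y (selA 2580 y (selA 2578 y (selA 2577 y c2576 c2577) (selA 2579 y c2578 c2579)) (selA 2582 y (selA 2581 y c2580 c2581) (selA 2583 y c2582 c2583))) (selA 2588 y (selA 2586 y (selA 2585 y c2584 c2585) (selA 2587 y c2586 c2587)) (selA 2590 y (selA 2589 y c2588 c2589) (selA 2591 y c2590 c2591))))

noncomputable def cl162 (y : ℕ) : Clm := (selA 2600 y (selA 2596 y (selA 2594 y (selA 2593 y c2592 c2593) (selA 2595 y c2594 c2595)) (selA 2598 y (selA 2597 y c2596 c2597) (selA 2599 y c2598 c2599))) (selA 2604 y (selA 2602 y (selA 2601 y c2600 c2601) (selA 2603 y c2602 c2603)) (selA 2606 y (selA 2605 y c2604 c2605) (selA 2607 y c2606 c2607))))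

noncomputable def cl163 (y : ℕ) : Clm := (selA 2616 y (selA 2612 y (selA 2610 y (selA 2609 y c2608 c2609) (selA 2611 y c2610 c2611)) (selA 2614 y (selA 2613 y c2612 c2613) (selA 2615 y c2614 c2615))) (selA 2620 y (selA 2618 y (selA 2617 y c2616 c2617) (selA 2619 y c2618 c2619)) (selA 2622 y (selA 2621 y c2620 c2621) (selA 2623 y c2622 c2623))))

noncomputable def cl164 (y : ℕ) : Clm := (selA 2632 y (selA 2628 y (selA 2626 y (selA 2625 y c2624 c2625) (selA 2627 y c2626 c2627)) (selA 2630 y (selA 2629 y c2628 c2629) (selA 2631 y c2630 c2631))) (selA 2636 y (selA 2634 y (selA 2633 y c2632 c2633) (selA 2635 y c2634 c2635)) (selA 2638 y (selA 2637 y c2636 c2637) (selA 2639 y c2638 c2639))))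

noncomputable def cl165 (y : ℕ) : Clm := (selA 2648 y (selA 2644 y (selA 2642 y (selA 2641 y c2640 c2641) (selA 2643 y c2642 c2643)) (selA 2646 y (selA 2645 y c2644 c2645) (selA 2647 y c2646 c2647))) (selA 2652 y (selA 2650 y (selA 2649 y c2648 c2649) (selA 2651 y c2650 c2651)) (selA 2654 y (selA 2653 y c2652 c2653) (selA 2655 y c2654 c2655))))

noncomputable def cl166 (y : ℕ) : Clm := (selA 2664 y (selA 2660 y (selA 2658 y (selA 2657 y c2656 c2657) (selA 2659 y c2658 c2659)) (selA 2662 y (selA 2661 y c2660 c2661) (selA 2663 y c2662 c2663))) (selA 2668 y (selA 2666 y (selA 2665 y c2664 c2665) (selA 2667 y c2666 c2667)) (selA 2670 y (selA 2669 y c2668 c2669) (selA 2671 y c2670 c2671))))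

noncomputable def cl167 (y : ℕ) : Clm := (selA 2680 y (selA 2676 y (selA 2674 y (selA 2673 y c2672 c2673) (selA 2675 y c2674 c2675)) (selA 2678 y (selA 2677 y c2676 c2677) (selA 2679 y c2678 c2679))) (selA 2684 y (selA 2682 y (selA 2681 y c2680 c2681) (selA 2683 y c2682 c2683)) (selA 2686 y (selA 2685 y c2684 c2685) (selA 2687 y c2686 c2687))))

noncomputable def cl168 (y : ℕ) : Clm := (selA 2696 y (selA 2692 y (selA 2690 y (selA 2689 y c2688 c2689) (selA 2691 y c2690 c2691)) (selA 2694 y (selA 2693 y c2692 c2693) (selA 2695 y c2694 c2695))) (selA 2700 y (selA 2698 y (selA 2697 y c2696 c2697) (selA 2699 y c2698 c2699)) (selA 2702 y (selA 2701 y c2700 c2701) (selA 2703 y c2702 c2703))))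

noncomputable def cl169 (y : ℕ) : Clm := (selA 2712 y (selA 2708 y (selA 2706 y (selA 2705 y c2704 c2705) (selA 2707 y c2706 c2707)) (selA 2710 y (selA 2709 y c2708 c2709) (selA 2711 y c2710 c2711))) (selA 2716 y (selA 2714 y (selA 2713 y c2712 c2713) (selA 2715 y c2714 c2715)) (selA 2718 y (selA 2717 y c2716 c2717) (selA 2719 y c2718 c2719))))

noncomputable def cl170 (y : ℕ) : Clm := (selA 2728 y (selA 2724 y (selA 2722 y (selA 2721 y c2720 c2721) (selA 2723 y c2722 c2723)) (selA 2726 y (selA 2725 y c2724 c2725) (selA 2727 y c2726 c2727))) (selA 2732 y (selA 2730 y (selA 2729 y c2728 c2729) (selA 2731 y c2730 c2731)) (selA 2734 y (selA 2733 y c2732 c2733) (selA 2735 y c2734 c2735))))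

noncomputable def cl171 (y : ℕ) : Clm := (selA 2744 y (selA 2740 y (selA 2738 y (selA 2737 y c2736 c2737) (selA 2739 y c2738 c2739)) (selA 2742 y (selA 2741 y c2740 c2741) (selA 2743 y c2742 c2743))) (selA 2748 y (selA 2746 y (selA 2745 y c2744 c2745) (selA 2747 y c2746 c2747)) (selA 2750 y (selA 2749 y c2748 c2749) (selA 2751 y c2750 c2751))))

noncomputable def cl172 (y : ℕ) : Clm := (selA 2760 y (selA 2756 y (selA 2754 y (selA 2753 y c2752 c2753) (selA 2755 y c2754 c2755)) (selA 2758 y (selA 2757 y c2756 c2757) (selA 2759 y c2758 c2759))) (selA 2764 y (selA 2762 y (selA 2761 y c2760 c2761) (selA 2763 y c2762 c2763)) (selA 2766 y (selA 2765 y c2764 c2765) (selA 2767 y c2766 c2767))))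

noncomputable def cl173 (y : ℕ) : Clm := (selA 2776 y (selA 2772 y (selA 2770 y (selA 2769 y c2768 c2769) (selA 2771 y c2770 c2771)) (selA 2774 y (selA 2773 y c2772 c2773) (selA 2775 y c2774 c2775))) (selA 2780 y (selA 2778 y (selA 2777 y c2776 c2777) (selA 2779 y c2778 c2779)) (selA 2782 y (selA 2781 y c2780 c2781) (selA 2783 y c2782 c2783))))

noncomputable def cl174 (y : ℕ) : Clm := (selA 2792 y (selA 2788 y (selA 2786 y (selA 2785 y c2784 c2785) (selA 2787 y c2786 c2787)) (selA 2790 y (selA 2789 y c2788 c2789) (selA 2791 y c2790 c2791))) (selA 2796 y (selA 2794 y (selA 2793 y c2792 c2793) (selA 2795 y c2794 c2795)) (selA 2798 y (selA 2797 y c2796 c2797) (selA 2799 y c2798 c2799))))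

noncomputable def cl175 (y : ℕ) : Clm := (selA 2808 y (selA 2804 y (selA 2802 y (selA 2801 y c2800 c2801) (selA 2803 y c2802 c2803)) (selA 2806 y (selA 2805 y c2804 c2805) (selA 2807 y c2806 c2807))) (selA 2812 y (selA 2810 y (selA 2809 y c2808 c2809) (selA 2811 y c2810 c2811)) (selA 2814 y (selA 2813 y c2812 c2813) (selA 2815 y c2814 c2815))))

noncomputable def cl176 (y : ℕ) : Clm := (selA 2824 y (selA 2820 y (selA 2818 y (selA 2817 y c2816 c2817) (selA 2819 y c2818 c2819)) (selA 2822 y (selA 2821 y c2820 c2821) (selA 2823 y c2822 c2823))) (selA 2828 y (selA 2826 y (selA 2825 y c2824 c2825) (selA 2827 y c2826 c2827)) (selA 2830 y (selA 2829 y c2828 c2829) (selA 2831 y c2830 c2831))))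

noncomputable def cl177 (y : ℕ) : Clm := (selA 2840 y (selA 2836 y (selA 2834 y (selA 2833 y c2832 c2833) (selA 2835 y c2834 c2835)) (selA 2838 y (selA 2837 y c2836 c2837) (selA 2839 y c2838 c2839))) (selA 2844 y (selA 2842 y (selA 2841 y c2840 c2841) (selA 2843 y c2842 c2843)) (selA 2846 y (selA 2845 y c2844 c2845) (selA 2847 y c2846 c2847))))

noncomputable def cl178 (y : ℕ) : Clm := (selA 2856 y (selA 2852 y (selA 2850 y (selA 2849 y c2848 c2849) (selA 2851 y c2850 c2851)) (selA 2854 y (selA 2853 y c2852 c2853) (selA 2855 y c2854 c2855))) (selA 2860 y (selA 2858 y (selA 2857 y c2856 c2857) (selA 2859 y c2858 c2859)) (selA 2862 y (selA 2861 y c2860 c2861) (selA 2863 y c2862 c2863))))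

noncomputable def cl179 (y : ℕ) : Clm := (selA 2872 y (selA 2868 y (selA 2866 y (selA 2865 y c2864 c2865) (selA 2867 y c2866 c2867)) (selA 2870 y (selA 2869 y c2868 c2869) (selA 2871 y c2870 c2871))) (selA 2876 y (selA 2874 y (selA 2873 y c2872 c2873) (selA 2875 y c2874 c2875)) (selA 2878 y (selA 2877 y c2876 c2877) (selA 2879 y c2878 c2879))))

noncomputable def cl180 (y : ℕ) : Clm := (selA 2888 y (selA 2884 y (selA 2882 y (selA 2881 y c2880 c2881) (selA 2883 y c2882 c2883)) (selA 2886 y (selA 2885 y c2884 c2885) (selA 2887 y c2886 c2887))) (selA 2892 y (selA 2890 y (selA 2889 y c2888 c2889) (selA 2891 y c2890 c2891)) (selA 2894 y (selA 2893 y c2892 c2893) (selA 2895 y c2894 c2895))))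

noncomputable def cl181 (y : ℕ) : Clm := (selA 2904 y (selA 2900 y (selA 2898 y (selA 2897 y c2896 c2897) (selA 2899 y c2898 c2899)) (selA 2902 y (selA 2901 y c2900 c2901) (selA 2903 y c2902 c2903))) (selA 2908 y (selA 2906 y (selA 2905 y c2904 c2905) (selA 2907 y c2906 c2907)) (selA 2910 y (selA 2909 y c2908 c2909) (selA 2911 y c2910 c2911))))

noncomputable def cl182 (y : ℕ) : Clm := (selA 2920 y (selA 2916 y (selA 2914 y (selA 2913 y c2912 c2913) (selA 2915 y c2914 c2915)) (selA 2918 y (selA 2917 y c2916 c2917) (selA 2919 y c2918 c2919))) (selA 2924 y (selA 2922 y (selA 2921 y c2920 c2921) (selA 2923 y c2922 c2923)) (selA 2926 y (selA 2925 y c2924 c2925) (selA 2927 y c2926 c2927))))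

noncomputable def cl183 (y : ℕ) : Clm := (selA 2936 y (selA 2932 y (selA 2930 y (selA 2929 y c2928 c2929) (selA 2931 y c2930 c2931)) (selA 2934 y (selA 2933 y c2932 c2933) (selA 2935 y c2934 c2935))) (selA 2940 y (selA 2938 y (selA 2937 y c2936 c2937) (selA 2939 y c2938 c2939)) (selA 2942 y (selA 2941 y c2940 c2941) (selA 2943 y c2942 c2943))))

noncomputable def cl184 (y : ℕ) : Clm := (selA 2952 y (selA 2948 y (selA 2946 y (selA 2945 y c2944 c2945) (selA 2947 y c2946 c2947)) (selA 2950 y (selA 2949 y c2948 c2949) (selA 2951 y c2950 c2951))) (selA 2956 y (selA 2954 y (selA 2953 y c2952 c2953) (selA 2955 y c2954 c2955)) (selA 2958 y (selA 2957 y c2956 c2957) (selA 2959 y c2958 c2959))))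

noncomputable def cl185 (y : ℕ) : Clm := (selA 2968 y (selA 2964 y (selA 2962 y (selA 2961 y c2960 c2961) (selA 2963 y c2962 c2963)) (selA 2966 y (selA 2965 y c2964 c2965) (selA 2967 y c2966 c2967))) (selA 2972 y (selA 2970 y (selA 2969 y c2968 c2969) (selA 2971 y c2970 c2971)) (selA 2974 y (selA 2973 y c2972 c2973) (selA 2975 y c2974 c2975))))

noncomputable def cl186 (y : ℕ) : Clm := (selA 2984 y (selA 2980 y (selA 2978 y (selA 2977 y c2976 c2977) (selA 2979 y c2978 c2979)) (selA 2982 y (selA 2981 y c2980 c2981) (selA 2983 y c2982 c2983))) (selA 2988 y (selA 2986 y (selA 2985 y c2984 c2985) (selA 2987 y c2986 c2987)) (selA 2990 y (selA 2989 y c2988 c2989) (selA 2991 y c2990 c2991))))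

noncomputable def cl187 (y : ℕ) : Clm := (selA 3000 y (selA 2996 y (selA 2994 y (selA 2993 y c2992 c2993) (selA 2995 y c2994 c2995)) (selA 2998 y (selA 2997 y c2996 c2997) (selA 2999 y c2998 c2999))) (selA 3004 y (selA 3002 y (selA 3001 y c3000 c3001) (selA 3003 y c3002 c3003)) (selA 3006 y (selA 3005 y c3004 c3005) (selA 3007 y c3006 c3007))))

noncomputable def cl188 (y : ℕ) : Clm := (selA 3016 y (selA 3012 y (selA 3010 y (selA 3009 y c3008 c3009) (selA 3011 y c3010 c3011)) (selA 3014 y (selA 3013 y c3012 c3013) (selA 3015 y c3014 c3015))) (selA 3020 y (selA 3018 y (selA 3017 y c3016 c3017) (selA 3019 y c3018 c3019)) (selA 3022 y (selA 3021 y c3020 c3021) (selA 3023 y c3022 c3023))))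

noncomputable def cl189 (y : ℕ) : Clm := (selA 3032 y (selA 3028 y (selA 3026 y (selA 3025 y c3024 c3025) (selA 3027 y c3026 c3027)) (selA 3030 y (selA 3029 y c3028 c3029) (selA 3031 y c3030 c3031))) (selA 3036 y (selA 3034 y (selA 3033 y c3032 c3033) (selA 3035 y c3034 c3035)) (selA 3038 y (selA 3037 y c3036 c3037) (selA 3039 y c3038 c3039))))

noncomputable def cl190 (y : ℕ) : Clm := (selA 3048 y (selA 3044 y (selA 3042 y (selA 3041 y c3040 c3041) (selA 3043 y c3042 c3043)) (selA 3046 y (selA 3045 y c3044 c3045) (selA 3047 y c3046 c3047))) (selA 3052 y (selA 3050 y (selA 3049 y c3048 c3049) (selA 3051 y c3050 c3051)) (selA 3054 y (selA 3053 y c3052 c3053) (selA 3055 y c3054 c3055))))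

noncomputable def cl191 (y : ℕ) : Clm := (selA 3064 y (selA 3060 y (selA 3058 y (selA 3057 y c3056 c3057) (selA 3059 y c3058 c3059)) (selA 3062 y (selA 3061 y c3060 c3061) (selA 3063 y c3062 c3063))) (selA 3068 y (selA 3066 y (selA 3065 y c3064 c3065) (selA 3067 y c3066 c3067)) (selA 3070 y (selA 3069 y c3068 c3069) (selA 3071 y c3070 c3071))))

noncomputable def cl192 (y : ℕ) : Clm := (selA 3080 y (selA 3076 y (selA 3074 y (selA 3073 y c3072 c3073) (selA 3075 y c3074 c3075)) (selA 3078 y (selA 3077 y c3076 c3077) (selA 3079 y c3078 c3079))) (selA 3084 y (selA 3082 y (selA 3081 y c3080 c3081) (selA 3083 y c3082 c3083)) (selA 3086 y (selA 3085 y c3084 c3085) (selA 3087 y c3086 c3087))))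

noncomputable def cl193 (y : ℕ) : Clm := (selA 3096 y (selA 3092 y (selA 3090 y (selA 3089 y c3088 c3089) (selA 3091 y c3090 c3091)) (selA 3094 y (selA 3093 y c3092 c3093) (selA 3095 y c3094 c3095))) (selA 3100 y (selA 3098 y (selA 3097 y c3096 c3097) (selA 3099 y c3098 c3099)) (selA 3102 y (selA 3101 y c3100 c3101) (selA 3103 y c3102 c3103))))

noncomputable def cl194 (y : ℕ) : Clm := (selA 3112 y (selA 3108 y (selA 3106 y (selA 3105 y c3104 c3105) (selA 3107 y c3106 c3107)) (selA 3110 y (selA 3109 y c3108 c3109) (selA 3111 y c3110 c3111))) (selA 3116 y (selA 3114 y (selA 3113 y c3112 c3113) (selA 3115 y c3114 c3115)) (selA 3118 y (selA 3117 y c3116 c3117) (selA 3119 y c3118 c3119))))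

noncomputable def cl195 (y : ℕ) : Clm := (selA 3128 y (selA 3124 y (selA 3122 y (selA 3121 y c3120 c3121) (selA 3123 y c3122 c3123)) (selA 3126 y (selA 3125 y c3124 c3125) (selA 3127 y c3126 c3127))) (selA 3132 y (selA 3130 y (selA 3129 y c3128 c3129) (selA 3131 y c3130 c3131)) (selA 3134 y (selA 3133 y c3132 c3133) (selA 3135 y c3134 c3135))))

noncomputable def cl196 (y : ℕ) : Clm := (selA 3144 y (selA 3140 y (selA 3138 y (selA 3137 y c3136 c3137) (selA 3139 y c3138 c3139)) (selA 3142 y (selA 3141 y c3140 c3141) (selA 3143 y c3142 c3143))) (selA 3148 y (selA 3146 y (selA 3145 y c3144 c3145) (selA 3147 y c3146 c3147)) (selA 3150 y (selA 3149 y c3148 c3149) (selA 3151 y c3150 c3151))))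

noncomputable def cl197 (y : ℕ) : Clm := (selA 3160 y (selA 3156 y (selA 3154 y (selA 3153 y c3152 c3153) (selA 3155 y c3154 c3155)) (selA 3158 y (selA 3157 y c3156 c3157) (selA 3159 y c3158 c3159))) (selA 3164 y (selA 3162 y (selA 3161 y c3160 c3161) (selA 3163 y c3162 c3163)) (selA 3166 y (selA 3165 y c3164 c3165) (selA 3167 y c3166 c3167))))

noncomputable def cl198 (y : ℕ) : Clm := (selA 3176 y (selA 3172 y (selA 3170 y (selA 3169 y c3168 c3169) (selA 3171 y c3170 c3171)) (selA 3174 y (selA 3173 y c3172 c3173) (selA 3175 y c3174 c3175))) (selA 3180 y (selA 3178 y (selA 3177 y c3176 c3177) (selA 3179 y c3178 c3179)) (selA 3182 y (selA 3181 y c3180 c3181) (selA 3183 y c3182 c3183))))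

noncomputable def cl199 (y : ℕ) : Clm := (selA 3192 y (selA 3188 y (selA 3186 y (selA 3185 y c3184 c3185) (selA 3187 y c3186 c3187)) (selA 3190 y (selA 3189 y c3188 c3189) (selA 3191 y c3190 c3191))) (selA 3196 y (selA 3194 y (selA 3193 y c3192 c3193) (selA 3195 y c3194 c3195)) (selA 3198 y (selA 3197 y c3196 c3197) (selA 3199 y c3198 c3199))))

noncomputable def cl200 (y : ℕ) : Clm := (selA 3208 y (selA 3204 y (selA 3202 y (selA 3201 y c3200 c3201) (selA 3203 y c3202 c3203)) (selA 3206 y (selA 3205 y c3204 c3205) (selA 3207 y c3206 c3207))) (selA 3212 y (selA 3210 y (selA 3209 y c3208 c3209) (selA 3211 y c3210 c3211)) (selA 3214 y (selA 3213 y c3212 c3213) (selA 3215 y c3214 c3215))))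

noncomputable def cl201 (y : ℕ) : Clm := (selA 3224 y (selA 3220 y (selA 3218 y (selA 3217 y c3216 c3217) (selA 3219 y c3218 c3219)) (selA 3222 y (selA 3221 y c3220 c3221) (selA 3223 y c3222 c3223))) (selA 3228 y (selA 3226 y (selA 3225 y c3224 c3225) (selA 3227 y c3226 c3227)) (selA 3230 y (selA 3229 y c3228 c3229) (selA 3231 y c3230 c3231))))

noncomputable def cl202 (y : ℕ) : Clm := (selA 3240 y (selA 3236 y (selA 3234 y (selA 3233 y c3232 c3233) (selA 3235 y c3234 c3235)) (selA 3238 y (selA 3237 y c3236 c3237) (selA 3239 y c3238 c3239))) (selA 3244 y (selA 3242 y (selA 3241 y c3240 c3241) (selA 3243 y c3242 c3243)) (selA 3246 y (selA 3245 y c3244 c3245) (selA 3247 y c3246 c3247))))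

noncomputable def cl203 (y : ℕ) : Clm := (selA 3256 y (selA 3252 y (selA 3250 y (selA 3249 y c3248 c3249) (selA 3251 y c3250 c3251)) (selA 3254 y (selA 3253 y c3252 c3253) (selA 3255 y c3254 c3255))) (selA 3260 y (selA 3258 y (selA 3257 y c3256 c3257) (selA 3259 y c3258 c3259)) (selA 3262 y (selA 3261 y c3260 c3261) (selA 3263 y c3262 c3263))))

noncomputable def cl204 (y : ℕ) : Clm := (selA 3272 y (selA 3268 y (selA 3266 y (selA 3265 y c3264 c3265) (selA 3267 y c3266 c3267)) (selA 3270 y (selA 3269 y c3268 c3269) (selA 3271 y c3270 c3271))) (selA 3276 y (selA 3274 y (selA 3273 y c3272 c3273) (selA 3275 y c3274 c3275)) (selA 3278 y (selA 3277 y c3276 c3277) (selA 3279 y c3278 c3279))))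

noncomputable def cl205 (y : ℕ) : Clm := (selA 3288 y (selA 3284 y (selA 3282 y (selA 3281 y c3280 c3281) (selA 3283 y c3282 c3283)) (selA 3286 y (selA 3285 y c3284 c3285) (selA 3287 y c3286 c3287))) (selA 3292 y (selA 3290 y (selA 3289 y c3288 c3289) (selA 3291 y c3290 c3291)) (selA 3294 y (selA 3293 y c3292 c3293) (selA 3295 y c3294 c3295))))

noncomputable def cl206 (y : ℕ) : Clm := (selA 3304 y (selA 3300 y (selA 3298 y (selA 3297 y c3296 c3297) (selA 3299 y c3298 c3299)) (selA 3302 y (selA 3301 y c3300 c3301) (selA 3303 y c3302 c3303))) (selA 3308 y (selA 3306 y (selA 3305 y c3304 c3305) (selA 3307 y c3306 c3307)) (selA 3310 y (selA 3309 y c3308 c3309) (selA 3311 y c3310 c3311))))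

noncomputable def cl207 (y : ℕ) : Clm := (selA 3320 y (selA 3316 y (selA 3314 y (selA 3313 y c3312 c3313) (selA 3315 y c3314 c3315)) (selA 3318 y (selA 3317 y c3316 c3317) (selA 3319 y c3318 c3319))) (selA 3324 y (selA 3322 y (selA 3321 y c3320 c3321) (selA 3323 y c3322 c3323)) (selA 3326 y (selA 3325 y c3324 c3325) (selA 3327 y c3326 c3327))))

noncomputable def cl208 (y : ℕ) : Clm := (selA 3336 y (selA 3332 y (selA 3330 y (selA 3329 y c3328 c3329) (selA 3331 y c3330 c3331)) (selA 3334 y (selA 3333 y c3332 c3333) (selA 3335 y c3334 c3335))) (selA 3340 y (selA 3338 y (selA 3337 y c3336 c3337) (selA 3339 y c3338 c3339)) (selA 3342 y (selA 3341 y c3340 c3341) (selA 3343 y c3342 c3343))))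

noncomputable def cl209 (y : ℕ) : Clm := (selA 3352 y (selA 3348 y (selA 3346 y (selA 3345 y c3344 c3345) (selA 3347 y c3346 c3347)) (selA 3350 y (selA 3349 y c3348 c3349) (selA 3351 y c3350 c3351))) (selA 3356 y (selA 3354 y (selA 3353 y c3352 c3353) (selA 3355 y c3354 c3355)) (selA 3358 y (selA 3357 y c3356 c3357) (selA 3359 y c3358 c3359))))

noncomputable def cl210 (y : ℕ) : Clm := (selA 3368 y (selA 3364 y (selA 3362 y (selA 3361 y c3360 c3361) (selA 3363 y c3362 c3363)) (selA 3366 y (selA 3365 y c3364 c3365) (selA 3367 y c3366 c3367))) (selA 3372 y (selA 3370 y (selA 3369 y c3368 c3369) (selA 3371 y c3370 c3371)) (selA 3374 y (selA 3373 y c3372 c3373) (selA 3375 y c3374 c3375))))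

noncomputable def cl211 (y : ℕ) : Clm := (selA 3384 y (selA 3380 y (selA 3378 y (selA 3377 y c3376 c3377) (selA 3379 y c3378 c3379)) (selA 3382 y (selA 3381 y c3380 c3381) (selA 3383 y c3382 c3383))) (selA 3388 y (selA 3386 y (selA 3385 y c3384 c3385) (selA 3387 y c3386 c3387)) (selA 3390 y (selA 3389 y c3388 c3389) (selA 3391 y c3390 c3391))))

noncomputable def cl212 (y : ℕ) : Clm := (selA 3400 y (selA 3396 y (selA 3394 y (selA 3393 y c3392 c3393) (selA 3395 y c3394 c3395)) (selA 3398 y (selA 3397 y c3396 c3397) (selA 3399 y c3398 c3399))) (selA 3404 y (selA 3402 y (selA 3401 y c3400 c3401) (selA 3403 y c3402 c3403)) (selA 3406 y (selA 3405 y c3404 c3405) (selA 3407 y c3406 c3407))))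

noncomputable def cl213 (y : ℕ) : Clm := (selA 3416 y (selA 3412 y (selA 3410 y (selA 3409 y c3408 c3409) (selA 3411 y c3410 c3411)) (selA 3414 y (selA 3413 y c3412 c3413) (selA 3415 y c3414 c3415))) (selA 3420 y (selA 3418 y (selA 3417 y c3416 c3417) (selA 3419 y c3418 c3419)) (selA 3422 y (selA 3421 y c3420 c3421) (selA 3423 y c3422 c3423))))

noncomputable def cl214 (y : ℕ) : Clm := (selA 3432 y (selA 3428 y (selA 3426 y (selA 3425 y c3424 c3425) (selA 3427 y c3426 c3427)) (selA 3430 y (selA 3429 y c3428 c3429) (selA 3431 y c3430 c3431))) (selA 3436 y (selA 3434 y (selA 3433 y c3432 c3433) (selA 3435 y c3434 c3435)) (selA 3438 y (selA 3437 y c3436 c3437) (selA 3439 y c3438 c3439))))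

noncomputable def cl215 (y : ℕ) : Clm := (selA 3442 y (selA 3441 y c3440 c3441) (selA 3443 y c3442 c3443))

noncomputable def cl (y : ℕ) : Clm := (selA 1728 y (selA 864 y (selA 432 y (selA 208 y (selA 96 y (selA 48 y (selA 16 y (cl0 y) (selA 32 y (cl1 y) (cl2 y))) (selA 64 y (cl3 y) (selA 80 y (cl4 y) (cl5 y)))) (selA 144 y (selA 112 y (cl6 y) (selA 128 y (cl7 y) (cl8 y))) (selA 176 y (selA 160 y (cl9 y) (cl10 y)) (selA 192 y (cl11 y) (cl12 y))))) (selA 320 y (selA 256 y (selA 224 y (cl13 y) (selA 240 y (cl14 y) (cl15 y))) (selA 288 y (selA 272 y (cl16 y) (cl17 y)) (selA 304 y (cl18 y) (cl19 y)))) (selA 368 y (selA 336 y (cl20 y) (selA 352 y (cl21 y) (cl22 y))) (selA 400 y (selA 384 y (cl23 y) (cl24 y)) (selA 416 y (cl25 y)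 (cl26 y)))))) (selA 640 y (selA 528 y (selA 480 y (selA 448 y (cl27 y) (selA 464 y (cl28 y) (cl29 y))) (selA 496 y (cl30 y) (selA 512 y (cl31 y) (cl32 y)))) (selA 576 y (selA 544 y (cl33 y) (selA 560 y (cl34 y) (cl35 y))) (selA 608 y (selA 592 y (cl36 y) (cl37 y)) (selA 624 y (cl38 y) (cl39 y))))) (selA 752 y (selA 688 y (selA 656 y (cl40 y) (selA 672 y (cl41 y) (cl42 y))) (selA 720 y (selA 704 y (cl43 y) (cl44 y)) (selA 736 y (cl45 y) (cl46 y)))) (selA 800 y (selA 768 y (cl47 y) (selA 784 y (cl48 y) (cl49 y))) (selA 832 y (selA 816 y (cl50 y) (cl51 y)) (selA 848 y (cl52 y) (cl53 y))))))) (selA 1296 y (selA 1072 y (selA 960 y (selA 912 y (selA 880 y (cl54 y) (selA 896 y (cl55 y) (cl56 y))) (selA 928 y (cl57 y) (selA 944 y (cl58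 y) (cl59 y)))) (selA 1008 y (selA 976 y (cl60 y) (selA 992 y (cl61 y) (cl62 y))) (selA 1040 y (selA 1024 y (cl63 y) (cl64 y)) (selA 1056 y (cl65 y) (cl66 y))))) (selA 1184 y (selA 1120 y (selA 1088 y (cl67 y) (selA 1104 y (cl68 y) (cl69 y))) (selA 1152 y (selA 1136 y (cl70 y) (cl71 y)) (selA 1168 y (cl72 y) (cl73 y)))) (selA 1232 y (selA 1200 y (cl74 y) (selA 1216 y (cl75 y) (cl76 y))) (selA 1264 y (selA 1248 y (cl77 y) (cl78 y)) (selA 1280 y (cl79 y) (cl80 y)))))) (selA 1504 y (selA 1392 y (selA 1344 y (selA 1312 y (cl81 y) (selA 1328 y (cl82 y) (cl83 y))) (selA 1360 y (cl84 y) (selA 1376 y (cl85 y) (cl86 y)))) (selA 1440 y (selA 1408 y (cl87 y) (selA 1424 y (cl88 y) (cl89 y))) (selA 1472 y (selA 1456 y (cl90 y) (cl91 y)) (selA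 1488 y (cl92 y) (cl93 y))))) (selA 1616 y (selA 1552 y (selA 1520 y (cl94 y) (selA 1536 y (cl95 y) (cl96 y))) (selA 1584 y (selA 1568 y (cl97 y) (cl98 y)) (selA 1600 y (cl99 y) (cl100 y)))) (selA 1664 y (selA 1632 y (cl101 y) (selA 1648 y (cl102 y) (cl103 y))) (selA 1696 y (selA 1680 y (cl104 y) (cl105 y)) (selA 1712 y (cl106 y) (cl107 y)))))))) (selA 2592 y (selA 2160 y (selA 1936 y (selA 1824 y (selA 1776 y (selA 1744 y (cl108 y) (selA 1760 y (cl109 y) (cl110 y))) (selA 1792 y (cl111 y) (selA 1808 y (cl112 y) (cl113 y)))) (selA 1872 y (selA 1840 y (cl114 y) (selA 1856 y (cl115 y) (cl116 y))) (selA 1904 y (selA 1888 y (cl117 y) (cl118 y)) (selA 1920 y (cl119 y) (cl120 y))))) (selA 2048 y (selA 1984 y (selA 1952 y (cl121 y)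 (selA 1968 y (cl122 y) (cl123 y))) (selA 2016 y (selA 2000 y (cl124 y) (cl125 y)) (selA 2032 y (cl126 y) (cl127 y)))) (selA 2096 y (selA 2064 y (cl128 y) (selA 2080 y (cl129 y) (cl130 y))) (selA 2128 y (selA 2112 y (cl131 y) (cl132 y)) (selA 2144 y (cl133 y) (cl134 y)))))) (selA 2368 y (selA 2256 y (selA 2208 y (selA 2176 y (cl135 y) (selA 2192 y (cl136 y) (cl137 y))) (selA 2224 y (cl138 y) (selA 2240 y (cl139 y) (cl140 y)))) (selA 2304 y (selA 2272 y (cl141 y) (selA 2288 y (cl142 y) (cl143 y))) (selA 2336 y (selA 2320 y (cl144 y) (cl145 y)) (selA 2352 y (cl146 y) (cl147 y))))) (selA 2480 y (selA 2416 y (selA 2384 y (cl148 y) (selA 2400 y (cl149 y) (cl150 y))) (selA 2448 y (selA 2432 y (cl151 y) (cl152 y)) (selA 2464 y (cl153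 y) (cl154 y)))) (selA 2528 y (selA 2496 y (cl155 y) (selA 2512 y (cl156 y) (cl157 y))) (selA 2560 y (selA 2544 y (cl158 y) (cl159 y)) (selA 2576 y (cl160 y) (cl161 y))))))) (selA 3024 y (selA 2800 y (selA 2688 y (selA 2640 y (selA 2608 y (cl162 y) (selA 2624 y (cl163 y) (cl164 y))) (selA 2656 y (cl165 y) (selA 2672 y (cl166 y) (cl167 y)))) (selA 2736 y (selA 2704 y (cl168 y) (selA 2720 y (cl169 y) (cl170 y))) (selA 2768 y (selA 2752 y (cl171 y) (cl172 y)) (selA 2784 y (cl173 y) (cl174 y))))) (selA 2912 y (selA 2848 y (selA 2816 y (cl175 y) (selA 2832 y (cl176 y) (cl177 y))) (selA 2880 y (selA 2864 y (cl178 y) (cl179 y)) (selA 2896 y (cl180 y) (cl181 y)))) (selA 2960 y (selA 2928 y (cl182 y) (selA 2944 y (cl183 y) (cl184 y)))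 (selA 2992 y (selA 2976 y (cl185 y) (cl186 y)) (selA 3008 y (cl187 y) (cl188 y)))))) (selA 3232 y (selA 3120 y (selA 3072 y (selA 3040 y (cl189 y) (selA 3056 y (cl190 y) (cl191 y))) (selA 3088 y (cl192 y) (selA 3104 y (cl193 y) (cl194 y)))) (selA 3168 y (selA 3136 y (cl195 y) (selA 3152 y (cl196 y) (cl197 y))) (selA 3200 y (selA 3184 y (cl198 y) (cl199 y)) (selA 3216 y (cl200 y) (cl201 y))))) (selA 3344 y (selA 3280 y (selA 3248 y (cl202 y) (selA 3264 y (cl203 y) (cl204 y))) (selA 3312 y (selA 3296 y (cl205 y) (cl206 y)) (selA 3328 y (cl207 y) (cl208 y)))) (selA 3392 y (selA 3360 y (cl209 y) (selA 3376 y (cl210 y) (cl211 y))) (selA 3424 y (selA 3408 y (cl212 y) (cl213 y)) (selA 3440 y (cl214 y) (cl215 y)))))))))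

def gwL : List (List ℕ) := [[], [15], [15,12,15], [15,12,15,12,15], [15,3,15], [15,14,2,15], [15,3,15,13,11,1,3,15], [15,3,15,7,2,1,3,15], [15,3,15,1,3,15], [15,3,15,14,2,15], [15,3,15,2,7,2,15], [15,14,2,15,2,13,5,3,15], [15,14,2,15,1,3,4,3,15], [15,14,2,15,3,6,3,7,15], [15,14,2,15,12,11,7,15], [15,14,2,15,14,8,13,15], [15,14,2,15,8,7,2,15], [15,3,15,13,11,1,3,15,7,11,6,3,15], [15,3,15,1,3,15,14,11,9,2,15], [15,3,15,14,2,15,12,7,2,15], [15,3,15,2,7,2,15,11,7,8,12,15], [15,14,2,15,8,7,2,15,3,13,15]]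

noncomputable def D : Dce where
  inv := 5125576088324644636236977019010041446656
  m := 15
  T := 15
  TI := 16
  KL := [1,4,5]
  ax := [[1], [2]]
  sg := [[], [1], [], [], [4], [5]]
  chk := fixB N.img 15 N.bs
  pats := [([], false), ([16,15], false), ([15], true), ([16], true), ([15,6,15,6,15,6], false), ([7,16,7,16,7], true), ([15,9,15,10,15,9,15,10], false), ([11,16,8,16,11,16,8], true), ([15,10,15,9,15,10,15,9], false), ([8,16,11,16,8,16,11], true)]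
  gw := nthW gwL
  cl := cl


end Cfsg.H6.J4.D2
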