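import Cfsg.Agent.H6.J4.D2.B0
import Cfsg.Agent.H6.J4.D2.B1
import Cfsg.Agent.H6.J4.D2.B2
import Cfsg.Agent.H6.J4.D2.B3
import Cfsg.Agent.H6.J4.D2.B4
import Cfsg.Agent.H6.J4.D2.B5
import Cfsg.Agent.H6.J4.D2.B6
import Cfsg.Agent.H6.J4.D2.B7
import Cfsg.Agent.H6.J4.D2.B8
import Cfsg.Agent.H6.J4.D2.B9
import Cfsg.Agent.H6.J4.D2.B10
import Cfsg.Agent.H6.J4.D2.B11
import Cfsg.Agent.H6.J4.D2.B12

set_option autoImplicit false
set_option maxRecDepth 100000
set_option Elab.async false

namespace Cfsg.H6.J4.D2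

theorem hv {G : Type*} [Group G] {ev : ℕ → G} {H : Subgroup G} (h : D.Hyp ev H)
    (ha : D.Valid ev H (D.cl 5)) :
    ∀ c < 3444, D.Valid ev H (D.cl c) :=
  Dce.all_valid2 h ha (range_join (range_join (range_join (range_join (range_join (allR_range k0 (by norm_num : 0 + 100 = 100)) (allR_range k1 (by norm_num : 100 + 100 = 200))) (range_join (allR_range k2 (by norm_num : 200 + 100 = 300)) (allR_range k3 (by norm_num : 300 + 100 = 400)))) (range_join (range_join (allR_range k4 (by norm_num : 400 + 100 = 500)) (allR_range k5 (by norm_num : 500 + 100 = 600))) (range_join (allR_range k6 (by norm_num : 600 + 100 = 700)) (allR_range k7 (by norm_num : 700 + 100 = 800))))) (range_join (range_join (range_join (allR_range k8 (by norm_num : 800 + 100 = 900)) (allR_range k9 (by norm_num : 900 + 100 = 1000))) (range_join (allR_range k10 (by norm_num : 1000 + 100 = 1100)) (allR_range k11 (by norm_num : 1100 + 100 = 1200)))) (range_join (range_join (allR_range k12 (by norm_num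 : 1200 + 100 = 1300)) (allR_range k13 (by norm_num : 1300 + 100 = 1400))) (range_join (allR_range k14 (by norm_num : 1400 + 100 = 1500)) (range_join (allR_range k15 (by norm_num : 1500 + 100 = 1600)) (allR_range k16 (by norm_num : 1600 + 100 = 1700))))))) (range_join (range_join (range_join (range_join (allR_range k17 (by norm_num : 1700 + 100 = 1800)) (allR_range k18 (by norm_num : 1800 + 100 = 1900))) (range_join (allR_range k19 (by norm_num : 1900 + 100 = 2000)) (allR_range k20 (by norm_num : 2000 + 100 = 2100)))) (range_join (range_join (allR_range k21 (by norm_num : 2100 + 100 = 2200)) (allR_range k22 (by norm_num : 2200 + 100 = 2300))) (range_join (allR_range k23 (by norm_num : 2300 + 100 = 2400)) (range_join (allR_range k24 (by norm_num : 2400 + 100 = 2500)) (allR_range k25 (by norm_num : 2500 + 100 = 2600)))))) (range_join (range_join (range_join (allR_range k26 (by norm_num : 2600 + 100 = 2700)) (allR_range k27 (by norm_num : 2700 + 100 = 2800))) (range_join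 (allR_range k28 (by norm_num : 2800 + 100 = 2900)) (allR_range k29 (by norm_num : 2900 + 100 = 3000)))) (range_join (range_join (allR_range k30 (by norm_num : 3000 + 100 = 3100)) (allR_range k31 (by norm_num : 3100 + 100 = 3200))) (range_join (allR_range k32 (by norm_num : 3200 + 100 = 3300)) (range_join (allR_range k33 (by norm_num : 3300 + 100 = 3400)) (allR_range k34 (by norm_num : 3400 + 44 = 3444))))))))

theorem top : ⊤ ≤ gen N.ev (D.genW [0,1]) :=
  N.hX2.ge.trans (gen_le_of_letChk (by decide +kernel))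

def E : List (ℕ × ℕ) := [(1, 3795), (0, 1), (4, 318780), (5, 5100480), (6, 1275120), (7, 1912680), (8, 81607680), (9, 15301440), (10, 40803840), (11, 478170), (12, 2550240), (13, 7650720), (14, 12241152), (15, 212520), (16, 2550240), (17, 967680), (18, 53130), (19, 11385), (20, 26565), (21, 1771)]

theorem hT {G : Type*} [Group G] {ev : ℕ → G} {H : Subgroup G} {θ : J4.N.Grp →* G}
    (M : D.Model ev J4.N.ev θ J4.N.φ J4.N.img 3795) (h : D.Hyp ev H)
    (ha : D.Valid ev H (D.cl 5)) :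
    ∀ i ∈ E.map Prod.fst, ∀ p, D.InU ev H θ (E.map Prod.fst) (evL ev (D.gw i) * θ p * ev D.T) :=
  (List.forall_mem_cons.mpr ⟨Dce.fin_sound M h (hv h ha) f1, (List.forall_mem_cons.mpr ⟨Dce.fin_sound M h (hv h ha) f0, (List.forall_mem_cons.mpr ⟨Dce.fin_sound M h (hv h ha) f4, (List.forall_mem_cons.mpr ⟨Dce.fin_sound M h (hv h ha) f5, (List.forall_mem_cons.mpr ⟨Dce.fin_sound M h (hv h ha) f6, (List.forall_mem_cons.mpr ⟨Dce.fin_sound M h (hv h ha) f7, (List.forall_mem_cons.mpr ⟨Dce.fin_sound M h (hv h ha) f8, (List.forall_mem_cons.mpr ⟨Dce.fin_sound M h (hv h ha) f9, (List.forall_mem_cons.mpr ⟨Dce.fin_sound M h (hv h ha) f10, (List.forall_mem_cons.mpr ⟨Dce.fin_sound M h (hv h ha) f11, (List.forall_mem_cons.mpr ⟨Dce.fin_sound M h (hv h ha) f12, (List.forall_mem_cons.mpr ⟨Dce.fin_sound M h (hv h ha) f13, (List.forall_mem_cons.mpr ⟨Dce.fin_sound M h (hv h ha) f14, (List.forall_mem_cons.mpr ⟨Dce.fin_sound M h (hv h ha) f15, (List.forall_mem_cons.mpr ⟨Dce.fin_sound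 M h (hv h ha) f16, (List.forall_mem_cons.mpr ⟨Dce.fin_sound M h (hv h ha) f17, (List.forall_mem_cons.mpr ⟨Dce.fin_sound M h (hv h ha) f18, (List.forall_mem_cons.mpr ⟨Dce.fin_sound M h (hv h ha) f19, (List.forall_mem_cons.mpr ⟨Dce.fin_sound M h (hv h ha) f20, (List.forall_mem_cons.mpr ⟨Dce.fin_sound M h (hv h ha) f21, (by simp)⟩)⟩)⟩)⟩)⟩)⟩)⟩)⟩)⟩)⟩)⟩)⟩)⟩)⟩)⟩)⟩)⟩)⟩)⟩)⟩)

theorem hE {G : Type*} [Group G] {ev : ℕ → G} {H : Subgroup G} {θ : J4.N.Grp →* G}
    (M : D.Model ev J4.N.ev θ J4.N.φ J4.N.img 3795) (h : D.Hyp ev H)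
    (ha : D.Valid ev H (D.cl 5)) :
    ∀ e ∈ E, Cover ((rcStab H (evL ev (D.gw e.1))).comap θ) ⊤ e.2 := by
  have := J4.N.finite
  exact (List.forall_mem_cons.mpr ⟨Dce.cover_one M h (hv h ha) (Gs := [12,13,14,15]) (by decide +kernel) s1 (by rw [J4.N.card]; decide +kernel), (List.forall_mem_cons.mpr ⟨Dce.cover_top M h (hv h ha) (Gs := [0,1]) (by decide +kernel) top, (List.forall_mem_cons.mpr ⟨Dce.cover_one M h (hv h ha) (Gs := [20,21,22,23,33,36,39]) (by decide +kernel) s4 (by rw [J4.N.card]; decide +kernel), (List.forall_mem_cons.mpr ⟨Dce.cover_one M h (hv h ha) (Gs := [44,45,46,79]) (by decide +kernel) s5 (by rw [J4.N.card]; decide +kernel), (List.forall_mem_cons.mpr ⟨Dce.cover_one M h (hv h ha) (Gs := [113,114,115,120]) (by decide +kernel) s6 (by rw [J4.N.card]; decide +kernel), (List.forall_mem_cons.mpr ⟨Dce.cover_one M h (hv h ha) (Gs := [132,135,138,141,158]) (by decide +kernel) s7 (by rw [J4.N.card]; decide +kernel), (List.forall_mem_cons.mpr ⟨Dce.cover_one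 M h (hv h ha) (Gs := [178]) (by decide +kernel) s8 (by rw [J4.N.card]; decide +kernel), (List.forall_mem_cons.mpr ⟨Dce.cover_one M h (hv h ha) (Gs := [1002,1005,1057,1098]) (by decide +kernel) s9 (by rw [J4.N.card]; decide +kernel), (List.forall_mem_cons.mpr ⟨Dce.cover_one M h (hv h ha) (Gs := [1344,1420]) (by decide +kernel) s10 (by rw [J4.N.card]; decide +kernel), (List.forall_mem_cons.mpr ⟨Dce.cover_one M h (hv h ha) (Gs := [2340,2341,2349,2352]) (by decide +kernel) s11 (by rw [J4.N.card]; decide +kernel), (List.forall_mem_cons.mpr ⟨Dce.cover_one M h (hv h ha) (Gs := [2384,2397,2406,2411]) (by decide +kernel) s12 (by rw [J4.N.card]; decide +kernel), (List.forall_mem_cons.mpr ⟨Dce.cover_one M h (hv h ha) (Gs := [2491,2520,2539,2560,2569]) (by decide +kernel) s13 (by rw [J4.N.card]; decide +kernel), (List.forall_mem_cons.mpr ⟨Dce.cover_one M h (hv h ha) (Gs := [2762,2802]) (by decide +kernel) s14 (by rw [J4.N.card]; decide +kernel), (List.forall_mem_cons.mpr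 ⟨Dce.cover_one M h (hv h ha) (Gs := [3162,3165,3168,3173]) (by decide +kernel) s15 (by rw [J4.N.card]; decide +kernel), (List.forall_mem_cons.mpr ⟨Dce.cover_one M h (hv h ha) (Gs := [3203,3214,3221]) (by decide +kernel) s16 (by rw [J4.N.card]; decide +kernel), (List.forall_mem_cons.mpr ⟨Dce.cover_one M h (hv h ha) (Gs := [3350,3353]) (by decide +kernel) s17 (by rw [J4.N.card]; decide +kernel), (List.forall_mem_cons.mpr ⟨Dce.cover_one M h (hv h ha) (Gs := [3376,3379,3380]) (by decide +kernel) s18 (by rw [J4.N.card]; decide +kernel), (List.forall_mem_cons.mpr ⟨Dce.cover_one M h (hv h ha) (Gs := [3393,3394,3395,3398]) (by decide +kernel) s19 (by rw [J4.N.card]; decide +kernel), (List.forall_mem_cons.mpr ⟨Dce.cover_one M h (hv h ha) (Gs := [3408,3409,3412,3415]) (by decide +kernel) s20 (by rw [J4.N.card]; decide +kernel), (List.forall_mem_cons.mpr ⟨Dce.cover_one M h (hv h ha) (Gs := [3431,3432,3435,3438]) (by decide +kernel) s21 (by rw [J4.N.card]; decide +kernel),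 (by simp)⟩)⟩)⟩)⟩)⟩)⟩)⟩)⟩)⟩)⟩)⟩)⟩)⟩)⟩)⟩)⟩)⟩)⟩)⟩)⟩)

theorem model {G : Type*} [Group G] {ev : ℕ → G} {θ : N.Grp →* G}
    (hθ : ∀ l, 1 ≤ l → l < 15 → θ (N.ev l) = ev l) : D.Model ev N.ev θ N.φ N.img 3795 :=
  ⟨hθ, N.hφ, N.hφ.lt_of_gen (by norm_num) N.hX (by decide +kernel), stab, by decide +kernel⟩


end Cfsg.H6.J4.D2
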